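import Cfsg.Agent.OddHalf.D6.QThree.Facts
import Cfsg.Agent.OddHalf.Clean
import Cfsg.Agent.OddHalf.D8.Lam
import Cfsg.Agent.SignalizersComponents.PConstrained
import Cfsg.Agent.SignalizersComponents.LayerBasic
import Cfsg.Agent.ClassificationK.GTwoFactorGen
import Cfsg.Agent.CharactersDeep.QuatSylow
import Cfsg.Agent.Transfer.PGroupNormal
import Cfsg.Agent.S1442

-- merged: Cfsg.Agent.OddHalf.D6.QThree.Sit
section

/-!
# ODD half, D6, `q = 3`: the local situation and the frame (helper143, after helper135 #7766 (1))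

`Loc t z K R`: `C_G(t) = ⟨t⟩ × K` and the facts `Facts.Base` on `K`, as statements on subgroups of `G`.
`Loc.start`: an element `s` with `t^s = t z`, `z^s = z`; `z` is not conjugate to `t`; `t ∈ C_G(z)'`.
-/

set_option autoImplicit false

namespace Cfsg.Agent.OddHalf.D6.QThree.Sit

open Subgroup Cfsg.Agent.OddHalf.TR

variable {G : Type*} [Group G]

/-- `C_G(t) = ⟨t⟩ × K`, `P = C_K(z)`, `R = O₂(P)` -/
structure Loc (t z : G) (K R : Subgroup G) : Prop where
  tt : t * t = 1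
  tK : t ∉ K
  Kt : ∀ x ∈ K, x * t = t * x
  cen : ∀ g, g * t = t * g → g ∈ K ∨ t * g ∈ K
  zK : z ∈ K
  RK : R ≤ K
  zz : z * z = 1
  z1 : z ≠ 1
  zR : z ∈ R
  pR : IsPGroup 2 R
  RP : ∀ r ∈ R, r * z = z * r
  nR : ∀ g ∈ K, g * z = z * g → ∀ r ∈ R, g * r * g⁻¹ ∈ R
  max : ∀ N : Subgroup G, N ≤ K → IsPGroup 2 N → (∀ n ∈ N, n * z = z * n) →
    (∀ g ∈ K, g * z = z * g → ∀ n ∈ N, g * n * g⁻¹ ∈ N) → N ≤ R
  cR : ∀ g ∈ K, g * z = z * g → (∀ r ∈ R, g * r = r * g) → g = 1 ∨ g = z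
  ab : ∀ B : Subgroup G, B ≤ R → (∀ a ∈ B, ∀ b ∈ B, a * b = b * a) →
    (∀ g ∈ K, g * z = z * g → ∀ b ∈ B, g * b * g⁻¹ ∈ B) → ∀ b ∈ B, b = 1 ∨ b = z
  oz : z ∈ closure {x : G | x ∈ K ∧ x * z = z * x ∧ Odd (orderOf x)}
  /-- a Sylow subgroup of `K` -/
  syl : ∃ S : Subgroup G, S ≤ K ∧ IsPGroup 2 S ∧ (∀ x ∈ S, x * z = z * x) ∧ R ≤ S ∧
    ∀ Q : Subgroup G, Q ≤ K → IsPGroup 2 Q → S ≤ Q → Q ≤ S

/-- a Sylow subgroup of `K` inside `C_K(z)` -/
theorem exists_sylow {K : Type*} [Group K] [Finite K] {z : K} {R : Subgroup K} (h : Facts.Base z R) :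
    ∃ S : Subgroup K, IsPGroup 2 S ∧ (∀ x ∈ S, x * z = z * x) ∧ R ≤ S ∧
      ∀ Q : Subgroup K, IsPGroup 2 Q → S ≤ Q → Q ≤ S := by
  set C := centralizer ({z} : Set K) with hC
  have hRC : R ≤ C := fun r hr => mem_centralizer_singleton_iff.2 (h.RP r hr)
  obtain ⟨P, hP⟩ := (h.pR.comap_of_injective C.subtype C.subtype_injective).exists_le_sylow
  refine ⟨(P : Subgroup C).map C.subtype, P.isPGroup'.map _, ?_, ?_, ?_⟩
  · rintro _ ⟨y, -, rfl⟩
    exact mem_centralizer_singleton_iff.1 y.2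
  · intro r hr
    exact ⟨⟨r, hRC hr⟩, hP hr, rfl⟩
  · intro Q hQ hle
    have h1 : Nat.card ((P : Subgroup C).map C.subtype) = Nat.card (P : Subgroup C) :=
      Nat.card_congr ((P : Subgroup C).equivMapOfInjective _ C.subtype_injective).toEquiv.symm
    have h2 : Nat.card Q ≤ Nat.card (P : Subgroup C) := by
      obtain ⟨Q', hQ'⟩ := hQ.exists_le_sylow
      have h3 : Nat.card Q ≤ Nat.card Q' := Nat.card_le_card_of_injective _ (inclusion_injective hQ')
      have h4 : Nat.card Q' = Nat.card (P : Subgroup C) := by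
        have h5 := Q'.card_eq_multiplicity
        have h6 := P.card_eq_multiplicity
        have h7 : (Nat.card K).factorization 2 = (Nat.card C).factorization 2 := by
          have h8 := C.index_mul_card
          have h11 : Odd C.index := h.odd
          have h9 : C.index ≠ 0 := by
            rintro h0
            rw [h0] at h11
            exact absurd h11 (by decide)
          have h10 : ¬ 2 ∣ C.index := by
            rw [Nat.odd_iff] at h11
            omega
          rw [← h8, Nat.factorization_mul h9 Nat.card_pos.ne', Finsupp.add_apply,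
            Nat.factorization_eq_zero_of_not_dvd h10, zero_add]
        exact h5.trans ((congrArg (2 ^ ·) h7).trans h6.symm)
      omega
    exact (Subgroup.eq_of_le_of_card_ge hle (by omega)).ge

/-- the facts on `K`, seen in `G` -/
theorem Loc.of_base [Finite G] {t : G} {K : Subgroup G} (tt : t * t = 1) (tK : t ∉ K)
    (Kt : ∀ x ∈ K, x * t = t * x) (cen : ∀ g, g * t = t * g → g ∈ K ∨ t * g ∈ K)
    {z : ↥K} {R : Subgroup ↥K} (h : Facts.Base z R) : Loc t (z : G) K (R.map K.subtype) where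
  tt := tt
  tK := tK
  Kt := Kt
  cen := cen
  zK := z.2
  RK := by
    rintro _ ⟨y, -, rfl⟩
    exact y.2
  zz := congrArg Subtype.val h.zz
  z1 := fun e => h.z1 (Subtype.ext e)
  zR := ⟨z, h.zR, rfl⟩
  pR := h.pR.map _
  RP := by
    rintro _ ⟨y, hy, rfl⟩
    exact congrArg Subtype.val (h.RP y hy)
  nR := by
    rintro g hg hgz _ ⟨y, hy, rfl⟩
    exact ⟨⟨g, hg⟩ * y * ⟨g, hg⟩⁻¹, h.nR ⟨g, hg⟩ (Subtype.ext hgz) y hy, rfl⟩
  max := by
    intro N hN hp hz hn x hx
    have h1 := h.max (N.subgroupOf K) (hp.comap_of_injective K.subtype K.subtype_injective)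
      (fun n hn => Subtype.ext (hz n hn)) (fun g hg n hn' => hn g g.2 (congrArg Subtype.val hg) n hn')
    exact ⟨⟨x, hN hx⟩, h1 hx, rfl⟩
  cR := by
    intro g hg hgz hr
    rcases h.cR ⟨g, hg⟩ (Subtype.ext hgz) (fun r hr' => Subtype.ext (hr r ⟨r, hr', rfl⟩)) with h1 | h1
    · exact Or.inl (congrArg Subtype.val h1)
    · exact Or.inr (congrArg Subtype.val h1)
  ab := by
    intro B hB hab hn b hb
    have hBK : B ≤ K := by
      intro x hx
      obtain ⟨y, -, rfl⟩ := hB hx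
      exact y.2
    have hBR : ∀ x : ↥K, (x : G) ∈ B → x ∈ R := by
      intro x hx
      obtain ⟨y, hy, hyx⟩ := hB hx
      have : y = x := Subtype.ext hyx
      rwa [← this]
    rcases h.ab (B.subgroupOf K) (fun x hx => hBR x hx)
      (fun a ha b hb => Subtype.ext (hab a ha b hb))
      (fun g hg b hb => hn g g.2 (congrArg Subtype.val hg) b hb) ⟨b, hBK hb⟩ hb with h1 | h1
    · exact Or.inl (congrArg Subtype.val h1)
    · exact Or.inr (congrArg Subtype.val h1)
  oz := by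
    have h1 : (z : G) ∈ (closure {x : ↥K | x * z = z * x ∧ Odd (orderOf x)}).map K.subtype :=
      ⟨z, h.oz, rfl⟩
    rw [MonoidHom.map_closure] at h1
    refine closure_mono ?_ h1
    rintro _ ⟨y, ⟨hy1, hy2⟩, rfl⟩
    refine ⟨y.2, congrArg Subtype.val hy1, ?_⟩
    show Odd (orderOf (y : G))
    rwa [Subgroup.orderOf_coe]
  syl := by
    obtain ⟨S, h1, h2, h3, h4⟩ := exists_sylow h
    refine ⟨S.map K.subtype, ?_, h1.map _, ?_, map_mono h3, ?_⟩
    · rintro _ ⟨y, -, rfl⟩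
      exact y.2
    · rintro _ ⟨y, hy, rfl⟩
      exact congrArg Subtype.val (h2 y hy)
    · intro Q hQ hp hle x hx
      have h5 := h4 (Q.subgroupOf K) (hp.comap_of_injective K.subtype K.subtype_injective)
        (fun y hy => hle ⟨y, hy, rfl⟩)
      exact ⟨⟨x, hQ hx⟩, h5 hx, rfl⟩

namespace Loc

variable {t z : G} {K R : Subgroup G}

theorem t1 (h : Loc t z K R) : t ≠ 1 := fun e => h.tK (e ▸ K.one_mem)

theorem zt (h : Loc t z K R) : z ≠ t := fun e => h.tK (e ▸ h.zK)

theorem comm (h : Loc t z K R) : t * z = z * t := (h.Kt z h.zK).symm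

theorem t_inv (h : Loc t z K R) : t⁻¹ = t := inv_eq_of_mul_eq_one_left h.tt

theorem z_inv (h : Loc t z K R) : z⁻¹ = z := inv_eq_of_mul_eq_one_left h.zz

theorem tmul (h : Loc t z K R) (g : G) : t * (t * g) = g := by rw [← mul_assoc, h.tt, one_mul]

theorem not_mem (h : Loc t z K R) {g : G} (hg : g ∈ K) : t * g ∉ K := fun h1 => h.tK (by
  have := K.mul_mem h1 (K.inv_mem hg)
  rwa [mul_inv_cancel_right] at this)

theorem tz_not (h : Loc t z K R) : t * z ∉ K := h.not_mem h.zK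

/-- an element of odd order of `C(t)` lies in `K` -/
theorem mem_of_odd (h : Loc t z K R) {g : G} (hg : g * t = t * g) (ho : Odd (orderOf g)) : g ∈ K := by
  rcases h.cen g hg with h1 | h1
  · exact h1
  · exfalso
    obtain ⟨n, hn⟩ := ho
    have h2 : (t * g) ^ (2 * n + 1) = t := by
      have hc : Commute t g := hg.symm
      rw [hc.mul_pow, ← hn, pow_orderOf_eq_one, mul_one, hn, pow_succ, pow_mul, pow_two, h.tt, one_pow,
        one_mul]
    exact h.tK (by rw [← h2]; exact K.pow_mem h1 _)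

/-- the subgroup `⟨t⟩ × A`, `A ≤ K` -/
def ext (h : Loc t z K R) (A : Subgroup G) (hA : A ≤ K) : Subgroup G where
  carrier := {x | x ∈ A ∨ t * x ∈ A}
  one_mem' := Or.inl A.one_mem
  mul_mem' := by
    rintro x y (hx | hx) (hy | hy)
    · exact Or.inl (A.mul_mem hx hy)
    · right
      have e : t * (x * y) = x * (t * y) := by
        rw [← mul_assoc, ← h.Kt x (hA hx), mul_assoc]
      rw [e]; exact A.mul_mem hx hy
    · right
      rw [← mul_assoc]; exact A.mul_mem hx hy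
    · left
      have e : x * y = (t * x) * (t * y) := by
        have h1 := h.Kt _ (hA hx)
        calc x * y = t * (t * x) * y := by rw [h.tmul]
          _ = (t * x) * t * y := by rw [h1]
          _ = (t * x) * (t * y) := by group
      rw [e]; exact A.mul_mem hx hy
  inv_mem' := by
    rintro x (hx | hx)
    · exact Or.inl (A.inv_mem hx)
    · right
      have h1 := h.Kt _ (hA hx)
      have e : t * x⁻¹ = (t * x)⁻¹ := by
        have h2 : x = t * (t * x) := (h.tmul x).symm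
        have h3 : x⁻¹ = (t * x)⁻¹ * t⁻¹ := by
          conv_lhs => rw [h2]
          rw [mul_inv_rev]
        have h4 : Commute (t * x) t := h1
        rw [h3, h.t_inv, ← mul_assoc, ← (h4.inv_left).eq, mul_assoc, h.tt, mul_one]
      rw [e]; exact A.inv_mem hx

theorem mem_ext (h : Loc t z K R) {A : Subgroup G} (hA : A ≤ K) {x : G} :
    x ∈ h.ext A hA ↔ x ∈ A ∨ t * x ∈ A := Iff.rfl

theorem t_mem_ext (h : Loc t z K R) {A : Subgroup G} (hA : A ≤ K) : t ∈ h.ext A hA :=
  Or.inr (by rw [h.tt]; exact A.one_mem)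

theorem isPGroup_ext (h : Loc t z K R) {A : Subgroup G} (hA : A ≤ K) (hp : IsPGroup 2 A) :
    IsPGroup 2 (h.ext A hA) := by
  have key : ∀ x : G, t * x ∈ A → ∃ k : ℕ, x ^ 2 ^ k = 1 := by
    intro x hx
    obtain ⟨k, hk⟩ := hp ⟨t * x, hx⟩
    have hk' : (t * x) ^ 2 ^ k = 1 := congrArg Subtype.val hk
    have hc : Commute t x := by
      have h1 := h.Kt _ (hA hx)
      have h2 : t * x * t = t * (t * x) := h1
      show t * x = x * t
      have h3 : t * (x * t) = t * (t * x) := by rw [← mul_assoc]; exact h2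
      exact (mul_left_cancel h3).symm
    refine ⟨k + 1, ?_⟩
    have e : t ^ 2 ^ (k + 1) = 1 := by rw [pow_succ, mul_comm, pow_mul, pow_two, h.tt, one_pow]
    calc x ^ 2 ^ (k + 1) = t ^ 2 ^ (k + 1) * x ^ 2 ^ (k + 1) := by rw [e, one_mul]
      _ = (t * x) ^ 2 ^ (k + 1) := (hc.mul_pow _).symm
      _ = 1 := by rw [pow_succ, pow_mul, hk', one_pow]
  rintro ⟨x, hx | hx⟩
  · obtain ⟨k, hk⟩ := hp ⟨x, hx⟩
    have hk' : x ^ 2 ^ k = 1 := congrArg Subtype.val hk
    exact ⟨k, Subtype.ext hk'⟩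
  · obtain ⟨k, hk⟩ := key x hx
    exact ⟨k, Subtype.ext hk⟩

/-- an element normalising `⟨t, z⟩` normalises the group generated by the elements of odd order of
`C_K(z)` -/
theorem conj_mem (h : Loc t z K R) {g : G} (hg : ∀ x : G, x * t = t * x → x * z = z * x →
    (g * x * g⁻¹) * t = t * (g * x * g⁻¹) ∧ (g * x * g⁻¹) * z = z * (g * x * g⁻¹)) {y : G}
    (hy : y ∈ closure {x : G | x ∈ K ∧ x * z = z * x ∧ Odd (orderOf x)}) :
    g * y * g⁻¹ ∈ closure {x : G | x ∈ K ∧ x * z = z * x ∧ Odd (orderOf x)} := by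
  have h1 : MulAut.conj g y ∈ (closure {x : G | x ∈ K ∧ x * z = z * x ∧ Odd (orderOf x)}).map
      (MulAut.conj g).toMonoidHom := ⟨y, hy, rfl⟩
  rw [MonoidHom.map_closure] at h1
  refine closure_mono ?_ h1
  rintro _ ⟨x, ⟨hxK, hxz, hxo⟩, rfl⟩
  obtain ⟨h2, h3⟩ := hg x (h.Kt x hxK) hxz
  have h4 : Odd (orderOf (g * x * g⁻¹)) := by
    have : orderOf (g * x * g⁻¹) = orderOf x :=
      orderOf_injective (MulAut.conj g).toMonoidHom (MulAut.conj g).injective x
    rw [this]; exact hxo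
  exact ⟨h.mem_of_odd h2 h4, h3, h4⟩

/-- `M = C(t) ∩ C(z)` is normalised by the elements normalising `⟨t, z⟩` -/
theorem norm_cen {g : G} (ht : g⁻¹ * t * g = t ∨ g⁻¹ * t * g = z ∨ g⁻¹ * t * g = t * z)
    (hz : g⁻¹ * z * g = t ∨ g⁻¹ * z * g = z ∨ g⁻¹ * z * g = t * z) (x : G) (hxt : x * t = t * x)
    (hxz : x * z = z * x) :
    (g * x * g⁻¹) * t = t * (g * x * g⁻¹) ∧ (g * x * g⁻¹) * z = z * (g * x * g⁻¹) := by
  have hxtz : x * (t * z) = t * z * x := by rw [← mul_assoc, hxt, mul_assoc, hxz, mul_assoc]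
  have key : ∀ c : G, x * (g⁻¹ * c * g) = g⁻¹ * c * g * x → (g * x * g⁻¹) * c = c * (g * x * g⁻¹) := by
    intro c hc
    calc (g * x * g⁻¹) * c = g * (x * (g⁻¹ * c * g)) * g⁻¹ := by group
      _ = g * (g⁻¹ * c * g * x) * g⁻¹ := by rw [hc]
      _ = c * (g * x * g⁻¹) := by group
  constructor
  · apply key
    rcases ht with e | e | e <;> rw [e]
    exacts [hxt, hxz, hxtz]
  · apply key
    rcases hz with e | e | e <;> rw [e]
    exacts [hxt, hxz, hxtz]

/-- `z` is isolated in `⟨t, z⟩` -/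
theorem iso (h : Loc t z K R) (g : G)
    (h1 : g * t * g⁻¹ = t ∨ g * t * g⁻¹ = z ∨ g * t * g⁻¹ = t * z)
    (h2 : g * z * g⁻¹ = t ∨ g * z * g⁻¹ = z ∨ g * z * g⁻¹ = t * z) : g * z * g⁻¹ = z := by
  -- apply `norm_cen` to `g⁻¹`
  have h3 : g⁻¹ * z * g⁻¹⁻¹ ∈ closure {x : G | x ∈ K ∧ x * z = z * x ∧ Odd (orderOf x)} := by
    apply h.conj_mem _ h.oz
    intro x hxt hxz
    apply norm_cen _ _ x hxt hxz
    · rwa [inv_inv]
    · rwa [inv_inv]
  have h4 : g⁻¹ * z * g ∈ K := by
    rw [inv_inv] at h3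
    exact (closure_le K).2 (fun x hx => hx.1) h3
  have hmul : g * (t * z) * g⁻¹ = (g * t * g⁻¹) * (g * z * g⁻¹) := by group
  have back : ∀ y, g * y * g⁻¹ = z → y ∈ K := by
    intro y hy
    have : g⁻¹ * z * g = y := by rw [← hy]; group
    rwa [this] at h4
  have hinj : ∀ c d, g * c * g⁻¹ = g * d * g⁻¹ → c = d :=
    fun c d e => mul_left_cancel (mul_right_cancel e)
  have htz := h.comm
  rcases h2 with h2 | h2 | h2
  · exfalso
    rcases h1 with h1 | h1 | h1
    · exact h.zt (hinj _ _ (h2.trans h1.symm))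
    · exact h.tK (back t h1)
    · apply h.tz_not
      apply back
      rw [hmul, h1, h2, htz, mul_assoc, h.tt, mul_one]
  · exact h2
  · exfalso
    rcases h1 with h1 | h1 | h1
    · apply h.tz_not
      apply back
      rw [hmul, h1, h2, ← mul_assoc, h.tt, one_mul]
    · exact h.tK (back t h1)
    · exact h.zt (hinj _ _ (h2.trans h1.symm))

/-- the frame -/
theorem frame (h : Loc t z K R) {S : Subgroup G} (hSK : S ≤ K) (hS : IsPGroup 2 S)
    (hSz : ∀ x ∈ S, x * z = z * x) (hRS : R ≤ S)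
    (hmax : ∀ Q : Subgroup G, Q ≤ K → IsPGroup 2 Q → S ≤ Q → Q ≤ S) : Frame t z (h.ext S hSK) where
  tt := h.tt
  zz := h.zz
  t1 := h.t1
  z1 := h.z1
  ne := h.zt
  pT := h.isPGroup_ext hSK hS
  tT := h.t_mem_ext hSK
  tc := by
    rintro x (hx | hx)
    · exact h.Kt x (hSK hx)
    · have h1 := h.Kt _ (hSK hx)
      have h3 : t * (x * t) = t * (t * x) := by rw [← mul_assoc]; exact h1
      exact mul_left_cancel h3
  zT := Or.inl (hRS h.zR)
  zc := by
    rintro x (hx | hx)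
    · exact hSz x hx
    · have h1 := hSz _ hx
      have h3 : t * (x * z) = t * (z * x) := by
        rw [← mul_assoc, h1, ← mul_assoc, ← mul_assoc, h.comm]
      exact mul_left_cancel h3
  max := by
    intro P hP hle hPt x hx
    have h1 : P ⊓ K ≤ S := by
      apply hmax _ inf_le_right (hP.to_le inf_le_left)
      intro y hy
      exact ⟨hle (Or.inl hy), hSK hy⟩
    rcases h.cen x (hPt x hx) with h2 | h2
    · exact Or.inl (h1 ⟨hx, h2⟩)
    · exact Or.inr (h1 ⟨P.mul_mem (hle (h.t_mem_ext hSK)) hx, h2⟩)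
  om := by
    have key : ∀ y ∈ S, (∀ x ∈ S, x * y = y * x) → y = 1 ∨ y = z := by
      intro y hy hc
      exact h.cR y (hSK hy) (hSz y hy) (fun r hr => (hc r (hRS hr)).symm)
    rintro y (hy | hy) hc -
    · rcases key y hy (fun x hx => hc x (Or.inl hx)) with h1 | h1
      · exact Or.inl h1
      · exact Or.inr (Or.inr (Or.inl h1))
    · have h2 : ∀ x ∈ S, x * (t * y) = t * y * x := by
        intro x hx
        rw [← mul_assoc, h.Kt x (hSK hx), mul_assoc, hc x (Or.inl hx), mul_assoc]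
      rcases key _ hy h2 with h1 | h1
      · right; left
        rw [← h.tmul y, h1, mul_one]
      · right; right; right
        rw [← h.tmul y, h1]
  iso := fun g h1 h2 => h.iso g h1 h2

theorem comm_aux {a b c d : G} (c1 : Commute c a) (c2 : Commute c b) (d1 : Commute d a) (d2 : Commute d b)
    (cd : Commute c d) : (c * a) * (d * b) * (c * a)⁻¹ * (d * b)⁻¹ = a * b * a⁻¹ * b⁻¹ := by
  have e1 : (c * a) * (d * b) = (c * d) * (a * b) := by
    calc (c * a) * (d * b) = c * (a * d) * b := by group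
      _ = c * (d * a) * b := by rw [d1.eq]
      _ = (c * d) * (a * b) := by group
  have e2 : (c * a)⁻¹ * (d * b)⁻¹ = (a⁻¹ * b⁻¹) * (c⁻¹ * d⁻¹) := by
    rw [mul_inv_rev, mul_inv_rev]
    calc a⁻¹ * c⁻¹ * (b⁻¹ * d⁻¹) = a⁻¹ * (c⁻¹ * b⁻¹) * d⁻¹ := by group
      _ = a⁻¹ * (b⁻¹ * c⁻¹) * d⁻¹ := by rw [c2.inv_inv.eq]
      _ = (a⁻¹ * b⁻¹) * (c⁻¹ * d⁻¹) := by group
  have cw : Commute (c * d) (a * b * a⁻¹ * b⁻¹) := by
    have h1 : Commute (c * d) a := c1.mul_left d1
    have h2 : Commute (c * d) b := c2.mul_left d2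
    exact ((h1.mul_right h2).mul_right h1.inv_right).mul_right h2.inv_right
  calc (c * a) * (d * b) * (c * a)⁻¹ * (d * b)⁻¹ = ((c * a) * (d * b)) * ((c * a)⁻¹ * (d * b)⁻¹) := by group
    _ = (c * d) * (a * b * a⁻¹ * b⁻¹) * (c⁻¹ * d⁻¹) := by rw [e1, e2]; group
    _ = (a * b * a⁻¹ * b⁻¹) * (c * d) * (c⁻¹ * d⁻¹) := by rw [cw.eq]
    _ = (a * b * a⁻¹ * b⁻¹) * ((c * d) * (d * c)⁻¹) := by group
    _ = a * b * a⁻¹ * b⁻¹ := by rw [← cd.eq, mul_inv_cancel, mul_one]

/-- **(1)** -/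
theorem start [Finite G] (h : Loc t z K R) (hG : commutator G = ⊤) :
    (∃ s : G, s * t * s⁻¹ = t * z ∧ s * z * s⁻¹ = z) ∧ (∀ g, g * t * g⁻¹ ≠ z) ∧
      (⟨t, mem_centralizer_singleton_iff.2 h.comm⟩ : centralizer ({z} : Set G)) ∈
        commutator (centralizer ({z} : Set G)) := by
  obtain ⟨S, hSK, hS, hSz, hRS, hmax⟩ := h.syl
  have F := h.frame hSK hS hSz hRS hmax
  have hnc : (⟨t, F.tT⟩ : h.ext S hSK) ∉ commutator (h.ext S hSK) := by
    have hle : commutator (h.ext S hSK) ≤ S.subgroupOf (h.ext S hSK) := by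
      rw [commutator_def, commutator_le]
      rintro ⟨a, ha⟩ - ⟨b, hb⟩ -
      rw [mem_subgroupOf]
      show a * b * a⁻¹ * b⁻¹ ∈ S
      have hct : ∀ x ∈ h.ext S hSK, ∃ y ∈ S, (x = y ∨ x = t * y) := by
        rintro x (hx | hx)
        · exact ⟨x, hx, Or.inl rfl⟩
        · exact ⟨t * x, hx, Or.inr (h.tmul x).symm⟩
      obtain ⟨a', ha', e1⟩ := hct a ha
      obtain ⟨b', hb', e2⟩ := hct b hb
      have hmem : a' * b' * a'⁻¹ * b'⁻¹ ∈ S :=
        S.mul_mem (S.mul_mem (S.mul_mem ha' hb') (S.inv_mem ha')) (S.inv_mem hb')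
      have hca : ∀ x ∈ S, Commute t x := fun x hx => (h.Kt x (hSK hx)).symm
      have h1 : ∀ c d : G, (c = 1 ∨ c = t) → (d = 1 ∨ d = t) →
          (c * a') * (d * b') * (c * a')⁻¹ * (d * b')⁻¹ = a' * b' * a'⁻¹ * b'⁻¹ := by
        intro c d hc hd
        have c1 : Commute c a' := by
          rcases hc with rfl | rfl
          exacts [Commute.one_left _, hca a' ha']
        have c2 : Commute c b' := by
          rcases hc with rfl | rfl
          exacts [Commute.one_left _, hca b' hb']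
        have d1 : Commute d a' := by
          rcases hd with rfl | rfl
          exacts [Commute.one_left _, hca a' ha']
        have d2 : Commute d b' := by
          rcases hd with rfl | rfl
          exacts [Commute.one_left _, hca b' hb']
        have cd : Commute c d := by
          rcases hc with rfl | rfl <;> rcases hd with rfl | rfl
          exacts [Commute.one_left _, Commute.one_left _, Commute.one_right _, Commute.refl _]
        exact comm_aux c1 c2 d1 d2 cd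
      have h2 : a = a' ∨ a = t * a' := e1
      have h3 : b = b' ∨ b = t * b' := e2
      rcases h2 with rfl | rfl <;> rcases h3 with rfl | rfl
      · exact hmem
      · have := h1 1 t (Or.inl rfl) (Or.inr rfl)
        rw [one_mul] at this
        rw [this]; exact hmem
      · have := h1 t 1 (Or.inr rfl) (Or.inl rfl)
        rw [one_mul] at this
        rw [this]; exact hmem
      · rw [h1 t t (Or.inr rfl) (Or.inr rfl)]; exact hmem
    intro h1
    exact h.tK (hSK (hle h1))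
  obtain ⟨-, -, -, ⟨x, -, -, -, hxt, hxz⟩, hn, hc⟩ := F.main' hG hnc
  exact ⟨⟨x, hxt, hxz⟩, hn, hc⟩

end Loc

end Cfsg.Agent.OddHalf.D6.QThree.Sit

end

-- merged: Cfsg.Agent.OddHalf.D6.QThree.Core
section

/-!
# ODD half, D6, `q = 3`: `E(C_G(z)) = 1` and `t ∈ O₂(C_G(z))` (helper143, after helper135 #7766 (2), (3))

`X = C_G(z)`, `O(X) = 1`, `z ∉ E(X)`: then `E(X) = 1` (`layer_eq_bot`); with the homomorphism of helper821 (`Lam`) and
`t ∈ X'` we get `t ∈ O₂(X)` (`exists_core`).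
-/

set_option autoImplicit false

namespace Cfsg.Agent.OddHalf.D6.QThree.Core

open Subgroup Cfsg Cfsg.Agent.OddHalf.D6.QThree.Sit

variable {G : Type*} [Group G] {t z : G} {K R : Subgroup G}

/-- a nontrivial subgroup of `P = C_K(z)` normal in `P` contains `z` -/
theorem z_mem [Finite G] (h : Loc t z K R) {N : Subgroup G} (hNK : N ≤ K) (hNz : ∀ n ∈ N, n * z = z * n)
    (hn : ∀ g ∈ K, g * z = z * g → ∀ n ∈ N, g * n * g⁻¹ ∈ N) {n : G} (hnN : n ∈ N) (hn1 : n ≠ 1) :
    z ∈ N := by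
  by_cases hbot : N ⊓ R = ⊥
  · -- `N` centralises `R`
    have h1 : ∀ r ∈ R, n * r = r * n := by
      intro r hr
      have h2 : n * r * n⁻¹ * r⁻¹ ∈ N ⊓ R := by
        constructor
        · have h3 : r * n⁻¹ * r⁻¹ ∈ N := hn r (h.RK hr) (h.RP r hr) _ (N.inv_mem hnN)
          have e : n * r * n⁻¹ * r⁻¹ = n * (r * n⁻¹ * r⁻¹) := by group
          rw [e]; exact N.mul_mem hnN h3
        · exact R.mul_mem (h.nR n (hNK hnN) (hNz n hnN) r hr) (R.inv_mem hr)
      rw [hbot, mem_bot, mul_inv_eq_one, mul_inv_eq_iff_eq_mul] at h2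
      exact h2
    rcases h.cR n (hNK hnN) (hNz n hnN) h1 with h2 | h2
    · exact absurd h2 hn1
    · rwa [← h2]
  · set L : Subgroup G := N ⊓ R with hL
    have hLp : IsPGroup 2 L := h.pR.to_le inf_le_right
    have hLnt : Nontrivial L := (nontrivial_iff_ne_bot L).2 hbot
    have hLn : ∀ g ∈ K, g * z = z * g → ∀ x ∈ L, g * x * g⁻¹ ∈ L := fun g hg hgz x hx =>
      ⟨hn g hg hgz x hx.1, h.nR g hg hgz x hx.2⟩
    have hc := hLp.center_nontrivial
    obtain ⟨⟨b, hb⟩, hb1⟩ := exists_ne (1 : center L)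
    set B : Subgroup G := L ⊓ centralizer (L : Set G) with hB
    have hbB : (b : G) ∈ B := ⟨b.2, mem_centralizer_iff.2 fun x hx =>
      congrArg Subtype.val (mem_center_iff.1 hb ⟨x, hx⟩)⟩
    have hBn : ∀ g ∈ K, g * z = z * g → ∀ x ∈ B, g * x * g⁻¹ ∈ B := by
      intro g hg hgz x hx
      refine ⟨hLn g hg hgz x hx.1, mem_centralizer_iff.2 ?_⟩
      intro y hy
      have hgi : g⁻¹ * z = z * g⁻¹ := (Commute.inv_left (show Commute g z from hgz)).eq
      have h3 := hLn g⁻¹ (K.inv_mem hg) hgi y hy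
      rw [inv_inv] at h3
      have h4 := mem_centralizer_iff.1 hx.2 _ h3
      calc y * (g * x * g⁻¹) = g * ((g⁻¹ * y * g) * x) * g⁻¹ := by group
        _ = g * (x * (g⁻¹ * y * g)) * g⁻¹ := by rw [h4]
        _ = g * x * g⁻¹ * y := by group
    rcases h.ab B (fun x hx => hx.1.2) (fun a ha b hb => mem_centralizer_iff.1 hb.2 a ha.1) hBn b hbB with
      h1 | h1
    · exfalso
      apply hb1
      exact Subtype.ext (Subtype.ext h1)
    · rw [← h1]; exact hbB.1.1

/-- normal subgroups of `⟨t⟩ × P` not containing `z` -/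
theorem eq_of_normal [Finite G] (h : Loc t z K R) {M : Subgroup G} (hMt : ∀ m ∈ M, m * t = t * m)
    (hMz : ∀ m ∈ M, m * z = z * m)
    (hn : ∀ g, g * t = t * g → g * z = z * g → ∀ m ∈ M, g * m * g⁻¹ ∈ M) (hz : z ∉ M) {m : G}
    (hm : m ∈ M) : m = 1 ∨ m = t ∨ m = t * z := by
  have hK : ∀ x ∈ M ⊓ K, x = 1 := by
    intro x hx
    by_contra hx1
    apply hz
    exact (z_mem h (N := M ⊓ K) inf_le_right (fun n hn => hMz n hn.1)
      (fun g hg hgz n hn' => ⟨hn g (h.Kt g hg) hgz n hn'.1, K.mul_mem (K.mul_mem hg hn'.2) (K.inv_mem hg)⟩)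
      hx hx1).1
  rcases h.cen m (hMt m hm) with h1 | h1
  · exact Or.inl (hK m ⟨hm, h1⟩)
  · right
    -- `m` commutes with `P`
    have h2 : ∀ g ∈ K, g * z = z * g → g * m = m * g := by
      intro g hg hgz
      have hgt := h.Kt g hg
      have h3 : g * m * g⁻¹ * m⁻¹ ∈ M ⊓ K := by
        refine ⟨M.mul_mem (hn g hgt hgz m hm) (M.inv_mem hm), ?_⟩
        have e : g * m * g⁻¹ * m⁻¹ = g * (t * m) * g⁻¹ * (t * m)⁻¹ := by
          have hc : Commute t g := hgt.symm
          calc g * m * g⁻¹ * m⁻¹ = g * m * (t * t⁻¹) * g⁻¹ * m⁻¹ := by group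
            _ = g * (m * t) * (t⁻¹ * g⁻¹) * m⁻¹ := by group
            _ = g * (t * m) * (g⁻¹ * t⁻¹) * m⁻¹ := by rw [hMt m hm, hc.inv_inv.eq]
            _ = g * (t * m) * g⁻¹ * (m * t)⁻¹ := by group
            _ = g * (t * m) * g⁻¹ * (t * m)⁻¹ := by rw [hMt m hm]
        rw [e]
        exact K.mul_mem (K.mul_mem (K.mul_mem hg h1) (K.inv_mem hg)) (K.inv_mem h1)
      have h4 := hK _ h3
      rw [mul_inv_eq_one, mul_inv_eq_iff_eq_mul] at h4
      exact h4
    have h5 : (t * m) * z = z * (t * m) := by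
      rw [mul_assoc, hMz m hm, ← mul_assoc, h.comm, mul_assoc]
    have h6 : ∀ r ∈ R, t * m * r = r * (t * m) := by
      intro r hr
      have h7 := h2 r (h.RK hr) (h.RP r hr)
      have h8 := h.Kt r (h.RK hr)
      rw [mul_assoc, ← h7, ← mul_assoc, ← h8, mul_assoc]
    rcases h.cR (t * m) h1 h5 h6 with h9 | h9
    · left
      rw [← h.tmul m, h9, mul_one]
    · right
      rw [← h.tmul m, h9]

/-- **(2)** `E(C_G(z)) = 1` -/
theorem layer_eq_bot [Finite G] (h : Loc t z K R)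
    (hO : pPrimeCore 2 ↥(centralizer ({z} : Set G)) = ⊥)
    (hNI : (⟨z, mem_centralizer_singleton_iff.2 rfl⟩ : ↥(centralizer ({z} : Set G))) ∉
      layer ↥(centralizer ({z} : Set G))) :
    layer ↥(centralizer ({z} : Set G)) = ⊥ := by
  set X := centralizer ({z} : Set G) with hX
  set E : Subgroup ↥X := layer ↥X with hE
  have hEn : E.Normal := by rw [hE]; exact Cfsg.Agent.SignalizersComponents.LayerBasic.layer_normal _
  set t' : ↥X := ⟨t, mem_centralizer_singleton_iff.2 h.comm⟩ with ht'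
  set z' : ↥X := ⟨z, mem_centralizer_singleton_iff.2 rfl⟩ with hz'
  have ht2 : t' * t' = 1 := Subtype.ext h.tt
  -- a Sylow subgroup through `t`
  obtain ⟨W, hW⟩ : ∃ W : Sylow 2 ↥X, zpowers t' ≤ (W : Subgroup ↥X) :=
    (TR.Frame.isPGroup_zpowers ht2).exists_le_sylow
  have htW : t' ∈ (W : Subgroup ↥X) := hW (mem_zpowers t')
  set U : Subgroup ↥X := (W : Subgroup ↥X) ⊓ E with hU
  have hUp : IsPGroup 2 U := W.isPGroup'.to_le inf_le_left
  -- the centraliser of `t` in `E`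
  have hcent : ∀ e ∈ E, e * t' = t' * e → e = 1 ∨ e = t' ∨ e = t' * z' := by
    intro e he het
    have := eq_of_normal h (M := (E ⊓ centralizer ({t'} : Set ↥X)).map X.subtype) ?_ ?_ ?_ ?_
      (m := (e : G)) ⟨e, ⟨he, mem_centralizer_singleton_iff.2 het⟩, rfl⟩
    · rcases this with h1 | h1 | h1
      · exact Or.inl (Subtype.ext h1)
      · exact Or.inr (Or.inl (Subtype.ext h1))
      · exact Or.inr (Or.inr (Subtype.ext h1))
    · rintro _ ⟨y, hy, rfl⟩
      exact congrArg Subtype.val (mem_centralizer_singleton_iff.1 hy.2)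
    · rintro _ ⟨y, -, rfl⟩
      exact mem_centralizer_singleton_iff.1 y.2
    · rintro g hgt hgz _ ⟨y, hy, rfl⟩
      set g' : ↥X := ⟨g, mem_centralizer_singleton_iff.2 hgz⟩ with hg'
      have h1 : Commute g' t' := Subtype.ext hgt
      have h2 : Commute y t' := mem_centralizer_singleton_iff.1 hy.2
      exact ⟨g' * y * g'⁻¹, ⟨hEn.conj_mem y hy.1 g', mem_centralizer_singleton_iff.2
        ((h1.mul_left h2).mul_left h1.inv_left)⟩, rfl⟩
    · rintro ⟨y, hy, hyz⟩
      have : y = z' := Subtype.ext hyz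
      rw [this] at hy
      exact hNI hy.1
  by_contra hne
  -- `U ≠ 1`
  have hUne : U ≠ ⊥ := by
    intro hU0
    apply hne
    have h1 : Nat.card ↥E = E.index * 0 + Nat.card ↥E := by omega
    have h2 : (Nat.card ↥E).Coprime 2 := by
      have h3 := (Cfsg.Agent.ClassificationK.GTwoFactorGen.sylowInf W E).card_eq_multiplicity
      have h4 : Nat.card ((Cfsg.Agent.ClassificationK.GTwoFactorGen.sylowInf W E : Sylow 2 ↥E) :
          Subgroup ↥E) = 1 := by
        rw [Cfsg.Agent.ClassificationK.GTwoFactorGen.coe_sylowInf, Subgroup.card_eq_one, subgroupOf_eq_bot]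
        rw [disjoint_iff]; exact hU0
      rw [h4] at h3
      rw [Nat.coprime_comm, Nat.Prime.coprime_iff_not_dvd Nat.prime_two]
      intro h5
      have h6 := Nat.prime_two.factorization_pos_of_dvd Nat.card_pos.ne' h5
      have h7 : 1 < 2 ^ (Nat.card ↥E).factorization 2 := Nat.one_lt_two_pow h6.ne'
      omega
    have h3 := Cfsg.Agent.Lib.Cores.le_pPrimeCore hEn h2
    rw [hO, le_bot_iff] at h3
    exact h3
  -- `U` has order 2
  obtain ⟨c, hcU, hcW, hc1⟩ : ∃ c ∈ U, (∀ w ∈ (W : Subgroup ↥X), w * c = c * w) ∧ c ≠ 1 := by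
    have hn : (U.subgroupOf (W : Subgroup ↥X)).Normal := by
      refine ⟨fun x hx w => ?_⟩
      rw [mem_subgroupOf] at hx ⊢
      exact ⟨(w * x * w⁻¹).2, hEn.conj_mem _ hx.2 _⟩
    have hnb : U.subgroupOf (W : Subgroup ↥X) ≠ ⊥ := by
      intro h1
      rw [subgroupOf_eq_bot, disjoint_iff, inf_eq_left.2 (inf_le_left : U ≤ (W : Subgroup ↥X))] at h1
      exact hUne h1
    obtain ⟨x, hx1, hx2, hx3⟩ := Cfsg.Agent.Transfer.PGroupNormal.exists_mem_inf_center_orderOf
      W.isPGroup' (U.subgroupOf (W : Subgroup ↥X)) hnb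
    refine ⟨(x : ↥X), hx1, ?_, ?_⟩
    · intro w hw
      exact congrArg Subtype.val (mem_center_iff.1 hx2 ⟨w, hw⟩)
    · intro h1
      have h2 : x = 1 := Subtype.ext h1
      rw [h2, orderOf_one] at hx3
      omega
  have hz'c : ∀ x : ↥X, x * z' = z' * x := fun x => Subtype.ext (mem_centralizer_singleton_iff.1 x.2)
  have hzz' : z' * z' = 1 := Subtype.ext h.zz
  have hU2 : ∀ u ∈ U, u = 1 ∨ u = c := by
    intro u hu
    have hct := hcent c hcU.2 (hcW t' htW).symm
    have huc := hcW u hu.1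
    have hut : u * t' = t' * u := by
      rcases hct with h1 | h1 | h1
      · exact absurd h1 hc1
      · rw [← h1]; exact huc
      · rw [h1] at huc
        have h2 : (u * t') * z' = (t' * u) * z' := by
          rw [mul_assoc, huc, mul_assoc, mul_assoc, ← hz'c u]
        exact mul_right_cancel h2
    have hzE : z' ∉ E := hNI
    rcases hcent u hu.2 hut with h1 | h1 | h1
    · exact Or.inl h1
    · right
      rcases hct with h2 | h2 | h2
      · exact absurd h2 hc1
      · rw [h1, h2]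
      · exfalso
        apply hzE
        have h3 := E.mul_mem hu.2 hcU.2
        rwa [h1, h2, ← mul_assoc, ht2, one_mul] at h3
    · right
      rcases hct with h2 | h2 | h2
      · exact absurd h2 hc1
      · exfalso
        apply hzE
        have h3 := E.mul_mem hcU.2 hu.2
        rwa [h1, h2, ← mul_assoc, ht2, one_mul] at h3
      · rw [h1, h2]
  -- a normal complement of the Sylow subgroup of `E`
  set PE := Cfsg.Agent.ClassificationK.GTwoFactorGen.sylowInf W E with hPE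
  have hPEmem : ∀ x : ↥E, x ∈ (PE : Subgroup ↥E) → x = 1 ∨ (x : ↥X) = c := by
    intro x hx
    rcases hU2 (x : ↥X) ⟨hx, x.2⟩ with h1 | h1
    · exact Or.inl (Subtype.ext h1)
    · exact Or.inr h1
  have hPEc : IsCyclic ↥(PE : Subgroup ↥E) := by
    refine ⟨⟨⟨c, hcU.2⟩, hcU.1⟩, ?_⟩
    rintro ⟨x, hx⟩
    rcases hPEmem x hx with h1 | h1
    · have : (⟨x, hx⟩ : ↥(PE : Subgroup ↥E)) = 1 := Subtype.ext h1
      rw [this]; exact (zpowers _).one_mem
    · have : (⟨x, hx⟩ : ↥(PE : Subgroup ↥E)) = ⟨⟨c, hcU.2⟩, hcU.1⟩ := Subtype.ext (Subtype.ext h1)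
      rw [this]; exact mem_zpowers _
  obtain ⟨N, hNodd, hNP, hN⟩ := Cfsg.Agent.CharactersDeep.QuatSylow.exists_two_complement PE hPEc
  have hNn : N.Normal := by
    refine ⟨fun x hx g => ?_⟩
    rw [hN] at hx ⊢
    have : orderOf (g * x * g⁻¹) = orderOf x :=
      orderOf_injective (MulAut.conj g).toMonoidHom (MulAut.conj g).injective x
    rw [this]; exact hx
  have hcyc : IsCyclic (↥E ⧸ N) := by
    have hsurj : Function.Surjective ((QuotientGroup.mk' N).comp (PE : Subgroup ↥E).subtype) := by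
      rw [← MonoidHom.range_eq_top, MonoidHom.range_comp, range_subtype, eq_top_iff]
      have h1 : (N ⊔ (PE : Subgroup ↥E)).map (QuotientGroup.mk' N) = ⊤ := by
        rw [hNP, ← MonoidHom.range_eq_map]
        exact MonoidHom.range_eq_top.2 (QuotientGroup.mk'_surjective N)
      rw [Subgroup.map_sup, (QuotientGroup.map_mk'_self N), bot_sup_eq] at h1
      rw [h1]
    exact isCyclic_of_surjective _ hsurj
  have hcomm : commutator ↥E ≤ N := by
    have h1 : IsMulCommutative (↥E ⧸ N) := IsCyclic.isMulCommutative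
    rw [_root_.commutator_def, commutator_le]
    intro a _ b _
    rw [← QuotientGroup.eq_one_iff]
    have h2 : ((a : ↥E ⧸ N)) * b = b * a := h1.is_comm.comm _ _
    show ((a * b * a⁻¹ * b⁻¹ : ↥E) : ↥E ⧸ N) = 1
    rw [QuotientGroup.mk_mul, QuotientGroup.mk_mul, QuotientGroup.mk_mul, QuotientGroup.mk_inv,
      QuotientGroup.mk_inv, h2]
    group
  have hperf : commutator ↥E = ⊤ := by
    have h1 := Cfsg.Agent.SignalizersComponents.LayerBasic.layer_perfect ↥X
    have h2 : (commutator ↥E).map E.subtype = ⁅E, E⁆ := by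
      rw [_root_.commutator_def, map_commutator, ← MonoidHom.range_eq_map, range_subtype]
    rw [eq_top_iff]
    intro x _
    have h3 : (x : ↥X) ∈ (commutator ↥E).map E.subtype := by
      rw [h2]
      have h4 : (x : ↥X) ∈ E := x.2
      have h5 : ⁅E, E⁆ = E := h1
      rw [h5]; exact h4
    obtain ⟨y, hy, hyx⟩ := h3
    have : y = x := Subtype.ext hyx
    rwa [← this]
  have hcN : (⟨c, hcU.2⟩ : ↥E) ∈ N := hcomm (by rw [hperf]; exact mem_top _)
  rw [hN] at hcN
  obtain ⟨k, hk⟩ := hUp ⟨c, hcU⟩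
  have hk' : c ^ 2 ^ k = 1 := congrArg Subtype.val hk
  have hk2 : (⟨c, hcU.2⟩ : ↥E) ^ 2 ^ k = 1 := Subtype.ext hk'
  have h6 := orderOf_dvd_of_pow_eq_one hk2
  obtain ⟨j, -, hj⟩ := (Nat.dvd_prime_pow Nat.prime_two).1 h6
  rcases Nat.eq_zero_or_pos j with h7 | h7
  · rw [h7, pow_zero, orderOf_eq_one_iff] at hj
    exact hc1 (congrArg Subtype.val hj)
  · rw [hj] at hcN
    have h8 : 2 ∣ 2 ^ j := dvd_pow_self 2 h7.ne'
    rw [Nat.odd_iff] at hcN
    omega

/-- `F` is a self-centralising normal 2-subgroup of `C_G(z)` -/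
structure IsF (z : G) (F : Subgroup G) : Prop where
  pF : IsPGroup 2 F
  le : ∀ x ∈ F, x * z = z * x
  nor : ∀ g, g * z = z * g → ∀ x ∈ F, g * x * g⁻¹ ∈ F
  self : ∀ g, g * z = z * g → (∀ x ∈ F, g * x = x * g) → g ∈ F

/-- the projection to `K` of a subgroup of `⟨t⟩ × K` -/
def proj (h : Loc t z K R) (B : Subgroup G) : Subgroup G where
  carrier := {x | x ∈ K ∧ (x ∈ B ∨ t * x ∈ B)}
  one_mem' := ⟨K.one_mem, Or.inl B.one_mem⟩
  mul_mem' := by
    rintro x y ⟨hxK, hx⟩ ⟨hyK, hy⟩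
    refine ⟨K.mul_mem hxK hyK, ?_⟩
    have hxt := h.Kt x hxK
    rcases hx with hx | hx <;> rcases hy with hy | hy
    · exact Or.inl (B.mul_mem hx hy)
    · right
      have e : t * (x * y) = x * (t * y) := by rw [← mul_assoc, ← hxt, mul_assoc]
      rw [e]; exact B.mul_mem hx hy
    · right
      rw [← mul_assoc]; exact B.mul_mem hx hy
    · left
      have e : x * y = (t * x) * (t * y) := by
        calc x * y = x * (t * t) * y := by rw [h.tt, mul_one]
          _ = (x * t) * (t * y) := by group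
          _ = (t * x) * (t * y) := by rw [hxt]
      rw [e]; exact B.mul_mem hx hy
  inv_mem' := by
    rintro x ⟨hxK, hx⟩
    refine ⟨K.inv_mem hxK, ?_⟩
    rcases hx with hx | hx
    · exact Or.inl (B.inv_mem hx)
    · right
      have e : t * x⁻¹ = (t * x)⁻¹ := by
        have h1 : Commute x t := h.Kt x hxK
        rw [mul_inv_rev, h.t_inv, h1.inv_left.eq]
      rw [e]; exact B.inv_mem hx

theorem mem_proj (h : Loc t z K R) {B : Subgroup G} {x : G} :
    x ∈ proj h B ↔ x ∈ K ∧ (x ∈ B ∨ t * x ∈ B) := Iff.rfl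

theorem proj_le (h : Loc t z K R) (B : Subgroup G) : proj h B ≤ K := fun _ hx => hx.1

/-- every element of `B ≤ C(t)` has its projection in `proj B` -/
theorem mem_proj_or (h : Loc t z K R) {B : Subgroup G} {b : G} (hb : b ∈ B) (hbt : b * t = t * b) :
    b ∈ proj h B ∨ t * b ∈ proj h B := by
  rcases h.cen b hbt with h1 | h1
  · exact Or.inl ⟨h1, Or.inl hb⟩
  · exact Or.inr ⟨h1, Or.inr (by rw [h.tmul]; exact hb)⟩

theorem isPGroup_proj (h : Loc t z K R) {B : Subgroup G} (hB : IsPGroup 2 B) : IsPGroup 2 (proj h B) := by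
  rintro ⟨x, hxK, hx⟩
  have hc : Commute t x := (h.Kt x hxK).symm
  have hx2 : x * x ∈ B := by
    rcases hx with hx | hx
    · exact B.mul_mem hx hx
    · have e : x * x = (t * x) * (t * x) := by
        calc x * x = x * (t * t) * x := by rw [h.tt, mul_one]
          _ = (x * t) * (t * x) := by group
          _ = (t * x) * (t * x) := by rw [hc.eq]
      rw [e]; exact B.mul_mem hx hx
  obtain ⟨n, hn⟩ := hB ⟨x * x, hx2⟩
  refine ⟨n + 1, Subtype.ext ?_⟩
  have h1 : (x * x) ^ 2 ^ n = 1 := congrArg Subtype.val hn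
  show x ^ 2 ^ (n + 1) = 1
  rw [pow_succ', pow_mul, pow_two]; exact h1

theorem proj_comm (h : Loc t z K R) {B : Subgroup G} {c : G} (hct : c * t = t * c)
    (hBc : ∀ b ∈ B, b * c = c * b) : ∀ b ∈ proj h B, b * c = c * b := by
  rintro x ⟨hxK, hx⟩
  rcases hx with hx | hx
  · exact hBc x hx
  · have h1 : Commute (t * x) c := hBc _ hx
    have h2 : Commute t c := (show Commute c t from hct).symm
    have h3 : Commute (t * (t * x)) c := h2.mul_left h1
    rw [h.tmul] at h3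
    exact h3

theorem proj_conj (h : Loc t z K R) {B : Subgroup G} {g : G} (hg : g ∈ K)
    (hn : ∀ b ∈ B, g * b * g⁻¹ ∈ B) : ∀ b ∈ proj h B, g * b * g⁻¹ ∈ proj h B := by
  rintro x ⟨hxK, hx⟩
  refine ⟨K.mul_mem (K.mul_mem hg hxK) (K.inv_mem hg), ?_⟩
  rcases hx with hx | hx
  · exact Or.inl (hn x hx)
  · right
    have e : t * (g * x * g⁻¹) = g * (t * x) * g⁻¹ := by
      calc t * (g * x * g⁻¹) = (t * g) * x * g⁻¹ := by group
        _ = (g * t) * x * g⁻¹ := by rw [h.Kt g hg]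
        _ = g * (t * x) * g⁻¹ := by group
    rw [e]; exact hn _ hx

/-- the elements of `F` commuting with `t`, projected to `K`, lie in `R` -/
theorem proj_mem (h : Loc t z K R) {B : Subgroup G} (hB : IsPGroup 2 B)
    (hBz : ∀ b ∈ B, b * z = z * b)
    (hn : ∀ g ∈ K, g * z = z * g → ∀ b ∈ B, g * b * g⁻¹ ∈ B) {k : G} (hk : k ∈ K)
    (hkB : k ∈ B ∨ t * k ∈ B) : k ∈ R :=
  h.max (proj h B) (proj_le h B) (isPGroup_proj h hB) (proj_comm h h.comm.symm hBz)
    (fun g hg hgz => proj_conj h hg (hn g hg hgz)) ⟨hk, hkB⟩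

/-- abelian 2-subgroups of `⟨t⟩ × P` normalised by `P` -/
theorem abel_mem (h : Loc t z K R) {B : Subgroup G} (hB : IsPGroup 2 B) (hBt : ∀ b ∈ B, b * t = t * b)
    (hBz : ∀ b ∈ B, b * z = z * b) (hBab : ∀ a ∈ B, ∀ b ∈ B, a * b = b * a)
    (hn : ∀ g ∈ K, g * z = z * g → ∀ b ∈ B, g * b * g⁻¹ ∈ B) {b : G} (hb : b ∈ B) :
    (b = 1 ∨ b = z) ∨ (b = t ∨ b = t * z) := by
  have hpR : proj h B ≤ R := fun x hx => proj_mem h hB hBz hn hx.1 hx.2
  have hpab : ∀ a ∈ proj h B, ∀ b ∈ proj h B, a * b = b * a := by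
    intro a ha b hb
    apply proj_comm h (h.Kt b (proj_le h B hb)) (B := B) _ a ha
    intro c hc
    exact (proj_comm h (hBt c hc) (B := B) (fun d hd => hBab d hd c hc) b hb).symm
  have key := h.ab (proj h B) hpR hpab (fun g hg hgz => proj_conj h hg (hn g hg hgz))
  rcases mem_proj_or h hb (hBt b hb) with h1 | h1
  · exact Or.inl (key b h1)
  · right
    rcases key _ h1 with h2 | h2
    · left; rw [← h.tmul b, h2, mul_one]
    · right; rw [← h.tmul b, h2]

/-- **(3)** -/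
theorem t_mem [Finite G] (h : Loc t z K R) {F : Subgroup G} (hF : IsF z F)
    (htc : (⟨t, mem_centralizer_singleton_iff.2 h.comm⟩ : centralizer ({z} : Set G)) ∈
      _root_.commutator (centralizer ({z} : Set G))) : t ∈ F := by
  by_contra htF
  have hzF : z ∈ F := hF.self z rfl fun x hx => (hF.le x hx).symm
  obtain ⟨lam, hlam⟩ := D8.Lam.exists_lam (t := t) (z := z)
    (N := centralizer ({t} : Set G) ⊓ centralizer ({z} : Set G)) (F := F)
    { hN := fun n hn => ⟨mem_centralizer_singleton_iff.1 hn.2,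
        Or.inl (by rw [mem_centralizer_singleton_iff.1 hn.1]; group)⟩
      tt := h.tt
      zz := h.zz
      z1 := h.z1
      comm := h.comm
      pF := hF.pF
      le := hF.le
      nor := hF.nor
      self := hF.self
      tF := htF
      ab := by
        intro B hB hBt hBab hBn' b hb
        have hBn : ∀ n, n * t = t * n → n * z = z * n → ∀ b ∈ B, n * b * n⁻¹ ∈ B := fun n h1 h2 =>
          hBn' n ⟨mem_centralizer_singleton_iff.2 h1, mem_centralizer_singleton_iff.2 h2⟩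
        rcases abel_mem h (hF.pF.to_le hB) hBt (fun b hb => hF.le b (hB hb)) hBab
          (fun g hg hgz b hb => hBn g (h.Kt g hg) hgz b hb) hb with h1 | h1 | h1
        · exact h1
        · exfalso
          apply htF
          rw [← h1]; exact hB hb
        · exfalso
          apply htF
          have h5 := F.mul_mem (hB hb) hzF
          rwa [h1, mul_assoc, h.zz, mul_one] at h5 }
  have h1 : lam ⟨t, mem_centralizer_singleton_iff.2 h.comm⟩ = 1 := by
    have h2 : _root_.commutator (centralizer ({z} : Set G)) ≤ lam.ker := by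
      rw [_root_.commutator_def, commutator_le]
      intro a _ b _
      rw [MonoidHom.mem_ker, commutatorElement_def, map_mul, map_mul, map_mul, map_inv, map_inv,
        mul_comm (lam a) (lam b), mul_assoc (lam b), mul_inv_cancel, mul_one, mul_inv_cancel]
    exact h2 htc
  rw [h1] at hlam
  exact absurd hlam (by decide)

/-- **(2) + (3)** -/
theorem exists_core [Finite G] (h : Loc t z K R) (hG : _root_.commutator G = ⊤)
    (hO : pPrimeCore 2 ↥(centralizer ({z} : Set G)) = ⊥)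
    (hNI : (⟨z, mem_centralizer_singleton_iff.2 rfl⟩ : ↥(centralizer ({z} : Set G))) ∉
      layer ↥(centralizer ({z} : Set G))) :
    ∃ F : Subgroup G, IsF z F ∧ t ∈ F := by
  set X := centralizer ({z} : Set G) with hX
  have h1 := (Cfsg.Agent.SignalizersComponents.PConstrained.centralizer_pCore_le_iff_layer_eq_bot 2 hO).2
    (layer_eq_bot h hO hNI)
  set Q : Subgroup ↥X := pCore 2 ↥X with hQ
  have hQn : Q.Normal := Cfsg.Agent.Lib.Cores.pCore_normal 2
  have hQp : IsPGroup 2 Q := Cfsg.Agent.Lib.Cores.pCore_isPGroup 2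
  have hF : IsF z (Q.map X.subtype) :=
    { pF := hQp.map _
      le := by
        rintro _ ⟨y, -, rfl⟩
        exact mem_centralizer_singleton_iff.1 y.2
      nor := by
        rintro g hg _ ⟨y, hy, rfl⟩
        exact ⟨⟨g, mem_centralizer_singleton_iff.2 hg⟩ * y * ⟨g, mem_centralizer_singleton_iff.2 hg⟩⁻¹,
          hQn.conj_mem y hy _, rfl⟩
      self := by
        intro g hg hc
        refine ⟨⟨g, mem_centralizer_singleton_iff.2 hg⟩, h1 (mem_centralizer_iff.2 ?_), rfl⟩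
        intro y hy
        exact Subtype.ext (hc y ⟨y, hy, rfl⟩).symm }
  exact ⟨_, hF, t_mem h hF (h.start hG).2.2⟩

end Cfsg.Agent.OddHalf.D6.QThree.Core

end

-- merged: Cfsg.Agent.OddHalf.D6.QThree.Abs
section

/-!
# ODD half, D6, `q = 3`: the core of `C_G(z)`, from two local facts (helper143)

`Data t z`: commuting involutions `t`, `z` such that, for `M = C(t) ∩ C(z)`,
* `eq`: the normal subgroups of `M` not containing `z` lie in `{1, t, t z}`;
* `abel`: the abelian normal 2-subgroups of `M` lie in `⟨t, z⟩`.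

With `O(C(z)) = 1`, `z ∉ E(C(z))`, `t ∈ C(z)'`: `Data.exists_core`: a self-centralising normal 2-subgroup `F` of `C(z)`
with `t ∈ F`. Then either `F ≤ C(t)` and `⟨t, z⟩` is normal in `C(z)` (`conj_t_of_le`), or some `s ∈ F` maps `t` to
`t z` (`exists_mem`).
-/

set_option autoImplicit false

namespace Cfsg.Agent.OddHalf.D6.QThree.Abs

open Subgroup Cfsg Cfsg.Agent.OddHalf.D6.QThree.Core

variable {G : Type*} [Group G] {t z : G} {F : Subgroup G}

/-- the two local facts -/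
structure Data (t z : G) : Prop where
  tt : t * t = 1
  t1 : t ≠ 1
  zz : z * z = 1
  z1 : z ≠ 1
  comm : t * z = z * t
  /-- normal subgroups of `C(t) ∩ C(z)` not containing `z` -/
  eq : ∀ M : Subgroup G, (∀ m ∈ M, m * t = t * m) → (∀ m ∈ M, m * z = z * m) →
    (∀ g, g * t = t * g → g * z = z * g → ∀ m ∈ M, g * m * g⁻¹ ∈ M) → z ∉ M →
    ∀ m ∈ M, m = 1 ∨ m = t ∨ m = t * z
  /-- abelian normal 2-subgroups of `C(t) ∩ C(z)` -/
  abel : ∀ B : Subgroup G, IsPGroup 2 B → (∀ b ∈ B, b * t = t * b) → (∀ b ∈ B, b * z = z * b) →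
    (∀ a ∈ B, ∀ b ∈ B, a * b = b * a) →
    (∀ g, g * t = t * g → g * z = z * g → ∀ b ∈ B, g * b * g⁻¹ ∈ B) →
    ∀ b ∈ B, (b = 1 ∨ b = z) ∨ (b = t ∨ b = t * z)

namespace Data

/-- **(2)** `E(C_G(z)) = 1` -/
theorem layer_eq_bot [Finite G] (h : Data t z)
    (hO : pPrimeCore 2 ↥(centralizer ({z} : Set G)) = ⊥)
    (hNI : (⟨z, mem_centralizer_singleton_iff.2 rfl⟩ : ↥(centralizer ({z} : Set G))) ∉
      layer ↥(centralizer ({z} : Set G))) :
    layer ↥(centralizer ({z} : Set G)) = ⊥ := by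
  set X := centralizer ({z} : Set G) with hX
  set E : Subgroup ↥X := layer ↥X with hE
  have hEn : E.Normal := by rw [hE]; exact Cfsg.Agent.SignalizersComponents.LayerBasic.layer_normal _
  set t' : ↥X := ⟨t, mem_centralizer_singleton_iff.2 h.comm⟩ with ht'
  set z' : ↥X := ⟨z, mem_centralizer_singleton_iff.2 rfl⟩ with hz'
  have ht2 : t' * t' = 1 := Subtype.ext h.tt
  -- a Sylow subgroup through `t`
  obtain ⟨W, hW⟩ : ∃ W : Sylow 2 ↥X, zpowers t' ≤ (W : Subgroup ↥X) :=
    (TR.Frame.isPGroup_zpowers ht2).exists_le_sylow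
  have htW : t' ∈ (W : Subgroup ↥X) := hW (mem_zpowers t')
  set U : Subgroup ↥X := (W : Subgroup ↥X) ⊓ E with hU
  have hUp : IsPGroup 2 U := W.isPGroup'.to_le inf_le_left
  -- the centraliser of `t` in `E`
  have hcent : ∀ e ∈ E, e * t' = t' * e → e = 1 ∨ e = t' ∨ e = t' * z' := by
    intro e he het
    have := h.eq ((E ⊓ centralizer ({t'} : Set ↥X)).map X.subtype) ?_ ?_ ?_ ?_
      (e : G) ⟨e, ⟨he, mem_centralizer_singleton_iff.2 het⟩, rfl⟩
    · rcases this with h1 | h1 | h1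
      · exact Or.inl (Subtype.ext h1)
      · exact Or.inr (Or.inl (Subtype.ext h1))
      · exact Or.inr (Or.inr (Subtype.ext h1))
    · rintro _ ⟨y, hy, rfl⟩
      exact congrArg Subtype.val (mem_centralizer_singleton_iff.1 hy.2)
    · rintro _ ⟨y, -, rfl⟩
      exact mem_centralizer_singleton_iff.1 y.2
    · rintro g hgt hgz _ ⟨y, hy, rfl⟩
      set g' : ↥X := ⟨g, mem_centralizer_singleton_iff.2 hgz⟩ with hg'
      have h1 : Commute g' t' := Subtype.ext hgt
      have h2 : Commute y t' := mem_centralizer_singleton_iff.1 hy.2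
      exact ⟨g' * y * g'⁻¹, ⟨hEn.conj_mem y hy.1 g', mem_centralizer_singleton_iff.2
        ((h1.mul_left h2).mul_left h1.inv_left)⟩, rfl⟩
    · rintro ⟨y, hy, hyz⟩
      have : y = z' := Subtype.ext hyz
      rw [this] at hy
      exact hNI hy.1
  by_contra hne
  -- `U ≠ 1`
  have hUne : U ≠ ⊥ := by
    intro hU0
    apply hne
    have h1 : Nat.card ↥E = E.index * 0 + Nat.card ↥E := by omega
    have h2 : (Nat.card ↥E).Coprime 2 := by
      have h3 := (Cfsg.Agent.ClassificationK.GTwoFactorGen.sylowInf W E).card_eq_multiplicity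
      have h4 : Nat.card ((Cfsg.Agent.ClassificationK.GTwoFactorGen.sylowInf W E : Sylow 2 ↥E) :
          Subgroup ↥E) = 1 := by
        rw [Cfsg.Agent.ClassificationK.GTwoFactorGen.coe_sylowInf, Subgroup.card_eq_one, subgroupOf_eq_bot]
        rw [disjoint_iff]; exact hU0
      rw [h4] at h3
      rw [Nat.coprime_comm, Nat.Prime.coprime_iff_not_dvd Nat.prime_two]
      intro h5
      have h6 := Nat.prime_two.factorization_pos_of_dvd Nat.card_pos.ne' h5
      have h7 : 1 < 2 ^ (Nat.card ↥E).factorization 2 := Nat.one_lt_two_pow h6.ne'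
      omega
    have h3 := Cfsg.Agent.Lib.Cores.le_pPrimeCore hEn h2
    rw [hO, le_bot_iff] at h3
    exact h3
  -- `U` has order 2
  obtain ⟨c, hcU, hcW, hc1⟩ : ∃ c ∈ U, (∀ w ∈ (W : Subgroup ↥X), w * c = c * w) ∧ c ≠ 1 := by
    have hn : (U.subgroupOf (W : Subgroup ↥X)).Normal := by
      refine ⟨fun x hx w => ?_⟩
      rw [mem_subgroupOf] at hx ⊢
      exact ⟨(w * x * w⁻¹).2, hEn.conj_mem _ hx.2 _⟩
    have hnb : U.subgroupOf (W : Subgroup ↥X) ≠ ⊥ := by
      intro h1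
      rw [subgroupOf_eq_bot, disjoint_iff, inf_eq_left.2 (inf_le_left : U ≤ (W : Subgroup ↥X))] at h1
      exact hUne h1
    obtain ⟨x, hx1, hx2, hx3⟩ := Cfsg.Agent.Transfer.PGroupNormal.exists_mem_inf_center_orderOf
      W.isPGroup' (U.subgroupOf (W : Subgroup ↥X)) hnb
    refine ⟨(x : ↥X), hx1, ?_, ?_⟩
    · intro w hw
      exact congrArg Subtype.val (mem_center_iff.1 hx2 ⟨w, hw⟩)
    · intro h1
      have h2 : x = 1 := Subtype.ext h1
      rw [h2, orderOf_one] at hx3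
      omega
  have hz'c : ∀ x : ↥X, x * z' = z' * x := fun x => Subtype.ext (mem_centralizer_singleton_iff.1 x.2)
  have hzz' : z' * z' = 1 := Subtype.ext h.zz
  have hU2 : ∀ u ∈ U, u = 1 ∨ u = c := by
    intro u hu
    have hct := hcent c hcU.2 (hcW t' htW).symm
    have huc := hcW u hu.1
    have hut : u * t' = t' * u := by
      rcases hct with h1 | h1 | h1
      · exact absurd h1 hc1
      · rw [← h1]; exact huc
      · rw [h1] at huc
        have h2 : (u * t') * z' = (t' * u) * z' := by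
          rw [mul_assoc, huc, mul_assoc, mul_assoc, ← hz'c u]
        exact mul_right_cancel h2
    have hzE : z' ∉ E := hNI
    rcases hcent u hu.2 hut with h1 | h1 | h1
    · exact Or.inl h1
    · right
      rcases hct with h2 | h2 | h2
      · exact absurd h2 hc1
      · rw [h1, h2]
      · exfalso
        apply hzE
        have h3 := E.mul_mem hu.2 hcU.2
        rwa [h1, h2, ← mul_assoc, ht2, one_mul] at h3
    · right
      rcases hct with h2 | h2 | h2
      · exact absurd h2 hc1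
      · exfalso
        apply hzE
        have h3 := E.mul_mem hcU.2 hu.2
        rwa [h1, h2, ← mul_assoc, ht2, one_mul] at h3
      · rw [h1, h2]
  -- a normal complement of the Sylow subgroup of `E`
  set PE := Cfsg.Agent.ClassificationK.GTwoFactorGen.sylowInf W E with hPE
  have hPEmem : ∀ x : ↥E, x ∈ (PE : Subgroup ↥E) → x = 1 ∨ (x : ↥X) = c := by
    intro x hx
    rcases hU2 (x : ↥X) ⟨hx, x.2⟩ with h1 | h1
    · exact Or.inl (Subtype.ext h1)
    · exact Or.inr h1
  have hPEc : IsCyclic ↥(PE : Subgroup ↥E) := by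
    refine ⟨⟨⟨c, hcU.2⟩, hcU.1⟩, ?_⟩
    rintro ⟨x, hx⟩
    rcases hPEmem x hx with h1 | h1
    · have : (⟨x, hx⟩ : ↥(PE : Subgroup ↥E)) = 1 := Subtype.ext h1
      rw [this]; exact (zpowers _).one_mem
    · have : (⟨x, hx⟩ : ↥(PE : Subgroup ↥E)) = ⟨⟨c, hcU.2⟩, hcU.1⟩ := Subtype.ext (Subtype.ext h1)
      rw [this]; exact mem_zpowers _
  obtain ⟨N, hNodd, hNP, hN⟩ := Cfsg.Agent.CharactersDeep.QuatSylow.exists_two_complement PE hPEc
  have hNn : N.Normal := by
    refine ⟨fun x hx g => ?_⟩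
    rw [hN] at hx ⊢
    have : orderOf (g * x * g⁻¹) = orderOf x :=
      orderOf_injective (MulAut.conj g).toMonoidHom (MulAut.conj g).injective x
    rw [this]; exact hx
  have hcyc : IsCyclic (↥E ⧸ N) := by
    have hsurj : Function.Surjective ((QuotientGroup.mk' N).comp (PE : Subgroup ↥E).subtype) := by
      rw [← MonoidHom.range_eq_top, MonoidHom.range_comp, range_subtype, eq_top_iff]
      have h1 : (N ⊔ (PE : Subgroup ↥E)).map (QuotientGroup.mk' N) = ⊤ := by
        rw [hNP, ← MonoidHom.range_eq_map]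
        exact MonoidHom.range_eq_top.2 (QuotientGroup.mk'_surjective N)
      rw [Subgroup.map_sup, (QuotientGroup.map_mk'_self N), bot_sup_eq] at h1
      rw [h1]
    exact isCyclic_of_surjective _ hsurj
  have hcomm : commutator ↥E ≤ N := by
    have h1 : IsMulCommutative (↥E ⧸ N) := IsCyclic.isMulCommutative
    rw [_root_.commutator_def, commutator_le]
    intro a _ b _
    rw [← QuotientGroup.eq_one_iff]
    have h2 : ((a : ↥E ⧸ N)) * b = b * a := h1.is_comm.comm _ _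
    show ((a * b * a⁻¹ * b⁻¹ : ↥E) : ↥E ⧸ N) = 1
    rw [QuotientGroup.mk_mul, QuotientGroup.mk_mul, QuotientGroup.mk_mul, QuotientGroup.mk_inv,
      QuotientGroup.mk_inv, h2]
    group
  have hperf : commutator ↥E = ⊤ := by
    have h1 := Cfsg.Agent.SignalizersComponents.LayerBasic.layer_perfect ↥X
    have h2 : (commutator ↥E).map E.subtype = ⁅E, E⁆ := by
      rw [_root_.commutator_def, map_commutator, ← MonoidHom.range_eq_map, range_subtype]
    rw [eq_top_iff]
    intro x _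
    have h3 : (x : ↥X) ∈ (commutator ↥E).map E.subtype := by
      rw [h2]
      have h4 : (x : ↥X) ∈ E := x.2
      have h5 : ⁅E, E⁆ = E := h1
      rw [h5]; exact h4
    obtain ⟨y, hy, hyx⟩ := h3
    have : y = x := Subtype.ext hyx
    rwa [← this]
  have hcN : (⟨c, hcU.2⟩ : ↥E) ∈ N := hcomm (by rw [hperf]; exact mem_top _)
  rw [hN] at hcN
  obtain ⟨k, hk⟩ := hUp ⟨c, hcU⟩
  have hk' : c ^ 2 ^ k = 1 := congrArg Subtype.val hk
  have hk2 : (⟨c, hcU.2⟩ : ↥E) ^ 2 ^ k = 1 := Subtype.ext hk'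
  have h6 := orderOf_dvd_of_pow_eq_one hk2
  obtain ⟨j, -, hj⟩ := (Nat.dvd_prime_pow Nat.prime_two).1 h6
  rcases Nat.eq_zero_or_pos j with h7 | h7
  · rw [h7, pow_zero, orderOf_eq_one_iff] at hj
    exact hc1 (congrArg Subtype.val hj)
  · rw [hj] at hcN
    have h8 : 2 ∣ 2 ^ j := dvd_pow_self 2 h7.ne'
    rw [Nat.odd_iff] at hcN
    omega

/-- **(3)** -/
theorem t_mem [Finite G] (h : Data t z) (hF : IsF z F)
    (htc : (⟨t, mem_centralizer_singleton_iff.2 h.comm⟩ : centralizer ({z} : Set G)) ∈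
      _root_.commutator (centralizer ({z} : Set G))) : t ∈ F := by
  by_contra htF
  have hzF : z ∈ F := hF.self z rfl fun x hx => (hF.le x hx).symm
  obtain ⟨lam, hlam⟩ := D8.Lam.exists_lam (t := t) (z := z)
    (N := centralizer ({t} : Set G) ⊓ centralizer ({z} : Set G)) (F := F)
    { hN := fun n hn => ⟨mem_centralizer_singleton_iff.1 hn.2,
        Or.inl (by rw [mem_centralizer_singleton_iff.1 hn.1]; group)⟩
      tt := h.tt
      zz := h.zz
      z1 := h.z1
      comm := h.comm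
      pF := hF.pF
      le := hF.le
      nor := hF.nor
      self := hF.self
      tF := htF
      ab := by
        intro B hB hBt hBab hBn' b hb
        have hBn : ∀ n, n * t = t * n → n * z = z * n → ∀ b ∈ B, n * b * n⁻¹ ∈ B := fun n h1 h2 =>
          hBn' n ⟨mem_centralizer_singleton_iff.2 h1, mem_centralizer_singleton_iff.2 h2⟩
        rcases h.abel B (hF.pF.to_le hB) hBt (fun b hb => hF.le b (hB hb)) hBab hBn b hb with h1 | h1 | h1
        · exact h1
        · exfalso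
          apply htF
          rw [← h1]; exact hB hb
        · exfalso
          apply htF
          have h5 := F.mul_mem (hB hb) hzF
          rwa [h1, mul_assoc, h.zz, mul_one] at h5 }
  have h1 : lam ⟨t, mem_centralizer_singleton_iff.2 h.comm⟩ = 1 := by
    have h2 : _root_.commutator (centralizer ({z} : Set G)) ≤ lam.ker := by
      rw [_root_.commutator_def, commutator_le]
      intro a _ b _
      rw [MonoidHom.mem_ker, commutatorElement_def, map_mul, map_mul, map_mul, map_inv, map_inv,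
        mul_comm (lam a) (lam b), mul_assoc (lam b), mul_inv_cancel, mul_one, mul_inv_cancel]
    exact h2 htc
  rw [h1] at hlam
  exact absurd hlam (by decide)

/-- **(2) + (3)** -/
theorem exists_core [Finite G] (h : Data t z)
    (htc : (⟨t, mem_centralizer_singleton_iff.2 h.comm⟩ : centralizer ({z} : Set G)) ∈
      _root_.commutator (centralizer ({z} : Set G)))
    (hO : pPrimeCore 2 ↥(centralizer ({z} : Set G)) = ⊥)
    (hNI : (⟨z, mem_centralizer_singleton_iff.2 rfl⟩ : ↥(centralizer ({z} : Set G))) ∉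
      layer ↥(centralizer ({z} : Set G))) :
    ∃ F : Subgroup G, IsF z F ∧ t ∈ F := by
  set X := centralizer ({z} : Set G) with hX
  have h1 := (Cfsg.Agent.SignalizersComponents.PConstrained.centralizer_pCore_le_iff_layer_eq_bot 2 hO).2
    (layer_eq_bot h hO hNI)
  set Q : Subgroup ↥X := pCore 2 ↥X with hQ
  have hQn : Q.Normal := Cfsg.Agent.Lib.Cores.pCore_normal 2
  have hQp : IsPGroup 2 Q := Cfsg.Agent.Lib.Cores.pCore_isPGroup 2
  have hF : IsF z (Q.map X.subtype) :=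
    { pF := hQp.map _
      le := by
        rintro _ ⟨y, -, rfl⟩
        exact mem_centralizer_singleton_iff.1 y.2
      nor := by
        rintro g hg _ ⟨y, hy, rfl⟩
        exact ⟨⟨g, mem_centralizer_singleton_iff.2 hg⟩ * y * ⟨g, mem_centralizer_singleton_iff.2 hg⟩⁻¹,
          hQn.conj_mem y hy _, rfl⟩
      self := by
        intro g hg hc
        refine ⟨⟨g, mem_centralizer_singleton_iff.2 hg⟩, h1 (mem_centralizer_iff.2 ?_), rfl⟩
        intro y hy
        exact Subtype.ext (hc y ⟨y, hy, rfl⟩).symm }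
  exact ⟨_, hF, t_mem h hF htc⟩

/-- Case I: `F ≤ C(t)` -/
theorem conj_t_of_le (h : Data t z) (hF : IsF z F) (htF : t ∈ F) (nc : ∀ g, g * t * g⁻¹ ≠ z)
    (hFt : ∀ x ∈ F, x * t = t * x) {x : G} (hxz : x * z = z * x) :
    x * t * x⁻¹ = t ∨ x * t * x⁻¹ = t * z := by
  have hxi : x⁻¹ * z = z * x⁻¹ := (Commute.inv_left (show Commute x z from hxz)).eq
  have hB : x * t * x⁻¹ ∈ F ⊓ centralizer (F : Set G) := by
    refine ⟨hF.nor x hxz t htF, mem_centralizer_iff.2 ?_⟩
    intro f hf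
    have h1 := hF.nor x⁻¹ hxi f hf
    rw [inv_inv] at h1
    have h2 := hFt _ h1
    calc f * (x * t * x⁻¹) = x * ((x⁻¹ * f * x) * t) * x⁻¹ := by group
      _ = x * (t * (x⁻¹ * f * x)) * x⁻¹ := by rw [h2]
      _ = x * t * x⁻¹ * f := by group
  have hBn : ∀ g, g * t = t * g → g * z = z * g → ∀ b ∈ F ⊓ centralizer (F : Set G),
      g * b * g⁻¹ ∈ F ⊓ centralizer (F : Set G) := by
    intro g _ hgz b hb
    refine ⟨hF.nor g hgz b hb.1, mem_centralizer_iff.2 ?_⟩
    intro f hf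
    have hgi : g⁻¹ * z = z * g⁻¹ := (Commute.inv_left (show Commute g z from hgz)).eq
    have h1 := hF.nor g⁻¹ hgi f hf
    rw [inv_inv] at h1
    have h2 := mem_centralizer_iff.1 hb.2 _ h1
    calc f * (g * b * g⁻¹) = g * ((g⁻¹ * f * g) * b) * g⁻¹ := by group
      _ = g * (b * (g⁻¹ * f * g)) * g⁻¹ := by rw [h2]
      _ = g * b * g⁻¹ * f := by group
  rcases h.abel _ (hF.pF.to_le inf_le_left) (fun b hb => hFt b hb.1) (fun b hb => hF.le b hb.1)
    (fun a ha b hb => mem_centralizer_iff.1 hb.2 a ha.1) hBn _ hB with (h1 | h1) | h1 | h1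
  · exact absurd (conj_eq_one_iff.1 h1) h.t1
  · exact absurd h1 (nc x)
  · exact Or.inl h1
  · exact Or.inr h1

/-- Case II: `F` is not contained in `C(t)` -/
theorem exists_mem [Finite G] (h : Data t z) (hF : IsF z F) (htF : t ∈ F) (nc : ∀ g, g * t * g⁻¹ ≠ z)
    (hFt : ¬ ∀ x ∈ F, x * t = t * x) :
    ∃ s ∈ F, s * t * s⁻¹ = t * z := by
  set F₁ : Subgroup G := F ⊓ centralizer ({t} : Set G) with hF₁
  have hlt : F₁ < F := by
    refine lt_of_le_of_ne inf_le_left ?_
    intro e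
    apply hFt
    intro x hx
    rw [← e] at hx
    exact mem_centralizer_singleton_iff.1 hx.2
  have : Group.IsNilpotent F := hF.pF.isNilpotent
  obtain ⟨x, hxF, hxF₁, hxN⟩ := Cfsg.Agent.Transfer.FrobeniusFusion.exists_mem_normalizer_notMem hlt
  have htF₁ : t ∈ F₁ := ⟨htF, mem_centralizer_singleton_iff.2 rfl⟩
  have hB : x * t * x⁻¹ ∈ F₁ ⊓ centralizer (F₁ : Set G) := by
    refine ⟨(mem_normalizer_iff.1 hxN t).1 htF₁, mem_centralizer_iff.2 ?_⟩
    intro f hf
    have h1 : x⁻¹ * f * x ∈ F₁ := by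
      apply (mem_normalizer_iff.1 hxN _).2
      have e : x * (x⁻¹ * f * x) * x⁻¹ = f := by group
      rw [e]; exact hf
    have h2 := mem_centralizer_singleton_iff.1 h1.2
    calc f * (x * t * x⁻¹) = x * ((x⁻¹ * f * x) * t) * x⁻¹ := by group
      _ = x * (t * (x⁻¹ * f * x)) * x⁻¹ := by rw [h2]
      _ = x * t * x⁻¹ * f := by group
  have hF₁n : ∀ g, g * t = t * g → g * z = z * g → ∀ f ∈ F₁, g * f * g⁻¹ ∈ F₁ := by
    intro g hgt hgz f hf
    have c1 : Commute g t := hgt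
    have c2 : Commute f t := mem_centralizer_singleton_iff.1 hf.2
    exact ⟨hF.nor g hgz f hf.1, mem_centralizer_singleton_iff.2 ((c1.mul_left c2).mul_left c1.inv_left)⟩
  have hBn : ∀ g, g * t = t * g → g * z = z * g → ∀ b ∈ F₁ ⊓ centralizer (F₁ : Set G),
      g * b * g⁻¹ ∈ F₁ ⊓ centralizer (F₁ : Set G) := by
    intro g hgt hgz b hb
    refine ⟨hF₁n g hgt hgz b hb.1, mem_centralizer_iff.2 ?_⟩
    intro f hf
    have hgi : g⁻¹ * z = z * g⁻¹ := (Commute.inv_left (show Commute g z from hgz)).eq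
    have hgti : g⁻¹ * t = t * g⁻¹ := (Commute.inv_left (show Commute g t from hgt)).eq
    have h1 := hF₁n g⁻¹ hgti hgi f hf
    rw [inv_inv] at h1
    have h2 := mem_centralizer_iff.1 hb.2 _ h1
    calc f * (g * b * g⁻¹) = g * ((g⁻¹ * f * g) * b) * g⁻¹ := by group
      _ = g * (b * (g⁻¹ * f * g)) * g⁻¹ := by rw [h2]
      _ = g * b * g⁻¹ * f := by group
  refine ⟨x, hxF, ?_⟩
  rcases h.abel _ (hF.pF.to_le (inf_le_left.trans inf_le_left))
    (fun b hb => mem_centralizer_singleton_iff.1 hb.1.2) (fun b hb => hF.le b hb.1.1)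
    (fun a ha b hb => mem_centralizer_iff.1 hb.2 a ha.1) hBn _ hB with (h1 | h1) | h1 | h1
  · exact absurd (conj_eq_one_iff.1 h1) h.t1
  · exact absurd h1 (nc x)
  · exfalso
    apply hxF₁
    refine ⟨hxF, mem_centralizer_singleton_iff.2 ?_⟩
    rwa [mul_inv_eq_iff_eq_mul] at h1
  · exact h1

end Data

end Cfsg.Agent.OddHalf.D6.QThree.Abs

end

-- merged: Cfsg.Agent.OddHalf.D6.QThree.End
section

/-!
# ODD half, D6, `q = 3`: the contradiction, `t ∈ O₂(C_G(z))` (helper143, after helper135 #7766 (4))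

`Pos t z K R F`: the situation `Loc`, a self-centralising normal 2-subgroup `F` of `C_G(z)` with `t ∈ F`, `t` not
conjugate to `z`, an element `s` with `t^s = t z`, `z^s = z`.

* `Pos.ytrick`;
* `Pos.false_one` (`G₂(3)`, `L₄(3)`), `Pos.false_two` (`U₄(3)`), `Pos.false_three` (`PSp₄(3)`).
-/

set_option autoImplicit false

namespace Cfsg.Agent.OddHalf.D6.QThree.End

open Subgroup Cfsg Cfsg.Agent.OddHalf.D6.QThree.Sit Cfsg.Agent.OddHalf.D6.QThree.Core

variable {G : Type*} [Group G] {t z : G} {K R F : Subgroup G}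

/-! ### groups abelian modulo a normal subgroup -/

theorem comm_mem_of_gen {X D : Subgroup G} {T : Set G} (hD : ∀ x ∈ X, ∀ d ∈ D, x * d * x⁻¹ ∈ D)
    (hTX : T ⊆ X) (hDX : D ≤ X) (hX : X ≤ closure (T ∪ D)) (hT : ∀ a ∈ T, ∀ b ∈ T, a * b * a⁻¹ * b⁻¹ ∈ D) :
    ∀ a ∈ X, ∀ b ∈ X, a * b * a⁻¹ * b⁻¹ ∈ D := by
  -- the elements commuting with `b` modulo `D`
  let C : G → Subgroup G := fun b =>
    { carrier := {a | a ∈ X ∧ (b ∈ X → a * b * a⁻¹ * b⁻¹ ∈ D)}
      one_mem' := ⟨X.one_mem, fun _ => by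
        have e : (1 : G) * b * 1⁻¹ * b⁻¹ = 1 := by group
        rw [e]; exact D.one_mem⟩
      mul_mem' := by
        rintro x y ⟨hx, hx'⟩ ⟨hy, hy'⟩
        refine ⟨X.mul_mem hx hy, fun hb => ?_⟩
        have e : x * y * b * (x * y)⁻¹ * b⁻¹ = (x * (y * b * y⁻¹ * b⁻¹) * x⁻¹) * (x * b * x⁻¹ * b⁻¹) := by
          group
        rw [e]; exact D.mul_mem (hD x hx _ (hy' hb)) (hx' hb)
      inv_mem' := by
        rintro x ⟨hx, hx'⟩
        refine ⟨X.inv_mem hx, fun hb => ?_⟩
        have e : x⁻¹ * b * x⁻¹⁻¹ * b⁻¹ = x⁻¹ * (x * b * x⁻¹ * b⁻¹)⁻¹ * x⁻¹⁻¹ := by group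
        rw [e]; exact hD _ (X.inv_mem hx) _ (D.inv_mem (hx' hb)) }
  have hDC : ∀ b, D ≤ C b := by
    intro b d hd
    refine ⟨hDX hd, fun hb => ?_⟩
    have e : d * b * d⁻¹ * b⁻¹ = d * (b * d⁻¹ * b⁻¹) := by group
    rw [e]; exact D.mul_mem hd (hD b hb _ (D.inv_mem hd))
  have h1 : ∀ b ∈ T, X ≤ C b := by
    intro b hb
    refine hX.trans ((closure_le _).2 ?_)
    rintro a (ha | ha)
    · exact ⟨hTX ha, fun _ => hT a ha b hb⟩
    · exact hDC b ha
  have h2 : ∀ b ∈ X, X ≤ C b := by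
    intro b hb
    refine hX.trans ((closure_le _).2 ?_)
    rintro a (ha | ha)
    · refine ⟨hTX ha, fun hb' => ?_⟩
      have h3 := (h1 a ha hb').2 (hTX ha)
      have e : a * b * a⁻¹ * b⁻¹ = (b * a * b⁻¹ * a⁻¹)⁻¹ := by group
      rw [e]; exact D.inv_mem h3
    · exact hDC b ha
  intro a ha b hb
  exact (h2 b hb ha).2 hb

theorem mem_of_commutator {X D : Subgroup G} (h : ∀ a ∈ X, ∀ b ∈ X, a * b * a⁻¹ * b⁻¹ ∈ D) {t : G}
    (htX : t ∈ X) (ht : (⟨t, htX⟩ : X) ∈ _root_.commutator X) : t ∈ D := by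
  have h1 : _root_.commutator X ≤ D.subgroupOf X := by
    rw [_root_.commutator_def, commutator_le]
    rintro ⟨a, ha⟩ - ⟨b, hb⟩ -
    exact h a ha b hb
  exact h1 ht

/-- the position -/
structure Pos (t z : G) (K R F : Subgroup G) : Prop extends Loc t z K R where
  F' : IsF z F
  tF : t ∈ F
  nc : ∀ g, g * t * g⁻¹ ≠ z
  sw : ∃ s : G, s * t * s⁻¹ = t * z ∧ s * z * s⁻¹ = z

namespace Pos

theorem ncj (h : Pos t z K R F) {a b : G} (ha : IsConj t a) (hb : IsConj z b) : ¬ IsConj a b := by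
  intro hab
  obtain ⟨g, hg⟩ := isConj_iff.1 ((ha.trans hab).trans hb.symm)
  exact h.nc g hg

/-- `t ~ t v` for `v ~_K z` -/
theorem conj_tv (h : Pos t z K R F) {v k : G} (hk : k ∈ K) (hkv : k * z * k⁻¹ = v) : IsConj t (t * v) := by
  obtain ⟨s, hs, -⟩ := h.sw
  refine isConj_iff.2 ⟨k * s, ?_⟩
  calc k * s * t * (k * s)⁻¹ = k * (s * t * s⁻¹) * k⁻¹ := by group
    _ = (k * t) * z * k⁻¹ := by rw [hs]; group
    _ = t * (k * z * k⁻¹) := by rw [h.Kt k hk]; group
    _ = t * v := by rw [hkv]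

theorem swap_inv {s t z : G} (zz : z * z = 1) (hs : s * t * s⁻¹ = t * z) (hsz : s * z * s⁻¹ = z) :
    s⁻¹ * t * s = t * z ∧ s⁻¹ * z * s = z := by
  have h2 : s⁻¹ * z * s = z := by
    calc s⁻¹ * z * s = s⁻¹ * (s * z * s⁻¹) * s := by rw [hsz]
      _ = z := by group
  refine ⟨?_, h2⟩
  have h3 : t = s⁻¹ * t * s * (s⁻¹ * z * s) := by
    calc t = s⁻¹ * (s * t * s⁻¹) * s := by group
      _ = s⁻¹ * t * s * (s⁻¹ * z * s) := by rw [hs]; group
  rw [h2] at h3
  calc s⁻¹ * t * s = s⁻¹ * t * s * z * z := by rw [mul_assoc _ z z, zz, mul_one]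
    _ = t * z := by rw [← h3]

/-- `s` maps `C(t) ∩ C(z)` to itself -/
theorem swap_cen {s t z x : G} (zz : z * z = 1) (hs : s * t * s⁻¹ = t * z) (hsz : s * z * s⁻¹ = z)
    (hxt : x * t = t * x) (hxz : x * z = z * x) :
    (s * x * s⁻¹) * t = t * (s * x * s⁻¹) ∧ (s * x * s⁻¹) * z = z * (s * x * s⁻¹) := by
  obtain ⟨h1, h2⟩ := swap_inv zz hs hsz
  exact Loc.norm_cen (Or.inr (Or.inr h1)) (Or.inr (Or.inl h2)) x hxt hxz

theorem swap_cen_inv {s t z x : G} (hs : s * t * s⁻¹ = t * z) (hsz : s * z * s⁻¹ = z)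
    (hxt : x * t = t * x) (hxz : x * z = z * x) :
    (s⁻¹ * x * s) * t = t * (s⁻¹ * x * s) ∧ (s⁻¹ * x * s) * z = z * (s⁻¹ * x * s) := by
  have := Loc.norm_cen (g := s⁻¹) (t := t) (z := z) (Or.inr (Or.inr (by rwa [inv_inv])))
    (Or.inr (Or.inl (by rwa [inv_inv]))) x hxt hxz
  rwa [inv_inv] at this

/-- elements of `F ∩ K` lie in `R` -/
theorem mem_R (h : Pos t z K R F) {x : G} (hx : x ∈ F) (hxK : x ∈ K) : x ∈ R :=
  proj_mem h.toLoc h.F'.pF h.F'.le (fun g _ hgz => h.F'.nor g hgz) hxK (Or.inl hx)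

/-- **the y-trick** -/
theorem ytrick (h : Pos t z K R F) {v k y : G} (hk : k ∈ K)
    (hkv : k * z * k⁻¹ = v) (hkR : k⁻¹ * z * k ∉ R) (hyv : y * v * y⁻¹ = v) (hyt : y * t * y⁻¹ = t * z) :
    False := by
  apply hkR
  have hkt : k⁻¹ * t * k = t := by
    have h1 : Commute k t := h.Kt k hk
    rw [h1.inv_left.eq, mul_assoc, inv_mul_cancel, mul_one]
  have hkt2 : k * t * k⁻¹ = t := by
    rw [h.Kt k hk, mul_assoc, mul_inv_cancel, mul_one]
  have hkv2 : k⁻¹ * v * k = z := by rw [← hkv]; group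
  set x : G := k⁻¹ * y * k with hx
  have hxz : x * z = z * x := by
    have h1 : x * z * x⁻¹ = z := by
      calc x * z * x⁻¹ = k⁻¹ * (y * (k * z * k⁻¹) * y⁻¹) * k := by rw [hx]; group
        _ = z := by rw [hkv, hyv, hkv2]
    rwa [mul_inv_eq_iff_eq_mul] at h1
  have h2 : x * t * x⁻¹ = t * (k⁻¹ * z * k) := by
    calc x * t * x⁻¹ = k⁻¹ * (y * (k * t * k⁻¹) * y⁻¹) * k := by rw [hx]; group
      _ = (k⁻¹ * t * k) * (k⁻¹ * z * k) := by rw [hkt2, hyt]; group
      _ = t * (k⁻¹ * z * k) := by rw [hkt]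
  have h3 : t * (k⁻¹ * z * k) ∈ F := by
    rw [← h2]; exact h.F'.nor x hxz t h.tF
  have h4 : k⁻¹ * z * k ∈ F := by
    have := F.mul_mem h.tF h3
    rwa [h.tmul] at this
  exact h.mem_R h4 (K.mul_mem (K.mul_mem (K.inv_mem hk) h.zK) hk)

/-- **`G₂(3)`, `L₄(3)`** -/
theorem false_one (h : Pos t z K R F) {v k : G} (hv : v ∈ K) (hk : k ∈ K) (vv : v * v = 1)
    (hvz : v * z = z * v) (hkv : k * z * k⁻¹ = v) (hkR : k⁻¹ * z * k ∉ R)
    (hinv : ∀ d ∈ K, d * z = z * d → orderOf d = 3 → v * d * v⁻¹ * d ∈ R)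
    (huni : ∀ p ∈ K, p * z = z * p → p * p = 1 →
      (∀ d ∈ K, d * z = z * d → orderOf d = 3 → p * d * p⁻¹ * d ∈ R) →
      ∃ h ∈ K, h * z = z * h ∧ h * p * h⁻¹ = v) : False := by
  obtain ⟨s, hs, hsz⟩ := h.sw
  set w : G := s * v * s⁻¹ with hw
  obtain ⟨hwt, hwz⟩ := swap_cen h.zz hs hsz (h.Kt v hv) hvz
  have hww : w * w = 1 := by
    calc w * w = s * (v * v) * s⁻¹ := by rw [hw]; group
      _ = 1 := by rw [vv]; group
  -- the inversion of `d` modulo `R`
  have hwd : ∀ d ∈ K, d * z = z * d → orderOf d = 3 → w * d * w⁻¹ * d ∈ K → w * d * w⁻¹ * d ∈ R := by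
    intro d hd hdz hd3 hK
    obtain ⟨h1, h2⟩ := swap_cen_inv hs hsz (h.Kt d hd) hdz
    have ho : orderOf (s⁻¹ * d * s) = 3 := by
      rw [← hd3]
      have := orderOf_injective (MulAut.conj s⁻¹).toMonoidHom (MulAut.conj s⁻¹).injective d
      have e : (MulAut.conj s⁻¹).toMonoidHom d = s⁻¹ * d * s := by
        show s⁻¹ * d * s⁻¹⁻¹ = _
        rw [inv_inv]
      rwa [e] at this
    have h3 : s⁻¹ * d * s ∈ K := h.mem_of_odd h1 (by rw [ho]; decide)
    have h4 := hinv _ h3 h2 ho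
    -- `s R s⁻¹`
    refine proj_mem h.toLoc (B := R.map (MulAut.conj s).toMonoidHom) (h.pR.map _) ?_ ?_ hK (Or.inl ?_)
    · rintro _ ⟨r, hr, rfl⟩
      exact (swap_cen h.zz hs hsz (h.Kt r (h.RK hr)) (h.RP r hr)).2
    · rintro g hg hgz _ ⟨r, hr, rfl⟩
      obtain ⟨h5, h6⟩ := swap_cen_inv hs hsz (h.Kt g hg) hgz
      refine ⟨(s⁻¹ * g * s) * r * (s⁻¹ * g * s)⁻¹, ?_, ?_⟩
      · rcases h.cen _ h5 with h7 | h7
        · exact h.nR _ h7 h6 r hr
        · have h8 : t * (s⁻¹ * g * s) * z = z * (t * (s⁻¹ * g * s)) := by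
            have c1 : Commute t z := h.comm
            have c2 : Commute (s⁻¹ * g * s) z := h6
            exact c1.mul_left c2
          have h9 := h.nR _ h7 h8 r hr
          have e : t * (s⁻¹ * g * s) * r * (t * (s⁻¹ * g * s))⁻¹ =
              t * ((s⁻¹ * g * s) * r * (s⁻¹ * g * s)⁻¹) * t⁻¹ := by group
          rw [e] at h9
          have h10 := h.Kt _ (h.RK h9)
          have h11 : (s⁻¹ * g * s) * r * (s⁻¹ * g * s)⁻¹ =
              t⁻¹ * (t * ((s⁻¹ * g * s) * r * (s⁻¹ * g * s)⁻¹) * t⁻¹) * t := by group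
          rw [h11, mul_assoc, h10, ← mul_assoc, inv_mul_cancel, one_mul]
          exact h9
      · show s * ((s⁻¹ * g * s) * r * (s⁻¹ * g * s)⁻¹) * s⁻¹ = g * (s * r * s⁻¹) * g⁻¹
        group
    · refine ⟨_, h4, ?_⟩
      show s * (v * (s⁻¹ * d * s) * v⁻¹ * (s⁻¹ * d * s)) * s⁻¹ = w * d * w⁻¹ * d
      rw [hw]; group
  rcases h.cen w hwt with h1 | h1
  · obtain ⟨g, hg, hgz, hgw⟩ := huni w h1 hwz hww (fun d hd hdz hd3 => hwd d hd hdz hd3
      (K.mul_mem (K.mul_mem (K.mul_mem h1 hd) (K.inv_mem h1)) hd))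
    apply h.ytrick hk hkv hkR (y := g * s)
    · calc g * s * v * (g * s)⁻¹ = g * w * g⁻¹ := by rw [hw]; group
        _ = v := hgw
    · calc g * s * t * (g * s)⁻¹ = g * (s * t * s⁻¹) * g⁻¹ := by group
        _ = (g * t) * z * g⁻¹ := by rw [hs]; group
        _ = t * (g * z) * g⁻¹ := by rw [h.Kt g hg]; group
        _ = t * z := by rw [hgz]; group
  · have hpt := h.Kt _ h1
    have hctw : Commute t w := (show Commute w t from hwt).symm
    have hptp : (t * w) * (t * w) = 1 := by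
      calc (t * w) * (t * w) = (t * w) * (w * t) := by rw [hctw.eq]
        _ = t * (w * w) * t := by group
        _ = 1 := by rw [hww, mul_one, h.tt]
    have hptz : (t * w) * z = z * (t * w) := by
      have c1 : Commute t z := h.comm
      have c2 : Commute w z := hwz
      exact c1.mul_left c2
    have hd' : ∀ d ∈ K, (t * w) * d * (t * w)⁻¹ * d = w * d * w⁻¹ * d := by
      intro d hd
      have c1 : Commute t d := (h.Kt d hd).symm
      have c2 : Commute t (w * d * w⁻¹) := (hctw.mul_right c1).mul_right hctw.inv_right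
      calc (t * w) * d * (t * w)⁻¹ * d = (t * (w * d * w⁻¹)) * t⁻¹ * d := by group
        _ = w * d * w⁻¹ * d := by rw [c2.eq]; group
    obtain ⟨g, hg, hgz, hgw⟩ := huni (t * w) h1 hptz hptp (fun d hd hdz hd3 => by
      rw [hd' d hd]
      apply hwd d hd hdz hd3
      rw [← hd' d hd]
      exact K.mul_mem (K.mul_mem (K.mul_mem h1 hd) (K.inv_mem h1)) hd)
    -- `w ~ t v ~ t`, `w ~ v ~ z`
    have h2 : g * w * g⁻¹ = t * v := by
      have c1 : Commute t g := (h.Kt g hg).symm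
      calc g * w * g⁻¹ = g * (t * (t * w)) * g⁻¹ := by rw [h.tmul]
        _ = (g * t) * (t * w) * g⁻¹ := by group
        _ = t * (g * (t * w) * g⁻¹) := by rw [← c1.eq]; group
        _ = t * v := by rw [hgw]
    apply h.ncj (h.conj_tv hk hkv) (isConj_iff.2 ⟨k, hkv⟩)
    have h3 : IsConj v w := isConj_iff.2 ⟨s, rfl⟩
    have h4 : IsConj w (t * v) := isConj_iff.2 ⟨g, h2⟩
    exact (h3.trans h4).symm

/-- Case I -/
theorem conj_t_of_le [Finite G] (h : Pos t z K R F) (hFt : ∀ x ∈ F, x * t = t * x) {x : G} (hxz : x * z = z * x) :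
    x * t * x⁻¹ = t ∨ x * t * x⁻¹ = t * z := by
  have hxi : x⁻¹ * z = z * x⁻¹ := (Commute.inv_left (show Commute x z from hxz)).eq
  have hB : x * t * x⁻¹ ∈ F ⊓ centralizer (F : Set G) := by
    refine ⟨h.F'.nor x hxz t h.tF, mem_centralizer_iff.2 ?_⟩
    intro f hf
    have h1 := h.F'.nor x⁻¹ hxi f hf
    rw [inv_inv] at h1
    have h2 := hFt _ h1
    calc f * (x * t * x⁻¹) = x * ((x⁻¹ * f * x) * t) * x⁻¹ := by group
      _ = x * (t * (x⁻¹ * f * x)) * x⁻¹ := by rw [h2]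
      _ = x * t * x⁻¹ * f := by group
  have hBn : ∀ g ∈ K, g * z = z * g → ∀ b ∈ F ⊓ centralizer (F : Set G),
      g * b * g⁻¹ ∈ F ⊓ centralizer (F : Set G) := by
    intro g _ hgz b hb
    refine ⟨h.F'.nor g hgz b hb.1, mem_centralizer_iff.2 ?_⟩
    intro f hf
    have hgi : g⁻¹ * z = z * g⁻¹ := (Commute.inv_left (show Commute g z from hgz)).eq
    have h1 := h.F'.nor g⁻¹ hgi f hf
    rw [inv_inv] at h1
    have h2 := mem_centralizer_iff.1 hb.2 _ h1
    calc f * (g * b * g⁻¹) = g * ((g⁻¹ * f * g) * b) * g⁻¹ := by group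
      _ = g * (b * (g⁻¹ * f * g)) * g⁻¹ := by rw [h2]
      _ = g * b * g⁻¹ * f := by group
  rcases abel_mem h.toLoc (h.F'.pF.to_le inf_le_left) (fun b hb => hFt b hb.1) (fun b hb => h.F'.le b hb.1)
    (fun a ha b hb => mem_centralizer_iff.1 hb.2 a ha.1) hBn hB with (h1 | h1) | h1 | h1
  · exact absurd (conj_eq_one_iff.1 h1) h.t1
  · exact absurd h1 (h.nc x)
  · exact Or.inl h1
  · exact Or.inr h1

/-- Case II -/
theorem exists_mem [Finite G] (h : Pos t z K R F) (hFt : ¬ ∀ x ∈ F, x * t = t * x) :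
    ∃ s ∈ F, s * t * s⁻¹ = t * z := by
  set F₁ : Subgroup G := F ⊓ centralizer ({t} : Set G) with hF₁
  have hlt : F₁ < F := by
    refine lt_of_le_of_ne inf_le_left ?_
    intro e
    apply hFt
    intro x hx
    rw [← e] at hx
    exact mem_centralizer_singleton_iff.1 hx.2
  have : Group.IsNilpotent F := h.F'.pF.isNilpotent
  obtain ⟨x, hxF, hxF₁, hxN⟩ := Cfsg.Agent.Transfer.FrobeniusFusion.exists_mem_normalizer_notMem hlt
  have htF₁ : t ∈ F₁ := ⟨h.tF, mem_centralizer_singleton_iff.2 rfl⟩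
  have hB : x * t * x⁻¹ ∈ F₁ ⊓ centralizer (F₁ : Set G) := by
    refine ⟨(mem_normalizer_iff.1 hxN t).1 htF₁, mem_centralizer_iff.2 ?_⟩
    intro f hf
    have h1 : x⁻¹ * f * x ∈ F₁ := by
      apply (mem_normalizer_iff.1 hxN _).2
      have e : x * (x⁻¹ * f * x) * x⁻¹ = f := by group
      rw [e]; exact hf
    have h2 := mem_centralizer_singleton_iff.1 h1.2
    calc f * (x * t * x⁻¹) = x * ((x⁻¹ * f * x) * t) * x⁻¹ := by group
      _ = x * (t * (x⁻¹ * f * x)) * x⁻¹ := by rw [h2]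
      _ = x * t * x⁻¹ * f := by group
  have hF₁n : ∀ g, g * t = t * g → g * z = z * g → ∀ f ∈ F₁, g * f * g⁻¹ ∈ F₁ := by
    intro g hgt hgz f hf
    have c1 : Commute g t := hgt
    have c2 : Commute f t := mem_centralizer_singleton_iff.1 hf.2
    exact ⟨h.F'.nor g hgz f hf.1, mem_centralizer_singleton_iff.2 ((c1.mul_left c2).mul_left c1.inv_left)⟩
  have hBn : ∀ g ∈ K, g * z = z * g → ∀ b ∈ F₁ ⊓ centralizer (F₁ : Set G),
      g * b * g⁻¹ ∈ F₁ ⊓ centralizer (F₁ : Set G) := by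
    intro g hg hgz b hb
    refine ⟨hF₁n g (h.Kt g hg) hgz b hb.1, mem_centralizer_iff.2 ?_⟩
    intro f hf
    have hgi : g⁻¹ * z = z * g⁻¹ := (Commute.inv_left (show Commute g z from hgz)).eq
    have hgti : g⁻¹ * t = t * g⁻¹ := (Commute.inv_left (show Commute g t from h.Kt g hg)).eq
    have h1 := hF₁n g⁻¹ hgti hgi f hf
    rw [inv_inv] at h1
    have h2 := mem_centralizer_iff.1 hb.2 _ h1
    calc f * (g * b * g⁻¹) = g * ((g⁻¹ * f * g) * b) * g⁻¹ := by group
      _ = g * (b * (g⁻¹ * f * g)) * g⁻¹ := by rw [h2]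
      _ = g * b * g⁻¹ * f := by group
  refine ⟨x, hxF, ?_⟩
  rcases abel_mem h.toLoc (h.F'.pF.to_le (inf_le_left.trans inf_le_left))
    (fun b hb => mem_centralizer_singleton_iff.1 hb.1.2) (fun b hb => h.F'.le b hb.1.1)
    (fun a ha b hb => mem_centralizer_iff.1 hb.2 a ha.1) hBn hB with (h1 | h1) | h1 | h1
  · exact absurd (conj_eq_one_iff.1 h1) h.t1
  · exact absurd h1 (h.nc x)
  · exfalso
    apply hxF₁
    refine ⟨hxF, mem_centralizer_singleton_iff.2 ?_⟩
    rwa [mul_inv_eq_iff_eq_mul] at h1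
  · exact h1

/-- Case I: `C(z) = M ∪ s M` -/
theorem mem_or_of_le [Finite G] (h : Pos t z K R F) (hFt : ∀ x ∈ F, x * t = t * x) {s : G}
    (hs : s * t * s⁻¹ = t * z) {x : G} (hxz : x * z = z * x) : x * t = t * x ∨ (s⁻¹ * x) * t = t * (s⁻¹ * x) := by
  rcases h.conj_t_of_le hFt hxz with h1 | h1
  · left
    rwa [mul_inv_eq_iff_eq_mul] at h1
  · right
    have h2 : x * t * x⁻¹ = s * t * s⁻¹ := by rw [h1, hs]
    calc (s⁻¹ * x) * t = s⁻¹ * (x * t * x⁻¹) * x := by group
      _ = s⁻¹ * (s * t * s⁻¹) * x := by rw [h2]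
      _ = t * (s⁻¹ * x) := by group

/-- commutators of elements of `C(t)` lie in `K` -/
theorem comm_mem_K (h : Pos t z K R F) {a b : G} (ha : a * t = t * a) (hb : b * t = t * b) :
    a * b * a⁻¹ * b⁻¹ ∈ K := by
  have hct : ∀ x : G, x * t = t * x → ∃ c y, (c = 1 ∨ c = t) ∧ y ∈ K ∧ x = c * y := by
    intro x hx
    rcases h.cen x hx with h1 | h1
    · exact ⟨1, x, Or.inl rfl, h1, (one_mul x).symm⟩
    · exact ⟨t, t * x, Or.inr rfl, h1, (h.tmul x).symm⟩
  obtain ⟨c, a', hc, ha', rfl⟩ := hct a ha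
  obtain ⟨d, b', hd, hb', rfl⟩ := hct b hb
  have hcy : ∀ c y, (c = 1 ∨ c = t) → y ∈ K → Commute c y := by
    rintro c y (rfl | rfl) hy
    · exact Commute.one_left _
    · exact (show Commute y c from h.Kt y hy).symm
  have cd : Commute c d := by
    rcases hc with rfl | rfl <;> rcases hd with rfl | rfl
    exacts [Commute.one_left _, Commute.one_left _, Commute.one_right _, Commute.refl _]
  rw [Loc.comm_aux (hcy c a' hc ha') (hcy c b' hc hb') (hcy d a' hd ha') (hcy d b' hd hb') cd]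
  exact K.mul_mem (K.mul_mem (K.mul_mem ha' hb') (K.inv_mem ha')) (K.inv_mem hb')

/-- Case II: `s v s⁻¹ ∈ v R ∪ t v R` -/
theorem exists_of_mem (h : Pos t z K R F) {s v : G} (hsF : s ∈ F) (hs : s * t * s⁻¹ = t * z) (hv : v ∈ K)
    (vv : v * v = 1) (hvz : v * z = z * v) :
    ∃ r ∈ R, v * r * (v * r) = 1 ∧ (s * v * s⁻¹ = v * r ∨ s * v * s⁻¹ = t * (v * r)) := by
  have hsz : s * z * s⁻¹ = z := by rw [h.F'.le s hsF]; group
  have hvt := h.Kt v hv
  obtain ⟨hwt, hwz⟩ := swap_cen h.zz hs hsz hvt hvz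
  set w : G := s * v * s⁻¹ with hw
  have hww : w * w = 1 := by
    calc w * w = s * (v * v) * s⁻¹ := by rw [hw]; group
      _ = 1 := by rw [vv]; group
  have hfF : w * v⁻¹ ∈ F := by
    have e : w * v⁻¹ = s * (v * s⁻¹ * v⁻¹) := by rw [hw]; group
    rw [e]; exact F.mul_mem hsF (h.F'.nor v hvz _ (F.inv_mem hsF))
  have hvi : v⁻¹ * z = z * v⁻¹ := (Commute.inv_left (show Commute v z from hvz)).eq
  rcases h.cen w hwt with h1 | h1
  · have h2 : w * v⁻¹ ∈ R := h.mem_R hfF (K.mul_mem h1 (K.inv_mem hv))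
    have h3 := h.nR v⁻¹ (K.inv_mem hv) hvi _ h2
    have e : v⁻¹ * (w * v⁻¹) * v⁻¹⁻¹ = v⁻¹ * w := by group
    rw [e] at h3
    have e2 : v * (v⁻¹ * w) = w := by group
    exact ⟨_, h3, by rw [e2]; exact hww, Or.inl e2.symm⟩
  · have h2 : t * (w * v⁻¹) ∈ R := by
      apply h.mem_R (F.mul_mem h.tF hfF)
      rw [← mul_assoc]; exact K.mul_mem h1 (K.inv_mem hv)
    have h3 := h.nR v⁻¹ (K.inv_mem hv) hvi _ h2
    have e : v⁻¹ * (t * (w * v⁻¹)) * v⁻¹⁻¹ = v⁻¹ * (t * w) := by group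
    rw [e] at h3
    have e2 : v * (v⁻¹ * (t * w)) = t * w := by group
    have c1 : Commute t w := (show Commute w t from hwt).symm
    refine ⟨_, h3, ?_, Or.inr ?_⟩
    · rw [e2]
      calc (t * w) * (t * w) = (t * w) * (w * t) := by rw [c1.eq]
        _ = t * (w * w) * t := by group
        _ = 1 := by rw [hww, mul_one, h.tt]
    · rw [e2, h.tmul]

/-- elements conjugate to `z` -/
theorem conj_ne_t (h : Pos t z K R F) {a : G} (ha : IsConj z a) : ¬ IsConj t a := fun h1 =>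
  h.ncj (IsConj.refl t) ha h1

/-- **`U₄(3)`** (and `G₂(3)`) -/
theorem false_two [Finite G] (h : Pos t z K R F)
    (htc : (⟨t, mem_centralizer_singleton_iff.2 h.comm⟩ : centralizer ({z} : Set G)) ∈
      _root_.commutator (centralizer ({z} : Set G)))
    (hone : ∀ p ∈ K, p * p = 1 → p ≠ 1 → ∃ k ∈ K, k * z * k⁻¹ = p)
    (hgen : ∀ g ∈ K, g * z = z * g → g ∈ closure {p : G | p ∈ K ∧ p * z = z * p ∧ p * p = 1})
    {v k : G} (hv : v ∈ K) (hk : k ∈ K) (vv : v * v = 1)
    (hvz : v * z = z * v) (hkv : k * z * k⁻¹ = v) (hkR : k⁻¹ * z * k ∉ R)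
    (hR : ∀ r ∈ R, v * r * (v * r) = 1 → ∃ h ∈ K, h * z = z * h ∧ h * (v * r) * h⁻¹ = v) : False := by
  have hzv : IsConj z v := isConj_iff.2 ⟨k, hkv⟩
  by_cases hFt : ∀ x ∈ F, x * t = t * x
  · obtain ⟨s, hs, hsz⟩ := h.sw
    set D : Subgroup G := K ⊓ centralizer ({z} : Set G) with hD
    have hsD : ∀ d ∈ D, s * d * s⁻¹ ∈ D := by
      have hle : D ≤ D.comap (MulAut.conj s).toMonoidHom := by
        have h1 : D ≤ closure {p : G | p ∈ K ∧ p * z = z * p ∧ p * p = 1} := fun d hd =>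
          hgen d hd.1 (mem_centralizer_singleton_iff.1 hd.2)
        refine h1.trans ((closure_le _).2 ?_)
        rintro p ⟨hpK, hpz, hpp⟩
        show s * p * s⁻¹ ∈ D
        obtain ⟨h2, h3⟩ := swap_cen h.zz hs hsz (h.Kt p hpK) hpz
        refine ⟨?_, mem_centralizer_singleton_iff.2 h3⟩
        by_cases hp1 : p = 1
        · rw [hp1, mul_one, mul_inv_cancel]; exact K.one_mem
        obtain ⟨k', hk', hk'p⟩ := hone p hpK hpp hp1
        rcases h.cen _ h2 with h4 | h4
        · exact h4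
        · exfalso
          have hzp : IsConj z p := isConj_iff.2 ⟨k', hk'p⟩
          have hpw : IsConj p (s * p * s⁻¹) := isConj_iff.2 ⟨s, rfl⟩
          have c1 : Commute t (s * p * s⁻¹) := (show Commute (s * p * s⁻¹) t from h2).symm
          have h5 : t * (s * p * s⁻¹) * (t * (s * p * s⁻¹)) = 1 := by
            calc (t * (s * p * s⁻¹)) * (t * (s * p * s⁻¹)) = (t * (s * p * s⁻¹)) * ((s * p * s⁻¹) * t) := by
                  rw [c1.eq]
              _ = t * (s * (p * p) * s⁻¹) * t := by group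
              _ = 1 := by rw [hpp, mul_one, mul_inv_cancel, mul_one, h.tt]
          by_cases h6 : t * (s * p * s⁻¹) = 1
          · have h7 : s * p * s⁻¹ = t := by rw [← h.tmul (s * p * s⁻¹), h6, mul_one]
            rw [h7] at hpw
            exact h.conj_ne_t hzp hpw.symm
          · obtain ⟨k2, hk2, hk2p⟩ := hone _ h4 h5 h6
            have h8 := h.conj_tv hk2 hk2p
            rw [h.tmul] at h8
            exact h.conj_ne_t (hzp.trans hpw) h8
      intro d hd
      exact hle hd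
    have hXD : centralizer ({z} : Set G) ≤ closure (({t, s} : Set G) ∪ D) := by
      intro x hx
      have hxz := mem_centralizer_singleton_iff.1 hx
      have hM : ∀ y : G, y * t = t * y → y * z = z * y → y ∈ closure (({t, s} : Set G) ∪ D) := by
        intro y hyt hyz
        rcases h.cen y hyt with h1 | h1
        · exact subset_closure (Or.inr ⟨h1, mem_centralizer_singleton_iff.2 hyz⟩)
        · have c1 : Commute t z := h.comm
          have c2 : Commute y z := hyz
          have h2 : t * y ∈ D := ⟨h1, mem_centralizer_singleton_iff.2 (c1.mul_left c2).eq⟩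
          rw [← h.tmul y]
          exact mul_mem (subset_closure (Or.inl (Or.inl rfl))) (subset_closure (Or.inr h2))
      rcases h.mem_or_of_le hFt hs hxz with h1 | h1
      · exact hM x h1 hxz
      · have h2 : (s⁻¹ * x) * z = z * (s⁻¹ * x) := by
          have c1 : Commute s z := by
            show s * z = z * s
            rwa [mul_inv_eq_iff_eq_mul] at hsz
          have c2 : Commute x z := hxz
          exact c1.inv_left.mul_left c2
        have e : x = s * (s⁻¹ * x) := by group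
        rw [e]
        exact mul_mem (subset_closure (Or.inl (Or.inr rfl))) (hM _ h1 h2)
    have hnorm : centralizer ({z} : Set G) ≤ normalizer (D : Set G) := by
      refine hXD.trans ((closure_le _).2 ?_)
      rintro a ((ha | ha) | ha)
      · rw [ha, SetLike.mem_coe]
        refine mem_normalizer_fintype fun d hd => ?_
        have : t * d * t⁻¹ = d := by rw [← h.Kt d hd.1, mul_assoc, mul_inv_cancel, mul_one]
        rw [this]; exact hd
      · have ha' : a = s := ha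
        rw [ha', SetLike.mem_coe]
        exact mem_normalizer_fintype fun d hd => hsD d hd
      · exact le_normalizer ha
    have hcomm := comm_mem_of_gen (X := centralizer ({z} : Set G)) (D := D) (T := {t, s})
      (fun x hx d hd => (mem_normalizer_iff.1 (hnorm hx) d).1 hd) ?_ inf_le_right hXD ?_
    · exact h.tK (mem_of_commutator hcomm _ htc).1
    · rintro a (rfl | ha)
      · exact mem_centralizer_singleton_iff.2 h.comm
      · have ha' : a = s := ha
        rw [ha']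
        refine mem_centralizer_singleton_iff.2 ?_
        rwa [mul_inv_eq_iff_eq_mul] at hsz
    · have hzD : z ∈ D := ⟨h.zK, mem_centralizer_singleton_iff.2 rfl⟩
      have hst : s * t * s⁻¹ * t⁻¹ = z := by
        rw [hs, h.comm, mul_assoc, mul_inv_cancel, mul_one]
      have hself : ∀ a : G, a * a * a⁻¹ * a⁻¹ = 1 := fun a => by group
      have hts : t * s * t⁻¹ * s⁻¹ = (s * t * s⁻¹ * t⁻¹)⁻¹ := by group
      rintro a ha b hb
      have ha' : a = t ∨ a = s := ha
      have hb' : b = t ∨ b = s := hb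
      rcases ha' with ha' | ha' <;> rcases hb' with hb' | hb' <;> rw [ha', hb']
      · rw [hself]; exact D.one_mem
      · rw [hts, hst]; exact D.inv_mem hzD
      · rw [hst]; exact hzD
      · rw [hself]; exact D.one_mem
  · obtain ⟨s, hsF, hs⟩ := h.exists_mem hFt
    obtain ⟨r, hr, hvr, h1⟩ := h.exists_of_mem hsF hs hv vv hvz
    rcases h1 with h1 | h1
    · obtain ⟨g, hg, hgz, hgv⟩ := hR r hr hvr
      apply h.ytrick hk hkv hkR (y := g * s)
      · calc g * s * v * (g * s)⁻¹ = g * (s * v * s⁻¹) * g⁻¹ := by group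
          _ = v := by rw [h1, hgv]
      · calc g * s * t * (g * s)⁻¹ = g * (s * t * s⁻¹) * g⁻¹ := by group
          _ = (g * t) * z * g⁻¹ := by rw [hs]; group
          _ = t * (g * z) * g⁻¹ := by rw [h.Kt g hg]; group
          _ = t * z := by rw [hgz]; group
    · have hvw : IsConj v (s * v * s⁻¹) := isConj_iff.2 ⟨s, rfl⟩
      by_cases h2 : v * r = 1
      · rw [h1, h2, mul_one] at hvw
        exact h.conj_ne_t hzv hvw.symm
      · obtain ⟨k2, hk2, hk2p⟩ := hone _ (K.mul_mem hv (h.RK hr)) hvr h2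
        have h8 := h.conj_tv hk2 hk2p
        rw [← h1] at h8
        exact h.conj_ne_t (hzv.trans hvw) h8

/-- the subgroup generated by the elements of odd order of `C_K(z)` -/
def oddGen (K : Subgroup G) (z : G) : Subgroup G := closure {x : G | x ∈ K ∧ x * z = z * x ∧ Odd (orderOf x)}

theorem oddGen_le : oddGen K z ≤ K := (closure_le K).2 fun _ hx => hx.1

theorem oddGen_le' : oddGen K z ≤ centralizer ({z} : Set G) :=
  (closure_le _).2 fun _ hx => mem_centralizer_singleton_iff.2 hx.2.1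

/-- Case I for `PSp₄(3)` -/
theorem false_three_le [Finite G] (h : Pos t z K R F) (hFt : ∀ x ∈ F, x * t = t * x)
    (htc : (⟨t, mem_centralizer_singleton_iff.2 h.comm⟩ : centralizer ({z} : Set G)) ∈
      _root_.commutator (centralizer ({z} : Set G)))
    {v k : G} (hv : v ∈ K) (hk : k ∈ K) (vv : v * v = 1)
    (hvz : v * z = z * v) (hkv : k * z * k⁻¹ = v)
    (hD : ∀ g ∈ K, g * z = z * g → g ∈ oddGen K z ∨ v * g ∈ oddGen K z)
    (huni : ∀ p ∈ K, p * z = z * p → p * p = 1 → p ∉ oddGen K z →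
      ∃ h ∈ K, h * z = z * h ∧ (h * p * h⁻¹ = v ∨ h * p * h⁻¹ = v * z)) : False := by
  have hzv : IsConj z v := isConj_iff.2 ⟨k, hkv⟩
  have htv : IsConj t (t * v) := h.conj_tv hk hkv
  have hvt := h.Kt v hv
  obtain ⟨s, hs, hsz⟩ := h.sw
  set D : Subgroup G := oddGen K z with hDdef
  have hDK : D ≤ K := oddGen_le
  have hDz : D ≤ centralizer ({z} : Set G) := oddGen_le'
  have hzD : z ∈ D := h.oz
  have hMD : ∀ g : G, g * t = t * g → g * z = z * g → ∀ d ∈ D, g * d * g⁻¹ ∈ D := by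
    intro g hgt hgz d hd
    refine h.conj_mem (fun x hxt hxz => ?_) hd
    have c1 : Commute g t := hgt
    have c2 : Commute g z := hgz
    have c3 : Commute x t := hxt
    have c4 : Commute x z := hxz
    exact ⟨(c1.mul_left c3).mul_left c1.inv_left, (c2.mul_left c4).mul_left c2.inv_left⟩
  have hsD : ∀ d ∈ D, s * d * s⁻¹ ∈ D := fun d hd =>
    h.conj_mem (fun x hxt hxz => swap_cen h.zz hs hsz hxt hxz) hd
  have hsD' : ∀ d ∈ D, s⁻¹ * d * s ∈ D := by
    intro d hd
    have h1 := h.conj_mem (g := s⁻¹) (fun x hxt hxz => by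
      rw [inv_inv]; exact swap_cen_inv hs hsz hxt hxz) hd
    rwa [inv_inv] at h1
  have hvD : ∀ d ∈ D, v * d * v⁻¹ ∈ D := hMD v hvt hvz
  have hvi : v⁻¹ = v := inv_eq_of_mul_eq_one_left vv
  -- `[s, v] ∈ D`
  have hsv : s * v * s⁻¹ * v⁻¹ ∈ D := by
    obtain ⟨hwt, hwz⟩ := swap_cen h.zz hs hsz hvt hvz
    set w : G := s * v * s⁻¹ with hw
    have hww : w * w = 1 := by
      calc w * w = s * (v * v) * s⁻¹ := by rw [hw]; group
        _ = 1 := by rw [vv]; group
    have c1 : Commute t w := (show Commute w t from hwt).symm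
    have hvw : IsConj v w := isConj_iff.2 ⟨s, rfl⟩
    rcases h.cen w hwt with h1 | h1
    · rcases hD w h1 hwz with h2 | h2
      · have h3 := hsD' w h2
        have e : s⁻¹ * w * s = v := by rw [hw]; group
        rw [e] at h3
        exact D.mul_mem h2 (D.inv_mem h3)
      · have h3 := hvD _ h2
        have e : v * (v * w) * v⁻¹ = w * v⁻¹ := by rw [← mul_assoc v v w, vv, one_mul]
        rwa [e] at h3
    · exfalso
      have hp2 : t * w * (t * w) = 1 := by
        calc (t * w) * (t * w) = (t * w) * (w * t) := by rw [c1.eq]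
          _ = t * (w * w) * t := by group
          _ = 1 := by rw [hww, mul_one, h.tt]
      have hpz : (t * w) * z = z * (t * w) := by
        have c2 : Commute t z := h.comm
        have c3 : Commute w z := hwz
        exact c2.mul_left c3
      by_cases hpD : t * w ∈ D
      · -- `v = s⁻¹ w s = t z d`
        apply h.tK
        have h3 := hsD' _ hpD
        have e : s⁻¹ * (t * w) * s = t * z * v := by
          obtain ⟨e1, -⟩ := swap_inv h.zz hs hsz
          calc s⁻¹ * (t * w) * s = (s⁻¹ * t * s) * (s⁻¹ * w * s) := by group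
            _ = t * z * v := by rw [e1, hw]; group
        rw [e] at h3
        have h4 := K.mul_mem (K.mul_mem (hDK h3) (K.inv_mem hv)) (K.inv_mem h.zK)
        have e2 : t * z * v * v⁻¹ * z⁻¹ = t := by group
        rwa [e2] at h4
      · obtain ⟨g, hg, hgz, hgp⟩ := huni _ h1 hpz hp2 hpD
        have c2 : Commute t g := (h.Kt g hg).symm
        have e : g * w * g⁻¹ = t * (g * (t * w) * g⁻¹) := by
          calc g * w * g⁻¹ = g * (t * (t * w)) * g⁻¹ := by rw [h.tmul]
            _ = (g * t) * (t * w) * g⁻¹ := by group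
            _ = t * (g * (t * w) * g⁻¹) := by rw [← c2.eq]; group
        rcases hgp with h5 | h5
        · rw [h5] at e
          have h6 : IsConj w (t * v) := isConj_iff.2 ⟨g, e⟩
          exact h.conj_ne_t ((hzv.trans hvw).trans h6) htv
        · rw [h5] at e
          -- `(g s) (t v) (g s)⁻¹ = v`
          have e2 : (g * s) * (t * v) * (g * s)⁻¹ = v := by
            calc (g * s) * (t * v) * (g * s)⁻¹ = (g * (s * t * s⁻¹) * g⁻¹) * (g * w * g⁻¹) := by
                  rw [hw]; group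
              _ = ((g * t) * z * g⁻¹) * (t * (v * z)) := by rw [hs, e]; group
              _ = (t * (g * z) * g⁻¹) * (t * (v * z)) := by rw [← c2.eq]; group
              _ = (t * z) * (t * (v * z)) := by rw [hgz]; group
              _ = (t * z) * (t * (z * v)) := by rw [hvz]
              _ = t * (z * t) * z * v := by group
              _ = t * (t * z) * z * v := by rw [h.comm]
              _ = v := by rw [h.tmul, h.zz, one_mul]
          exact h.conj_ne_t hzv (htv.trans (isConj_iff.2 ⟨g * s, e2⟩))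
  have hst : s * t * s⁻¹ * t⁻¹ = z := by
    rw [hs, h.comm, mul_assoc, mul_inv_cancel, mul_one]
  have hsc : s * z = z * s := by rwa [mul_inv_eq_iff_eq_mul] at hsz
  set T : Set G := {t, s, v} with hT
  have hXD : centralizer ({z} : Set G) ≤ closure (T ∪ D) := by
    intro x hx
    have hxz := mem_centralizer_singleton_iff.1 hx
    have hK : ∀ y ∈ K, y * z = z * y → y ∈ closure (T ∪ D) := by
      intro y hy hyz
      rcases hD y hy hyz with h1 | h1
      · exact subset_closure (Or.inr h1)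
      · have e : y = v * (v * y) := by rw [← mul_assoc, vv, one_mul]
        rw [e]
        exact mul_mem (subset_closure (Or.inl (Or.inr (Or.inr rfl)))) (subset_closure (Or.inr h1))
    have hM : ∀ y : G, y * t = t * y → y * z = z * y → y ∈ closure (T ∪ D) := by
      intro y hyt hyz
      rcases h.cen y hyt with h1 | h1
      · exact hK y h1 hyz
      · have c1 : Commute t z := h.comm
        have c2 : Commute y z := hyz
        rw [← h.tmul y]
        exact mul_mem (subset_closure (Or.inl (Or.inl rfl))) (hK _ h1 (c1.mul_left c2).eq)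
    rcases h.mem_or_of_le hFt hs hxz with h1 | h1
    · exact hM x h1 hxz
    · have h2 : (s⁻¹ * x) * z = z * (s⁻¹ * x) := by
        have c1 : Commute s z := hsc
        have c2 : Commute x z := hxz
        exact c1.inv_left.mul_left c2
      have e : x = s * (s⁻¹ * x) := by group
      rw [e]
      exact mul_mem (subset_closure (Or.inl (Or.inr (Or.inl rfl)))) (hM _ h1 h2)
  have hnorm : centralizer ({z} : Set G) ≤ normalizer (D : Set G) := by
    refine hXD.trans ((closure_le _).2 ?_)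
    rintro a ((ha | ha | ha) | ha)
    · rw [ha, SetLike.mem_coe]
      exact mem_normalizer_fintype fun d hd => hMD t rfl h.comm d hd
    · rw [ha, SetLike.mem_coe]
      exact mem_normalizer_fintype fun d hd => hsD d hd
    · have ha' : a = v := ha
      rw [ha', SetLike.mem_coe]
      exact mem_normalizer_fintype fun d hd => hvD d hd
    · exact le_normalizer ha
  have hcomm := comm_mem_of_gen (X := centralizer ({z} : Set G)) (D := D) (T := T)
    (fun x hx d hd => (mem_normalizer_iff.1 (hnorm hx) d).1 hd) ?_ hDz hXD ?_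
  · exact h.tK (hDK (mem_of_commutator hcomm _ htc))
  · rintro a (ha | ha | ha)
    · rw [ha]; exact mem_centralizer_singleton_iff.2 h.comm
    · rw [ha]; exact mem_centralizer_singleton_iff.2 hsc
    · have ha' : a = v := ha
      rw [ha']; exact mem_centralizer_singleton_iff.2 hvz
  · have hself : ∀ a : G, a * a * a⁻¹ * a⁻¹ = 1 := fun a => by group
    have hswap : ∀ a b : G, a * b * a⁻¹ * b⁻¹ ∈ D → b * a * b⁻¹ * a⁻¹ ∈ D := by
      intro a b hab
      have e : b * a * b⁻¹ * a⁻¹ = (a * b * a⁻¹ * b⁻¹)⁻¹ := by group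
      rw [e]; exact D.inv_mem hab
    have h11 : v * t * v⁻¹ * t⁻¹ = 1 := by rw [hvt]; group
    have h1 : v * t * v⁻¹ * t⁻¹ ∈ D := by rw [h11]; exact D.one_mem
    have h2 : s * t * s⁻¹ * t⁻¹ ∈ D := by rw [hst]; exact hzD
    rintro a ha b hb
    have ha' : a = t ∨ a = s ∨ a = v := ha
    have hb' : b = t ∨ b = s ∨ b = v := hb
    rcases ha' with ha' | ha' | ha' <;> rcases hb' with hb' | hb' | hb' <;> rw [ha', hb']
    · rw [hself]; exact D.one_mem
    · exact hswap _ _ h2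
    · exact hswap _ _ h1
    · exact h2
    · rw [hself]; exact D.one_mem
    · exact hsv
    · exact h1
    · exact hswap _ _ hsv
    · rw [hself]; exact D.one_mem

/-- Case II for `PSp₄(3)`: `R ≤ F` -/
theorem R_le [Finite G] (h : Pos t z K R F)
    (hirr : ∀ N : Subgroup G, N ≤ R → (∀ g ∈ K, g * z = z * g → ∀ n ∈ N, g * n * g⁻¹ ∈ N) →
      (∀ n ∈ N, n = 1 ∨ n = z) ∨ N = R) : R ≤ F := by
  rcases hirr (F ⊓ R) inf_le_right (fun g hg hgz n hn =>
    ⟨h.F'.nor g hgz n hn.1, h.nR g hg hgz n hn.2⟩) with h1 | h1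
  · exfalso
    -- `C_F(t) ≤ ⟨t, z⟩`
    have h2 : ∀ x ∈ F, x * t = t * x → x = 1 ∨ x = z ∨ x = t ∨ x = t * z := by
      intro x hx hxt
      rcases h.cen x hxt with h3 | h3
      · rcases h1 x ⟨hx, h.mem_R hx h3⟩ with h4 | h4
        · exact Or.inl h4
        · exact Or.inr (Or.inl h4)
      · have h5 : t * x ∈ F := F.mul_mem h.tF hx
        right; right
        rcases h1 _ ⟨h5, h.mem_R h5 h3⟩ with h4 | h4
        · left; rw [← h.tmul x, h4, mul_one]
        · right; rw [← h.tmul x, h4]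
    -- elements of odd order of `P` centralise `F`
    have h3 : ∀ d ∈ K, d * z = z * d → Odd (orderOf d) → d = 1 := by
      intro d hd hdz hdo
      have hdt := h.Kt d hd
      have c1 : Commute d t := hdt
      have c2 : Commute d z := hdz
      have hnil : Group.IsNilpotent F := h.F'.pF.isNilpotent
      have hA : zpowers d ≤ normalizer (F : Set G) := by
        rw [zpowers_le]
        exact mem_normalizer_fintype fun x hx => h.F'.nor d hdz x hx
      have hcop : (Nat.card ↥(zpowers d)).Coprime (Nat.card ↥F) := by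
        rw [Nat.card_zpowers]
        obtain ⟨n, hn⟩ := IsPGroup.iff_card.1 h.F'.pF
        rw [hn]
        exact Nat.Coprime.pow_right n (Nat.coprime_two_right.2 hdo)
      have h4 := Cfsg.Agent.S1442.result F (zpowers d) hnil hA hcop (by
        rintro x ⟨hxF, hxC⟩
        refine ⟨hxF, ?_⟩
        have htC : t ∈ F ⊓ centralizer ((zpowers d : Subgroup G) : Set G) := by
          refine ⟨h.tF, mem_centralizer_iff.2 ?_⟩
          intro y hy
          obtain ⟨i, rfl⟩ := mem_zpowers_iff.1 hy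
          exact (c1.zpow_left i).eq
        have hxt : x * t = t * x := (mem_centralizer_iff.1 hxC t htC).symm
        refine mem_centralizer_iff.2 ?_
        intro y hy
        obtain ⟨i, rfl⟩ := mem_zpowers_iff.1 hy
        have h5 : Commute d x := by
          rcases h2 x hxF hxt with h6 | h6 | h6 | h6 <;> rw [h6]
          · exact Commute.one_right d
          · exact c2
          · exact c1
          · exact c1.mul_right c2
        exact (h5.zpow_left i).eq)
      have h5 : d ∈ F := by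
        refine h.F'.self d hdz fun x hx => ?_
        have h6 := mem_centralizer_iff.1 (h4 (mem_zpowers d)) x hx
        exact h6.symm
      obtain ⟨n, hn⟩ := h.F'.pF ⟨d, h5⟩
      have hn' : d ^ 2 ^ n = 1 := congrArg Subtype.val hn
      have h7 := orderOf_dvd_of_pow_eq_one hn'
      obtain ⟨j, -, hj⟩ := (Nat.dvd_prime_pow Nat.prime_two).1 h7
      rcases Nat.eq_zero_or_pos j with h8 | h8
      · rw [h8, pow_zero, orderOf_eq_one_iff] at hj
        exact hj
      · exfalso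
        rw [hj] at hdo
        have h9 : 2 ∣ 2 ^ j := dvd_pow_self 2 h8.ne'
        rw [Nat.odd_iff] at hdo
        omega
    have h4 : oddGen K z ≤ ⊥ := (closure_le _).2 fun x hx => by
      rw [SetLike.mem_coe, mem_bot]
      exact h3 x hx.1 hx.2.1 hx.2.2
    exact h.z1 (mem_bot.1 (h4 h.oz))
  · rw [← h1]; exact inf_le_left

/-- **`PSp₄(3)`** -/
theorem false_three [Finite G] (h : Pos t z K R F)
    (htc : (⟨t, mem_centralizer_singleton_iff.2 h.comm⟩ : centralizer ({z} : Set G)) ∈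
      _root_.commutator (centralizer ({z} : Set G)))
    (hirr : ∀ N : Subgroup G, N ≤ R → (∀ g ∈ K, g * z = z * g → ∀ n ∈ N, g * n * g⁻¹ ∈ N) →
      (∀ n ∈ N, n = 1 ∨ n = z) ∨ N = R)
    (hcl : ∀ w ∈ K, w * w = 1 → w ≠ 1 → (∃ k ∈ K, k * z * k⁻¹ = w) ∨
      ∀ N : Subgroup G, N ≤ K → IsPGroup 2 N → (∀ n ∈ N, n * w = w * n) →
        (∀ g ∈ K, g * w = w * g → ∀ n ∈ N, g * n * g⁻¹ ∈ N) → ∀ a ∈ N, ∀ b ∈ N, a * b = b * a)
    {v k : G} (hv : v ∈ K) (hk : k ∈ K) (vv : v * v = 1)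
    (hvz : v * z = z * v) (hkv : k * z * k⁻¹ = v) (hkR : k⁻¹ * z * k ∉ R) (hvR : v ∉ R)
    (hR : ∀ r ∈ R, v * r * (v * r) = 1 → ∃ h ∈ R, h * (v * r) * h⁻¹ = v ∨ h * (v * r) * h⁻¹ = v * z)
    (hD : ∀ g ∈ K, g * z = z * g → g ∈ oddGen K z ∨ v * g ∈ oddGen K z)
    (huni : ∀ p ∈ K, p * z = z * p → p * p = 1 → p ∉ oddGen K z →
      ∃ h ∈ K, h * z = z * h ∧ (h * p * h⁻¹ = v ∨ h * p * h⁻¹ = v * z)) : False := by
  by_cases hFt : ∀ x ∈ F, x * t = t * x
  · exact h.false_three_le hFt htc hv hk vv hvz hkv hD huni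
  have hzv : IsConj z v := isConj_iff.2 ⟨k, hkv⟩
  have htv : IsConj t (t * v) := h.conj_tv hk hkv
  have hRF := h.R_le hirr
  obtain ⟨s, hsF, hs⟩ := h.exists_mem hFt
  have hsz := h.F'.le s hsF
  have hsz' : s * z * s⁻¹ = z := by rw [hsz]; group
  have hvt := h.Kt v hv
  obtain ⟨r, hr, hvr, h1⟩ := h.exists_of_mem hsF hs hv vv hvz
  obtain ⟨g, hg, hgv⟩ := hR r hr hvr
  have hgK := h.RK hg
  have hgz := h.RP g hg
  have cgt : Commute g t := h.Kt g hgK
  set y : G := g * s with hy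
  have hyF : y ∈ F := F.mul_mem (hRF hg) hsF
  have hyt : y * t * y⁻¹ = t * z := by
    calc g * s * t * (g * s)⁻¹ = g * (s * t * s⁻¹) * g⁻¹ := by group
      _ = (g * t) * z * g⁻¹ := by rw [hs]; group
      _ = t * (g * z) * g⁻¹ := by rw [cgt.eq]; group
      _ = t * z := by rw [hgz]; group
  have hyz : y * z = z * y := h.F'.le y hyF
  have hyz' : y * z * y⁻¹ = z := by rw [hyz]; group
  have hyv : y * v * y⁻¹ = g * (s * v * s⁻¹) * g⁻¹ := by rw [hy]; group
  have htvz : ¬ (y * v * y⁻¹ = t * (v * z)) := by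
    intro e
    have e2 : y * (t * v) * y⁻¹ = v := by
      calc y * (t * v) * y⁻¹ = (y * t * y⁻¹) * (y * v * y⁻¹) := by group
        _ = (t * z) * (t * (v * z)) := by rw [hyt, e]
        _ = (t * z) * (t * (z * v)) := by rw [hvz]
        _ = t * (z * t) * z * v := by group
        _ = t * (t * z) * z * v := by rw [h.comm]
        _ = v := by rw [h.tmul, h.zz, one_mul]
    exact h.conj_ne_t hzv (htv.trans (isConj_iff.2 ⟨y, e2⟩))
  have htv' : ¬ (y * v * y⁻¹ = t * v) := by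
    intro e
    have h2 : IsConj v (t * v) := isConj_iff.2 ⟨y, e⟩
    exact h.conj_ne_t (hzv.trans h2) htv
  rcases h1 with h1 | h1
  swap
  · -- `s v s⁻¹ = t v r`
    have e : g * (t * (v * r)) * g⁻¹ = t * (g * (v * r) * g⁻¹) := by
      calc g * (t * (v * r)) * g⁻¹ = (g * t) * (v * r) * g⁻¹ := by group
        _ = t * (g * (v * r) * g⁻¹) := by rw [cgt.eq]; group
    rw [h1, e] at hyv
    rcases hgv with h2 | h2
    · rw [h2] at hyv; exact htv' hyv
    · rw [h2] at hyv; exact htvz hyv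
  rw [h1] at hyv
  rcases hgv with h2 | h2
  · rw [h2] at hyv
    exact h.ytrick hk hkv hkR hyv hyt
  rw [h2] at hyv
  -- the element `g₀` with `t ↦ t v`
  have hkt : k * t * k⁻¹ = t := by rw [h.Kt k hk, mul_assoc, mul_inv_cancel, mul_one]
  set g₀ : G := k * s * k⁻¹ with hg₀
  have hg₀t : g₀ * t * g₀⁻¹ = t * v := by
    have hkt' : k⁻¹ * t * k = t := by
      calc k⁻¹ * t * k = k⁻¹ * (k * t * k⁻¹) * k := by rw [hkt]
        _ = t := by group
    calc g₀ * t * g₀⁻¹ = k * (s * (k⁻¹ * t * k) * s⁻¹) * k⁻¹ := by rw [hg₀]; group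
      _ = (k * t * k⁻¹) * (k * z * k⁻¹) := by rw [hkt', hs]; group
      _ = t * v := by rw [hkt, hkv]
  -- pull back
  have hpull : ∀ a : G, a * (t * v) = (t * v) * a → (g₀⁻¹ * a * g₀) * t = t * (g₀⁻¹ * a * g₀) := by
    intro a ha
    calc (g₀⁻¹ * a * g₀) * t = g₀⁻¹ * (a * (g₀ * t * g₀⁻¹)) * g₀ := by group
      _ = g₀⁻¹ * ((g₀ * t * g₀⁻¹) * a) * g₀ := by rw [hg₀t, ha]
      _ = t * (g₀⁻¹ * a * g₀) := by group
  have hpush : ∀ a : G, a * t = t * a → (g₀ * a * g₀⁻¹) * (t * v) = (t * v) * (g₀ * a * g₀⁻¹) := by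
    intro a ha
    rw [← hg₀t]
    calc g₀ * a * g₀⁻¹ * (g₀ * t * g₀⁻¹) = g₀ * (a * t) * g₀⁻¹ := by group
      _ = g₀ * (t * a) * g₀⁻¹ := by rw [ha]
      _ = g₀ * t * g₀⁻¹ * (g₀ * a * g₀⁻¹) := by group
  have htC : t * (t * v) = (t * v) * t := by rw [mul_assoc, hvt]
  have hyC : y * (t * v) = (t * v) * y := by
    have e : y * (t * v) * y⁻¹ = t * v := by
      calc y * (t * v) * y⁻¹ = (y * t * y⁻¹) * (y * v * y⁻¹) := by group
        _ = (t * z) * (v * z) := by rw [hyt, hyv]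
        _ = (t * z) * (z * v) := by rw [hvz]
        _ = t * (z * z) * v := by group
        _ = t * v := by rw [h.zz, mul_one]
    rwa [mul_inv_eq_iff_eq_mul] at e
  set w : G := g₀⁻¹ * z * g₀ with hw
  have hww : w * w = 1 := by
    calc w * w = g₀⁻¹ * (z * z) * g₀ := by rw [hw]; group
      _ = 1 := by rw [h.zz]; group
  have hw1 : w ≠ 1 := by
    intro e
    apply h.z1
    calc z = g₀ * w * g₀⁻¹ := by rw [hw]; group
      _ = 1 := by rw [e]; group
  -- `w = [y', t'] ∈ K`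
  have hwc : (g₀⁻¹ * y * g₀) * (g₀⁻¹ * t * g₀) * (g₀⁻¹ * y * g₀)⁻¹ * (g₀⁻¹ * t * g₀)⁻¹ = w := by
    calc (g₀⁻¹ * y * g₀) * (g₀⁻¹ * t * g₀) * (g₀⁻¹ * y * g₀)⁻¹ * (g₀⁻¹ * t * g₀)⁻¹
        = g₀⁻¹ * ((y * t * y⁻¹) * t⁻¹) * g₀ := by group
      _ = g₀⁻¹ * ((z * t) * t⁻¹) * g₀ := by rw [hyt, h.comm]
      _ = w := by rw [hw]; group
  have hwK : w ∈ K := by
    rw [← hwc]
    exact h.comm_mem_K (hpull y hyC) (hpull t htC)
  rcases hcl w hwK hww hw1 with ⟨k2, hk2, hk2w⟩ | hab
  · -- `w ~ z` in `K`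
    set x : G := g₀ * k2 with hx
    have hxz : x * z = z * x := by
      have e : x * z * x⁻¹ = z := by
        calc x * z * x⁻¹ = g₀ * (k2 * z * k2⁻¹) * g₀⁻¹ := by rw [hx]; group
          _ = z := by rw [hk2w, hw]; group
      rwa [mul_inv_eq_iff_eq_mul] at e
    have hxt : x * t * x⁻¹ = t * v := by
      calc x * t * x⁻¹ = g₀ * (k2 * t * k2⁻¹) * g₀⁻¹ := by rw [hx]; group
        _ = g₀ * t * g₀⁻¹ := by rw [h.Kt k2 hk2, mul_assoc t, mul_inv_cancel, mul_one]
        _ = t * v := hg₀t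
    apply hvR
    have h3 := h.F'.nor x hxz t h.tF
    rw [hxt] at h3
    have h4 := F.mul_mem h.tF h3
    rw [h.tmul] at h4
    exact h.mem_R h4 hv
  · -- `w` not conjugate to `z`
    set B : Subgroup G := (F ⊓ centralizer ({t * v} : Set G)).map (MulAut.conj g₀⁻¹).toMonoidHom with hB
    have hBmem : ∀ a ∈ F, a * (t * v) = (t * v) * a → g₀⁻¹ * a * g₀ ∈ B := by
      intro a ha hac
      refine ⟨a, ⟨ha, mem_centralizer_singleton_iff.2 hac⟩, ?_⟩
      show g₀⁻¹ * a * g₀⁻¹⁻¹ = _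
      rw [inv_inv]
    have hBex : ∀ b ∈ B, ∃ a ∈ F, a * (t * v) = (t * v) * a ∧ b = g₀⁻¹ * a * g₀ := by
      rintro _ ⟨a, ⟨ha, hac⟩, rfl⟩
      refine ⟨a, ha, mem_centralizer_singleton_iff.1 hac, ?_⟩
      show g₀⁻¹ * a * g₀⁻¹⁻¹ = _
      rw [inv_inv]
    have hBp : IsPGroup 2 B := (h.F'.pF.to_le inf_le_left).map _
    have hwt : w * t = t * w := h.Kt w hwK
    have hBw : ∀ b ∈ B, b * w = w * b := by
      intro b hb
      obtain ⟨a, ha, -, rfl⟩ := hBex b hb
      have h3 := h.F'.le a ha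
      calc g₀⁻¹ * a * g₀ * w = g₀⁻¹ * (a * z) * g₀ := by rw [hw]; group
        _ = g₀⁻¹ * (z * a) * g₀ := by rw [h3]
        _ = w * (g₀⁻¹ * a * g₀) := by rw [hw]; group
    have hBn : ∀ c ∈ K, c * w = w * c → ∀ b ∈ B, c * b * c⁻¹ ∈ B := by
      intro c hc hcw b hb
      obtain ⟨a, ha, hac, rfl⟩ := hBex b hb
      have hcz : (g₀ * c * g₀⁻¹) * z = z * (g₀ * c * g₀⁻¹) := by
        calc (g₀ * c * g₀⁻¹) * z = g₀ * (c * w) * g₀⁻¹ := by rw [hw]; group
          _ = g₀ * (w * c) * g₀⁻¹ := by rw [hcw]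
          _ = z * (g₀ * c * g₀⁻¹) := by rw [hw]; group
      have hctv := hpush c (h.Kt c hc)
      have h3 := h.F'.nor _ hcz a ha
      have h4 : ((g₀ * c * g₀⁻¹) * a * (g₀ * c * g₀⁻¹)⁻¹) * (t * v) =
          (t * v) * ((g₀ * c * g₀⁻¹) * a * (g₀ * c * g₀⁻¹)⁻¹) := by
        have c1 : Commute (g₀ * c * g₀⁻¹) (t * v) := hctv
        have c2 : Commute a (t * v) := hac
        exact (c1.mul_left c2).mul_left c1.inv_left
      have h5 := hBmem _ h3 h4
      have e : g₀⁻¹ * ((g₀ * c * g₀⁻¹) * a * (g₀ * c * g₀⁻¹)⁻¹) * g₀ = c * (g₀⁻¹ * a * g₀) * c⁻¹ := by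
        group
      rwa [e] at h5
    have hNab := hab (proj h.toLoc B) (proj_le _ _) (isPGroup_proj h.toLoc hBp)
      (proj_comm h.toLoc hwt hBw) (fun c hc hcw => proj_conj h.toLoc hc (hBn c hc hcw))
    -- `y'` and `t'` commute
    have hy' := hBmem y hyF hyC
    have ht' := hBmem t h.tF htC
    have hyt' := hpull y hyC
    have htt' := hpull t htC
    have key : Commute (g₀⁻¹ * y * g₀) (g₀⁻¹ * t * g₀) := by
      have c1 : Commute t (g₀⁻¹ * y * g₀) := (show Commute (g₀⁻¹ * y * g₀) t from hyt').symm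
      have c2 : Commute t (g₀⁻¹ * t * g₀) := (show Commute (g₀⁻¹ * t * g₀) t from htt').symm
      rcases mem_proj_or h.toLoc hy' hyt' with h3 | h3 <;> rcases mem_proj_or h.toLoc ht' htt' with h4 | h4
      · exact hNab _ h3 _ h4
      · have h5 : Commute (g₀⁻¹ * y * g₀) (t * (g₀⁻¹ * t * g₀)) := hNab _ h3 _ h4
        have h6 := c1.symm.mul_right h5
        rwa [h.tmul] at h6
      · have h5 : Commute (t * (g₀⁻¹ * y * g₀)) (g₀⁻¹ * t * g₀) := hNab _ h3 _ h4
        have h6 := c2.mul_left h5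
        rwa [h.tmul] at h6
      · have h5 : Commute (t * (g₀⁻¹ * y * g₀)) (t * (g₀⁻¹ * t * g₀)) := hNab _ h3 _ h4
        have h6 : Commute (t * (g₀⁻¹ * y * g₀)) t := (Commute.refl t).mul_left c1.symm
        have h7 := h6.mul_right h5
        rw [h.tmul] at h7
        have h8 := c2.mul_left h7
        rwa [h.tmul] at h8
    apply hw1
    rw [← hwc, key.eq]
    group

end Pos

end Cfsg.Agent.OddHalf.D6.QThree.End

end

-- merged: Cfsg.Agent.OddHalf.D6.QThree.Outer
section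

/-!
# ODD half, D6, `q = 3`: `C_G(t)` with an outer part (helper143)

`OLoc t z K R`: `K` is normal in `C(t)`, the normal 2-subgroups of `M = C(t) ∩ C(z)` lie in `⟨t⟩ × R` and only
`⟨t, z⟩` centralises `C_K(z)`.

`OPos.false_cls`: contradiction, when all the involutions of `K` are conjugate in `K`.
-/

set_option autoImplicit false

namespace Cfsg.Agent.OddHalf.D6.QThree.Outer

open Subgroup Cfsg Cfsg.Agent.OddHalf.D6.QThree.Sit Cfsg.Agent.OddHalf.D6.QThree.Core
open Cfsg.Agent.OddHalf.D6.QThree.End (Pos.swap_cen Pos.swap_cen_inv)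

variable {G : Type*} [Group G] {t z : G} {K R F : Subgroup G}

/-- the local situation -/
structure OLoc (t z : G) (K R : Subgroup G) : Prop where
  tt : t * t = 1
  tK : t ∉ K
  Kt : ∀ x ∈ K, x * t = t * x
  nK : ∀ g, g * t = t * g → ∀ x ∈ K, g * x * g⁻¹ ∈ K
  zK : z ∈ K
  RK : R ≤ K
  zz : z * z = 1
  z1 : z ≠ 1
  zR : z ∈ R
  pR : IsPGroup 2 R
  RP : ∀ r ∈ R, r * z = z * r
  nR : ∀ g, g * t = t * g → g * z = z * g → ∀ r ∈ R, g * r * g⁻¹ ∈ R
  cR : ∀ g ∈ K, g * z = z * g → (∀ r ∈ R, g * r = r * g) → g = 1 ∨ g = z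
  ab : ∀ B : Subgroup G, B ≤ R → (∀ a ∈ B, ∀ b ∈ B, a * b = b * a) →
    (∀ g ∈ K, g * z = z * g → ∀ b ∈ B, g * b * g⁻¹ ∈ B) → ∀ b ∈ B, b = 1 ∨ b = z
  /-- normal 2-subgroups of `M = C(t) ∩ C(z)` lie in `⟨t⟩ × R` -/
  oR : ∀ N : Subgroup G, IsPGroup 2 N → (∀ n ∈ N, n * t = t * n) → (∀ n ∈ N, n * z = z * n) →
    (∀ g, g * t = t * g → g * z = z * g → ∀ n ∈ N, g * n * g⁻¹ ∈ N) → ∀ n ∈ N, n ∈ R ∨ t * n ∈ R
  /-- the elements of `C(t)` centralising `C_K(z)` -/
  oD : ∀ g, g * t = t * g → (∀ x ∈ K, x * z = z * x → g * x = x * g) →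
    g = 1 ∨ g = z ∨ g = t ∨ g = t * z

namespace OLoc

theorem comm (h : OLoc t z K R) : t * z = z * t := (h.Kt z h.zK).symm

theorem t1 (h : OLoc t z K R) : t ≠ 1 := fun e => h.tK (e ▸ K.one_mem)

theorem tmul (h : OLoc t z K R) (x : G) : t * (t * x) = x := by rw [← mul_assoc, h.tt, one_mul]

theorem z_mem [Finite G] (h : OLoc t z K R) {N : Subgroup G} (hNK : N ≤ K) (hNz : ∀ n ∈ N, n * z = z * n)
    (hn : ∀ g ∈ K, g * z = z * g → ∀ n ∈ N, g * n * g⁻¹ ∈ N) {n : G} (hnN : n ∈ N) (hn1 : n ≠ 1) :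
    z ∈ N := by
  by_cases hbot : N ⊓ R = ⊥
  · have h1 : ∀ r ∈ R, n * r = r * n := by
      intro r hr
      have h2 : n * r * n⁻¹ * r⁻¹ ∈ N ⊓ R := by
        constructor
        · have h3 : r * n⁻¹ * r⁻¹ ∈ N := hn r (h.RK hr) (h.RP r hr) _ (N.inv_mem hnN)
          have e : n * r * n⁻¹ * r⁻¹ = n * (r * n⁻¹ * r⁻¹) := by group
          rw [e]; exact N.mul_mem hnN h3
        · exact R.mul_mem (h.nR n (h.Kt n (hNK hnN)) (hNz n hnN) r hr) (R.inv_mem hr)
      rw [hbot, mem_bot, mul_inv_eq_one, mul_inv_eq_iff_eq_mul] at h2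
      exact h2
    rcases h.cR n (hNK hnN) (hNz n hnN) h1 with h2 | h2
    · exact absurd h2 hn1
    · rwa [← h2]
  · set L : Subgroup G := N ⊓ R with hL
    have hLp : IsPGroup 2 L := h.pR.to_le inf_le_right
    have hLnt : Nontrivial L := (nontrivial_iff_ne_bot L).2 hbot
    have hLn : ∀ g ∈ K, g * z = z * g → ∀ x ∈ L, g * x * g⁻¹ ∈ L := fun g hg hgz x hx =>
      ⟨hn g hg hgz x hx.1, h.nR g (h.Kt g hg) hgz x hx.2⟩
    have hc := hLp.center_nontrivial
    obtain ⟨⟨b, hb⟩, hb1⟩ := exists_ne (1 : center L)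
    set B : Subgroup G := L ⊓ centralizer (L : Set G) with hB
    have hbB : (b : G) ∈ B := ⟨b.2, mem_centralizer_iff.2 fun x hx =>
      congrArg Subtype.val (mem_center_iff.1 hb ⟨x, hx⟩)⟩
    have hBn : ∀ g ∈ K, g * z = z * g → ∀ x ∈ B, g * x * g⁻¹ ∈ B := by
      intro g hg hgz x hx
      refine ⟨hLn g hg hgz x hx.1, mem_centralizer_iff.2 ?_⟩
      intro y hy
      have hgi : g⁻¹ * z = z * g⁻¹ := (Commute.inv_left (show Commute g z from hgz)).eq
      have h3 := hLn g⁻¹ (K.inv_mem hg) hgi y hy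
      rw [inv_inv] at h3
      have h4 := mem_centralizer_iff.1 hx.2 _ h3
      calc y * (g * x * g⁻¹) = g * ((g⁻¹ * y * g) * x) * g⁻¹ := by group
        _ = g * (x * (g⁻¹ * y * g)) * g⁻¹ := by rw [h4]
        _ = g * x * g⁻¹ * y := by group
    rcases h.ab B (fun x hx => hx.1.2) (fun a ha b hb => mem_centralizer_iff.1 hb.2 a ha.1) hBn b hbB with
      h1 | h1
    · exfalso
      apply hb1
      exact Subtype.ext (Subtype.ext h1)
    · rw [← h1]; exact hbB.1.1

/-- the two abstract facts -/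
theorem data [Finite G] (h : OLoc t z K R) : Abs.Data t z where
  tt := h.tt
  t1 := h.t1
  zz := h.zz
  z1 := h.z1
  comm := h.comm
  eq := by
    intro M hMt hMz hn hz m hm
    have hK : ∀ x ∈ M ⊓ K, x = 1 := by
      intro x hx
      by_contra hx1
      apply hz
      exact (h.z_mem (N := M ⊓ K) inf_le_right (fun n hn => hMz n hn.1)
        (fun g hg hgz n hn' => ⟨hn g (h.Kt g hg) hgz n hn'.1, K.mul_mem (K.mul_mem hg hn'.2) (K.inv_mem hg)⟩)
        hx hx1).1
    have h2 : ∀ g ∈ K, g * z = z * g → m * g = g * m := by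
      intro g hg hgz
      have h3 : g * m * g⁻¹ * m⁻¹ ∈ M ⊓ K := by
        refine ⟨M.mul_mem (hn g (h.Kt g hg) hgz m hm) (M.inv_mem hm), ?_⟩
        have e : g * m * g⁻¹ * m⁻¹ = g * (m * g⁻¹ * m⁻¹) := by group
        rw [e]
        exact K.mul_mem hg (h.nK m (hMt m hm) _ (K.inv_mem hg))
      have h4 := hK _ h3
      rw [mul_inv_eq_one, mul_inv_eq_iff_eq_mul] at h4
      exact h4.symm
    rcases h.oD m (hMt m hm) h2 with h5 | h5 | h5 | h5
    · exact Or.inl h5
    · exact absurd (h5 ▸ hm) hz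
    · exact Or.inr (Or.inl h5)
    · exact Or.inr (Or.inr h5)
  abel := by
    intro B hB hBt hBz hBab hBn b hb
    have h1 := h.oR B hB hBt hBz hBn
    set A : Subgroup G := B ⊔ zpowers t with hA
    have hAab : A ≤ centralizer (A : Set G) := by
      rw [hA, sup_le_iff]
      constructor
      · rw [le_centralizer_iff, sup_le_iff]
        constructor
        · intro x hx
          exact mem_centralizer_iff.2 fun y hy => hBab y hy x hx
        · rw [zpowers_le]
          exact mem_centralizer_iff.2 fun y hy => hBt y hy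
      · rw [zpowers_le, mem_centralizer_iff]
        have h2 : B ⊔ zpowers t ≤ centralizer ({t} : Set G) := by
          rw [sup_le_iff]
          refine ⟨fun x hx => mem_centralizer_singleton_iff.2 (hBt x hx), ?_⟩
          rw [zpowers_le]
          exact mem_centralizer_singleton_iff.2 rfl
        intro y hy
        exact mem_centralizer_singleton_iff.1 (h2 hy)
    have hAn : ∀ g ∈ K, g * z = z * g → ∀ x ∈ A, g * x * g⁻¹ ∈ A := by
      intro g hg hgz x hx
      have h2 : A ≤ A.comap (MulAut.conj g).toMonoidHom := by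
        rw [hA, sup_le_iff]
        constructor
        · intro x hx
          show g * x * g⁻¹ ∈ B ⊔ zpowers t
          exact (le_sup_left : B ≤ B ⊔ zpowers t) (hBn g (h.Kt g hg) hgz x hx)
        · rw [zpowers_le]
          show g * t * g⁻¹ ∈ B ⊔ zpowers t
          rw [h.Kt g hg, mul_assoc, mul_inv_cancel, mul_one]
          exact (le_sup_right : zpowers t ≤ B ⊔ zpowers t) (mem_zpowers t)
      exact h2 hx
    have key := h.ab (A ⊓ R) inf_le_right (fun a ha b hb => mem_centralizer_iff.1 (hAab hb.1) a ha.1)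
      (fun g hg hgz x hx => ⟨hAn g hg hgz x hx.1, h.nR g (h.Kt g hg) hgz x hx.2⟩)
    have hbA : b ∈ A := (le_sup_left : B ≤ _) hb
    have htA : t ∈ A := (le_sup_right : zpowers t ≤ _) (mem_zpowers t)
    rcases h1 b hb with h2 | h2
    · exact Or.inl (key b ⟨hbA, h2⟩)
    · right
      rcases key _ ⟨A.mul_mem htA hbA, h2⟩ with h3 | h3
      · left; rw [← h.tmul b, h3, mul_one]
      · right; rw [← h.tmul b, h3]

/-- an element normalising `M = C(t) ∩ C(z)` (here `s`) maps `R` into `⟨t⟩ × R` -/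
theorem swap_R (h : OLoc t z K R) {s : G} (hs : s * t * s⁻¹ = t * z) (hsz : s * z * s⁻¹ = z) {r : G}
    (hr : r ∈ R) : s * r * s⁻¹ ∈ R ∨ t * (s * r * s⁻¹) ∈ R := by
  refine h.oR (R.map (MulAut.conj s).toMonoidHom) (h.pR.map _) ?_ ?_ ?_ _ ⟨r, hr, rfl⟩
  · rintro _ ⟨r, hr, rfl⟩
    exact (Pos.swap_cen h.zz hs hsz (h.Kt r (h.RK hr)) (h.RP r hr)).1
  · rintro _ ⟨r, hr, rfl⟩
    exact (Pos.swap_cen h.zz hs hsz (h.Kt r (h.RK hr)) (h.RP r hr)).2
  · rintro g hgt hgz _ ⟨r, hr, rfl⟩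
    obtain ⟨h1, h2⟩ := Pos.swap_cen_inv hs hsz hgt hgz
    refine ⟨(s⁻¹ * g * s) * r * (s⁻¹ * g * s)⁻¹, h.nR _ h1 h2 r hr, ?_⟩
    show s * ((s⁻¹ * g * s) * r * (s⁻¹ * g * s)⁻¹) * s⁻¹ = g * (s * r * s⁻¹) * g⁻¹
    group

end OLoc

/-- the position -/
structure OPos (t z : G) (K R F : Subgroup G) : Prop extends OLoc t z K R where
  F' : IsF z F
  tF : t ∈ F
  nc : ∀ g, g * t * g⁻¹ ≠ z
  sw : ∃ s : G, s * t * s⁻¹ = t * z ∧ s * z * s⁻¹ = z

namespace OPos

theorem ncj (h : OPos t z K R F) {a b : G} (ha : IsConj t a) (hb : IsConj z b) : ¬ IsConj a b := by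
  intro hab
  obtain ⟨g, hg⟩ := isConj_iff.1 ((ha.trans hab).trans hb.symm)
  exact h.nc g hg

theorem conj_ne_t (h : OPos t z K R F) {a : G} (ha : IsConj z a) : ¬ IsConj t a := fun h1 =>
  h.ncj (IsConj.refl t) ha h1

/-- `t ~ t v` for `v ~_K z` -/
theorem conj_tv (h : OPos t z K R F) {v k : G} (hk : k ∈ K) (hkv : k * z * k⁻¹ = v) : IsConj t (t * v) := by
  obtain ⟨s, hs, -⟩ := h.sw
  refine isConj_iff.2 ⟨k * s, ?_⟩
  calc k * s * t * (k * s)⁻¹ = k * (s * t * s⁻¹) * k⁻¹ := by group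
    _ = (k * t) * z * k⁻¹ := by rw [hs]; group
    _ = t * (k * z * k⁻¹) := by rw [h.Kt k hk]; group
    _ = t * v := by rw [hkv]

/-- `F ∩ C(t) ≤ ⟨t⟩ × R` -/
theorem mem_or (h : OPos t z K R F) {x : G} (hx : x ∈ F) (hxt : x * t = t * x) : x ∈ R ∨ t * x ∈ R := by
  refine h.oR (F ⊓ centralizer ({t} : Set G)) (h.F'.pF.to_le inf_le_left)
    (fun n hn => mem_centralizer_singleton_iff.1 hn.2) (fun n hn => h.F'.le n hn.1) ?_ x
    ⟨hx, mem_centralizer_singleton_iff.2 hxt⟩
  intro g hgt hgz n hn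
  have c1 : Commute g t := hgt
  have c2 : Commute n t := mem_centralizer_singleton_iff.1 hn.2
  exact ⟨h.F'.nor g hgz n hn.1, mem_centralizer_singleton_iff.2 ((c1.mul_left c2).mul_left c1.inv_left)⟩

/-- elements of `F ∩ K` lie in `R` -/
theorem mem_R (h : OPos t z K R F) {x : G} (hx : x ∈ F) (hxK : x ∈ K) : x ∈ R := by
  rcases h.mem_or hx (h.Kt x hxK) with h1 | h1
  · exact h1
  · exfalso
    apply h.tK
    have h2 := K.mul_mem (h.RK h1) (K.inv_mem hxK)
    rwa [mul_assoc, mul_inv_cancel, mul_one] at h2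

/-- **the y-trick** -/
theorem ytrick (h : OPos t z K R F) {v k y : G} (hk : k ∈ K)
    (hkv : k * z * k⁻¹ = v) (hkR : k⁻¹ * z * k ∉ R) (hyv : y * v * y⁻¹ = v) (hyt : y * t * y⁻¹ = t * z) :
    False := by
  apply hkR
  have hkt : k⁻¹ * t * k = t := by
    have h1 : Commute k t := h.Kt k hk
    rw [h1.inv_left.eq, mul_assoc, inv_mul_cancel, mul_one]
  have hkt2 : k * t * k⁻¹ = t := by
    rw [h.Kt k hk, mul_assoc, mul_inv_cancel, mul_one]
  have hkv2 : k⁻¹ * v * k = z := by rw [← hkv]; group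
  set x : G := k⁻¹ * y * k with hx
  have hxz : x * z = z * x := by
    have h1 : x * z * x⁻¹ = z := by
      calc x * z * x⁻¹ = k⁻¹ * (y * (k * z * k⁻¹) * y⁻¹) * k := by rw [hx]; group
        _ = z := by rw [hkv, hyv, hkv2]
    rwa [mul_inv_eq_iff_eq_mul] at h1
  have h2 : x * t * x⁻¹ = t * (k⁻¹ * z * k) := by
    calc x * t * x⁻¹ = k⁻¹ * (y * (k * t * k⁻¹) * y⁻¹) * k := by rw [hx]; group
      _ = (k⁻¹ * t * k) * (k⁻¹ * z * k) := by rw [hkt2, hyt]; group
      _ = t * (k⁻¹ * z * k) := by rw [hkt]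
  have h3 : t * (k⁻¹ * z * k) ∈ F := by
    rw [← h2]; exact h.F'.nor x hxz t h.tF
  have h4 : k⁻¹ * z * k ∈ F := by
    have := F.mul_mem h.tF h3
    rwa [h.tmul] at this
  exact h.mem_R h4 (K.mul_mem (K.mul_mem (K.inv_mem hk) h.zK) hk)

/-- Case II: `s v s⁻¹ ∈ v R ∪ t v R` -/
theorem exists_of_mem (h : OPos t z K R F) {s v : G} (hsF : s ∈ F) (hs : s * t * s⁻¹ = t * z) (hv : v ∈ K)
    (vv : v * v = 1) (hvz : v * z = z * v) :
    ∃ r ∈ R, v * r * (v * r) = 1 ∧ (s * v * s⁻¹ = v * r ∨ s * v * s⁻¹ = t * (v * r)) := by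
  have hsz : s * z * s⁻¹ = z := by rw [h.F'.le s hsF]; group
  have hvt := h.Kt v hv
  obtain ⟨hwt, hwz⟩ := Pos.swap_cen h.zz hs hsz hvt hvz
  set w : G := s * v * s⁻¹ with hw
  have hww : w * w = 1 := by
    calc w * w = s * (v * v) * s⁻¹ := by rw [hw]; group
      _ = 1 := by rw [vv]; group
  have hfF : w * v⁻¹ ∈ F := by
    have e : w * v⁻¹ = s * (v * s⁻¹ * v⁻¹) := by rw [hw]; group
    rw [e]; exact F.mul_mem hsF (h.F'.nor v hvz _ (F.inv_mem hsF))
  have hvi : v⁻¹ * z = z * v⁻¹ := (Commute.inv_left (show Commute v z from hvz)).eq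
  have hvti : v⁻¹ * t = t * v⁻¹ := (Commute.inv_left (show Commute v t from hvt)).eq
  have hft : (w * v⁻¹) * t = t * (w * v⁻¹) := by
    have c1 : Commute w t := hwt
    have c2 : Commute v⁻¹ t := hvti
    exact c1.mul_left c2
  rcases h.mem_or hfF hft with h2 | h2
  · have h3 := h.nR v⁻¹ hvti hvi _ h2
    have e : v⁻¹ * (w * v⁻¹) * v⁻¹⁻¹ = v⁻¹ * w := by group
    rw [e] at h3
    have e2 : v * (v⁻¹ * w) = w := by group
    exact ⟨_, h3, by rw [e2]; exact hww, Or.inl e2.symm⟩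
  · have h3 := h.nR v⁻¹ hvti hvi _ h2
    have e : v⁻¹ * (t * (w * v⁻¹)) * v⁻¹⁻¹ = v⁻¹ * (t * w) := by group
    rw [e] at h3
    have e2 : v * (v⁻¹ * (t * w)) = t * w := by group
    have c1 : Commute t w := (show Commute w t from hwt).symm
    refine ⟨_, h3, ?_, Or.inr ?_⟩
    · rw [e2]
      calc (t * w) * (t * w) = (t * w) * (w * t) := by rw [c1.eq]
        _ = t * (w * w) * t := by group
        _ = 1 := by rw [hww, mul_one, h.tt]
    · rw [e2, h.tmul]

/-- Case I: all the involutions of `K` are conjugate, `⟨t, z⟩` is normal in `C(z)` -/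
theorem false_case_one (h : OPos t z K R F)
    (hT : ∀ x, x * z = z * x → x * t * x⁻¹ = t ∨ x * t * x⁻¹ = t * z)
    (hone : ∀ p ∈ K, p * p = 1 → p ≠ 1 → ∃ k ∈ K, k * z * k⁻¹ = p)
    {w : G} (hw : w ∈ R) (ww : w * w = 1) (w1 : w ≠ 1) (wz : w ≠ z) : False := by
  obtain ⟨s, hs, hsz⟩ := h.sw
  obtain ⟨k, hk, hkw⟩ := hone w (h.RK hw) ww w1
  have hzw : IsConj z w := isConj_iff.2 ⟨k, hkw⟩
  have hwu : IsConj w (s * w * s⁻¹) := isConj_iff.2 ⟨s, rfl⟩
  set u : G := s * w * s⁻¹ with hu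
  have uu : u * u = 1 := by
    calc u * u = s * (w * w) * s⁻¹ := by rw [hu]; group
      _ = 1 := by rw [ww]; group
  have hut : u * t = t * u := (Pos.swap_cen h.zz hs hsz (h.Kt w (h.RK hw)) (h.RP w hw)).1
  have huK : u ∈ K := by
    rcases h.toOLoc.swap_R hs hsz hw with h1 | h1
    · exact h.RK h1
    · exfalso
      have c1 : Commute t u := (show Commute u t from hut).symm
      have h5 : t * u * (t * u) = 1 := by
        calc (t * u) * (t * u) = (t * u) * (u * t) := by rw [c1.eq]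
          _ = t * (u * u) * t := by group
          _ = 1 := by rw [uu, mul_one, h.tt]
      by_cases h6 : t * u = 1
      · have h7 : u = t := by rw [← h.tmul u, h6, mul_one]
        rw [h7] at hwu
        exact h.conj_ne_t (hzw.trans hwu) (IsConj.refl t)
      · obtain ⟨k2, hk2, hk2p⟩ := hone _ (h.RK h1) h5 h6
        have h8 := h.conj_tv hk2 hk2p
        rw [h.tmul] at h8
        exact h.conj_ne_t (hzw.trans hwu) h8
  have hu1 : u ≠ 1 := by
    intro e
    apply w1
    calc w = s⁻¹ * u * s := by rw [hu]; group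
      _ = 1 := by rw [e]; group
  obtain ⟨k', hk', hk'u⟩ := hone u huK uu hu1
  set x : G := k'⁻¹ * s * k with hx
  have hkt : k * t * k⁻¹ = t := by
    rw [h.Kt k hk, mul_assoc, mul_inv_cancel, mul_one]
  have hk't : k'⁻¹ * t * k' = t := by
    have h1 : Commute k' t := h.Kt k' hk'
    rw [h1.inv_left.eq, mul_assoc, inv_mul_cancel, mul_one]
  have hxz : x * z = z * x := by
    have h1 : x * z * x⁻¹ = z := by
      calc x * z * x⁻¹ = k'⁻¹ * (s * (k * z * k⁻¹) * s⁻¹) * k' := by rw [hx]; group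
        _ = k'⁻¹ * u * k' := by rw [hkw]
        _ = z := by rw [← hk'u]; group
    rwa [mul_inv_eq_iff_eq_mul] at h1
  have hxt : x * t * x⁻¹ = t * (k'⁻¹ * z * k') := by
    calc x * t * x⁻¹ = k'⁻¹ * (s * (k * t * k⁻¹) * s⁻¹) * k' := by rw [hx]; group
      _ = (k'⁻¹ * t * k') * (k'⁻¹ * z * k') := by rw [hkt, hs]; group
      _ = t * (k'⁻¹ * z * k') := by rw [hk't]
  have h9 : k'⁻¹ * z * k' = z := by
    rcases hT x hxz with h1 | h1
    · exfalso
      rw [hxt, mul_eq_left] at h1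
      apply h.z1
      calc z = k' * (k'⁻¹ * z * k') * k'⁻¹ := by group
        _ = 1 := by rw [h1]; group
    · rw [hxt] at h1
      exact mul_left_cancel h1
  have h10 : u = z := by
    rw [← hk'u]
    calc k' * z * k'⁻¹ = k' * (k'⁻¹ * z * k') * k'⁻¹ := by rw [h9]
      _ = z := by group
  apply wz
  have h11 : s * w * s⁻¹ = s * z * s⁻¹ := by rw [hsz]; exact h10
  exact mul_left_cancel (mul_right_cancel h11)

/-- **one class of involutions** -/
theorem false_cls [Finite G] (h : OPos t z K R F)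
    (hone : ∀ p ∈ K, p * p = 1 → p ≠ 1 → ∃ k ∈ K, k * z * k⁻¹ = p)
    {w : G} (hw : w ∈ R) (ww : w * w = 1) (w1 : w ≠ 1) (wz : w ≠ z)
    {v k : G} (hv : v ∈ K) (hk : k ∈ K) (vv : v * v = 1)
    (hvz : v * z = z * v) (hkv : k * z * k⁻¹ = v) (hkR : k⁻¹ * z * k ∉ R)
    (hR : ∀ r ∈ R, v * r * (v * r) = 1 → ∃ h ∈ K, h * z = z * h ∧ h * (v * r) * h⁻¹ = v) : False := by
  have hzv : IsConj z v := isConj_iff.2 ⟨k, hkv⟩
  have hd := h.toOLoc.data
  by_cases hFt : ∀ x ∈ F, x * t = t * x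
  · exact h.false_case_one (fun x hx => hd.conj_t_of_le h.F' h.tF h.nc hFt hx) hone hw ww w1 wz
  · obtain ⟨s, hsF, hs⟩ := hd.exists_mem h.F' h.tF h.nc hFt
    obtain ⟨r, hr, hvr, h1⟩ := h.exists_of_mem hsF hs hv vv hvz
    rcases h1 with h1 | h1
    · obtain ⟨g, hg, hgz, hgv⟩ := hR r hr hvr
      apply h.ytrick hk hkv hkR (y := g * s)
      · calc g * s * v * (g * s)⁻¹ = g * (s * v * s⁻¹) * g⁻¹ := by group
          _ = v := by rw [h1, hgv]
      · calc g * s * t * (g * s)⁻¹ = g * (s * t * s⁻¹) * g⁻¹ := by group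
          _ = (g * t) * z * g⁻¹ := by rw [hs]; group
          _ = t * (g * z) * g⁻¹ := by rw [h.Kt g hg]; group
          _ = t * z := by rw [hgz]; group
    · have hvw : IsConj v (s * v * s⁻¹) := isConj_iff.2 ⟨s, rfl⟩
      by_cases h2 : v * r = 1
      · rw [h1, h2, mul_one] at hvw
        exact h.conj_ne_t hzv hvw.symm
      · obtain ⟨k2, hk2, hk2p⟩ := hone _ (K.mul_mem hv (h.RK hr)) hvr h2
        have h8 := h.conj_tv hk2 hk2p
        rw [← h1] at h8
        exact h.conj_ne_t (hzv.trans hvw) h8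

end OPos

end Cfsg.Agent.OddHalf.D6.QThree.Outer

end
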