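import Cfsg.Agent.OddHalf.D6.QThree.NI
import Cfsg.Agent.OddHalf.CaseM.End
import Cfsg.Agent.OddHalf.D6.QThree.NIFacts
import Cfsg.Agent.OddHalf.D6.QThree.Outer
import Cfsg.Agent.Lib.NormalAbelian
import Cfsg.Agent.OddHalf.D6.QThree.NISolv
import Cfsg.Agent.OddHalf.D6.QThree.FrontOut
import Cfsg.Agent.OddHalf.D6.QThree.G23Out
import Cfsg.Agent.OddHalf.D6.QThree.NICase
import Cfsg.Agent.OddHalf.D6.Cut

-- merged: Cfsg.Agent.OddHalf.D6.QThree.NIEnd
section

/-!
# ODD half, D6, `q = 3`: `C_G(z)` has no component (helper135, bb #10784)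

`noComp`: `G` in the frame `Ctx G`, `X = C_G(z)` with `NI.Hyp`, `t ∈ X'`, `Q₁`, `Q₂` not normal in `X` (`NINorm`, or
conjugate in `C_K(z)`): then `X` has no component (given `CaseM.Intr`, `CaseM.IntrSign` as for D8). S1309 is not used.
-/

set_option autoImplicit false

namespace Cfsg.Agent.OddHalf.D6.QThree.NIEnd

open Subgroup Cfsg
open Cfsg.Agent.OddHalf Cfsg.Agent.OddHalf.Iface
open Cfsg.Agent.OddHalf.CaseM (IntrSign rank_two compOf_map even_card)
open Cfsg.Agent.Cit (cj mem_cj conj_mem_cj)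
open Cfsg.Agent.OddHalf.D6.QThree.NISide

universe u

variable {G : Type u} [Group G]

/-- **the theorem** -/
theorem noComp (hGW : SylowSp4.Hyps.GW.{u}) (hI : CaseM.Intr.{u}) (hS : IntrSign.{u}) (C : Ctx G) {z t : G}
    (hz : orderOf z = 2) (htz : t * z = z * t) {z' t' a₁ a₂ : ↥(centralizer ({z} : Set G))} (hz' : (z' : G) = z)
    (ht' : (t' : G) = t) {Q₁ Q₂ : Subgroup ↥(centralizer ({z} : Set G))} (h : NI.Hyp z' t' a₁ a₂ Q₁ Q₂)
    (hn₁ : ¬ Q₁.Normal) (hn₂ : ¬ Q₂.Normal)
    (hcom : t' ∈ commutator ↥(centralizer ({z} : Set G))) (M : Subgroup ↥(centralizer ({z} : Set G))) :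
    ¬ IsComponent M := by
  intro hM
  have hfin := C.fin
  have hsimp := C.simple
  -- no sign
  have hlam : ∀ lam : ↥(centralizer ({z} : Set G)) →* ℤˣ, lam t' ≠ -1 := by
    intro lam hl
    have h1 : commutator ↥(centralizer ({z} : Set G)) ≤ lam.ker := Abelianization.commutator_subset_ker lam
    have h2 : lam t' = 1 := h1 hcom
    rw [h2] at hl
    exact absurd hl (by decide)
  rcases h.main hM with ⟨M₁, hM₁, hzM₁, huniq⟩ | ⟨lam, hl⟩ | (hn | hn) | ⟨huniq, hMn, hQ, hcase⟩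
  · -- rank one
    have hcomp := compOf_map hM₁
    refine rank_two C hGW hz hcomp ⟨_, hzM₁, hz'⟩ ?_
    intro E _ hE
    have hEz : ∀ x ∈ E, x = 1 ∨ ((x : ↥(M₁.map (centralizer ({z} : Set G)).subtype)) : G) = z := by
      intro x hx
      obtain ⟨y, hy, hyx⟩ := x.2
      have h1 : ((x : ↥(M₁.map (centralizer ({z} : Set G)).subtype)) : G) *
          ((x : ↥(M₁.map (centralizer ({z} : Set G)).subtype)) : G) = 1 := by
        have := congrArg Subtype.val (hE x hx)
        rw [pow_two] at this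
        exact this
      have hyx' : (y : G) = ((x : ↥(M₁.map (centralizer ({z} : Set G)).subtype)) : G) := hyx
      rcases huniq y hy (Subtype.ext (by
        show (y : G) * y = 1
        rw [hyx']; exact h1)) with e | e
      · left
        apply Subtype.ext
        rw [← hyx', e]; rfl
      · right
        rw [← hyx', e, hz']
    have hle : E ≤ zpowers (⟨z, ⟨z', hzM₁, hz'⟩⟩ : ↥(M₁.map (centralizer ({z} : Set G)).subtype)) := by
      intro x hx
      rcases hEz x hx with e | e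
      · rw [e]; exact one_mem _
      · have : x = ⟨z, ⟨z', hzM₁, hz'⟩⟩ := Subtype.ext e
        rw [this]; exact mem_zpowers _
    have hcard := Subgroup.card_le_of_le hle
    rw [Nat.card_zpowers] at hcard
    have ho : orderOf (⟨z, ⟨z', hzM₁, hz'⟩⟩ : ↥(M₁.map (centralizer ({z} : Set G)).subtype)) = 2 := by
      rw [← Subgroup.orderOf_coe]; exact hz
    rw [ho] at hcard
    exact hcard
  · exact hlam lam hl
  · exact hn₁ hn
  · exact hn₂ hn
  -- `M` is normal in `C(z)` and contains `z`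
  have hzM' : z' ∈ M := by
    rcases hQ with hQ | hQ
    · exact hQ h.s₁.zQ
    · exact hQ h.s₂.zQ
  have hcomp := compOf_map hM
  have htH : t ∈ centralizer ({z} : Set G) := mem_centralizer_singleton_iff.2 htz
  have htt' : t' = ⟨t, htH⟩ := Subtype.ext ht'
  have htt : t * t = 1 := by
    have := congrArg Subtype.val h.tt
    rw [htt'] at this
    exact this
  set MG : Subgroup G := M.map (centralizer ({z} : Set G)).subtype with hMG
  have hzM : z ∈ MG := ⟨z', hzM', hz'⟩
  have hrk := rank_two C hGW hz hcomp hzM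
  have hq := Soft.CompOf.quasisimple hcomp
  have hnt := Soft.CompOf.ne_top C.na hz hcomp
  have hkn := Known.known_quotient C.kproper _ hnt _ hq.2 (Soft.quo_na hq)
  have hnc : ∃ x ∈ MG, t * x ≠ x * t := by
    by_contra hcon
    push Not at hcon
    refine h.not_le hM.2 (fun x hx => ?_)
    apply Subtype.ext
    show (x : G) * t' = t' * x
    rw [ht']
    exact (hcon x ⟨x, hx, rfl⟩).symm
  rcases hcase with ⟨htM, hcM⟩ | htM
  · -- `t ∈ M`, `C(M) = ⟨z⟩`
    obtain ⟨-, hcent, hnorm, hstd⟩ := Table.lemmaS (D₀ := (MG : Set G)) hz htt hcomp.1 hcomp.2 hzM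
      (fun d hd => hd) (by
        intro y hyz _ hyM
        have hyH : y ∈ centralizer ({z} : Set G) := mem_centralizer_singleton_iff.2 hyz
        rcases hcM ⟨y, hyH⟩ (by
          rw [mem_centralizer_iff]
          intro x hx
          exact Subtype.ext (hyM x ⟨x, hx, rfl⟩).symm) with e | e
        · exact Or.inl (congrArg Subtype.val e)
        · exact Or.inr (Or.inr (Or.inl (by
            have := congrArg Subtype.val e
            rw [hz'] at this
            exact this))))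
      ⟨t, ⟨t', htM, ht'⟩, fun x _ => rfl⟩ hnc
    exact hI G C _ z
      { hz := hz
        comp := hcomp
        zM := hzM
        cent := hcent
        norm := hnorm
        std := hstd
        ne_top := hnt
        z2 := Soft.CompOf.center_isPGroup (C.bal _ hz) hcomp
        rk2 := hrk
        simple := hq.2
        quo_na := Soft.quo_na hq
        known := hkn }
  · -- `t ∉ M C(M)`
    have hn : ∀ g ∈ centralizer ({z} : Set G), ∀ x ∈ MG, g * x * g⁻¹ ∈ MG := by
      rintro g hg _ ⟨x, hx, rfl⟩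
      exact ⟨⟨g, hg⟩ * x * ⟨g, hg⟩⁻¹, hMn.conj_mem x hx _, rfl⟩
    have hperf : ⁅MG, MG⁆ = MG := by
      rw [hMG, ← map_commutator, isPerfect_iff.1 hM.2.1]
    obtain ⟨lam, hl, -, -⟩ := Table.exists_lam_sub hcomp.1 hn hperf (MulEquiv.refl _)
      (hS G C _ z hz hcomp hzM hrk hq.2 (Soft.quo_na hq) hkn) htH (by
        intro x _
        rw [htt, one_mul, mul_one]) (by
        rintro _ ⟨x, hx, rfl⟩ c hc hcx e
        apply htM
        have e1 : t' = x * ⟨c, hc⟩ := Subtype.ext (ht'.trans e)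
        rw [e1]
        refine mul_mem (mem_sup_left hx) (mem_sup_right ?_)
        rw [mem_centralizer_iff]
        intro y hy
        exact Subtype.ext (hcx y ⟨y, hy, rfl⟩).symm)
    refine hlam lam ?_
    rw [htt']; exact hl

end Cfsg.Agent.OddHalf.D6.QThree.NIEnd

end

-- merged: Cfsg.Agent.OddHalf.D6.QThree.NINorm
section

/-!
# ODD half, D6, `q = 3`: the quaternion factors of `R` are not normal in `C_G(z)` (helper135)

`not_normal`: `t ≁ z`, `t^s = t z` with `s ∈ C_G(z)`, all the involutions of `K` are conjugate in `K`, `z` is the only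
involution of `C_K(z)` centralising `D` (`R = Q D = Q₈ * Q₈`): then `D` is not normal in `C_G(z)`. No S1309.

Proof. `s` a 2-element, `w = q d` (`q ∈ Q`, `d ∈ D` of order four) with `w^s ∈ w ⟨t, z⟩`; `w ~ z ≁ t ~ t w`, so that
`w^s ∈ {w, w z}`, and `g ∈ s D` maps `t` to `t z`, `w` to `w`. `D^k` is normal in `C(w)` (`z^k = w`), centralised by `t`,
so by `t z`: `z` centralises `D^k`: `z^{k⁻¹} = z`.
-/

set_option autoImplicit false

namespace Cfsg.Agent.OddHalf.D6.QThree.NINorm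

open Subgroup
open Cfsg.Agent.OddHalf.D6.QThree.NISide
open Cfsg.Agent.OddHalf.D6.QThree.Outer (OLoc)

variable {G : Type*} [Group G]

theorem mem_normalizer_of [Finite G] {H : Subgroup G} {s : G} (h : ∀ x ∈ H, s * x * s⁻¹ ∈ H) :
    s ∈ normalizer (H : Set G) := by
  have hpow : ∀ n : ℕ, ∀ x ∈ H, s ^ n * x * (s ^ n)⁻¹ ∈ H := by
    intro n
    induction n with
    | zero => intro x hx; simpa using hx
    | succ n ih =>
      intro x hx
      have h1 := h _ (ih x hx)
      have e : s ^ (n + 1) * x * (s ^ (n + 1))⁻¹ = s * (s ^ n * x * (s ^ n)⁻¹) * s⁻¹ := by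
        rw [pow_succ']; group
      rwa [e]
  rw [mem_normalizer_iff]
  intro x
  refine ⟨fun hx => h x hx, fun hx => ?_⟩
  have h1 := hpow (orderOf s - 1) _ hx
  have h2 : s ^ (orderOf s - 1) = s⁻¹ := by
    have h3 : s ^ (orderOf s - 1) * s = 1 := by
      rw [← pow_succ, Nat.sub_add_cancel (orderOf_pos s), pow_orderOf_eq_one]
    exact eq_inv_of_mul_eq_one_left h3
  rw [h2] at h1
  have e : s⁻¹ * (s * x * s⁻¹) * s⁻¹⁻¹ = x := by group
  rwa [e] at h1

/-- a 2-element acting on the section `V / Z₀` has a nontrivial fixed coset -/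
theorem exists_coset [Finite G] {V Z₀ : Subgroup G} {s : G} (hV : IsPGroup 2 V) (hs : IsPGroup 2 (zpowers s))
    (hsV : ∀ v ∈ V, s * v * s⁻¹ ∈ V) (hne : ∃ v ∈ V, v ∉ Z₀) (hsZ : ∀ x ∈ Z₀, s * x * s⁻¹ ∈ Z₀)
    (hVZ : ∀ v ∈ V, ∀ x ∈ Z₀, v * x * v⁻¹ ∈ Z₀) : ∃ v ∈ V, v ∉ Z₀ ∧ v⁻¹ * (s * v * s⁻¹) ∈ Z₀ := by
  have : Fact (Nat.Prime 2) := ⟨Nat.prime_two⟩
  have hsN : s ∈ normalizer (V : Set G) := mem_normalizer_of hsV
  set P : Subgroup G := V ⊔ zpowers s with hP
  have hPp : IsPGroup 2 P := IsPGroup.to_sup_of_normal_left' hV hs (by rw [zpowers_le]; exact hsN)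
  have hPV : P ≤ normalizer (V : Set G) := sup_le le_normalizer (by rw [zpowers_le]; exact hsN)
  have hPZ : P ≤ normalizer (Z₀ : Set G) := by
    refine sup_le (fun v hv => mem_normalizer_of (hVZ v hv)) ?_
    rw [zpowers_le]; exact mem_normalizer_of hsZ
  have hsP : s ∈ P := (le_sup_right : zpowers s ≤ P) (mem_zpowers s)
  have hVP : V ≤ P := le_sup_left
  have n1 : (Z₀.subgroupOf P).Normal := by
    constructor
    intro x hx g
    rw [mem_subgroupOf] at hx ⊢
    exact (mem_normalizer_iff.1 (hPZ g.2) _).1 hx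
  have n2 : (V.subgroupOf P).Normal := by
    constructor
    intro x hx g
    rw [mem_subgroupOf] at hx ⊢
    exact (mem_normalizer_iff.1 (hPV g.2) _).1 hx
  set π := QuotientGroup.mk' (Z₀.subgroupOf P) with hπ
  have hπs : Function.Surjective π := QuotientGroup.mk'_surjective _
  have hnil : Group.IsNilpotent (P ⧸ Z₀.subgroupOf P) := (hPp.to_quotient _).isNilpotent
  have n3 : ((V.subgroupOf P).map π).Normal := n2.map π hπs
  have hne' : (V.subgroupOf P).map π ≠ ⊥ := by
    intro e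
    obtain ⟨v, hv, hvZ⟩ := hne
    apply hvZ
    have h1 : π ⟨v, hVP hv⟩ ∈ (V.subgroupOf P).map π := ⟨_, mem_subgroupOf.2 hv, rfl⟩
    rw [e, mem_bot] at h1
    exact mem_subgroupOf.1 ((QuotientGroup.eq_one_iff _).1 h1)
  have h2 := Cfsg.Agent.Lib.NormalAbelian.normal_inf_center_ne_bot ((V.subgroupOf P).map π) hne'
  obtain ⟨⟨x, hx, hxc⟩, hx1⟩ := ne_bot_iff_exists_ne_one.1 h2
  obtain ⟨v, hv, rfl⟩ := hx
  refine ⟨v, mem_subgroupOf.1 hv, fun hvZ => hx1 (Subtype.ext ?_), ?_⟩
  · exact (QuotientGroup.eq_one_iff _).2 (mem_subgroupOf.2 hvZ)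
  · have h3 : π ⟨s, hsP⟩ * π v = π v * π ⟨s, hsP⟩ := mem_center_iff.1 hxc _
    have h4 : π (v⁻¹ * (⟨s, hsP⟩ * v * (⟨s, hsP⟩ : P)⁻¹)) = 1 := by
      rw [map_mul, map_mul, map_mul, map_inv, map_inv, h3]
      group
    exact mem_subgroupOf.1 ((QuotientGroup.eq_one_iff _).1 h4)

/-- the odd power of an element which is a 2-element -/
theorem exists_odd_pow [Finite G] (s : G) : ∃ m : ℕ, Odd m ∧ IsPGroup 2 (zpowers (s ^ m)) := by
  obtain ⟨k, m, hm, he⟩ := Nat.exists_eq_two_pow_mul_odd (n := orderOf s) (orderOf_pos s).ne'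
  refine ⟨m, hm, ?_⟩
  apply IsPGroup.of_card (n := k)
  rw [Nat.card_zpowers, orderOf_pow' s (by rintro rfl; exact absurd hm (by decide)), he]
  rw [Nat.gcd_eq_right (Dvd.intro_left _ rfl)]
  exact Nat.mul_div_cancel _ hm.pos

/-- `⟨t⟩ × H` -/
def ext (H : Subgroup G) {t : G} (tt : t * t = 1) (hc : ∀ x ∈ H, x * t = t * x) : Subgroup G where
  carrier := {x | x ∈ H ∨ t * x ∈ H}
  one_mem' := Or.inl H.one_mem
  mul_mem' := by
    have key : ∀ x, t * x ∈ H → x * t = t * x := by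
      intro x hx
      have h1 : Commute (t * x) t := hc _ hx
      have h2 : Commute (t * (t * x)) t := (Commute.refl t).mul_left h1
      rwa [← mul_assoc, tt, one_mul] at h2
    rintro x y (hx | hx) (hy | hy)
    · exact Or.inl (H.mul_mem hx hy)
    · right
      have e : t * (x * y) = x * (t * y) := by rw [← mul_assoc, ← hc x hx, mul_assoc]
      rw [e]; exact H.mul_mem hx hy
    · right
      rw [← mul_assoc]; exact H.mul_mem hx hy
    · left
      have e : x * y = (t * x) * (t * y) := by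
        calc x * y = x * (t * t) * y := by rw [tt, mul_one]
          _ = (x * t) * (t * y) := by group
          _ = (t * x) * (t * y) := by rw [key x hx]
      rw [e]; exact H.mul_mem hx hy
  inv_mem' := by
    rintro x (hx | hx)
    · exact Or.inl (H.inv_mem hx)
    · right
      have h1 : Commute (t * x) t := hc _ hx
      have h2 : Commute (t * (t * x)) t := (Commute.refl t).mul_left h1
      rw [← mul_assoc, tt, one_mul] at h2
      have e : t * x⁻¹ = (t * x)⁻¹ := by
        rw [mul_inv_rev, inv_eq_of_mul_eq_one_right tt, h2.inv_left.eq]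
      rw [e]; exact H.inv_mem hx

theorem mem_ext {H : Subgroup G} {t : G} {tt : t * t = 1} {hc : ∀ x ∈ H, x * t = t * x} {x : G} :
    x ∈ ext H tt hc ↔ x ∈ H ∨ t * x ∈ H := Iff.rfl

theorem ext_comm {H : Subgroup G} {t : G} {tt : t * t = 1} {hc : ∀ x ∈ H, x * t = t * x} {x : G}
    (hx : x ∈ ext H tt hc) : x * t = t * x := by
  rcases hx with hx | hx
  · exact hc x hx
  · have h1 : Commute (t * x) t := hc _ hx
    have h2 : Commute (t * (t * x)) t := (Commute.refl t).mul_left h1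
    rwa [← mul_assoc, tt, one_mul] at h2

theorem isPGroup_ext {H : Subgroup G} {t : G} {tt : t * t = 1} {hc : ∀ x ∈ H, x * t = t * x}
    (hH : IsPGroup 2 H) : IsPGroup 2 (ext H tt hc) := by
  rintro ⟨x, hx⟩
  have h1 : x * x ∈ H := by
    have h2 := ext_comm hx
    rcases hx with hx | hx
    · exact H.mul_mem hx hx
    · have e : x * x = (t * x) * (t * x) := by
        calc x * x = x * (t * t) * x := by rw [tt, mul_one]
          _ = (x * t) * (t * x) := by group
          _ = (t * x) * (t * x) := by rw [h2]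
      rw [e]; exact H.mul_mem hx hx
  obtain ⟨n, hn⟩ := hH ⟨x * x, h1⟩
  refine ⟨n + 1, Subtype.ext ?_⟩
  have h3 : (x * x) ^ 2 ^ n = 1 := congrArg Subtype.val hn
  show x ^ 2 ^ (n + 1) = 1
  rw [pow_succ', pow_mul, pow_two]; exact h3

variable {t z : G} {K R : Subgroup G}

theorem not_normal [Finite G] (h : OLoc t z K R) (nc : ∀ g : G, g * t * g⁻¹ ≠ z)
    (sw : ∃ s : G, s * t * s⁻¹ = t * z ∧ s * z * s⁻¹ = z) {a b : G} {Q D : Subgroup G}
    (sQ : Side z t a Q D) (sD : Side z t b D Q) (comm : ∀ x ∈ Q, ∀ y ∈ D, x * y = y * x)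
    (hQR : Q ≤ R) (hDR : D ≤ R) (hR : ∀ r ∈ R, ∃ x ∈ Q, ∃ y ∈ D, r = x * y)
    (one : ∀ p ∈ K, p * p = 1 → p ≠ 1 → ∃ k ∈ K, k * z * k⁻¹ = p)
    (inv : ∀ u ∈ K, u * z = z * u → u * u = 1 → (∀ y ∈ D, u * y = y * u) → u = 1 ∨ u = z)
    (hn : ∀ g, g * z = z * g → ∀ y ∈ D, g * y * g⁻¹ ∈ D) : False := by
  have : Fact (Nat.Prime 2) := ⟨Nat.prime_two⟩
  have hzD : ∀ y ∈ D, y * z = z * y := fun y hy => h.RP y (hDR hy)
  have hzQ : ∀ y ∈ Q, y * z = z * y := fun y hy => h.RP y (hQR hy)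
  have hztz := h.comm
  -- `s` a 2-element
  obtain ⟨s, hst, hsz, hs2⟩ : ∃ s : G, s * t * s⁻¹ = t * z ∧ s * z = z * s ∧ IsPGroup 2 (zpowers s) := by
    obtain ⟨s, hst, hsz⟩ := sw
    obtain ⟨m, hm, hp⟩ := exists_odd_pow s
    have hsz' : s * z = z * s := mul_inv_eq_iff_eq_mul.1 hsz
    have h2 : (s * s) * t * (s * s)⁻¹ = t := by
      have h6 : s * (t * z) * s⁻¹ = (s * t * s⁻¹) * (s * z * s⁻¹) := by group
      calc (s * s) * t * (s * s)⁻¹ = s * (s * t * s⁻¹) * s⁻¹ := by group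
        _ = s * (t * z) * s⁻¹ := by rw [hst]
        _ = (s * t * s⁻¹) * (s * z * s⁻¹) := h6
        _ = t := by rw [hst, hsz, mul_assoc, h.zz, mul_one]
    have h3 : Commute (s * s) t := mul_inv_eq_iff_eq_mul.1 h2
    obtain ⟨n, hn⟩ := hm
    refine ⟨s ^ m, ?_, (Commute.pow_left (show Commute s z from hsz') m).eq, hp⟩
    have h4 : s ^ m = s * (s * s) ^ n := by rw [hn, pow_succ', pow_mul, pow_two]
    have h5 : Commute ((s * s) ^ n) t := h3.pow_left n
    rw [h4]
    calc s * (s * s) ^ n * t * (s * (s * s) ^ n)⁻¹ = s * ((s * s) ^ n * t * ((s * s) ^ n)⁻¹) * s⁻¹ := by group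
      _ = t * z := by rw [h5.eq, mul_inv_cancel_right, hst]
  have hsR := fun r hr => h.swap_R hst (mul_inv_eq_iff_eq_mul.2 hsz) (r := r) hr
  -- the fixed coset in `D`
  have hpD : IsPGroup 2 D := sD.pQ
  have hpz : ∀ x ∈ zpowers z, x = 1 ∨ x = z := by
    intro x hx
    have h1 : x ^ 2 = 1 := by
      obtain ⟨k, rfl⟩ := mem_zpowers_iff.1 hx
      rw [← zpow_natCast, ← zpow_mul, mul_comm, zpow_mul]
      have : z ^ ((2 : ℕ) : ℤ) = 1 := by rw [zpow_natCast, pow_two, h.zz]
      rw [this, one_zpow]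
    have h2 : orderOf z = 2 := orderOf_eq_prime (by rw [pow_two, h.zz]) h.z1
    obtain ⟨k, hk⟩ := mem_zpowers_iff.1 hx
    rcases Int.even_or_odd k with ⟨n, hn⟩ | ⟨n, hn⟩
    · left
      rw [← hk, hn, ← two_mul, zpow_mul, zpow_ofNat, pow_two, h.zz, one_zpow]
    · right
      rw [← hk, hn, zpow_add, zpow_mul, zpow_ofNat, pow_two, h.zz, one_zpow, one_mul, zpow_one]
  obtain ⟨d, hd, hdz, hsd⟩ : ∃ d ∈ D, d ∉ zpowers z ∧ d⁻¹ * (s * d * s⁻¹) ∈ zpowers z := by
    apply exists_coset hpD hs2 (hn s hsz)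
    · obtain ⟨q, hq, h1, h2⟩ := sD.exists_ne
      exact ⟨q, hq, fun h3 => (hpz q h3).elim h1 h2⟩
    · intro x hx
      rcases hpz x hx with rfl | rfl
      · rw [mul_one, mul_inv_cancel]; exact one_mem _
      · rw [hsz, mul_inv_cancel_right]; exact mem_zpowers _
    · intro v hv x hx
      rcases hpz x hx with rfl | rfl
      · rw [mul_one, mul_inv_cancel]; exact one_mem _
      · rw [hzD v hv, mul_inv_cancel_right]; exact mem_zpowers _
  -- the fixed coset in `⟨t⟩ × Q`
  have hcz : ∀ x ∈ zpowers z, x * t = t * x := by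
    intro x hx
    rcases hpz x hx with rfl | rfl
    · rw [one_mul, mul_one]
    · exact hztz.symm
  set A : Subgroup G := ext Q h.tt sQ.ct with hA
  set Z₀ : Subgroup G := ext (zpowers z) h.tt hcz with hZ₀
  have hmemQ : ∀ r ∈ R, (∀ y ∈ D, r * y = y * r) → r ∈ Q := by
    intro r hr hrD
    obtain ⟨x, hx, y, hy, rfl⟩ := hR r hr
    have h1 : ∀ y' ∈ D, y * y' = y' * y := by
      intro y' hy'
      have h2 := hrD y' hy'
      have h3 : Commute x y' := comm x hx y' hy'
      apply mul_left_cancel (a := x)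
      calc x * (y * y') = (x * y) * y' := by group
        _ = y' * (x * y) := h2
        _ = (y' * x) * y := by group
        _ = x * (y' * y) := by rw [← h3.eq]; group
    rcases sD.center hy h1 with e | e
    · rw [e, mul_one]; exact hx
    · rw [e]; exact Q.mul_mem hx sQ.zQ
  have hsD : ∀ y ∈ D, s⁻¹ * y * s ∈ D := by
    intro y hy
    have := hn s⁻¹ (show Commute s z from hsz).inv_left.eq y hy
    rwa [inv_inv] at this
  have hsQ : ∀ q ∈ Q, s * q * s⁻¹ ∈ A := by
    intro q hq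
    have hc : ∀ y ∈ D, s * q * s⁻¹ * y = y * (s * q * s⁻¹) := by
      intro y hy
      have h1 := comm q hq _ (hsD y hy)
      calc s * q * s⁻¹ * y = s * (q * (s⁻¹ * y * s)) * s⁻¹ := by group
        _ = s * (s⁻¹ * y * s * q) * s⁻¹ := by rw [h1]
        _ = y * (s * q * s⁻¹) := by group
    rcases hsR q (hQR hq) with h1 | h1
    · exact Or.inl (hmemQ _ h1 hc)
    · refine Or.inr (hmemQ _ h1 fun y hy => ?_)
      exact ((show Commute t y from (sD.ct y hy).symm).mul_left (show Commute _ y from hc y hy)).eq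
  have hzA : z ∈ A := Or.inl sQ.zQ
  have htA : t ∈ A := Or.inr (by rw [h.tt]; exact Q.one_mem)
  have hsA : ∀ v ∈ A, s * v * s⁻¹ ∈ A := by
    rintro v (hv | hv)
    · exact hsQ v hv
    · have h1 := A.mul_mem (A.mul_mem htA hzA) (hsQ _ hv)
      have e : s * v * s⁻¹ = t * z * (s * (t * v) * s⁻¹) := by
        rw [← hst]
        calc s * v * s⁻¹ = s * ((t * t) * v) * s⁻¹ := by rw [h.tt, one_mul]
          _ = s * t * s⁻¹ * (s * (t * v) * s⁻¹) := by group
      rw [e]; exact h1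
  have hcen : ∀ x ∈ Z₀, (x = 1 ∨ x = z) ∨ (x = t ∨ x = t * z) := by
    rintro x (hx | hx)
    · exact Or.inl (hpz x hx)
    · right
      rcases hpz _ hx with e | e
      · left; rw [← h.tmul x, e, mul_one]
      · right; rw [← h.tmul x, e]
  have hz0 : z ∈ Z₀ := Or.inl (mem_zpowers _)
  have ht0 : t ∈ Z₀ := Or.inr (by rw [h.tt]; exact one_mem _)
  obtain ⟨v, hv, hvz, hsv⟩ : ∃ v ∈ A, v ∉ Z₀ ∧ v⁻¹ * (s * v * s⁻¹) ∈ Z₀ := by
    apply exists_coset (isPGroup_ext sQ.pQ) hs2 hsA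
    · obtain ⟨q, hq, h1, h2⟩ := sQ.exists_ne
      refine ⟨q, Or.inl hq, fun h3 => ?_⟩
      rcases hcen q h3 with (e | e) | (e | e)
      · exact h1 e
      · exact h2 e
      · exact h.tK (h.RK (hQR (e ▸ hq)))
      · apply h.tK
        have h4 := K.mul_mem (h.RK (hQR hq)) (K.inv_mem h.zK)
        rwa [e, mul_inv_cancel_right] at h4
    · intro x hx
      rcases hcen x hx with (rfl | rfl) | (rfl | rfl)
      · rw [mul_one, mul_inv_cancel]; exact one_mem _
      · rw [hsz, mul_inv_cancel_right]; exact hz0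
      · rw [hst]; exact Z₀.mul_mem ht0 hz0
      · have e : s * (t * z) * s⁻¹ = (s * t * s⁻¹) * (s * z * s⁻¹) := by group
        rw [e, hst, hsz, mul_inv_cancel_right, mul_assoc, h.zz, mul_one]; exact ht0
    · intro v hv x hx
      have hvt : Commute v t := ext_comm hv
      have hvz : Commute v z := by
        rcases hv with hv | hv
        · exact hzQ v hv
        · have h1 : Commute (t * (t * v)) z := (show Commute t z from hztz).mul_left (hzQ _ hv)
          rwa [h.tmul] at h1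
      rcases hcen x hx with (rfl | rfl) | (rfl | rfl)
      · rw [mul_one, mul_inv_cancel]; exact one_mem _
      · rw [hvz.eq, mul_inv_cancel_right]; exact hz0
      · rw [hvt.eq, mul_inv_cancel_right]; exact ht0
      · rw [(hvt.mul_right hvz).eq, mul_inv_cancel_right]; exact Z₀.mul_mem ht0 hz0
  obtain ⟨q, hq, hqz, hsq⟩ : ∃ q ∈ Q, q ∉ zpowers z ∧ q⁻¹ * (s * q * s⁻¹) ∈ Z₀ := by
    have hvt : Commute v t := ext_comm hv
    rcases hv with hv | hv
    · exact ⟨v, hv, fun h1 => hvz (Or.inl h1), hsv⟩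
    · refine ⟨t * v, hv, fun h1 => hvz (Or.inr h1), ?_⟩
      have e : (t * v)⁻¹ * (s * (t * v) * s⁻¹) = v⁻¹ * t⁻¹ * (s * t * s⁻¹) * (s * v * s⁻¹) := by group
      have e2 : t⁻¹ = t := inv_eq_of_mul_eq_one_right h.tt
      have hsvz : Commute (s * v * s⁻¹) z := by
        have hsz' : Commute s z := hsz
        have hvz' : Commute v z := by
          have h1 : Commute (t * (t * v)) z := (show Commute t z from hztz).mul_left (hzQ _ hv)
          rwa [h.tmul] at h1
        exact (hsz'.mul_left hvz').mul_left hsz'.inv_left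
      rw [e, hst, e2, mul_assoc v⁻¹, ← mul_assoc t, h.tt, one_mul, mul_assoc, ← hsvz.eq, ← mul_assoc]
      exact Z₀.mul_mem hsv hz0
  -- the involution `w`
  have hd1 : d ≠ 1 := fun e => hdz (e ▸ one_mem _)
  have hdz' : d ≠ z := fun e => hdz (e ▸ mem_zpowers _)
  have hq1 : q ≠ 1 := fun e => hqz (e ▸ one_mem _)
  have hqz' : q ≠ z := fun e => hqz (e ▸ mem_zpowers _)
  set w : G := q * d with hw
  have hqd : Commute q d := comm q hq d hd
  have hwR : w ∈ R := R.mul_mem (hQR hq) (hDR hd)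
  have hwK : w ∈ K := h.RK hwR
  have ww : w * w = 1 := by
    calc w * w = q * (d * q) * d := by rw [hw]; group
      _ = q * q * (d * d) := by rw [← hqd.eq]; group
      _ = 1 := by rw [sQ.sq q hq hq1 hqz', sD.sq d hd hd1 hdz', h.zz]
  have hwz : w ∉ zpowers z := by
    intro h1
    have h2 : q ∈ D := by
      have h3 : z ∈ D := sD.zQ
      have h4 : w ∈ D := by
        rcases hpz w h1 with e | e
        · rw [e]; exact D.one_mem
        · rw [e]; exact h3
      have h5 := D.mul_mem h4 (D.inv_mem hd)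
      rwa [hw, mul_inv_cancel_right] at h5
    rcases sQ.center hq (fun x hx => (comm x hx q h2).symm) with e | e
    · exact hq1 e
    · exact hqz' e
  have hw1 : w ≠ 1 := fun e => hwz (e ▸ one_mem _)
  have hwz' : w ≠ z := fun e => hwz (e ▸ mem_zpowers _)
  have hwzc : w * z = z * w := h.RP w hwR
  -- `w^s ∈ w ⟨t, z⟩`
  have hsw : w⁻¹ * (s * w * s⁻¹) ∈ Z₀ := by
    have hd0 : d⁻¹ * (s * d * s⁻¹) ∈ Z₀ := Or.inl hsd
    have hc : Commute d (q⁻¹ * (s * q * s⁻¹)) := by
      rcases hcen _ hsq with (e | e) | (e | e) <;> rw [e]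
      · exact Commute.one_right _
      · exact hzD d hd
      · exact sD.ct d hd
      · exact (show Commute d t from sD.ct d hd).mul_right (hzD d hd)
    have e : w⁻¹ * (s * w * s⁻¹) = (q⁻¹ * (s * q * s⁻¹)) * (d⁻¹ * (s * d * s⁻¹)) := by
      calc w⁻¹ * (s * w * s⁻¹) = d⁻¹ * (q⁻¹ * (s * q * s⁻¹)) * (s * d * s⁻¹) := by rw [hw]; group
        _ = (q⁻¹ * (s * q * s⁻¹)) * d⁻¹ * (s * d * s⁻¹) := by rw [hc.inv_left.eq]
        _ = _ := by group
    rw [e]; exact Z₀.mul_mem hsq hd0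
  -- `t x ~ t` for the involutions `x` of `K`
  have conj_t : ∀ x ∈ K, x * x = 1 → x ≠ 1 → ∃ g : G, g * t * g⁻¹ = t * x := by
    intro x hx hxx hx1
    obtain ⟨k, hk, hkx⟩ := one x hx hxx hx1
    refine ⟨k * s, ?_⟩
    have hkt : Commute k t := h.Kt k hk
    calc k * s * t * (k * s)⁻¹ = k * (s * t * s⁻¹) * k⁻¹ := by group
      _ = k * t * k⁻¹ * (k * z * k⁻¹) := by rw [hst]; group
      _ = t * x := by rw [hkt.eq, mul_inv_cancel_right, hkx]
  have conj_false : ∀ x ∈ K, x * x = 1 → x ≠ 1 → s * w * s⁻¹ ≠ t * x := by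
    intro x hx hxx hx1 e
    obtain ⟨g, hg⟩ := conj_t x hx hxx hx1
    obtain ⟨k, hk, hkw⟩ := one w hwK ww hw1
    apply nc ((s * k)⁻¹ * g)
    calc (s * k)⁻¹ * g * t * ((s * k)⁻¹ * g)⁻¹ = k⁻¹ * s⁻¹ * (g * t * g⁻¹) * s * k := by group
      _ = k⁻¹ * s⁻¹ * (s * w * s⁻¹) * s * k := by rw [hg, e]
      _ = k⁻¹ * w * k := by group
      _ = k⁻¹ * (k * z * k⁻¹) * k := by rw [hkw]
      _ = z := by group
  -- an element fixing `w`
  obtain ⟨g, hgt, hgz, hgw⟩ : ∃ g : G, g * t * g⁻¹ = t * z ∧ g * z = z * g ∧ g * w = w * g := by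
    rcases hcen _ hsw with (e | e) | (e | e)
    · refine ⟨s, hst, hsz, ?_⟩
      have h1 : s * w * s⁻¹ = w := (inv_mul_eq_one.1 e).symm
      exact mul_inv_eq_iff_eq_mul.1 h1
    · have h1 : s * w * s⁻¹ = w * z := by rw [← e]; group
      -- an element of `D` not commuting with `d`
      have hd' := sD.act d hd hd1 hdz'
      set y := b * d * b⁻¹ with hy
      have hyD : y ∈ D := sD.aQ d hd
      refine ⟨y * s, ?_, ?_, ?_⟩
      · have c1 : Commute y t := sD.ct y hyD
        have c2 : Commute y z := hzD y hyD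
        calc y * s * t * (y * s)⁻¹ = y * (s * t * s⁻¹) * y⁻¹ := by group
          _ = t * z := by rw [hst, (c1.mul_right c2).eq, mul_inv_cancel_right]
      · exact ((show Commute y z from hzD y hyD).mul_left (show Commute s z from hsz)).eq
      · have hyd : y * d * (y * d) = z := by
          apply sD.sq _ (D.mul_mem hyD hd)
          · intro e2
            apply hd'
            have h3 : y = d⁻¹ := eq_inv_of_mul_eq_one_left e2
            rw [h3, mul_inv_cancel, inv_mul_cancel]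
          · intro e2
            apply hd'
            have h3 : y = z * d⁻¹ := by rw [← e2]; group
            rw [h3]
            calc d * (z * d⁻¹) = z * d * d⁻¹ := by rw [← mul_assoc, hzD d hd]
              _ = z * d⁻¹ * d := by group
        have hzi : z⁻¹ = z := inv_eq_of_mul_eq_one_right h.zz
        have hyy : y * y = z := by
          apply sD.sq y hyD
          · intro e2; apply hd'; rw [e2, one_mul, mul_one]
          · intro e2; apply hd'; rw [e2]; exact hzD d hd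
        have hdd : d * d = z := sD.sq d hd hd1 hdz'
        have h3 : y * d * y⁻¹ = d * z := by
          have h4 : y * d * y = z * d⁻¹ := by rw [← hyd]; group
          calc y * d * y⁻¹ = y * d * y * (y * y)⁻¹ := by group
            _ = z * d⁻¹ * z := by rw [h4, hyy, hzi]
            _ = z * (d⁻¹ * z) := by group
            _ = z * (z * d⁻¹) := by rw [(show Commute d z from hzD d hd).inv_left.eq]
            _ = d⁻¹ := by rw [← mul_assoc, h.zz, one_mul]
            _ = d * (d * d)⁻¹ := by group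
            _ = d * z := by rw [hdd, hzi]
        have hyq : Commute q y := comm q hq y hyD
        have h4 : y * (w * z) * y⁻¹ = w := by
          calc y * (w * z) * y⁻¹ = y * q * d * z * y⁻¹ := by rw [hw]; group
            _ = q * (y * d * y⁻¹) * (y * z * y⁻¹) := by rw [← hyq.eq]; group
            _ = q * (d * z) * z := by rw [h3, hzD y hyD, mul_inv_cancel_right]
            _ = w := by rw [← mul_assoc, mul_assoc, h.zz, mul_one]
        have h5 : y * s * w * (y * s)⁻¹ = w := by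
          calc y * s * w * (y * s)⁻¹ = y * (s * w * s⁻¹) * y⁻¹ := by group
            _ = w := by rw [h1, h4]
        exact mul_inv_eq_iff_eq_mul.1 h5
    · exfalso
      have h1 : s * w * s⁻¹ = t * w := by
        have : s * w * s⁻¹ = w * t := by rw [← e]; group
        rw [this, h.Kt w hwK]
      exact conj_false w hwK ww hw1 h1
    · exfalso
      have h1 : s * w * s⁻¹ = t * (w * z) := by
        have : s * w * s⁻¹ = w * (t * z) := by rw [← e]; group
        rw [this, ← mul_assoc, h.Kt w hwK, mul_assoc]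
      refine conj_false (w * z) (K.mul_mem hwK h.zK) ?_ (fun e2 => hwz' ?_) h1
      · calc w * z * (w * z) = w * (z * w) * z := by group
          _ = w * w * (z * z) := by rw [← hwzc]; group
          _ = 1 := by rw [ww, h.zz, one_mul]
      · have := eq_inv_of_mul_eq_one_left e2
        rw [this]; exact inv_eq_of_mul_eq_one_right h.zz
  -- the kill
  obtain ⟨k, hk, hkw⟩ := one w hwK ww hw1
  have hsurj : ∀ y ∈ D, ∃ y' ∈ D, g * (k * y' * k⁻¹) * g⁻¹ = k * y * k⁻¹ := by
    intro y hy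
    have h0 : (k⁻¹ * g * k) * z = z * (k⁻¹ * g * k) := by
      have : z = k⁻¹ * w * k := by rw [← hkw]; group
      rw [this]
      calc k⁻¹ * g * k * (k⁻¹ * w * k) = k⁻¹ * (g * w) * k := by group
        _ = k⁻¹ * (w * g) * k := by rw [hgw]
        _ = k⁻¹ * w * k * (k⁻¹ * g * k) := by group
    have h1 : (k⁻¹ * g * k)⁻¹ * z = z * (k⁻¹ * g * k)⁻¹ := (show Commute _ z from h0).inv_left.eq
    refine ⟨_, hn _ h1 y hy, ?_⟩
    group
  have hcent : ∀ y ∈ D, k * y * k⁻¹ * z = z * (k * y * k⁻¹) := by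
    intro y hy
    obtain ⟨y', hy', e⟩ := hsurj y hy
    have hky' : k * y' * k⁻¹ ∈ K := K.mul_mem (K.mul_mem hk (h.RK (hDR hy'))) (K.inv_mem hk)
    have hky : k * y * k⁻¹ ∈ K := K.mul_mem (K.mul_mem hk (h.RK (hDR hy))) (K.inv_mem hk)
    have c1 : Commute (k * y' * k⁻¹) t := h.Kt _ hky'
    have c2 : Commute (k * y * k⁻¹) (t * z) := by
      rw [← e, ← hgt]
      show g * (k * y' * k⁻¹) * g⁻¹ * (g * t * g⁻¹) = g * t * g⁻¹ * (g * (k * y' * k⁻¹) * g⁻¹)
      calc g * (k * y' * k⁻¹) * g⁻¹ * (g * t * g⁻¹) = g * ((k * y' * k⁻¹) * t) * g⁻¹ := by group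
        _ = g * (t * (k * y' * k⁻¹)) * g⁻¹ := by rw [c1.eq]
        _ = _ := by group
    have c3 : Commute (k * y * k⁻¹) t := h.Kt _ hky
    have c4 := c3.mul_right c2
    rw [h.tmul] at c4
    exact c4.eq
  -- `u = z^{k⁻¹}`
  have hzw : z * w = w * z := hwzc.symm
  rcases inv (k⁻¹ * z * k) (K.mul_mem (K.mul_mem (K.inv_mem hk) h.zK) hk) (by
      have : z = k⁻¹ * w * k := by rw [← hkw]; group
      calc k⁻¹ * z * k * z = k⁻¹ * z * k * (k⁻¹ * w * k) := by rw [← this]
        _ = k⁻¹ * (z * w) * k := by group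
        _ = k⁻¹ * (w * z) * k := by rw [hzw]
        _ = k⁻¹ * w * k * (k⁻¹ * z * k) := by group
        _ = z * (k⁻¹ * z * k) := by rw [← this]) (by
      calc k⁻¹ * z * k * (k⁻¹ * z * k) = k⁻¹ * (z * z) * k := by group
        _ = 1 := by rw [h.zz]; group) (by
      intro y hy
      have h1 := hcent y hy
      calc k⁻¹ * z * k * y = k⁻¹ * (z * (k * y * k⁻¹)) * k := by group
        _ = k⁻¹ * (k * y * k⁻¹ * z) * k := by rw [h1]
        _ = y * (k⁻¹ * z * k) := by group) with e | e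
  · apply h.z1
    calc z = k * (k⁻¹ * z * k) * k⁻¹ := by group
      _ = 1 := by rw [e]; group
  · apply hwz'
    have h1 : k * z = z * k := by
      calc k * z = k * (k⁻¹ * z * k) := by rw [e]
        _ = z * k := by group
    rw [← hkw, h1, mul_inv_cancel_right]

end Cfsg.Agent.OddHalf.D6.QThree.NINorm

end

-- merged: Cfsg.Agent.OddHalf.D6.QThree.NIBridge
section

/-!
# ODD half, D6, `q = 3`: `E(C_G(z)) = 1` from the position (helper135)

`at_of_pos`: `Main.At z` for the position `FrontOut.Pos` (any outer part with `OLoc`), `at_of_loc`: for `Sit.Loc`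
(`C_G(t) = ⟨t⟩ × K`). K-facts: `NIFacts.Full z R`.
-/

set_option autoImplicit false

namespace Cfsg.Agent.OddHalf.D6.QThree.NIBridge

open Subgroup Cfsg
open Cfsg.Agent.OddHalf Cfsg.Agent.OddHalf.Iface
open Cfsg.Agent.OddHalf.D6.QThree.NIFacts
open Cfsg.Agent.OddHalf.D6.QThree.NISide
open Cfsg.Agent.OddHalf.D6.QThree.Outer (OLoc)

theorem Frame.lift {G : Type*} [Group G] {H : Subgroup G} {z i j k l a b : G} (f : Frame z i j k l a b)
    (hz : z ∈ H) (hi : i ∈ H) (hj : j ∈ H) (hk : k ∈ H) (hl : l ∈ H) (ha : a ∈ H) (hb : b ∈ H) :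
    Frame (⟨z, hz⟩ : ↥H) ⟨i, hi⟩ ⟨j, hj⟩ ⟨k, hk⟩ ⟨l, hl⟩ ⟨a, ha⟩ ⟨b, hb⟩ where
  zz := Subtype.ext f.zz
  z1 := fun e => f.z1 (congrArg Subtype.val e)
  iz := Subtype.ext f.iz
  jz := Subtype.ext f.jz
  kz := Subtype.ext f.kz
  lz := Subtype.ext f.lz
  ii := Subtype.ext f.ii
  jj := Subtype.ext f.jj
  kk := Subtype.ext f.kk
  ll := Subtype.ext f.ll
  ji := Subtype.ext f.ji
  lk := Subtype.ext f.lk
  ki := Subtype.ext f.ki
  li := Subtype.ext f.li
  kj := Subtype.ext f.kj
  lj := Subtype.ext f.lj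
  act_a := ⟨Subtype.ext f.act_a.z, Subtype.ext f.act_a.i, Subtype.ext f.act_a.j, Subtype.ext f.act_a.k,
    Subtype.ext f.act_a.l⟩
  act_b := ⟨Subtype.ext f.act_b.z, Subtype.ext f.act_b.i, Subtype.ext f.act_b.j, Subtype.ext f.act_b.k,
    Subtype.ext f.act_b.l⟩

variable {G : Type*} [Group G] {t z : G} {K R : Subgroup G}

/-- the centralizer of `R` in `C(t) ∩ C(z)` -/
theorem cR_of (h : OLoc t z K R) {g : G} (hgt : g * t = t * g) (hgz : g * z = z * g)
    (hg : ∀ r ∈ R, g * r = r * g) : g = 1 ∨ g = z ∨ g = t ∨ g = t * z := by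
  let B : Subgroup G :=
    { carrier := {x | x * t = t * x ∧ x * z = z * x ∧ ∀ r ∈ R, x * r = r * x}
      one_mem' := ⟨by rw [one_mul, mul_one], by rw [one_mul, mul_one], fun r _ => by rw [one_mul, mul_one]⟩
      mul_mem' := by
        rintro x y ⟨hx1, hx2, hx3⟩ ⟨hy1, hy2, hy3⟩
        exact ⟨(show Commute x t from hx1).mul_left hy1, (show Commute x z from hx2).mul_left hy2,
          fun r hr => (show Commute x r from hx3 r hr).mul_left (hy3 r hr)⟩
      inv_mem' := by
        rintro x ⟨hx1, hx2, hx3⟩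
        exact ⟨(show Commute x t from hx1).inv_left, (show Commute x z from hx2).inv_left,
          fun r hr => (show Commute x r from hx3 r hr).inv_left⟩ }
  have hnorm : ∀ x, x * t = t * x → x * z = z * x → ∀ y ∈ B, x * y * x⁻¹ ∈ B := by
    rintro x hxt hxz y ⟨hy1, hy2, hy3⟩
    refine ⟨?_, ?_, fun r hr => ?_⟩
    · exact ((show Commute x t from hxt).mul_left hy1).mul_left (show Commute x t from hxt).inv_left
    · exact ((show Commute x z from hxz).mul_left hy2).mul_left (show Commute x z from hxz).inv_left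
    · have h1 : x⁻¹ * r * x ∈ R := by
        have := h.nR x⁻¹ (show Commute x t from hxt).inv_left (show Commute x z from hxz).inv_left r hr
        rwa [inv_inv] at this
      have h2 := hy3 _ h1
      calc x * y * x⁻¹ * r = x * (y * (x⁻¹ * r * x)) * x⁻¹ := by group
        _ = x * (x⁻¹ * r * x * y) * x⁻¹ := by rw [h2]
        _ = r * (x * y * x⁻¹) := by group
  have hBK : ∀ y ∈ B, y ∈ K → y = 1 ∨ y = z := fun y hy hyK => h.cR y hyK hy.2.1 hy.2.2
  -- squares centralise `C_K(z)`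
  have hsq : ∀ y ∈ B, y * y = 1 ∨ y * y = z ∨ y * y = t ∨ y * y = t * z := by
    intro y hy
    apply h.oD _ ((show Commute y t from hy.1).mul_left hy.1)
    intro x hx hxz
    have h1 : y * x * y⁻¹ * x⁻¹ = 1 ∨ y * x * y⁻¹ * x⁻¹ = z := by
      apply hBK
      · have h2 := B.mul_mem hy (hnorm x (h.Kt x hx) hxz _ (B.inv_mem hy))
        have e : y * (x * y⁻¹ * x⁻¹) = y * x * y⁻¹ * x⁻¹ := by group
        rwa [e] at h2
      · exact K.mul_mem (h.nK y hy.1 x hx) (K.inv_mem hx)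
    have h3 : y * (y * x * y⁻¹) * y⁻¹ = x := by
      rcases h1 with h1 | h1
      · have h4 : y * x * y⁻¹ = x := mul_inv_eq_one.1 h1
        rw [h4, h4]
      · have h4 : y * x * y⁻¹ = z * x := by rw [← h1]; group
        have h5 : y * z * y⁻¹ = z := by rw [hy.2.1]; group
        have h6 : y * (z * x) * y⁻¹ = (y * z * y⁻¹) * (y * x * y⁻¹) := by group
        calc y * (y * x * y⁻¹) * y⁻¹ = y * (z * x) * y⁻¹ := by rw [h4]
          _ = (y * z * y⁻¹) * (y * x * y⁻¹) := h6
          _ = z * (z * x) := by rw [h5, h4]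
          _ = x := by rw [← mul_assoc, h.zz, one_mul]
    calc y * y * x = y * (y * x * y⁻¹) * y⁻¹ * (y * y) := by group
      _ = x * (y * y) := by rw [h3]
  have hB2 : IsPGroup 2 B := by
    rintro ⟨y, hy⟩
    refine ⟨2, Subtype.ext ?_⟩
    show y ^ 2 ^ 2 = 1
    have h1 : y ^ 2 ^ 2 = (y * y) * (y * y) := by
      rw [show (2 ^ 2 : ℕ) = 2 * 2 from rfl, pow_mul, pow_two, pow_two]
    rw [h1]
    rcases hsq y hy with e | e | e | e <;> rw [e]
    · rw [one_mul]
    · exact h.zz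
    · exact h.tt
    · have := h.comm
      calc t * z * (t * z) = t * (z * t) * z := by group
        _ = (t * t) * (z * z) := by rw [← this]; group
        _ = 1 := by rw [h.tt, h.zz, one_mul]
  have hgB : g ∈ B := ⟨hgt, hgz, hg⟩
  rcases h.oR B hB2 (fun n hn => hn.1) (fun n hn => hn.2.1) hnorm g hgB with h1 | h1
  · rcases h.cR g (h.RK h1) hgz hg with e | e
    · exact Or.inl e
    · exact Or.inr (Or.inl e)
  · have hzt := h.comm
    rcases h.cR (t * g) (h.RK h1) ((show Commute t z from hzt).mul_left hgz)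
        (fun r hr => ((show Commute t r from (h.Kt r (h.RK hr)).symm).mul_left (hg r hr))) with e | e
    · right; right; left
      rw [← h.tmul g, e, mul_one]
    · right; right; right
      rw [← h.tmul g, e]

/-- `NI.Hyp` in `C_G(z)` -/
theorem hyp [Finite G] (h : OLoc t z K R) {i j k l a b : G} (f : Frame z i j k l a b) (hR : R = closure {i, j, k, l})
    (hat : a * t = t * a) (hbt : b * t = t * b)
    (hO : pPrimeCore 2 ↥(centralizer ({z} : Set G)) = ⊥) :
    ∃ (a b : ↥(centralizer ({z} : Set G))) (Q₁ Q₂ : Subgroup ↥(centralizer ({z} : Set G))),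
      NI.Hyp (⟨z, mem_centralizer_singleton_iff.2 rfl⟩ : ↥(centralizer ({z} : Set G)))
        ⟨t, mem_centralizer_singleton_iff.2 h.comm⟩ a b Q₁ Q₂ ∧
      (∀ y : ↥(centralizer ({z} : Set G)), y ∈ Q₁ ↔ (y : G) ∈ f.Q₁) ∧
      (∀ y : ↥(centralizer ({z} : Set G)), y ∈ Q₂ ↔ (y : G) ∈ f.Q₂) := by
  set X : Subgroup G := centralizer ({z} : Set G) with hX
  have hRX : R ≤ X := fun r hr => mem_centralizer_singleton_iff.2 (h.RP r hr)
  have hsub : ∀ x ∈ ({i, j, k, l} : Set G), x ∈ R := fun x hx => by rw [hR]; exact subset_closure hx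
  have hi : i ∈ R := hsub i (by simp)
  have hj : j ∈ R := hsub j (by simp)
  have hk : k ∈ R := hsub k (by simp)
  have hl : l ∈ R := hsub l (by simp)
  have haz : a ∈ X := mem_centralizer_singleton_iff.2 (mul_inv_eq_iff_eq_mul.1 f.act_a.z)
  have hbz : b ∈ X := mem_centralizer_singleton_iff.2 (mul_inv_eq_iff_eq_mul.1 f.act_b.z)
  set z' : ↥X := ⟨z, mem_centralizer_singleton_iff.2 rfl⟩ with hz'
  set t' : ↥X := ⟨t, mem_centralizer_singleton_iff.2 h.comm⟩ with ht'
  have F : Frame z' (⟨i, hRX hi⟩ : ↥X) ⟨j, hRX hj⟩ ⟨k, hRX hk⟩ ⟨l, hRX hl⟩ ⟨a, haz⟩ ⟨b, hbz⟩ :=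
    Frame.lift f _ _ _ _ _ _ _
  set i' : ↥X := ⟨i, hRX hi⟩ with hi'
  set j' : ↥X := ⟨j, hRX hj⟩ with hj'
  set k' : ↥X := ⟨k, hRX hk⟩ with hk'
  set l' : ↥X := ⟨l, hRX hl⟩ with hl'
  set a' : ↥X := ⟨a, haz⟩ with ha'
  set b' : ↥X := ⟨b, hbz⟩ with hb'
  have hmem : ∀ x : ↥X, x ∈ closure ({i', j', k', l'} : Set ↥X) ↔ (x : G) ∈ R := by
    intro x
    have h1 : (closure ({i', j', k', l'} : Set ↥X)).map X.subtype = R := by
      rw [hR, MonoidHom.map_closure]
      congr 1
      simp [Set.image_insert_eq, hi', hj', hk', hl']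
    constructor
    · intro hx
      rw [← h1]; exact ⟨x, hx, rfl⟩
    · intro hx
      rw [← h1] at hx
      obtain ⟨y, hy, hyx⟩ := hx
      have : y = x := Subtype.ext hyx
      rwa [← this]
  have zc : ∀ x : ↥X, x * z' = z' * x := fun x => Subtype.ext (mem_centralizer_singleton_iff.1 x.2)
  have tt : t' * t' = 1 := Subtype.ext h.tt
  have ct : ∀ r ∈ R, r * t = t * r := fun r hr => h.Kt r (h.RK hr)
  have nor : ∀ g : ↥X, g * t' = t' * g → ∀ r ∈ closure ({i', j', k', l'} : Set ↥X),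
      g * r * g⁻¹ ∈ closure ({i', j', k', l'} : Set ↥X) := by
    intro g hg r hr
    rw [hmem] at hr ⊢
    exact h.nR g (congrArg Subtype.val hg) (mem_centralizer_singleton_iff.1 g.2) r hr
  have cR : ∀ g : ↥X, g * t' = t' * g → (∀ x ∈ F.Q₁, g * x = x * g) → (∀ y ∈ F.Q₂, g * y = y * g) →
      g = 1 ∨ g = z' ∨ g = t' ∨ g = t' * z' := by
    intro g hg h1 h2
    rcases cR_of h (congrArg Subtype.val hg) (mem_centralizer_singleton_iff.1 g.2) (by
      intro r hr
      have hr' : (⟨r, hRX hr⟩ : ↥X) ∈ closure ({i', j', k', l'} : Set ↥X) := (hmem _).2 hr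
      obtain ⟨x, hx, y, hy, e⟩ := F.exists_mul hr'
      have h3 : g * (⟨r, hRX hr⟩ : ↥X) = ⟨r, hRX hr⟩ * g := by
        rw [e]; exact (show Commute g x from h1 x hx).mul_right (h2 y hy)
      exact congrArg Subtype.val h3) with e | e | e | e
    · exact Or.inl (Subtype.ext e)
    · exact Or.inr (Or.inl (Subtype.ext e))
    · exact Or.inr (Or.inr (Or.inl (Subtype.ext e)))
    · exact Or.inr (Or.inr (Or.inr (Subtype.ext e)))
  have hone : ∀ x : ↥X, x * 1 = 1 * x := fun x => by rw [one_mul, mul_one]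
  have hmem₁ : ∀ y : ↥X, y ∈ F.Q₁ ↔ (y : G) ∈ f.Q₁ := by
    intro y
    have h1 : F.Q₁.map X.subtype = f.Q₁ := by
      rw [F.Q₁_eq, f.Q₁_eq, MonoidHom.map_closure]
      congr 1
      simp [Set.image_insert_eq, hi', hj']
    rw [← h1]
    constructor
    · intro hy
      exact ⟨y, hy, rfl⟩
    · rintro ⟨x, hx, hxy⟩
      have : x = y := Subtype.ext hxy
      rwa [← this]
  have hmem₂ : ∀ y : ↥X, y ∈ F.Q₂ ↔ (y : G) ∈ f.Q₂ := by
    intro y
    have h1 : F.Q₂.map X.subtype = f.Q₂ := by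
      rw [F.Q₂_eq, f.Q₂_eq, MonoidHom.map_closure]
      congr 1
      simp [Set.image_insert_eq, hk', hl']
    rw [← h1]
    constructor
    · intro hy
      exact ⟨y, hy, rfl⟩
    · rintro ⟨x, hx, hxy⟩
      have : x = y := Subtype.ext hxy
      rwa [← this]
  refine ⟨a', b', F.Q₁, F.Q₂,
    { zc := zc
      zz := F.zz
      z1 := F.z1
      tt := tt
      t1 := fun e => h.t1 (congrArg Subtype.val e)
      tz := fun e => h.tK (by
        have e1 : t = z := congrArg Subtype.val e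
        rw [e1]; exact h.zK)
      O := hO
      sol := NISolv.solvable F zc tt nor cR (F.side₁ (hone _) (hone _) (hone _) (hone _) (hone _))
        (F.side₂ (hone _) (hone _) (hone _) (hone _) (hone _))
      s₁ := F.side₁ (Subtype.ext (ct i hi)) (Subtype.ext (ct j hj)) (Subtype.ext (ct k hk)) (Subtype.ext (ct l hl))
        (Subtype.ext hat)
      s₂ := F.side₂ (Subtype.ext (ct i hi)) (Subtype.ext (ct j hj)) (Subtype.ext (ct k hk)) (Subtype.ext (ct l hl))
        (Subtype.ext hbt)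
      comm := F.comm
      nor := by
        intro g hg x hx y hy
        exact F.exists_mul (nor g hg _ (mul_mem (F.le₁ hx) (F.le₂ hy)))
      cR := cR
      rad := ?_ }, hmem₁, hmem₂⟩
  intro N hNt hN2 hNn n hn
  have h1 := h.oR (N.map X.subtype) (hN2.map _) (by
      rintro _ ⟨y, hy, rfl⟩
      exact congrArg Subtype.val (hNt y hy)) (by
      rintro _ ⟨y, -, rfl⟩
      exact mem_centralizer_singleton_iff.1 y.2) (by
      rintro g hgt hgz _ ⟨y, hy, rfl⟩
      exact ⟨_, hNn ⟨g, mem_centralizer_singleton_iff.2 hgz⟩ (Subtype.ext hgt) y hy, rfl⟩) n ⟨n, hn, rfl⟩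
  rcases h1 with h1 | h1
  · obtain ⟨x, hx, y, hy, e⟩ := F.exists_mul ((hmem n).2 h1)
    exact ⟨x, hx, y, hy, Or.inl e⟩
  · obtain ⟨x, hx, y, hy, e⟩ := F.exists_mul ((hmem (t' * n)).2 h1)
    refine ⟨x, hx, y, hy, Or.inr ?_⟩
    rw [← e, ← mul_assoc, tt, one_mul]

/-- `C_G(t) = ⟨t⟩ × K` -/
theorem oloc_of_loc [Finite G] (h : Sit.Loc t z K R) : OLoc t z K R where
  tt := h.tt
  tK := h.tK
  Kt := h.Kt
  nK := by
    intro g hg x hx
    rcases h.cen g hg with h1 | h1
    · exact K.mul_mem (K.mul_mem h1 hx) (K.inv_mem h1)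
    · have h2 := K.mul_mem (K.mul_mem h1 hx) (K.inv_mem h1)
      have c1 : Commute t (g * x * g⁻¹) := by
        have c2 : Commute g t := hg
        have c3 : Commute x t := h.Kt x hx
        exact ((c2.mul_left c3).mul_left c2.inv_left).symm
      have e : t * g * x * (t * g)⁻¹ = g * x * g⁻¹ := by
        calc t * g * x * (t * g)⁻¹ = t * (g * x * g⁻¹) * t⁻¹ := by group
          _ = g * x * g⁻¹ := by rw [c1.eq]; group
      rwa [e] at h2
  zK := h.zK
  RK := h.RK
  zz := h.zz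
  z1 := h.z1
  zR := h.zR
  pR := h.pR
  RP := h.RP
  nR := by
    intro g hg hgz r hr
    rcases h.cen g hg with h1 | h1
    · exact h.nR g h1 hgz r hr
    · have c2 : Commute g t := hg
      have h2 := h.nR (t * g) h1 ((show Commute t z from h.comm).mul_left hgz) r hr
      have c3 : Commute r t := h.Kt r (h.RK hr)
      have c1 : Commute t (g * r * g⁻¹) := ((c2.mul_left c3).mul_left c2.inv_left).symm
      have e : t * g * r * (t * g)⁻¹ = g * r * g⁻¹ := by
        calc t * g * r * (t * g)⁻¹ = t * (g * r * g⁻¹) * t⁻¹ := by group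
          _ = g * r * g⁻¹ := by rw [c1.eq]; group
      rwa [e] at h2
  cR := h.cR
  ab := h.ab
  oR := by
    intro N hN hNt hNz hn n hnN
    have key : ∀ k ∈ K, (k ∈ N ∨ t * k ∈ N) → k ∈ R := fun k hk hkN =>
      Core.proj_mem h hN hNz (fun g hg hgz => hn g (h.Kt g hg) hgz) hk hkN
    rcases h.cen n (hNt n hnN) with h1 | h1
    · exact Or.inl (key n h1 (Or.inl hnN))
    · exact Or.inr (key _ h1 (Or.inr (by rw [h.tmul]; exact hnN)))
  oD := by
    intro g hg hgP
    have hgz : g * z = z * g := hgP z h.zK rfl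
    have hgR : ∀ r ∈ R, g * r = r * g := fun r hr => hgP r (h.RK hr) (h.RP r hr)
    rcases h.cen g hg with h1 | h1
    · rcases h.cR g h1 hgz hgR with e | e
      · exact Or.inl e
      · exact Or.inr (Or.inl e)
    · rcases h.cR (t * g) h1 ((show Commute t z from h.comm).mul_left hgz)
          (fun r hr => (show Commute t r from (h.Kt r (h.RK hr)).symm).mul_left (hgR r hr)) with e | e
      · right; right; left
        rw [← h.tmul g, e, mul_one]
      · right; right; right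
        rw [← h.tmul g, e]

/-- the facts on `K`, in `G` -/
def GN (z : G) (K : Subgroup G) (i j k l : G) : Prop :=
  (∃ s, s * z = z * s ∧ s * i * s⁻¹ = k) ∨
  ((∀ p ∈ K, p * p = 1 → p ≠ 1 → ∃ g ∈ K, g * z * g⁻¹ = p) ∧
    (∀ u ∈ K, u * z = z * u → u * u = 1 → u * i = i * u → u * j = j * u → u = 1 ∨ u = z) ∧
    ∀ u ∈ K, u * z = z * u → u * u = 1 → u * k = k * u → u * l = l * u → u = 1 ∨ u = z)

/-- `Q₁` is not normal in `C_G(z)` -/
theorem not_normal₁ [Finite G] (h : OLoc t z K R) (nc : ∀ g : G, g * t * g⁻¹ ≠ z)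
    (sw : ∃ s : G, s * t * s⁻¹ = t * z ∧ s * z * s⁻¹ = z) {i j k l a b : G} (f : Frame z i j k l a b)
    (hR : R = closure {i, j, k, l}) (hat : a * t = t * a) (hbt : b * t = t * b) (N : GN z K i j k l)
    (hn : ∀ g, g * z = z * g → ∀ y ∈ f.Q₁, g * y * g⁻¹ ∈ f.Q₁) : False := by
  have hsub : ∀ x ∈ ({i, j, k, l} : Set G), x * t = t * x := fun x hx =>
    h.Kt x (h.RK (by rw [hR]; exact subset_closure hx))
  have s₁ := f.side₁ (hsub i (by simp)) (hsub j (by simp)) (hsub k (by simp)) (hsub l (by simp)) hat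
  have s₂ := f.side₂ (hsub i (by simp)) (hsub j (by simp)) (hsub k (by simp)) (hsub l (by simp)) hbt
  rcases N with ⟨s, hs, hi⟩ | ⟨h1, h2, h3⟩
  · have h4 := hn s hs i f.mem_i₁
    rw [hi] at h4
    rcases s₂.center f.mem_k₂ (fun q hq => f.comm _ h4 q hq) with e | e
    · have := f.kk
      rw [e, one_mul] at this
      exact f.z1 this.symm
    · have := f.kk
      rw [e, f.zz] at this
      exact f.z1 this.symm
  · refine NINorm.not_normal h nc sw s₂ s₁ (fun x hx y hy => (f.comm y hy x hx).symm)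
      (by rw [hR]; exact f.le₂) (by rw [hR]; exact f.le₁) ?_ h1 ?_ hn
    · intro r hr
      rw [hR] at hr
      obtain ⟨x, hx, y, hy, e⟩ := f.exists_mul hr
      exact ⟨y, hy, x, hx, by rw [e, f.comm x hx y hy]⟩
    · intro u hu huz huu hc
      exact h2 u hu huz huu (hc i f.mem_i₁) (hc j f.mem_j₁)

theorem not_normal₂ [Finite G] (h : OLoc t z K R) (nc : ∀ g : G, g * t * g⁻¹ ≠ z)
    (sw : ∃ s : G, s * t * s⁻¹ = t * z ∧ s * z * s⁻¹ = z) {i j k l a b : G} (f : Frame z i j k l a b)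
    (hR : R = closure {i, j, k, l}) (hat : a * t = t * a) (hbt : b * t = t * b) (N : GN z K i j k l)
    (hn : ∀ g, g * z = z * g → ∀ y ∈ f.Q₂, g * y * g⁻¹ ∈ f.Q₂) : False := by
  have hsub : ∀ x ∈ ({i, j, k, l} : Set G), x * t = t * x := fun x hx =>
    h.Kt x (h.RK (by rw [hR]; exact subset_closure hx))
  have s₁ := f.side₁ (hsub i (by simp)) (hsub j (by simp)) (hsub k (by simp)) (hsub l (by simp)) hat
  have s₂ := f.side₂ (hsub i (by simp)) (hsub j (by simp)) (hsub k (by simp)) (hsub l (by simp)) hbt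
  rcases N with ⟨s, hs, hi⟩ | ⟨h1, h2, h3⟩
  · have h4 := hn s⁻¹ (show Commute s z from hs).inv_left.eq k f.mem_k₂
    have e0 : s⁻¹ * k * s⁻¹⁻¹ = i := by rw [← hi]; group
    rw [e0] at h4
    rcases s₁.center f.mem_i₁ (fun q hq => (f.comm q hq _ h4).symm) with e | e
    · have := f.ii
      rw [e, one_mul] at this
      exact f.z1 this.symm
    · have := f.ii
      rw [e, f.zz] at this
      exact f.z1 this.symm
  · refine NINorm.not_normal h nc sw s₁ s₂ f.comm
      (by rw [hR]; exact f.le₁) (by rw [hR]; exact f.le₂) ?_ h1 ?_ hn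
    · intro r hr
      rw [hR] at hr
      exact f.exists_mul hr
    · intro u hu huz huu hc
      exact h3 u hu huz huu (hc k f.mem_k₂) (hc l f.mem_l₂)

universe u

/-- **`E(C_G(z)) = 1`** -/
theorem layer_eq_bot {G : Type u} [Group G] (hGW : SylowSp4.Hyps.GW.{u}) (hI : CaseM.Intr.{u})
    (hS : CaseM.IntrSign.{u}) (C : Ctx G) {t z : G} {K R : Subgroup G} (h : OLoc t z K R)
    (nc : ∀ g : G, g * t * g⁻¹ ≠ z) (sw : ∃ s : G, s * t * s⁻¹ = t * z ∧ s * z * s⁻¹ = z)
    (hex : ∃ i j k l a b : G, Frame z i j k l a b ∧ R = closure {i, j, k, l} ∧ a * t = t * a ∧ b * t = t * b ∧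
      GN z K i j k l)
    (hcom : (⟨t, mem_centralizer_singleton_iff.2 h.comm⟩ : ↥(centralizer ({z} : Set G))) ∈
      commutator ↥(centralizer ({z} : Set G))) :
    pPrimeCore 2 ↥(centralizer ({z} : Set G)) = ⊥ ∧ layer ↥(centralizer ({z} : Set G)) = ⊥ := by
  have hfin := C.fin
  have hz : orderOf z = 2 := orderOf_eq_prime (by rw [pow_two]; exact h.zz) h.z1
  have hO : pPrimeCore 2 ↥(centralizer ({z} : Set G)) = ⊥ := Soft.core_eq_bot (C.bal _ hz)
  refine ⟨hO, ?_⟩
  obtain ⟨i, j, k, l, a, b, f, hR, hat, hbt, N⟩ := hex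
  obtain ⟨a', b', Q₁, Q₂, H, hm₁, hm₂⟩ := hyp h f hR hat hbt hO
  have hcz : ∀ Q : Subgroup G, Q ≤ R → ∀ y ∈ Q, y * z = z * y := fun Q hQ y hy => h.RP y (hQ hy)
  rw [Cfsg.Agent.SignalizersComponents.ComponentExists.layer_eq_bot_iff]
  intro M
  refine NIEnd.noComp hGW hI hS C hz h.comm rfl rfl H ?_ ?_ hcom M
  · intro hn
    refine not_normal₁ h nc sw f hR hat hbt N fun g hg y hy => ?_
    have hyz := hcz f.Q₁ (by rw [hR]; exact f.le₁) y hy
    have h1 := hn.conj_mem ⟨y, mem_centralizer_singleton_iff.2 hyz⟩ ((hm₁ _).2 hy)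
      ⟨g, mem_centralizer_singleton_iff.2 hg⟩
    exact (hm₁ _).1 h1
  · intro hn
    refine not_normal₂ h nc sw f hR hat hbt N fun g hg y hy => ?_
    have hyz := hcz f.Q₂ (by rw [hR]; exact f.le₂) y hy
    have h1 := hn.conj_mem ⟨y, mem_centralizer_singleton_iff.2 hyz⟩ ((hm₂ _).2 hy)
      ⟨g, mem_centralizer_singleton_iff.2 hg⟩
    exact (hm₂ _).1 h1

theorem exists_frame {G : Type*} [Group G] {t : G} {K : Subgroup G} {z : ↥K} {R : Subgroup ↥K}
    (hKt : ∀ x ∈ K, x * t = t * x) (f : NIFacts.Full z R) : ∃ i j k l a b : G, Frame (z : G) i j k l a b ∧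
      R.map K.subtype = closure {i, j, k, l} ∧ a * t = t * a ∧ b * t = t * b ∧ GN (z : G) K i j k l := by
  obtain ⟨i, j, k, l, a, b, hF, hR, hN⟩ := f
  refine ⟨i, j, k, l, a, b, hF.map K.subtype K.subtype_injective, ?_, hKt a a.2, hKt b b.2, ?_⟩
  · rw [hR, MonoidHom.map_closure]
    congr 1
    simp [Set.image_insert_eq]
  · rcases hN with ⟨s, hs, hi⟩ | ⟨h1, h2, h3⟩
    · exact Or.inl ⟨s, congrArg Subtype.val hs, congrArg Subtype.val hi⟩
    · right
      refine ⟨fun p hp hpp hp1 => ?_, fun u hu huz huu e1 e2 => ?_, fun u hu huz huu e1 e2 => ?_⟩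
      · obtain ⟨g, hg⟩ := h1 ⟨p, hp⟩ (Subtype.ext hpp) (fun e => hp1 (congrArg Subtype.val e))
        exact ⟨g, g.2, congrArg Subtype.val hg⟩
      · rcases h2 ⟨u, hu⟩ (Subtype.ext huz) (Subtype.ext huu) (Subtype.ext e1) (Subtype.ext e2) with e | e
        · exact Or.inl (congrArg Subtype.val e)
        · exact Or.inr (congrArg Subtype.val e)
      · rcases h3 ⟨u, hu⟩ (Subtype.ext huz) (Subtype.ext huu) (Subtype.ext e1) (Subtype.ext e2) with e | e
        · exact Or.inl (congrArg Subtype.val e)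
        · exact Or.inr (congrArg Subtype.val e)

/-- the position with an outer part -/
theorem at_of_pos {G : Type u} [Group G] (hGW : SylowSp4.Hyps.GW.{u}) (hI : CaseM.Intr.{u})
    (hS : CaseM.IntrSign.{u}) (C : Ctx G) {t : G} {K : Subgroup G} {z : ↥K} {R : Subgroup ↥K}
    (p : FrontOut.Pos K t z R) (f : NIFacts.Full z R) : Main.At (z : G) := by
  obtain ⟨h1, h2⟩ := layer_eq_bot hGW hI hS C p.oloc p.nc p.sw (exists_frame p.oloc.Kt f) p.tH
  refine ⟨h1, ?_⟩
  rw [h2, mem_bot]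
  intro e
  exact p.oloc.z1 (congrArg Subtype.val e)

/-- the clean case -/
theorem at_of_cen {G : Type u} [Group G] (hGW : SylowSp4.Hyps.GW.{u}) (hI : CaseM.Intr.{u})
    (hS : CaseM.IntrSign.{u}) (C : Ctx G) {t : G} {K : Subgroup G} {z : ↥K} {R : Subgroup ↥K}
    (hC : Main.Cen t K) (b : Facts.Base z R) (f : NIFacts.Full z R) : Main.At (z : G) := by
  have hfin := C.fin
  have L := Sit.Loc.of_base hC.tt hC.tK hC.Kt hC.cen b
  obtain ⟨hs, hn, hc⟩ := L.start (Front.FE.commutator_eq_top C)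
  obtain ⟨h1, h2⟩ := layer_eq_bot hGW hI hS C (oloc_of_loc L) hn hs (exists_frame hC.Kt f) hc
  refine ⟨h1, ?_⟩
  rw [h2, mem_bot]
  intro e
  exact L.z1 (congrArg Subtype.val e)

/-- **The row**: one class of involutions, `|Out(K)| ≤ 2` -/
theorem row_cls {G : Type u} [Group G] (hGW : SylowSp4.Hyps.GW.{u}) (hI : CaseM.Intr.{u})
    (hS : CaseM.IntrSign.{u}) (hG : Ctx G) {K : Subgroup G} (hK : Std G K)
    (hC : Cyc K) {z : ↥K} {R : Subgroup ↥K} (f : FactsOut.Cls z R) (a : FactsOut.Aut z R)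
    (n : NIFacts.Full z R) : False := by
  have := hG.fin
  obtain ⟨t, q, st⟩ := Front.FE.exists_start hG hK hC (FrontOut.center_eq_bot f)
  have E : FrontOut.Emb K t q z R := ⟨st, f.toBase, a⟩
  exact FrontOut.false_of_cls (Front.FE.commutator_eq_top hG) (Front.FE.index_ne_two hG) st f a
    (at_of_pos hGW hI hS hG (E.pos (Front.FE.commutator_eq_top hG) (Front.FE.index_ne_two hG)) n)

end Cfsg.Agent.OddHalf.D6.QThree.NIBridge

end

-- merged: Cfsg.Agent.OddHalf.D6.QThree.RowG2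
section

/-!
# ODD half, D6, `q = 3`: the row `G₂(3)` (helper143; K-facts: helper618)

`row`: the field `g2` of `D6.Cut.Three`.
-/

set_option autoImplicit false

namespace Cfsg.Agent.OddHalf.D6.QThree.RowG2

open Subgroup Cfsg Cfsg.Lie Cfsg.Agent.OddHalf Cfsg.Agent.OddHalf.Iface
open Cfsg.Agent.OddHalf.D6.QThree.G23Out

theorem exists_full : ∃ (z : ↥Cfsg.Agent.GTwoThree.Model.Gp) (R : Subgroup ↥Cfsg.Agent.GTwoThree.Model.Gp), FactsOut.Cls z R ∧ FactsOut.Aut z R ∧
    NIFacts.Full z R :=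
  ⟨_, _, cls words2, aut words2, NICase.of_case9c (C words2) (cls words2).one⟩

/-- the K-facts of the row -/
theorem exists_all {K : Type*} [Group K] (F : Type) [Field F] [Fintype F] (hF : Fintype.card F = 3)
    (e : K ≃* ↥(chevG2.group F)) : ∃ (z : K) (R : Subgroup K), FactsOut.Cls z R ∧ FactsOut.Aut z R ∧
      NIFacts.Full z R := by
  have h3 : Fintype.card (ZMod 3) = Fintype.card F := by rw [hF]; rfl
  let φ : ZMod 3 ≃+* F := FiniteField.ringEquivOfCardEq h3
  obtain ⟨z, R, h, h', h''⟩ := exists_full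
  exact ⟨_, _, h.map ((Cfsg.Agent.ChevalleyStructure.FieldIso.groupEquiv chevG2 φ).trans e.symm),
    h'.map ((Cfsg.Agent.ChevalleyStructure.FieldIso.groupEquiv chevG2 φ).trans e.symm),
    h''.map ((Cfsg.Agent.ChevalleyStructure.FieldIso.groupEquiv chevG2 φ).trans e.symm)⟩

universe u

/-- **The row `G₂(3)`** (the field `g2` of `D6.Cut.Three`) -/
theorem row (hGW : SylowSp4.Hyps.GW.{u}) (hI : CaseM.Intr.{u}) (hS : CaseM.IntrSign.{u}) :
    D6.Cut.Row.{u} (fun X _ => LieOddFam.FG2 X 3) := by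
  intro G _ hG K hK hC _ hX
  obtain ⟨F, _, _, hF, ⟨e⟩⟩ := hX
  obtain ⟨z, R, f, a, n⟩ := exists_all F hF e
  exact NIBridge.row_cls hGW hI hS hG hK hC f a n

end Cfsg.Agent.OddHalf.D6.QThree.RowG2

end
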