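import Cfsg.Agent.OddHalf.D6.QThree.Outer
import Cfsg.Agent.OddHalf.D8.CaseX
import Cfsg.Agent.ClassificationK.Extraspecial
import Cfsg.Agent.OddHalf.D6.QThree.FrontOut

-- merged: Cfsg.Agent.OddHalf.D6.QThree.Extra
section

/-!
# ODD half, D6, `q = 3`: `[F, t] ≤ ⟨z⟩` (helper143)

K-free. `Data t z` (`Abs.lean`), `F` a self-centralising normal 2-subgroup of `C(z)` with `t ∈ F`, all characters
`C(z) → ±1` trivial on `t`, `t` not conjugate to `z`. Then `⟨t, z⟩` is normal in `C(z)` or the abelian subgroups of `F`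
normal in `C(z)` lie in `⟨z⟩` and `F` is extraspecial. In particular `F` normalises `⟨t, z⟩` (`comm_t`).
-/

set_option autoImplicit false

namespace Cfsg.Agent.OddHalf.D6.QThree.Abs.Data

open Subgroup Cfsg Cfsg.Agent.OddHalf.D6.QThree.Core

variable {G : Type*} [Group G] {t z : G} {F : Subgroup G}

theorem hlam (h : Data t z) (htc : (⟨t, mem_centralizer_singleton_iff.2 h.comm⟩ : centralizer ({z} : Set G)) ∈
      _root_.commutator (centralizer ({z} : Set G))) (φ : centralizer ({z} : Set G) →* ℤˣ) :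
    φ ⟨t, mem_centralizer_singleton_iff.2 h.comm⟩ = 1 := by
  have h2 : _root_.commutator (centralizer ({z} : Set G)) ≤ φ.ker := by
    rw [_root_.commutator_def, commutator_le]
    intro a _ b _
    rw [MonoidHom.mem_ker, commutatorElement_def, map_mul, map_mul, map_mul, map_inv, map_inv,
      mul_comm (φ a) (φ b), mul_assoc (φ b), mul_inv_cancel, mul_one, mul_inv_cancel]
  exact h2 htc

/-- the abelian subgroups of `F` normal in `C(z)` -/
theorem abelian_F [Finite G] (h : Data t z) (hF : IsF z F) (nc : ∀ g, g * t * g⁻¹ ≠ z)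
    (hlam : ∀ φ : centralizer ({z} : Set G) →* ℤˣ, φ ⟨t, mem_centralizer_singleton_iff.2 h.comm⟩ = 1)
    (hnot : ∃ g, g * z = z * g ∧ g * t * g⁻¹ ≠ t ∧ g * t * g⁻¹ ≠ t * z)
    {B : Subgroup G} (hB : B ≤ F) (hab : ∀ a ∈ B, ∀ b ∈ B, a * b = b * a)
    (hBn : ∀ g, g * z = z * g → ∀ b ∈ B, g * b * g⁻¹ ∈ B) : ∀ b ∈ B, b = 1 ∨ b = z := by
  have hzt := h.comm
  have h4 : ∀ b ∈ B, b * t = t * b → (b = 1 ∨ b = z) ∨ (b = t ∨ b = t * z) := by
    intro b hb hbt
    refine h.abel (B ⊓ centralizer ({t} : Set G)) (hF.pF.to_le (inf_le_left.trans hB))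
      (fun b hb => mem_centralizer_singleton_iff.1 hb.2) (fun b hb => hF.le b (hB hb.1))
      (fun a ha b hb => hab a ha.1 b hb.1) ?_ b ⟨hb, mem_centralizer_singleton_iff.2 hbt⟩
    intro g hgt hgz b hb
    have c1 : Commute g t := hgt
    have c2 : Commute b t := mem_centralizer_singleton_iff.1 hb.2
    exact ⟨hBn g hgz b hb.1, mem_centralizer_singleton_iff.2 ((c1.mul_left c2).mul_left c1.inv_left)⟩
  have hgz1 : ∀ g, g * z = z * g → g * z * g⁻¹ = z := fun g hg => by rw [hg]; group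
  have htB : t ∉ B := by
    intro htB
    obtain ⟨g, hgz, hg1, hg2⟩ := hnot
    have h5 := hBn g hgz t htB
    rcases h4 _ h5 (hab _ h5 _ htB) with (h6 | h6) | h6 | h6
    · exact h.t1 (conj_eq_one_iff.1 h6)
    · exact nc g h6
    · exact hg1 h6
    · exact hg2 h6
  have htzB : t * z ∉ B := by
    intro htB
    obtain ⟨g, hgz, hg1, hg2⟩ := hnot
    have h5 := hBn g hgz _ htB
    have e : g * (t * z) * g⁻¹ = g * t * g⁻¹ * z := by
      calc g * (t * z) * g⁻¹ = (g * t * g⁻¹) * (g * z * g⁻¹) := by group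
        _ = g * t * g⁻¹ * z := by rw [hgz1 g hgz]
    have hc : (g * (t * z) * g⁻¹) * t = t * (g * (t * z) * g⁻¹) := by
      have c1 : Commute (g * (t * z) * g⁻¹) (t * z) := hab _ h5 _ htB
      have c2 : Commute (g * (t * z) * g⁻¹) z := hF.le _ (hB h5)
      have c3 := c1.mul_right c2
      have e2 : t * z * z = t := by rw [mul_assoc, h.zz, mul_one]
      rwa [e2] at c3
    have hcan : ∀ x : G, g * t * g⁻¹ * z = x → g * t * g⁻¹ = x * z := by
      rintro x rfl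
      rw [mul_assoc _ z z, h.zz, mul_one]
    rcases h4 _ h5 hc with (h6 | h6) | h6 | h6 <;> rw [e] at h6 <;> have h7 := hcan _ h6
    · rw [one_mul] at h7
      exact nc g h7
    · rw [h.zz] at h7
      exact h.t1 (conj_eq_one_iff.1 h7)
    · exact hg2 h7
    · have e2 : t * z * z = t := by rw [mul_assoc, h.zz, mul_one]
      rw [e2] at h7
      exact hg1 h7
  have h2 : ∀ b ∈ B, b * t = t * b → b = 1 ∨ b = z := by
    intro b hb hbt
    rcases h4 b hb hbt with h5 | h5 | h5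
    · exact h5
    · exact absurd (h5 ▸ hb) htB
    · exact absurd (h5 ▸ hb) htzB
  have htBn : ∀ b ∈ B, t * b * t⁻¹ ∈ B := hBn t hzt
  have hti : t⁻¹ = t := inv_eq_of_mul_eq_one_left h.tt
  -- the action of `t` on the elements with square in `⟨z⟩`
  have h3 : ∀ b ∈ B, (b * b = 1 ∨ b * b = z) → t * b * t⁻¹ = b ∨ t * b * t⁻¹ = b * z := by
    intro b hb hbb
    have hx : b * (t * b * t⁻¹) ∈ B := B.mul_mem hb (htBn b hb)
    have hxt : b * (t * b * t⁻¹) * t = t * (b * (t * b * t⁻¹)) := by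
      have e1 : t * (b * (t * b * t⁻¹)) * t⁻¹ = (t * b * t⁻¹) * b := by
        calc t * (b * (t * b * t⁻¹)) * t⁻¹ = (t * b * t⁻¹) * ((t * t) * b * (t * t)⁻¹) := by group
          _ = (t * b * t⁻¹) * b := by rw [h.tt]; group
      rw [← hab _ hb _ (htBn b hb), mul_inv_eq_iff_eq_mul] at e1
      exact e1.symm
    have hinv : b⁻¹ = b ∨ b⁻¹ = b * z := by
      rcases hbb with h5 | h5
      · exact Or.inl (inv_eq_of_mul_eq_one_left h5)
      · right
        apply inv_eq_of_mul_eq_one_right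
        rw [← mul_assoc, h5, h.zz]
    have hbz : b * z = z * b := hF.le b (hB hb)
    rcases h2 _ hx hxt with h5 | h5
    · have h6 : t * b * t⁻¹ = b⁻¹ := (eq_inv_of_mul_eq_one_right h5)
      rw [h6]; exact hinv
    · have h6 : t * b * t⁻¹ = b⁻¹ * z := by rw [← h5]; group
      rw [h6]
      rcases hinv with h7 | h7
      · right; rw [h7]
      · left; rw [h7, mul_assoc, h.zz, mul_one]
  by_contra hcon
  push Not at hcon
  obtain ⟨b, hb, hb1, hbz⟩ := hcon
  -- an element `u` outside `⟨z⟩` with square in `⟨z⟩`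
  obtain ⟨u, hu, huu, hu1, huz⟩ : ∃ u ∈ B, (u * u = 1 ∨ u * u = z) ∧ u ≠ 1 ∧ u ≠ z := by
    classical
    have hex : ∃ k : ℕ, b ^ 2 ^ k = 1 ∨ b ^ 2 ^ k = z := by
      obtain ⟨k, hk⟩ := hF.pF ⟨b, hB hb⟩
      exact ⟨k, Or.inl (congrArg Subtype.val hk)⟩
    set k := Nat.find hex with hk
    have h5 := Nat.find_spec hex
    have hk0 : k ≠ 0 := by
      intro h0
      rw [← hk, h0, pow_zero, pow_one] at h5
      rcases h5 with h6 | h6
      · exact hb1 h6
      · exact hbz h6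
    obtain ⟨m, hm⟩ := Nat.exists_eq_succ_of_ne_zero hk0
    have h6 : ¬ (b ^ 2 ^ m = 1 ∨ b ^ 2 ^ m = z) := Nat.find_min hex (by rw [← hk, hm]; exact Nat.lt_succ_self m)
    refine ⟨b ^ 2 ^ m, B.pow_mem hb _, ?_, fun h7 => h6 (Or.inl h7), fun h7 => h6 (Or.inr h7)⟩
    rw [← hk, hm, Nat.succ_eq_add_one, pow_succ, pow_mul, pow_two] at h5
    exact h5
  have hut : t * u * t⁻¹ = u * z := by
    rcases h3 u hu huu with h5 | h5
    · exfalso
      rcases h2 u hu (mul_inv_eq_iff_eq_mul.1 h5).symm with h6 | h6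
      · exact hu1 h6
      · exact huz h6
    · exact h5
  have h5 := Cfsg.Agent.OddHalf.D8.CaseX.sign_pair (u := u) h.zz h.z1 hzt hlam (by
    intro g hgz
    set x : G := g * u * g⁻¹ with hx
    have hxB : x ∈ B := hBn g hgz u hu
    have hgzg := hgz1 g hgz
    have hxx : x * x = 1 ∨ x * x = z := by
      have e : x * x = g * (u * u) * g⁻¹ := by rw [hx]; group
      rw [e]
      rcases huu with h6 | h6
      · left; rw [h6]; group
      · right; rw [h6]; exact hgzg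
    have hx1 : x ≠ 1 := fun h6 => hu1 (conj_eq_one_iff.1 h6)
    have hxz : x ≠ z := by
      intro h6
      apply huz
      have e : u = g⁻¹ * x * g := by rw [hx]; group
      rw [e, h6]
      calc g⁻¹ * z * g = g⁻¹ * (g * z * g⁻¹) * g := by rw [hgzg]
        _ = z := by group
    have hxt : t * x * t⁻¹ = x * z := by
      rcases h3 x hxB hxx with h6 | h6
      · exfalso
        rcases h2 x hxB (mul_inv_eq_iff_eq_mul.1 h6).symm with h7 | h7
        · exact hx1 h7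
        · exact hxz h7
      · exact h6
    have hy : x * u⁻¹ ∈ B := B.mul_mem hxB (B.inv_mem hu)
    have huz' : u * z = z * u := hF.le u (hB hu)
    have hyt : x * u⁻¹ * t = t * (x * u⁻¹) := by
      have e : t * (x * u⁻¹) * t⁻¹ = x * u⁻¹ := by
        calc t * (x * u⁻¹) * t⁻¹ = (t * x * t⁻¹) * (t * u * t⁻¹)⁻¹ := by group
          _ = (x * z) * (u * z)⁻¹ := by rw [hxt, hut]
          _ = x * u⁻¹ := by group
      rw [mul_inv_eq_iff_eq_mul] at e
      exact e.symm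
    rcases h2 _ hy hyt with h6 | h6
    · left
      exact mul_inv_eq_one.1 h6
    · right
      rw [mul_inv_eq_iff_eq_mul] at h6
      rw [h6, huz'])
  rcases h2 u hu h5.symm with h6 | h6
  · exact hu1 h6
  · exact huz h6

/-- `⟨t, z⟩` is normal in `C(z)` or `F` is extraspecial -/
theorem extraspecial [Finite G] (h : Data t z) (hF : IsF z F) (htF : t ∈ F) (nc : ∀ g, g * t * g⁻¹ ≠ z)
    (hlam : ∀ φ : centralizer ({z} : Set G) →* ℤˣ, φ ⟨t, mem_centralizer_singleton_iff.2 h.comm⟩ = 1)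
    (hnot : ∃ g, g * z = z * g ∧ g * t * g⁻¹ ≠ t ∧ g * t * g⁻¹ ≠ t * z) : Cfsg.IsExtraspecial 2 F := by
  have hzF : z ∈ F := hF.self z rfl (fun x hx => (hF.le x hx).symm)
  have hchar : ∀ A : Subgroup F, A.Characteristic → (∀ a ∈ A, ∀ b ∈ A, a * b = b * a) →
      ∀ a ∈ A, a = 1 ∨ a = ⟨z, hzF⟩ := by
    intro A hA hAa a ha
    have h1 := h.abelian_F hF nc hlam hnot (B := A.map F.subtype) (by
      rintro _ ⟨x, _, rfl⟩; exact x.2) (by
      rintro _ ⟨x, hx, rfl⟩ _ ⟨y, hy, rfl⟩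
      exact congrArg Subtype.val (hAa x hx y hy)) (by
      rintro g hg _ ⟨x, hx, rfl⟩
      have hgn : ∀ y : G, y ∈ F ↔ g * y * g⁻¹ ∈ F := by
        intro y
        refine ⟨fun hy => hF.nor g hg y hy, fun hy => ?_⟩
        have h2 := hF.nor g⁻¹ (by rw [inv_mul_eq_iff_eq_mul, ← mul_assoc, hg]; group) _ hy
        have e : g⁻¹ * (g * y * g⁻¹) * g⁻¹⁻¹ = y := by group
        rwa [e] at h2
      let ψ : F ≃* F :=
        { toFun := fun y => ⟨g * y * g⁻¹, (hgn y).1 y.2⟩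
          invFun := fun y => ⟨g⁻¹ * y * g, (hgn _).2 (by
            have e : g * (g⁻¹ * (y : G) * g) * g⁻¹ = y := by group
            rw [e]; exact y.2)⟩
          left_inv := fun y => Subtype.ext (by
            show g⁻¹ * (g * (y : G) * g⁻¹) * g = y
            group)
          right_inv := fun y => Subtype.ext (by
            show g * (g⁻¹ * (y : G) * g) * g⁻¹ = y
            group)
          map_mul' := fun y w => Subtype.ext (by
            show g * ((y : G) * w) * g⁻¹ = g * y * g⁻¹ * (g * w * g⁻¹)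
            group) }
      have h2 : ψ x ∈ A := by
        have h3 := characteristic_iff_map_le.1 hA ψ
        exact h3 ⟨x, hx, rfl⟩
      exact ⟨ψ x, h2, rfl⟩) a ⟨a, ha, rfl⟩
    rcases h1 with h2 | h2
    · exact Or.inl (Subtype.ext h2)
    · exact Or.inr (Subtype.ext h2)
  apply Cfsg.Agent.OddHalf.D8.CharAb.extraspecial hF.pF hchar
  by_contra hcon
  push Not at hcon
  have h1 := hchar ⊤ inferInstance (fun a _ b _ => hcon a b) ⟨t, htF⟩ (mem_top _)
  rcases h1 with h2 | h2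
  · exact h.t1 (congrArg Subtype.val h2)
  · have h3 : t = z := congrArg Subtype.val h2
    exact nc 1 (by rw [h3]; group)

/-- `[F, t] ≤ ⟨z⟩` -/
theorem comm_t [Finite G] (h : Data t z) (hF : IsF z F) (htF : t ∈ F) (nc : ∀ g, g * t * g⁻¹ ≠ z)
    (hlam : ∀ φ : centralizer ({z} : Set G) →* ℤˣ, φ ⟨t, mem_centralizer_singleton_iff.2 h.comm⟩ = 1)
    {f : G} (hf : f ∈ F) : f * t * f⁻¹ = t ∨ f * t * f⁻¹ = t * z := by
  by_cases hnot : ∃ g, g * z = z * g ∧ g * t * g⁻¹ ≠ t ∧ g * t * g⁻¹ ≠ t * z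
  swap
  · push Not at hnot
    by_cases h1 : f * t * f⁻¹ = t
    · exact Or.inl h1
    · exact Or.inr (hnot f (hF.le f hf) h1)
  have he := h.extraspecial hF htF nc hlam hnot
  have hzF : z ∈ F := hF.self z rfl (fun x hx => (hF.le x hx).symm)
  have hcom : _root_.commutator F = center F := he.1.2.2
  have hc2 := he.2
  have hzc : (⟨z, hzF⟩ : F) ∈ center F := mem_center_iff.2 fun x => Subtype.ext (hF.le x x.2)
  have h1 : (⟨f, hf⟩ : F) * ⟨t, htF⟩ * ⟨f, hf⟩⁻¹ * ⟨t, htF⟩⁻¹ ∈ center F := by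
    rw [← hcom, _root_.commutator_def]
    exact commutator_mem_commutator (mem_top _) (mem_top _)
  have h2 : ∀ x ∈ center F, x = 1 ∨ x = ⟨z, hzF⟩ := by
    intro x hx
    by_contra hcon
    push Not at hcon
    have hz1 : (⟨z, hzF⟩ : F) ≠ 1 := fun e => h.z1 (congrArg Subtype.val e)
    have h3 : ({1, ⟨z, hzF⟩, x} : Set F) ⊆ (center F : Set F) := by
      rintro y (rfl | rfl | rfl)
      · exact one_mem _
      · exact hzc
      · exact hx
    have h4 : ({1, ⟨z, hzF⟩, x} : Set F).ncard = 3 :=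
      Set.ncard_eq_three.2 ⟨_, _, _, hz1.symm, fun e => hcon.1 e.symm, fun e => hcon.2 e.symm, rfl⟩
    have h5 : ({1, ⟨z, hzF⟩, x} : Set F).ncard ≤ (center F : Set F).ncard :=
      Set.ncard_le_ncard h3 (Set.toFinite _)
    have h6 : (center F : Set F).ncard = 2 := hc2
    omega
  rcases h2 _ h1 with h3 | h3
  · left
    have h4 : f * t * f⁻¹ * t⁻¹ = 1 := congrArg Subtype.val h3
    exact mul_inv_eq_one.1 h4
  · right
    have h4 : f * t * f⁻¹ * t⁻¹ = z := congrArg Subtype.val h3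
    rw [mul_inv_eq_iff_eq_mul] at h4
    rw [h4, h.comm]

end Cfsg.Agent.OddHalf.D6.QThree.Abs.Data

end

-- merged: Cfsg.Agent.OddHalf.D6.QThree.SpSit
section

/-!
# ODD half, D6, `q = 3`: `PSp₄(3)`, the situation (helper143)

`SLoc`: the local facts; `SPos`: with the core `F` of `C(z)`.
-/

set_option autoImplicit false

namespace Cfsg.Agent.OddHalf.D6.QThree.SpSit

open Subgroup Cfsg Cfsg.Agent.OddHalf.D6.QThree.Sit Cfsg.Agent.OddHalf.D6.QThree.Core
open Cfsg.Agent.OddHalf.D6.QThree.Outer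
open Cfsg.Agent.OddHalf.D6.QThree.End (Pos.swap_cen Pos.swap_cen_inv Pos.oddGen Pos.oddGen_le Pos.oddGen_le')

variable {G : Type*} [Group G] {t z : G} {K R F : Subgroup G}

/-- `g` centralises `z` and normalises `⟨t, z⟩`, fixing or moving `t` to `t z` -/
structure Nt (t z g : G) : Prop where
  cz : g * z = z * g
  ct : g * t * g⁻¹ = t ∨ g * t * g⁻¹ = t * z

theorem Nt.inv (zz : z * z = 1) {g : G} (h : Nt t z g) : Nt t z g⁻¹ := by
  have hcz : g⁻¹ * z = z * g⁻¹ := (Commute.inv_left (show Commute g z from h.cz)).eq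
  refine ⟨hcz, ?_⟩
  rw [inv_inv]
  rcases h.ct with h1 | h1
  · left
    calc g⁻¹ * t * g = g⁻¹ * (g * t * g⁻¹) * g := by rw [h1]
      _ = t := by group
  · right
    exact (End.Pos.swap_inv zz h1 (by rw [h.cz]; group)).1

/-- `Nt` elements normalise `C(t) ∩ C(z)` -/
theorem Nt.cen (zz : z * z = 1) {g : G} (h : Nt t z g) {x : G} (hxt : x * t = t * x) (hxz : x * z = z * x) :
    (g * x * g⁻¹) * t = t * (g * x * g⁻¹) ∧ (g * x * g⁻¹) * z = z * (g * x * g⁻¹) := by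
  have h1 := h.inv zz
  apply Loc.norm_cen _ _ x hxt hxz
  · have h2 := h1.ct
    rw [inv_inv] at h2
    rcases h2 with h2 | h2
    · exact Or.inl h2
    · exact Or.inr (Or.inr h2)
  · right; left
    have h2 := h1.cz
    rw [h2]; group

theorem Nt.of_comm {g : G} (ht : g * t = t * g) (hz : g * z = z * g) : Nt t z g :=
  ⟨hz, Or.inl (by rw [ht]; group)⟩

/-- the local facts -/
structure SLoc (t z : G) (K R : Subgroup G) : Prop extends OLoc t z K R where
  /-- elements of odd order of `C(t)` lie in `K` -/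
  mo : ∀ g, g * t = t * g → Odd (orderOf g) → g ∈ K
  oz : z ∈ Pos.oddGen K z
  /-- `C_K(z)` is irreducible on `R / ⟨z⟩` -/
  irr : ∀ N : Subgroup G, N ≤ R → (∀ g ∈ K, g * z = z * g → ∀ n ∈ N, g * n * g⁻¹ ∈ N) →
      (∀ n ∈ N, n = 1 ∨ n = z) ∨ N = R
  rr : ∀ a ∈ R, ∀ b ∈ R, a * b * a⁻¹ * b⁻¹ = 1 ∨ a * b * a⁻¹ * b⁻¹ = z
  RD : R ≤ Pos.oddGen K z
  /-- `C(t)`-conjugates of `z` are `K`-conjugates -/
  kz : ∀ g, g * t = t * g → ∃ k ∈ K, k * z * k⁻¹ = g * z * g⁻¹
  zR1 : ∀ k ∈ K, k * z * k⁻¹ ∈ R → k * z * k⁻¹ = z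
  p2 : ∀ k ∈ K, ∀ k' ∈ K, (k * z * k⁻¹) * z = z * (k * z * k⁻¹) → k * z * k⁻¹ ≠ z →
    k' * z * k'⁻¹ ≠ k * z * k⁻¹ * z
  p4 : ∀ r ∈ R, r ≠ 1 → r ≠ z → ∃ p ∈ K, p * z = z * p ∧ (p * r * p⁻¹) * r = r * (p * r * p⁻¹) ∧
    p * r * p⁻¹ ≠ r ∧ p * r * p⁻¹ ≠ r * z

namespace SLoc

theorem oddGen_comm_t (h : SLoc t z K R) {d : G} (hd : d ∈ Pos.oddGen K z) : d * t = t * d :=
  h.Kt d (Pos.oddGen_le hd)

theorem oddGen_comm_z {d : G} (hd : d ∈ Pos.oddGen K z) : d * z = z * d :=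
  mem_centralizer_singleton_iff.1 (Pos.oddGen_le' hd)

/-- an element normalising `C(t) ∩ C(z)` normalises `D` -/
theorem norm_D (h : SLoc t z K R) {g : G} (hg : ∀ x, x * t = t * x → x * z = z * x →
    (g * x * g⁻¹) * t = t * (g * x * g⁻¹) ∧ (g * x * g⁻¹) * z = z * (g * x * g⁻¹)) {d : G}
    (hd : d ∈ Pos.oddGen K z) : g * d * g⁻¹ ∈ Pos.oddGen K z := by
  have h1 : MulAut.conj g d ∈ (Pos.oddGen K z).map (MulAut.conj g).toMonoidHom := ⟨d, hd, rfl⟩
  rw [Pos.oddGen, MonoidHom.map_closure] at h1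
  refine closure_mono ?_ h1
  rintro _ ⟨x, ⟨hxK, hxz, hxo⟩, rfl⟩
  obtain ⟨h2, h3⟩ := hg x (h.Kt x hxK) hxz
  have h4 : Odd (orderOf (g * x * g⁻¹)) := by
    have : orderOf (g * x * g⁻¹) = orderOf x :=
      orderOf_injective (MulAut.conj g).toMonoidHom (MulAut.conj g).injective x
    rw [this]; exact hxo
  exact ⟨h.mo _ h2 h4, h3, h4⟩

theorem Nt_D (h : SLoc t z K R) {g : G} (hg : Nt t z g) {d : G} (hd : d ∈ Pos.oddGen K z) :
    g * d * g⁻¹ ∈ Pos.oddGen K z := h.norm_D (fun _ hxt hxz => hg.cen h.zz hxt hxz) hd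

/-- `Nt` elements normalise `R` -/
theorem Nt_R (h : SLoc t z K R) {g : G} (hg : Nt t z g) {r : G} (hr : r ∈ R) : g * r * g⁻¹ ∈ R := by
  have hgi := hg.inv h.zz
  have key : g * r * g⁻¹ ∈ R ∨ t * (g * r * g⁻¹) ∈ R := by
    refine h.oR (R.map (MulAut.conj g).toMonoidHom) (h.pR.map _) ?_ ?_ ?_ _ ⟨r, hr, rfl⟩
    · rintro _ ⟨r, hr, rfl⟩
      exact (hg.cen h.zz (h.Kt r (h.RK hr)) (h.RP r hr)).1
    · rintro _ ⟨r, hr, rfl⟩
      exact (hg.cen h.zz (h.Kt r (h.RK hr)) (h.RP r hr)).2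
    · rintro x hxt hxz _ ⟨r, hr, rfl⟩
      obtain ⟨h1, h2⟩ := hgi.cen h.zz hxt hxz
      rw [inv_inv] at h1 h2
      refine ⟨(g⁻¹ * x * g) * r * (g⁻¹ * x * g)⁻¹, h.nR _ h1 h2 r hr, ?_⟩
      show g * ((g⁻¹ * x * g) * r * (g⁻¹ * x * g)⁻¹) * g⁻¹ = x * (g * r * g⁻¹) * x⁻¹
      group
  rcases key with h1 | h1
  · exact h1
  · exfalso
    apply h.tK
    have h2 : g * r * g⁻¹ ∈ K := Pos.oddGen_le (h.Nt_D hg (h.RD hr))
    have h3 : t * (g * r * g⁻¹) ∈ K := h.RK h1
    have h4 := K.mul_mem h3 (K.inv_mem h2)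
    rwa [mul_assoc, mul_inv_cancel, mul_one] at h4

/-- `R ≠ ⟨z⟩` -/
theorem exists_R (h : SLoc t z K R) : ∃ r ∈ R, r ≠ 1 ∧ r ≠ z := by
  by_contra hcon
  push Not at hcon
  have h1 : ∀ r ∈ R, r = 1 ∨ r = z := fun r hr => by
    by_cases h2 : r = 1
    · exact Or.inl h2
    · exact Or.inr (hcon r hr h2)
  have h2 : Pos.oddGen K z ≤ ⊥ := by
    rw [Pos.oddGen, closure_le]
    rintro d ⟨hdK, hdz, hdo⟩
    rw [SetLike.mem_coe, mem_bot]
    rcases h.cR d hdK hdz (fun r hr => by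
      rcases h1 r hr with h3 | h3
      · rw [h3, mul_one, one_mul]
      · rw [h3, hdz]) with h3 | h3
    · exact h3
    · exfalso
      rw [h3] at hdo
      have h4 : orderOf z = 2 := orderOf_eq_prime (by rw [pow_two]; exact h.zz) h.z1
      rw [h4] at hdo
      exact absurd hdo (by decide)
  exact h.z1 (mem_bot.1 (h2 h.oz))

/-- elements of `K ∩ C(z)` normalise `R` -/
theorem P_R (h : SLoc t z K R) {p : G} (hp : p ∈ K) (hpz : p * z = z * p) {r : G} (hr : r ∈ R) :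
    p * r * p⁻¹ ∈ R := h.nR p (h.Kt p hp) hpz r hr

/-- **inner**: an element acting on `R` trivially modulo `⟨z⟩` acts as an element of `R` -/
theorem exists_inner [Finite G] (h : SLoc t z K R) {s : G} (hs : ∀ r ∈ R, s * r * s⁻¹ = r ∨ s * r * s⁻¹ = r * z) :
    ∃ x ∈ R, ∀ r ∈ R, s * r * s⁻¹ = x * r * x⁻¹ := by
  have hmem : ∀ r ∈ R, s * r * s⁻¹ ∈ R := by
    intro r hr
    rcases hs r hr with h1 | h1
    · rw [h1]; exact hr
    · rw [h1]; exact R.mul_mem hr h.zR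
  have hcen : ∀ x : R, x ∈ center R ↔ (x : G) = 1 ∨ (x : G) = z := by
    intro x
    constructor
    · intro hx
      exact h.cR x (h.RK x.2) (h.RP x x.2) (fun r hr =>
        (congrArg Subtype.val (mem_center_iff.1 hx ⟨r, hr⟩)).symm)
    · intro hx
      rw [mem_center_iff]
      intro y
      apply Subtype.ext
      show (y : G) * x = x * y
      rcases hx with hx | hx
      · rw [hx, mul_one, one_mul]
      · rw [hx]; exact h.RP y y.2
  have hz1 : (⟨z, h.zR⟩ : R) ≠ 1 := fun e => h.z1 (congrArg Subtype.val e)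
  have hcard : Nat.card (center R) = 2 := by
    have h1 : ((center R : Subgroup R) : Set R) = {1, ⟨z, h.zR⟩} := by
      ext c
      rw [SetLike.mem_coe, hcen, Set.mem_insert_iff, Set.mem_singleton_iff]
      exact or_congr ⟨fun h => Subtype.ext h, fun h => congrArg Subtype.val h⟩
        ⟨fun h => Subtype.ext h, fun h => congrArg Subtype.val h⟩
    have h2 : Nat.card (center R) = ((center R : Subgroup R) : Set R).ncard := rfl
    rw [h2, h1, Set.ncard_pair hz1.symm]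
  have hcle : _root_.commutator R ≤ center R := by
    rw [_root_.commutator_def, commutator_le]
    intro a _ b _
    rw [hcen]
    exact h.rr a a.2 b b.2
  have hcom : _root_.commutator R = center R := by
    apply le_antisymm hcle
    -- `R` is not abelian
    obtain ⟨a, ha, b, hb, hab⟩ : ∃ a ∈ R, ∃ b ∈ R, a * b * a⁻¹ * b⁻¹ ≠ 1 := by
      by_contra hcon
      push Not at hcon
      obtain ⟨r, hr, hr1, hrz⟩ := h.exists_R
      rcases h.cR r (h.RK hr) (h.RP r hr) (fun x hx => by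
        have h3 := hcon r hr x hx
        rw [mul_inv_eq_one, mul_inv_eq_iff_eq_mul] at h3
        exact h3) with h4 | h4
      · exact hr1 h4
      · exact hrz h4
    have h3 : a * b * a⁻¹ * b⁻¹ = z := (h.rr a ha b hb).resolve_left hab
    intro c hc
    have hzc : (⟨z, h.zR⟩ : R) ∈ _root_.commutator R := by
      have h4 : (⟨a, ha⟩ : R) * ⟨b, hb⟩ * ⟨a, ha⟩⁻¹ * ⟨b, hb⟩⁻¹ ∈ _root_.commutator R := by
        rw [_root_.commutator_def]
        exact commutator_mem_commutator (mem_top _) (mem_top _)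
      have e : (⟨a, ha⟩ : R) * ⟨b, hb⟩ * ⟨a, ha⟩⁻¹ * ⟨b, hb⟩⁻¹ = ⟨z, h.zR⟩ := Subtype.ext h3
      rwa [e] at h4
    rcases (hcen c).1 hc with h4 | h4
    · have : c = 1 := Subtype.ext h4
      rw [this]; exact one_mem _
    · have : c = ⟨z, h.zR⟩ := Subtype.ext h4
      rw [this]; exact hzc
  let σ : R →* R :=
    { toFun := fun r => ⟨s * r * s⁻¹, hmem r r.2⟩
      map_one' := Subtype.ext (by simp)
      map_mul' := fun a b => Subtype.ext (by
        show s * ((a : G) * b) * s⁻¹ = s * a * s⁻¹ * (s * b * s⁻¹)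
        group) }
  obtain ⟨x, hx⟩ := Cfsg.Agent.ClassificationK.Extraspecial.exists_inner hcom Nat.prime_two hcard σ (by
    intro q
    rw [hcen]
    show s * (q : G) * s⁻¹ * (q : G)⁻¹ = 1 ∨ s * (q : G) * s⁻¹ * (q : G)⁻¹ = z
    rcases hs q q.2 with h1 | h1
    · left; rw [h1, mul_inv_cancel]
    · right; rw [h1, h.RP q q.2]; group)
  exact ⟨x, x.2, fun r hr => congrArg Subtype.val (hx ⟨r, hr⟩)⟩

end SLoc

/-- the position -/
structure SPos (t z : G) (K R F : Subgroup G) : Prop extends SLoc t z K R where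
  F' : IsF z F
  tF : t ∈ F
  nc : ∀ g, g * t * g⁻¹ ≠ z
  sw : ∃ s : G, s * t * s⁻¹ = t * z ∧ s * z * s⁻¹ = z
  lam : ∀ φ : centralizer ({z} : Set G) →* ℤˣ, φ ⟨t, mem_centralizer_singleton_iff.2 toOLoc.comm⟩ = 1

namespace SPos

theorem pos (h : SPos t z K R F) : OPos t z K R F :=
  { toOLoc := h.toOLoc, F' := h.F', tF := h.tF, nc := h.nc, sw := h.sw }

theorem zF (h : SPos t z K R F) : z ∈ F := h.F'.self z rfl (fun x hx => (h.F'.le x hx).symm)

/-- the elements of `F` are `Nt` -/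
theorem nt [Finite G] (h : SPos t z K R F) {f : G} (hf : f ∈ F) : Nt t z f :=
  ⟨h.F'.le f hf, h.toOLoc.data.comm_t h.F' h.tF h.nc h.lam hf⟩

theorem t_ne_tz (h : SPos t z K R F) : t ≠ t * z := fun e => h.z1 (mul_eq_left.1 e.symm)

/-- the action of `F` on `⟨t, z⟩`: commutators with elements of `C(t) ∩ C(z)` centralise `t` -/
theorem comm_comm (h : SPos t z K R F) {s p : G} (hs : s * t * s⁻¹ = t * z) (hsz : s * z = z * s)
    (hpt : p * t = t * p) (hpz : p * z = z * p) :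
    (p * s * p⁻¹ * s⁻¹) * t = t * (p * s * p⁻¹ * s⁻¹) := by
  have hsz' : s * z * s⁻¹ = z := by rw [hsz]; group
  have h1 := (End.Pos.swap_inv h.zz hs hsz').1
  have hpi : p⁻¹ * t * p = t := by
    have c : Commute p t := hpt
    rw [c.inv_left.eq]; group
  have hpiz : p⁻¹ * z * p = z := by
    have c : Commute p z := hpz
    rw [c.inv_left.eq]; group
  have hpt' : p * t * p⁻¹ = t := by rw [hpt]; group
  have hpz' : p * z * p⁻¹ = z := by rw [hpz]; group
  have e : (p * s * p⁻¹ * s⁻¹) * t * (p * s * p⁻¹ * s⁻¹)⁻¹ = t := by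
    calc (p * s * p⁻¹ * s⁻¹) * t * (p * s * p⁻¹ * s⁻¹)⁻¹
        = p * s * (p⁻¹ * (s⁻¹ * t * s) * p) * s⁻¹ * p⁻¹ := by group
      _ = p * s * ((p⁻¹ * t * p) * (p⁻¹ * z * p)) * s⁻¹ * p⁻¹ := by rw [h1]; group
      _ = p * ((s * t * s⁻¹) * (s * z * s⁻¹)) * p⁻¹ := by rw [hpi, hpiz]; group
      _ = p * (t * z * z) * p⁻¹ := by rw [hs, hsz']
      _ = p * t * p⁻¹ := by rw [mul_assoc t z z, h.zz, mul_one]
      _ = t := hpt'
  exact mul_inv_eq_iff_eq_mul.1 e

/-- elements of `F ∩ C(t)` centralising `R` -/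
theorem cent_R (h : SPos t z K R F) {x : G} (hx : x ∈ F) (hxt : x * t = t * x) (hxR : ∀ r ∈ R, x * r = r * x) :
    x = 1 ∨ x = z ∨ x = t ∨ x = t * z := by
  rcases h.pos.mem_or hx hxt with h1 | h1
  · rcases h.cR x (h.RK h1) (h.RP x h1) hxR with h2 | h2
    · exact Or.inl h2
    · exact Or.inr (Or.inl h2)
  · rcases h.cR (t * x) (h.RK h1) (h.RP _ h1) (fun r hr => by
      have c1 : Commute t r := (h.Kt r (h.RK hr)).symm
      have c2 : Commute x r := hxR r hr
      exact c1.mul_left c2) with h2 | h2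
    · right; right; left
      rw [← h.tmul x, h2, mul_one]
    · right; right; right
      rw [← h.tmul x, h2]

/-- **(L2)** `R ≤ F` -/
theorem R_le [Finite G] (h : SPos t z K R F) : R ≤ F := by
  rcases h.irr (F ⊓ R) inf_le_right (fun g hg hgz n hn =>
    ⟨h.F'.nor g hgz n hn.1, h.P_R hg hgz hn.2⟩) with h1 | h1
  swap
  · rw [← h1]; exact inf_le_left
  exfalso
  have h2 : ∀ x ∈ F, x * t = t * x → x = 1 ∨ x = z ∨ x = t ∨ x = t * z := by
    intro x hx hxt
    rcases h.pos.mem_or hx hxt with h3 | h3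
    · rcases h1 x ⟨hx, h3⟩ with h4 | h4
      · exact Or.inl h4
      · exact Or.inr (Or.inl h4)
    · right; right
      rcases h1 _ ⟨F.mul_mem h.tF hx, h3⟩ with h4 | h4
      · left; rw [← h.tmul x, h4, mul_one]
      · right; rw [← h.tmul x, h4]
  have h3 : ∀ d ∈ K, d * z = z * d → Odd (orderOf d) → d = 1 := by
    intro d hd hdz hdo
    have hdt := h.Kt d hd
    have c1 : Commute d t := hdt
    have c2 : Commute d z := hdz
    have h4 : ∀ f ∈ F, d * f = f * d := by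
      intro f hf
      have hnt := h.nt hf
      set c : G := d * f * d⁻¹ * f⁻¹ with hc
      have hcF : c ∈ F := F.mul_mem (h.F'.nor d hdz f hf) (F.inv_mem hf)
      have hct : c * t = t * c := by
        rcases hnt.ct with h5 | h5
        · have c3 : Commute f t := mul_inv_eq_iff_eq_mul.1 h5
          exact ((c1.mul_left c3).mul_left c1.inv_left).mul_left c3.inv_left
        · exact h.comm_comm h5 hnt.cz hdt hdz
      have hc4 := h2 c hcF hct
      have hcd : Commute d c := by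
        rcases hc4 with h5 | h5 | h5 | h5 <;> rw [h5]
        · exact Commute.one_right d
        · exact c2
        · exact c1
        · exact c1.mul_right c2
      have hcc : c * c = 1 := by
        rcases hc4 with h5 | h5 | h5 | h5 <;> rw [h5]
        · exact one_mul 1
        · exact h.zz
        · exact h.tt
        · have c3 : Commute t z := h.comm
          calc t * z * (t * z) = t * (z * t) * z := by group
            _ = t * (t * z) * z := by rw [h.comm]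
            _ = 1 := by rw [h.tmul, h.zz]
      have hpow : ∀ n : ℕ, d ^ n * f * (d ^ n)⁻¹ = c ^ n * f := by
        intro n
        induction n with
        | zero => simp
        | succ n ih =>
          have c4 : Commute d (c ^ n) := hcd.pow_right n
          calc d ^ (n + 1) * f * (d ^ (n + 1))⁻¹ = d * (d ^ n * f * (d ^ n)⁻¹) * d⁻¹ := by
                rw [pow_succ']; group
            _ = (d * c ^ n) * f * d⁻¹ := by rw [ih]; group
            _ = c ^ n * (d * f * d⁻¹) := by rw [c4.eq]; group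
            _ = c ^ n * (c * f) := by rw [hc]; group
            _ = c ^ (n + 1) * f := by rw [pow_succ]; group
      have h6 := hpow (orderOf d)
      rw [pow_orderOf_eq_one, one_mul, inv_one, mul_one] at h6
      have h7 : c ^ orderOf d = 1 := mul_eq_right.1 h6.symm
      obtain ⟨m, hm⟩ := hdo
      rw [hm, pow_succ, pow_mul, pow_two, hcc, one_pow, one_mul] at h7
      rw [hc, mul_inv_eq_one, mul_inv_eq_iff_eq_mul] at h7
      exact h7
    have h5 : d ∈ F := h.F'.self d hdz h4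
    rcases h2 d h5 hdt with h6 | h6 | h6 | h6
    · exact h6
    all_goals exfalso
    · rw [h6] at hdo
      have h7 : orderOf z = 2 := orderOf_eq_prime (by rw [pow_two]; exact h.zz) h.z1
      rw [h7] at hdo
      exact absurd hdo (by decide)
    · exact h.tK (h6 ▸ hd)
    · apply h.tK
      have h7 := K.mul_mem hd (K.inv_mem h.zK)
      rwa [h6, mul_assoc, mul_inv_cancel, mul_one] at h7
  have h4 : Pos.oddGen K z ≤ ⊥ := by
    rw [Pos.oddGen, closure_le]
    intro x hx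
    rw [SetLike.mem_coe, mem_bot]
    exact h3 x hx.1 hx.2.1 hx.2.2
  exact h.z1 (mem_bot.1 (h4 h.oz))

/-- **(L3)** `F` acts trivially on `R / ⟨z⟩` -/
theorem comm_R [Finite G] (h : SPos t z K R F) {f r : G} (hf : f ∈ F) (hr : r ∈ R) :
    f * r * f⁻¹ = r ∨ f * r * f⁻¹ = r * z := by
  have hzc : ∀ f ∈ F, f * z = z * f := h.F'.le
  let C : Subgroup G :=
    { carrier := {r | r ∈ R ∧ ∀ f ∈ F, f * r * f⁻¹ * r⁻¹ = 1 ∨ f * r * f⁻¹ * r⁻¹ = z}
      one_mem' := ⟨R.one_mem, fun f _ => Or.inl (by group)⟩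
      mul_mem' := by
        rintro a b ⟨ha, ha'⟩ ⟨hb, hb'⟩
        refine ⟨R.mul_mem ha hb, fun f hf => ?_⟩
        have e : f * (a * b) * f⁻¹ * (a * b)⁻¹ = (f * a * f⁻¹ * a⁻¹) * (a * (f * b * f⁻¹ * b⁻¹) * a⁻¹) := by
          group
        have haz : a * z * a⁻¹ = z := by rw [h.RP a ha]; group
        rw [e]
        rcases ha' f hf with h1 | h1 <;> rcases hb' f hf with h2 | h2 <;> rw [h1, h2]
        · left; group
        · right; rw [haz, one_mul]
        · right; group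
        · left; rw [haz, h.zz]
      inv_mem' := by
        rintro a ⟨ha, ha'⟩
        refine ⟨R.inv_mem ha, fun f hf => ?_⟩
        have e : f * a⁻¹ * f⁻¹ * a⁻¹⁻¹ = a⁻¹ * (f * a * f⁻¹ * a⁻¹)⁻¹ * a := by group
        have haz : a⁻¹ * z * a = z := by
          have c : Commute a z := h.RP a ha
          rw [c.inv_left.eq]; group
        have hzi : z⁻¹ = z := inv_eq_of_mul_eq_one_left h.zz
        rw [e]
        rcases ha' f hf with h1 | h1 <;> rw [h1]
        · left; group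
        · right; rw [hzi, haz] }
  have hCle : C ≤ R := fun x hx => hx.1
  have hCn : ∀ g ∈ K, g * z = z * g → ∀ n ∈ C, g * n * g⁻¹ ∈ C := by
    rintro g hg hgz n ⟨hn, hn'⟩
    refine ⟨h.P_R hg hgz hn, fun f hf => ?_⟩
    have hgi : g⁻¹ * z = z * g⁻¹ := (Commute.inv_left (show Commute g z from hgz)).eq
    have hf' : g⁻¹ * f * g ∈ F := by
      have := h.F'.nor g⁻¹ hgi f hf
      rwa [inv_inv] at this
    have e : f * (g * n * g⁻¹) * f⁻¹ * (g * n * g⁻¹)⁻¹ =
        g * ((g⁻¹ * f * g) * n * (g⁻¹ * f * g)⁻¹ * n⁻¹) * g⁻¹ := by group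
    rw [e]
    rcases hn' _ hf' with h1 | h1 <;> rw [h1]
    · left; group
    · right; rw [hgz]; group
  have hR := h.irr C hCle hCn
  have hfin : ∀ {f r : G}, f ∈ F → r ∈ C → f * r * f⁻¹ = r ∨ f * r * f⁻¹ = r * z := by
    rintro f r hf ⟨hr, hr'⟩
    rcases hr' f hf with h1 | h1
    · exact Or.inl (mul_inv_eq_one.1 h1)
    · right
      rw [mul_inv_eq_iff_eq_mul] at h1
      rw [h1, h.RP r hr]
  rcases hR with hR | hR
  swap
  · exact hfin hf (by rw [hR]; exact hr)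
  exfalso
  -- `R / ⟨z⟩` meets the centre of `F / ⟨z⟩`
  have hRF := h.R_le
  set z' : F := ⟨z, h.zF⟩ with hz'
  have hzn : (zpowers z').Normal := by
    refine ⟨fun x hx g => ?_⟩
    obtain ⟨i, rfl⟩ := mem_zpowers_iff.1 hx
    have hc : Commute g z' := Subtype.ext (hzc g g.2)
    have : g * z' ^ i * g⁻¹ = z' ^ i := by
      rw [(hc.zpow_right i).eq, mul_inv_cancel_right]
    rw [this]; exact zpow_mem (mem_zpowers z') i
  have hz2 : ∀ x ∈ zpowers z', x = 1 ∨ x = z' := by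
    intro x hx
    obtain ⟨i, rfl⟩ := mem_zpowers_iff.1 hx
    have hzz : z' * z' = 1 := Subtype.ext h.zz
    rcases Int.even_or_odd i with ⟨j, rfl⟩ | ⟨j, rfl⟩
    · left
      have e : z' ^ (j + j) = (z' * z') ^ j := by
        rw [zpow_add, ← (Commute.refl z').mul_zpow]
      rw [e, hzz, one_zpow]
    · right
      have e : z' ^ (2 * j + 1) = (z' * z') ^ j * z' := by
        rw [zpow_add, zpow_one, zpow_mul, show (z' ^ (2 : ℤ)) = z' * z' from zpow_two z']
      rw [e, hzz, one_zpow, one_mul]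
  set π := QuotientGroup.mk' (zpowers z') with hπ
  set R' : Subgroup F := R.subgroupOf F with hR'
  have hR'n : R'.Normal := by
    refine ⟨fun x hx g => ?_⟩
    rw [hR', mem_subgroupOf] at hx ⊢
    exact h.toSLoc.Nt_R (h.nt g.2) hx
  have hNn : (R'.map π).Normal := hR'n.map π (QuotientGroup.mk'_surjective _)
  have hNb : R'.map π ≠ ⊥ := by
    intro h1
    obtain ⟨r, hr, hr1, hrz⟩ := h.exists_R
    have h2 : π ⟨r, hRF hr⟩ ∈ R'.map π := ⟨⟨r, hRF hr⟩, mem_subgroupOf.2 hr, rfl⟩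
    rw [h1, mem_bot, hπ, QuotientGroup.mk'_apply, QuotientGroup.eq_one_iff] at h2
    rcases hz2 _ h2 with h3 | h3
    · exact hr1 (congrArg Subtype.val h3)
    · exact hrz (congrArg Subtype.val h3)
  have : Fact (Nat.Prime 2) := ⟨Nat.prime_two⟩
  have hQp : IsPGroup 2 (F ⧸ zpowers z') := h.F'.pF.to_quotient _
  obtain ⟨x, hxN, hxc, hxo⟩ := Cfsg.Agent.Transfer.PGroupNormal.exists_mem_inf_center_orderOf hQp
    (R'.map π) hNb
  obtain ⟨r, hr, hrx⟩ := hxN
  rw [mem_center_iff] at hxc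
  have hrC : (r : G) ∈ C := by
    refine ⟨mem_subgroupOf.1 hr, fun f hf => ?_⟩
    have h1 := hxc (π ⟨f, hf⟩)
    rw [← hrx, ← map_mul, ← map_mul] at h1
    have h2 : π (⟨f, hf⟩ * r * ⟨f, hf⟩⁻¹ * r⁻¹) = 1 := by
      have h3 : π (⟨f, hf⟩ * r * ⟨f, hf⟩⁻¹ * r⁻¹) = π (⟨f, hf⟩ * r) * (π (r * ⟨f, hf⟩))⁻¹ := by
        rw [← map_inv, ← map_mul]; congr 1; group
      rw [h3, h1, mul_inv_cancel]
    rw [hπ, QuotientGroup.mk'_apply, QuotientGroup.eq_one_iff] at h2
    rcases hz2 _ h2 with h3 | h3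
    · exact Or.inl (congrArg Subtype.val h3)
    · exact Or.inr (congrArg Subtype.val h3)
  have hr2 := hR _ hrC
  have hx1 : x = 1 := by
    rw [← hrx, hπ, QuotientGroup.mk'_apply, QuotientGroup.eq_one_iff]
    rcases hr2 with h3 | h3
    · have : r = 1 := Subtype.ext h3
      rw [this]; exact one_mem _
    · have : r = z' := Subtype.ext h3
      rw [this]; exact mem_zpowers z'
  rw [hx1, orderOf_one] at hxo
  omega

end SPos

end Cfsg.Agent.OddHalf.D6.QThree.SpSit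

end

-- merged: Cfsg.Agent.OddHalf.D6.QThree.SpTwo
section

/-!
# ODD half, D6, `q = 3`: `PSp₄(3)`, the case `F` not contained in `C(t)` (helper143)

`S1 s`: `s ∈ F` centralises `R` and maps `t` to `t z`; `SPos.false_two`: contradiction.
-/

set_option autoImplicit false

namespace Cfsg.Agent.OddHalf.D6.QThree.SpTwo

open Subgroup Cfsg Cfsg.Agent.OddHalf.D6.QThree.Sit Cfsg.Agent.OddHalf.D6.QThree.Core
open Cfsg.Agent.OddHalf.D6.QThree.Outer Cfsg.Agent.OddHalf.D6.QThree.SpSit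
open Cfsg.Agent.OddHalf.D6.QThree.End (Pos.oddGen Pos.oddGen_le Pos.oddGen_le')

variable {G : Type*} [Group G] {t z : G} {K R F : Subgroup G}

/-- `s ∈ F` centralises `R` and maps `t` to `t z` -/
structure S1 (t z : G) (R F : Subgroup G) (s : G) : Prop where
  sF : s ∈ F
  st : s * t * s⁻¹ = t * z
  sR : ∀ r ∈ R, s * r = r * s

/-- `z₃, z₄, z₁, z₂`: the frame -/
structure Fr (z : G) (K R : Subgroup G) (z₁ z₂ z₃ z₄ k₁ k₂ c₃ c₄ : G) : Prop where
  k1 : k₁ ∈ K
  k2 : k₂ ∈ K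
  c3 : c₃ ∈ K
  c4 : c₄ ∈ K
  e1 : k₁ * z * k₁⁻¹ = z₁
  e2 : k₂ * z * k₂⁻¹ = z₂
  e3 : c₃ * z * c₃⁻¹ = z₃
  e4 : c₄ * z * c₄⁻¹ = z₄
  z1z : z₁ * z = z * z₁
  z2z : z₂ * z = z * z₂
  z3z : z₃ * z = z * z₃
  z4z : z₄ * z = z * z₄
  c12 : z₁ * z₂ = z₂ * z₁
  c13 : z₁ * z₃ = z₃ * z₁
  c24 : z₂ * z₄ = z₄ * z₂
  n12 : z₁ ≠ z₂
  n13 : z₁ ≠ z₃
  n24 : z₂ ≠ z₄
  n31 : z₃ * z₁ ≠ z
  prod : (z₃ * z₁) * z = z₄ * z₂
  d3 : c₃ * (z₁ * z₂) = (z₁ * z₂) * c₃
  d4 : c₄ * (z₁ * z₂) = (z₁ * z₂) * c₄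
  /-- the involutions of `R - ⟨z⟩` are conjugate to `z₁ z₂` -/
  p3 : ∀ r ∈ R, r * r = 1 → r ≠ 1 → r ≠ z → ∃ p ∈ K, p * z = z * p ∧ p * r * p⁻¹ = z₁ * z₂

variable (h : SPos t z K R F)

include h

/-- **(L4)** -/
theorem exists_S1 [Finite G] (hFt : ¬ ∀ x ∈ F, x * t = t * x) : ∃ s, S1 t z R F s := by
  obtain ⟨s, hsF, hs⟩ := h.toOLoc.data.exists_mem h.F' h.tF h.nc hFt
  obtain ⟨x, hx, hxs⟩ := h.toSLoc.exists_inner (s := s) (fun r hr => h.comm_R hsF hr)
  refine ⟨x⁻¹ * s, F.mul_mem (F.inv_mem (h.R_le hx)) hsF, ?_, ?_⟩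
  · have hxt : x⁻¹ * t * x = t := by
      have c : Commute x t := h.Kt x (h.RK hx)
      rw [c.inv_left.eq]; group
    have hxz : x⁻¹ * z * x = z := by
      have c : Commute x z := h.RP x hx
      rw [c.inv_left.eq]; group
    calc x⁻¹ * s * t * (x⁻¹ * s)⁻¹ = x⁻¹ * (s * t * s⁻¹) * x := by group
      _ = (x⁻¹ * t * x) * (x⁻¹ * z * x) := by rw [hs]; group
      _ = t * z := by rw [hxt, hxz]
  · intro r hr
    have h1 : x⁻¹ * s * r * (x⁻¹ * s)⁻¹ = r := by
      calc x⁻¹ * s * r * (x⁻¹ * s)⁻¹ = x⁻¹ * (s * r * s⁻¹) * x := by group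
        _ = r := by rw [hxs r hr]; group
    exact mul_inv_eq_iff_eq_mul.1 h1

variable {s : G}

theorem s_z (hs : S1 t z R F s) : s * z = z * s := h.F'.le s hs.sF

/-- `s t s⁻¹ = t z`, the other forms -/
theorem s_inv (hs : S1 t z R F s) : s⁻¹ * t * s = t * z :=
  (End.Pos.swap_inv h.zz hs.st (by rw [s_z h hs]; group)).1

theorem t_s (hs : S1 t z R F s) : t * s * t⁻¹ = s * z := by
  have h1 := s_inv h hs
  have hti : t⁻¹ = t := inv_eq_of_mul_eq_one_left h.tt
  calc t * s * t⁻¹ = s * (s⁻¹ * t * s) * t⁻¹ := by group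
    _ = s * (t * z) * t := by rw [h1, hti]
    _ = s * (z * t) * t := by rw [h.comm]
    _ = s * z * (t * t) := by group
    _ = s * z := by rw [h.tt, mul_one]

/-- `s² ∈ ⟨z⟩` -/
theorem s_sq (hs : S1 t z R F s) : s * s = 1 ∨ s * s = z := by
  have hsz := s_z h hs
  have hsz' : s * z * s⁻¹ = z := by rw [hsz]; group
  have h1 : (s * s) * t * (s * s)⁻¹ = t := by
    calc (s * s) * t * (s * s)⁻¹ = s * (s * t * s⁻¹) * s⁻¹ := by group
      _ = s * (t * z) * s⁻¹ := by rw [hs.st]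
      _ = (s * t * s⁻¹) * (s * z * s⁻¹) := by group
      _ = t := by rw [hs.st, hsz', mul_assoc, h.zz, mul_one]
  have h2 : ∀ r ∈ R, (s * s) * r = r * (s * s) := fun r hr => by
    have c : Commute s r := hs.sR r hr
    exact c.mul_left c
  have c1 : s * (s * s) = (s * s) * s := by group
  rcases h.cent_R (F.mul_mem hs.sF hs.sF) (mul_inv_eq_iff_eq_mul.1 h1) h2 with h3 | h3 | h3 | h3
  · exact Or.inl h3
  · exact Or.inr h3
  · exfalso
    rw [h3] at c1
    apply h.z1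
    have h4 : s * t * s⁻¹ = t := by rw [c1]; group
    rw [hs.st] at h4
    exact mul_eq_left.1 h4
  · exfalso
    rw [h3] at c1
    apply h.z1
    have h4 : s * (t * z) * s⁻¹ = t * z := by rw [c1]; group
    have h5 : s * (t * z) * s⁻¹ = t := by
      calc s * (t * z) * s⁻¹ = (s * t * s⁻¹) * (s * z * s⁻¹) := by group
        _ = t := by rw [hs.st, hsz', mul_assoc, h.zz, mul_one]
    rw [h5] at h4
    exact mul_eq_left.1 h4.symm

theorem ts_sq (hs : S1 t z R F s) : (t * s) * (t * s) = z * (s * s) := by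
  have h1 := t_s h hs
  have hti : t⁻¹ = t := inv_eq_of_mul_eq_one_left h.tt
  rw [hti] at h1
  calc (t * s) * (t * s) = (t * s * t) * s := by group
    _ = s * z * s := by rw [h1]
    _ = z * (s * s) := by rw [s_z h hs]; group

/-- `p s p⁻¹ ∈ s ⟨z⟩` for `p ∈ C_K(z)` -/
theorem conj_s (hs : S1 t z R F s) {p : G} (hp : p ∈ K) (hpz : p * z = z * p) :
    p * s * p⁻¹ = s ∨ p * s * p⁻¹ = s * z := by
  have hpt := h.Kt p hp
  have hsz := s_z h hs
  have h1 : p * s * p⁻¹ ∈ F := h.F'.nor p hpz s hs.sF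
  set c : G := p * s * p⁻¹ * s⁻¹ with hc
  have hcF : c ∈ F := F.mul_mem h1 (F.inv_mem hs.sF)
  have hct : c * t = t * c := h.comm_comm hs.st hsz hpt hpz
  have hcR : ∀ r ∈ R, c * r = r * c := by
    intro r hr
    have hpi : p⁻¹ * z = z * p⁻¹ := (Commute.inv_left (show Commute p z from hpz)).eq
    have h2 : p⁻¹ * r * p ∈ R := by
      have := h.P_R (K.inv_mem hp) hpi hr
      rwa [inv_inv] at this
    have h3 := hs.sR _ h2
    have c1 : Commute (p * s * p⁻¹) r := by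
      show p * s * p⁻¹ * r = r * (p * s * p⁻¹)
      calc p * s * p⁻¹ * r = p * (s * (p⁻¹ * r * p)) * p⁻¹ := by group
        _ = p * ((p⁻¹ * r * p) * s) * p⁻¹ := by rw [h3]
        _ = r * (p * s * p⁻¹) := by group
    have c2 : Commute s r := hs.sR r hr
    exact (c1.mul_left c2.inv_left).eq
  have e : p * s * p⁻¹ = c * s := by rw [hc]; group
  have hsq : (c * s) * (c * s) = s * s := by
    rw [← e]
    have : p * s * p⁻¹ * (p * s * p⁻¹) = p * (s * s) * p⁻¹ := by group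
    rw [this]
    rcases s_sq h hs with h4 | h4 <;> rw [h4]
    · group
    · rw [hpz]; group
  have hz1 := h.z1
  rcases h.cent_R hcF hct hcR with h4 | h4 | h4 | h4
  · left; rw [e, h4, one_mul]
  · right; rw [e, h4, hsz]
  · exfalso
    rw [h4, ts_sq h hs] at hsq
    exact hz1 (mul_eq_right.1 hsq)
  · exfalso
    apply hz1
    have h5 : (t * z * s) * (t * z * s) = z * (s * s) := by
      rw [← ts_sq h hs]
      have c1 : Commute z (t * s) := by
        have a1 : Commute z t := h.comm.symm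
        have a2 : Commute z s := hsz.symm
        exact a1.mul_right a2
      calc (t * z * s) * (t * z * s) = (z * (t * s)) * (z * (t * s)) := by rw [h.comm]; group
        _ = ((t * s) * z) * (z * (t * s)) := by rw [c1.eq]
        _ = (t * s) * (z * z) * (t * s) := by group
        _ = (t * s) * (t * s) := by rw [h.zz, mul_one]
    rw [h4, h5] at hsq
    exact mul_eq_right.1 hsq

/-- `s` centralises `D` -/
theorem s_D (hs : S1 t z R F s) {d : G} (hd : d ∈ Pos.oddGen K z) : s * d = d * s := by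
  have h1 : Pos.oddGen K z ≤ centralizer ({s} : Set G) := by
    rw [Pos.oddGen, closure_le]
    rintro d ⟨hdK, hdz, hdo⟩
    rw [SetLike.mem_coe, mem_centralizer_singleton_iff]
    rcases conj_s h hs hdK hdz with h2 | h2
    · exact mul_inv_eq_iff_eq_mul.1 h2
    · exfalso
      have cdz : Commute d z := hdz
      have hpow : ∀ n : ℕ, d ^ n * s * (d ^ n)⁻¹ = s * z ^ n := by
        intro n
        induction n with
        | zero => simp
        | succ n ih =>
          have c4 : Commute d (z ^ n) := cdz.pow_right n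
          calc d ^ (n + 1) * s * (d ^ (n + 1))⁻¹ = d * (d ^ n * s * (d ^ n)⁻¹) * d⁻¹ := by
                rw [pow_succ']; group
            _ = (d * s) * z ^ n * d⁻¹ := by rw [ih]; group
            _ = (d * s * d⁻¹) * (d * z ^ n) * d⁻¹ := by group
            _ = (s * z) * (z ^ n * d) * d⁻¹ := by rw [h2, c4.eq]
            _ = s * z ^ (n + 1) := by rw [pow_succ']; group
      have h6 := hpow (orderOf d)
      rw [pow_orderOf_eq_one, one_mul, inv_one, mul_one] at h6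
      have h7 : z ^ orderOf d = 1 := mul_eq_left.1 h6.symm
      obtain ⟨m, hm⟩ := hdo
      rw [hm, pow_succ, pow_mul, pow_two, h.zz, one_pow, one_mul] at h7
      exact h.z1 h7
  exact (mem_centralizer_singleton_iff.1 (h1 hd)).symm

/-- **(S)** `[s, v] = z` for every `v ∈ z^K ∩ C(z)`, `v ≠ z` -/
theorem s_v (hs : S1 t z R F s) {k : G} (hk : k ∈ K) (hvz : (k * z * k⁻¹) * z = z * (k * z * k⁻¹))
    (hvn : k * z * k⁻¹ ≠ z) : s * (k * z * k⁻¹) * s⁻¹ = (k * z * k⁻¹) * z := by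
  set v : G := k * z * k⁻¹ with hv
  have hvK : v ∈ K := K.mul_mem (K.mul_mem hk h.zK) (K.inv_mem hk)
  have hvv : v * v = 1 := by
    calc v * v = k * (z * z) * k⁻¹ := by rw [hv]; group
      _ = 1 := by rw [h.zz]; group
  have hzv : IsConj z v := isConj_iff.2 ⟨k, rfl⟩
  have htv : IsConj t (t * v) := h.pos.conj_tv hk rfl
  have hvw : IsConj v (s * v * s⁻¹) := isConj_iff.2 ⟨s, rfl⟩
  obtain ⟨r, hr, -, h1⟩ := h.pos.exists_of_mem hs.sF hs.st hvK hvv hvz
  -- `r` centralises `R`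
  have hrR : ∀ x ∈ R, r * x = x * r := by
    intro x hx
    have hvx : v * x * v⁻¹ ∈ R := h.P_R hvK hvz hx
    have e1 : (s * v * s⁻¹) * x * (s * v * s⁻¹)⁻¹ = v * x * v⁻¹ := by
      have c1 : Commute s x := hs.sR x hx
      have c2 : Commute s (v * x * v⁻¹) := hs.sR _ hvx
      have e3 : s⁻¹ * x * s = x := by rw [c1.inv_left.eq]; group
      calc (s * v * s⁻¹) * x * (s * v * s⁻¹)⁻¹ = s * (v * (s⁻¹ * x * s) * v⁻¹) * s⁻¹ := by group
        _ = s * (v * x * v⁻¹) * s⁻¹ := by rw [e3]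
        _ = v * x * v⁻¹ := by rw [c2.eq]; group
    have e2 : (s * v * s⁻¹) * x * (s * v * s⁻¹)⁻¹ = v * (r * x * r⁻¹) * v⁻¹ := by
      rcases h1 with h1 | h1
      · rw [h1]; group
      · rw [h1]
        have hy : v * r * x * (v * r)⁻¹ ∈ K :=
          K.mul_mem (K.mul_mem (K.mul_mem hvK (h.RK hr)) (h.RK hx)) (K.inv_mem (K.mul_mem hvK (h.RK hr)))
        have c1 : Commute (v * r * x * (v * r)⁻¹) t := h.Kt _ hy
        calc t * (v * r) * x * (t * (v * r))⁻¹ = t * (v * r * x * (v * r)⁻¹) * t⁻¹ := by group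
          _ = v * r * x * (v * r)⁻¹ := by rw [← c1.eq]; group
          _ = v * (r * x * r⁻¹) * v⁻¹ := by group
    rw [e1] at e2
    have e3 : x = r * x * r⁻¹ := mul_left_cancel (mul_right_cancel e2)
    exact (mul_inv_eq_iff_eq_mul.1 e3.symm)
  have hr1 := h.cR r (h.RK hr) (h.RP r hr) hrR
  have hkR : k⁻¹ * z * k ∉ R := by
    intro h2
    have h3 := h.zR1 k⁻¹ (K.inv_mem hk) (by rwa [inv_inv])
    rw [inv_inv] at h3
    apply hvn
    rw [hv]
    calc k * z * k⁻¹ = k * (k⁻¹ * z * k) * k⁻¹ := by rw [h3]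
      _ = z := by group
  rcases h1 with h1 | h1 <;> rcases hr1 with h2 | h2
  · exfalso
    rw [h2, mul_one] at h1
    exact h.pos.ytrick hk rfl hkR h1 hs.st
  · rw [h1, h2]
  · exfalso
    rw [h2, mul_one] at h1
    rw [h1] at hvw
    exact h.pos.conj_ne_t (hzv.trans hvw) htv
  · exfalso
    rw [h2] at h1
    have e2 : s * (t * v) * s⁻¹ = v := by
      calc s * (t * v) * s⁻¹ = (s * t * s⁻¹) * (s * v * s⁻¹) := by group
        _ = (t * z) * (t * (v * z)) := by rw [hs.st, h1]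
        _ = (t * z) * (t * (z * v)) := by rw [hvz]
        _ = t * (z * t) * z * v := by group
        _ = t * (t * z) * z * v := by rw [h.comm]
        _ = v := by rw [h.tmul, h.zz, one_mul]
    exact h.pos.conj_ne_t hzv (htv.trans (isConj_iff.2 ⟨s, e2⟩))

/-- `s_k = k s k⁻¹`: the action on `z^K` -/
theorem sk_v (hs : S1 t z R F s) {k k' : G} (hk : k ∈ K) (hk' : k' ∈ K)
    (hc : (k * z * k⁻¹) * (k' * z * k'⁻¹) = (k' * z * k'⁻¹) * (k * z * k⁻¹))
    (hn : k * z * k⁻¹ ≠ k' * z * k'⁻¹) :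
    (k * s * k⁻¹) * (k' * z * k'⁻¹) * (k * s * k⁻¹)⁻¹ = (k' * z * k'⁻¹) * (k * z * k⁻¹) := by
  have h1 := s_v h hs (k := k⁻¹ * k') (K.mul_mem (K.inv_mem hk) hk') ?_ ?_
  · calc (k * s * k⁻¹) * (k' * z * k'⁻¹) * (k * s * k⁻¹)⁻¹
        = k * (s * (k⁻¹ * k' * z * (k⁻¹ * k')⁻¹) * s⁻¹) * k⁻¹ := by group
      _ = k * (k⁻¹ * k' * z * (k⁻¹ * k')⁻¹ * z) * k⁻¹ := by rw [h1]
      _ = (k' * z * k'⁻¹) * (k * z * k⁻¹) := by group
  · calc (k⁻¹ * k' * z * (k⁻¹ * k')⁻¹) * z = k⁻¹ * ((k' * z * k'⁻¹) * (k * z * k⁻¹)) * k := by group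
      _ = k⁻¹ * ((k * z * k⁻¹) * (k' * z * k'⁻¹)) * k := by rw [hc]
      _ = z * (k⁻¹ * k' * z * (k⁻¹ * k')⁻¹) := by group
  · intro e
    apply hn
    calc k * z * k⁻¹ = k * (k⁻¹ * k' * z * (k⁻¹ * k')⁻¹) * k⁻¹ := by rw [e]
      _ = k' * z * k'⁻¹ := by group

theorem sk_z (hs : S1 t z R F s) (k : G) : (k * s * k⁻¹) * (k * z * k⁻¹) * (k * s * k⁻¹)⁻¹ = k * z * k⁻¹ := by
  have h1 : s * z * s⁻¹ = z := by rw [s_z h hs]; group
  calc (k * s * k⁻¹) * (k * z * k⁻¹) * (k * s * k⁻¹)⁻¹ = k * (s * z * s⁻¹) * k⁻¹ := by group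
    _ = k * z * k⁻¹ := by rw [h1]

theorem sk_t (hs : S1 t z R F s) {k : G} (hk : k ∈ K) :
    (k * s * k⁻¹) * t * (k * s * k⁻¹)⁻¹ = t * (k * z * k⁻¹) := by
  have c : Commute k t := h.Kt k hk
  have e1 : k⁻¹ * t * k = t := by rw [c.inv_left.eq]; group
  have e2 : k * t * k⁻¹ = t := by rw [c.eq]; group
  calc (k * s * k⁻¹) * t * (k * s * k⁻¹)⁻¹ = k * (s * (k⁻¹ * t * k) * s⁻¹) * k⁻¹ := by group
    _ = (k * t * k⁻¹) * (k * z * k⁻¹) := by rw [e1, hs.st]; group
    _ = t * (k * z * k⁻¹) := by rw [e2]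

/-- **(L7)** `t z₁ z₂` is not conjugate to `t` in `C(z)` -/
theorem not_y (hs : S1 t z R F s) {z₁ z₂ z₃ z₄ k₁ k₂ c₃ c₄ : G} (f : Fr z K R z₁ z₂ z₃ z₄ k₁ k₂ c₃ c₄)
    {g : G} (hgz : g * z = z * g) : g * t * g⁻¹ ≠ t * (z₁ * z₂) := by
  intro hg
  set y : G := t * (z₁ * z₂) with hy
  have hz1K : z₁ ∈ K := by rw [← f.e1]; exact K.mul_mem (K.mul_mem f.k1 h.zK) (K.inv_mem f.k1)
  have hz2K : z₂ ∈ K := by rw [← f.e2]; exact K.mul_mem (K.mul_mem f.k2 h.zK) (K.inv_mem f.k2)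
  have hz11 : z₁ * z₁ = 1 := by
    calc z₁ * z₁ = k₁ * (z * z) * k₁⁻¹ := by rw [← f.e1]; group
      _ = 1 := by rw [h.zz]; group
  have hz22 : z₂ * z₂ = 1 := by
    calc z₂ * z₂ = k₂ * (z * z) * k₂⁻¹ := by rw [← f.e2]; group
      _ = 1 := by rw [h.zz]; group
  set s₁ : G := k₁ * s * k₁⁻¹ with hs₁
  set s₂ : G := k₂ * s * k₂⁻¹ with hs₂
  have a1t : s₁ * t * s₁⁻¹ = t * z₁ := by rw [hs₁, sk_t h hs f.k1, f.e1]
  have a11 : s₁ * z₁ * s₁⁻¹ = z₁ := by
    have := sk_z h hs k₁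
    rwa [f.e1] at this
  have a12 : s₁ * z₂ * s₁⁻¹ = z₂ * z₁ := by
    have := sk_v h hs f.k1 f.k2 (by rw [f.e1, f.e2, f.c12]) (by rw [f.e1, f.e2]; exact f.n12)
    rwa [f.e1, f.e2] at this
  have a13 : s₁ * z₃ * s₁⁻¹ = z₃ * z₁ := by
    have := sk_v h hs f.k1 f.c3 (by rw [f.e1, f.e3, f.c13]) (by rw [f.e1, f.e3]; exact f.n13)
    rwa [f.e1, f.e3] at this
  have a2t : s₂ * t * s₂⁻¹ = t * z₂ := by rw [hs₂, sk_t h hs f.k2, f.e2]
  have a22 : s₂ * z₂ * s₂⁻¹ = z₂ := by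
    have := sk_z h hs k₂
    rwa [f.e2] at this
  have a21 : s₂ * z₁ * s₂⁻¹ = z₁ * z₂ := by
    have := sk_v h hs f.k2 f.k1 (by rw [f.e1, f.e2, f.c12]) (by rw [f.e1, f.e2]; exact f.n12.symm)
    rwa [f.e1, f.e2] at this
  have a24 : s₂ * z₄ * s₂⁻¹ = z₄ * z₂ := by
    have := sk_v h hs f.k2 f.c4 (by rw [f.e2, f.e4, f.c24]) (by rw [f.e2, f.e4]; exact f.n24)
    rwa [f.e2, f.e4] at this
  -- `s₁`, `s₂` centralise `y`
  have b1 : s₁ * y * s₁⁻¹ = y := by
    calc s₁ * y * s₁⁻¹ = (s₁ * t * s₁⁻¹) * (s₁ * z₁ * s₁⁻¹) * (s₁ * z₂ * s₁⁻¹) := by rw [hy]; group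
      _ = t * (z₁ * z₁) * (z₂ * z₁) := by rw [a1t, a11, a12]; group
      _ = t * (z₁ * z₂) := by rw [hz11, mul_one, f.c12]
  have b2 : s₂ * y * s₂⁻¹ = y := by
    calc s₂ * y * s₂⁻¹ = (s₂ * t * s₂⁻¹) * (s₂ * z₁ * s₂⁻¹) * (s₂ * z₂ * s₂⁻¹) := by rw [hy]; group
      _ = t * (z₂ * z₁) * (z₂ * z₂) := by rw [a2t, a22, a21]; group
      _ = t * (z₁ * z₂) := by rw [hz22, mul_one, f.c12]
  have b3 : c₃ * y * c₃⁻¹ = y := by
    have c1 : Commute c₃ t := h.Kt c₃ f.c3
    have c2 : Commute c₃ (z₁ * z₂) := f.d3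
    rw [hy, (c1.mul_right c2).eq]; group
  have b4 : c₄ * y * c₄⁻¹ = y := by
    have c1 : Commute c₄ t := h.Kt c₄ f.c4
    have c2 : Commute c₄ (z₁ * z₂) := f.d4
    rw [hy, (c1.mul_right c2).eq]; group
  set a : G := s₁ * c₃ with ha
  set b : G := s₂ * c₄ with hb
  have hay : a * y * a⁻¹ = y := by
    calc a * y * a⁻¹ = s₁ * (c₃ * y * c₃⁻¹) * s₁⁻¹ := by rw [ha]; group
      _ = y := by rw [b3, b1]
  have hby : b * y * b⁻¹ = y := by
    calc b * y * b⁻¹ = s₂ * (c₄ * y * c₄⁻¹) * s₂⁻¹ := by rw [hb]; group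
      _ = y := by rw [b4, b2]
  have haz : a * z * a⁻¹ = z₃ * z₁ := by
    calc a * z * a⁻¹ = s₁ * (c₃ * z * c₃⁻¹) * s₁⁻¹ := by rw [ha]; group
      _ = z₃ * z₁ := by rw [f.e3, a13]
  have hbz : b * z * b⁻¹ = z₄ * z₂ := by
    calc b * z * b⁻¹ = s₂ * (c₄ * z * c₄⁻¹) * s₂⁻¹ := by rw [hb]; group
      _ = z₄ * z₂ := by rw [f.e4, a24]
  -- pull back
  have hgz' : g⁻¹ * z * g = z := by
    have c : Commute g z := hgz
    rw [c.inv_left.eq]; group
  have hgz'' : g * z * g⁻¹ = z := by rw [hgz]; group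
  have hgy : g⁻¹ * y * g = t := by rw [← hg]; group
  have key : ∀ x : G, x * y * x⁻¹ = y → (g⁻¹ * x * g) * t = t * (g⁻¹ * x * g) ∧
      (g⁻¹ * x * g) * z * (g⁻¹ * x * g)⁻¹ = g⁻¹ * (x * z * x⁻¹) * g := by
    intro x hx
    constructor
    · have e : (g⁻¹ * x * g) * t * (g⁻¹ * x * g)⁻¹ = t := by
        calc (g⁻¹ * x * g) * t * (g⁻¹ * x * g)⁻¹ = g⁻¹ * (x * (g * t * g⁻¹) * x⁻¹) * g := by group
          _ = t := by rw [hg, hx, hgy]
      exact mul_inv_eq_iff_eq_mul.1 e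
    · calc (g⁻¹ * x * g) * z * (g⁻¹ * x * g)⁻¹ = g⁻¹ * (x * (g * z * g⁻¹) * x⁻¹) * g := by group
        _ = g⁻¹ * (x * z * x⁻¹) * g := by rw [hgz'']
  obtain ⟨ha1, ha2⟩ := key a hay
  obtain ⟨hb1, hb2⟩ := key b hby
  obtain ⟨k, hk, hka⟩ := h.kz _ ha1
  obtain ⟨k', hk', hkb⟩ := h.kz _ hb1
  rw [ha2, haz] at hka
  rw [hb2, hbz] at hkb
  have hc31 : (z₃ * z₁) * z = z * (z₃ * z₁) := by
    have c1 : Commute z₃ z := f.z3z
    have c2 : Commute z₁ z := f.z1z
    exact c1.mul_left c2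
  refine h.p2 k hk k' hk' ?_ ?_ ?_
  · rw [hka]
    calc g⁻¹ * (z₃ * z₁) * g * z = g⁻¹ * (z₃ * z₁) * (g * z * g⁻¹) * g := by group
      _ = g⁻¹ * ((z₃ * z₁) * z) * g := by rw [hgz'']; group
      _ = g⁻¹ * (z * (z₃ * z₁)) * g := by rw [hc31]
      _ = (g⁻¹ * z * g) * (g⁻¹ * (z₃ * z₁) * g) := by group
      _ = z * (g⁻¹ * (z₃ * z₁) * g) := by rw [hgz']
  · rw [hka]
    intro e
    apply f.n31
    calc z₃ * z₁ = g * (g⁻¹ * (z₃ * z₁) * g) * g⁻¹ := by group
      _ = z := by rw [e, hgz'']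
  · rw [hka, hkb]
    calc g⁻¹ * (z₄ * z₂) * g = g⁻¹ * ((z₃ * z₁) * z) * g := by rw [f.prod]
      _ = g⁻¹ * (z₃ * z₁) * g * (g⁻¹ * z * g) := by group
      _ = g⁻¹ * (z₃ * z₁) * g * z := by rw [hgz']

/-- **(L6)** `t^H ∩ C(t) = {t, t z}` -/
theorem conj_t (hs : S1 t z R F s) {z₁ z₂ z₃ z₄ k₁ k₂ c₃ c₄ : G} (f : Fr z K R z₁ z₂ z₃ z₄ k₁ k₂ c₃ c₄)
    {g : G} (hgz : g * z = z * g) (hgt : (g * t * g⁻¹) * t = t * (g * t * g⁻¹)) :
    g * t * g⁻¹ = t ∨ g * t * g⁻¹ = t * z := by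
  set y : G := g * t * g⁻¹ with hy
  have hyF : y ∈ F := h.F'.nor g hgz t h.tF
  have hyy : y * y = 1 := by
    calc y * y = g * (t * t) * g⁻¹ := by rw [hy]; group
      _ = 1 := by rw [h.tt]; group
  have hty : IsConj t y := isConj_iff.2 ⟨g, rfl⟩
  -- `z₁ z₂` is conjugate to `z`
  have h12 : IsConj z (z₁ * z₂) := by
    have a12 : (k₁ * s * k₁⁻¹) * z₂ * (k₁ * s * k₁⁻¹)⁻¹ = z₂ * z₁ := by
      have := sk_v h hs f.k1 f.k2 (by rw [f.e1, f.e2, f.c12]) (by rw [f.e1, f.e2]; exact f.n12)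
      rwa [f.e1, f.e2] at this
    have h1 : IsConj z z₂ := isConj_iff.2 ⟨k₂, f.e2⟩
    have h2 : IsConj z₂ (z₁ * z₂) := by
      rw [f.c12]
      exact isConj_iff.2 ⟨_, a12⟩
    exact h1.trans h2
  rcases h.pos.mem_or hyF hgt with h1 | h1
  · exfalso
    have hy1 : y ≠ 1 := fun e => h.t1 (conj_eq_one_iff.1 e)
    have hyz : y ≠ z := h.nc g
    obtain ⟨p, -, -, hp⟩ := f.p3 y h1 hyy hy1 hyz
    exact h.pos.conj_ne_t h12 (hty.trans (isConj_iff.2 ⟨p, hp⟩))
  · have hr2 : (t * y) * (t * y) = 1 := by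
      calc (t * y) * (t * y) = t * (y * t) * y := by group
        _ = t * (t * y) * y := by rw [hgt]
        _ = 1 := by rw [h.tmul, hyy]
    by_cases hr1 : t * y = 1
    · left; rw [← h.tmul y, hr1, mul_one]
    by_cases hrz : t * y = z
    · right; rw [← h.tmul y, hrz]
    exfalso
    obtain ⟨p, hp, hpz, hpe⟩ := f.p3 (t * y) h1 hr2 hr1 hrz
    have hpt : p * t * p⁻¹ = t := by rw [h.Kt p hp]; group
    have c1 : Commute p z := hpz
    have c2 : Commute g z := hgz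
    refine not_y h hs f (g := p * g) (c1.mul_left c2).eq ?_
    calc p * g * t * (p * g)⁻¹ = p * y * p⁻¹ := by rw [hy]; group
      _ = p * (t * (t * y)) * p⁻¹ := by rw [h.tmul]
      _ = (p * t * p⁻¹) * (p * (t * y) * p⁻¹) := by group
      _ = t * (z₁ * z₂) := by rw [hpt, hpe]

/-- **(L8)** `t^H ⊆ ⟨z⟩ {t, s, t s}` -/
theorem conj_t_mem [Finite G] (hs : S1 t z R F s) {z₁ z₂ z₃ z₄ k₁ k₂ c₃ c₄ : G}
    (f : Fr z K R z₁ z₂ z₃ z₄ k₁ k₂ c₃ c₄) {g : G} (hgz : g * z = z * g) :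
    (g * t * g⁻¹ = t ∨ g * t * g⁻¹ = t * z) ∨ (g * t * g⁻¹ = s ∨ g * t * g⁻¹ = z * s) ∨
      (g * t * g⁻¹ = t * s ∨ g * t * g⁻¹ = t * (z * s)) := by
  set y : G := g * t * g⁻¹ with hy
  have hyF : y ∈ F := h.F'.nor g hgz t h.tF
  by_cases hyt : y * t = t * y
  · exact Or.inl (conj_t h hs f hgz hyt)
  right
  have hnt := h.nt hyF
  have hyt2 : y * t * y⁻¹ = t * z := by
    rcases hnt.ct with h1 | h1
    · exact absurd (mul_inv_eq_iff_eq_mul.1 h1) hyt
    · exact h1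
  have hsinv := s_inv h hs
  have hsz := s_z h hs
  -- `y s⁻¹ ∈ C(t)`
  have hxF : y * s⁻¹ ∈ F := F.mul_mem hyF (F.inv_mem hs.sF)
  have hxt : (y * s⁻¹) * t = t * (y * s⁻¹) := by
    have e : (y * s⁻¹) * t * (y * s⁻¹)⁻¹ = t := by
      have hyz' : y * z * y⁻¹ = z := by rw [hnt.cz]; group
      calc (y * s⁻¹) * t * (y * s⁻¹)⁻¹ = y * (s⁻¹ * t * s) * y⁻¹ := by group
        _ = (y * t * y⁻¹) * (y * z * y⁻¹) := by rw [hsinv]; group
        _ = t := by rw [hyt2, hyz', mul_assoc, h.zz, mul_one]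
    exact mul_inv_eq_iff_eq_mul.1 e
  -- `y = r σ`, `σ ∈ {s, t s}`
  obtain ⟨r, hr, σ, hσ, hyσ⟩ : ∃ r ∈ R, ∃ σ, (σ = s ∨ σ = t * s) ∧ y = r * σ := by
    rcases h.pos.mem_or hxF hxt with h1 | h1
    · exact ⟨_, h1, s, Or.inl rfl, by group⟩
    · refine ⟨_, h1, t * s, Or.inr rfl, ?_⟩
      have c : Commute t (y * s⁻¹) := hxt.symm
      calc y = (y * s⁻¹) * s := by group
        _ = (t * t * (y * s⁻¹)) * s := by rw [h.tt, one_mul]
        _ = t * (t * (y * s⁻¹)) * s := by group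
        _ = (t * (y * s⁻¹)) * t * s := by
            have c2 : Commute t (t * (y * s⁻¹)) := (Commute.refl t).mul_right c
            rw [c2.eq]
        _ = t * (y * s⁻¹) * (t * s) := by group
  have hσR : ∀ x ∈ R, Commute σ x := by
    intro x hx
    have c1 : Commute s x := hs.sR x hx
    have c2 : Commute t x := (h.Kt x (h.RK hx)).symm
    rcases hσ with e | e <;> rw [e]
    · exact c1
    · exact c2.mul_left c1
  have hσz : Commute σ z := hσR z h.zR
  by_cases hr1 : r = 1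
  · rw [hr1, one_mul] at hyσ
    rcases hσ with e | e
    · left; left; rw [hyσ, e]
    · right; left; rw [hyσ, e]
  by_cases hrz : r = z
  · rw [hrz] at hyσ
    rcases hσ with e | e
    · left; right; rw [hyσ, e]
    · right; right; rw [hyσ, e, ← mul_assoc, ← mul_assoc, h.comm]
  exfalso
  obtain ⟨p, hp, hpz, hpr, hn1, hn2⟩ := h.p4 r hr hr1 hrz
  have hpt := h.Kt p hp
  have hpt' : p * t * p⁻¹ = t := by rw [hpt]; group
  have hr' : p * r * p⁻¹ ∈ R := h.P_R hp hpz hr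
  -- `p σ p⁻¹ = σ ζ`
  obtain ⟨ζ, hζ, hpσ⟩ : ∃ ζ, (ζ = 1 ∨ ζ = z) ∧ p * σ * p⁻¹ = σ * ζ := by
    rcases conj_s h hs hp hpz with h1 | h1 <;> rcases hσ with e | e
    · exact ⟨1, Or.inl rfl, by rw [e, h1, mul_one]⟩
    · refine ⟨1, Or.inl rfl, ?_⟩
      rw [e]
      calc p * (t * s) * p⁻¹ = (p * t * p⁻¹) * (p * s * p⁻¹) := by group
        _ = t * s * 1 := by rw [hpt', h1, mul_one]
    · exact ⟨z, Or.inr rfl, by rw [e, h1]⟩
    · refine ⟨z, Or.inr rfl, ?_⟩
      rw [e]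
      calc p * (t * s) * p⁻¹ = (p * t * p⁻¹) * (p * s * p⁻¹) := by group
        _ = t * s * z := by rw [hpt', h1]; group
  have hζz : ∀ x : G, Commute x z → Commute x ζ := by
    intro x hx
    rcases hζ with e | e <;> rw [e]
    · exact Commute.one_right x
    · exact hx
  set y' : G := p * y * p⁻¹ with hy'
  have hy'e : y' = (p * r * p⁻¹) * (σ * ζ) := by
    rw [hy', hyσ, ← hpσ]; group
  have hrz' : Commute r z := h.RP r hr
  have hrz'' : Commute (p * r * p⁻¹) z := h.RP _ hr'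
  have hcomm : Commute y' y := by
    rw [hy'e, hyσ]
    have c1 : Commute (p * r * p⁻¹) r := hpr
    have c2 : Commute (p * r * p⁻¹) σ := (hσR _ hr').symm
    have c3 : Commute (σ * ζ) r := (hσR r hr).mul_left (hζz r hrz').symm
    have c4 : Commute (σ * ζ) σ := (Commute.refl σ).mul_left (hζz σ hσz).symm
    exact (c1.mul_right c2).mul_left (c3.mul_right c4)
  -- `y' = (g a) t (g a)⁻¹`
  set a : G := g⁻¹ * p * g with ha
  have c1 : Commute p z := hpz
  have c2 : Commute g z := hgz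
  have haz : a * z = z * a := ((c2.inv_left.mul_left c1).mul_left c2).eq
  have hy'a : g⁻¹ * y' * g = a * t * a⁻¹ := by rw [hy', hy, ha]; group
  have hat : (a * t * a⁻¹) * t = t * (a * t * a⁻¹) := by
    rw [← hy'a]
    have e : g⁻¹ * y * g = t := by rw [hy]; group
    calc g⁻¹ * y' * g * t = g⁻¹ * y' * g * (g⁻¹ * y * g) := by rw [e]
      _ = g⁻¹ * (y' * y) * g := by group
      _ = g⁻¹ * (y * y') * g := by rw [hcomm.eq]
      _ = (g⁻¹ * y * g) * (g⁻¹ * y' * g) := by group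
      _ = t * (g⁻¹ * y' * g) := by rw [e]
  have hgz'' : g * z * g⁻¹ = z := by rw [hgz]; group
  have hfin : y' = y ∨ y' = y * z := by
    rcases conj_t h hs f haz hat with h1 | h1
    · left
      calc y' = g * (g⁻¹ * y' * g) * g⁻¹ := by group
        _ = y := by rw [hy'a, h1]
    · right
      calc y' = g * (g⁻¹ * y' * g) * g⁻¹ := by group
        _ = (g * t * g⁻¹) * (g * z * g⁻¹) := by rw [hy'a, h1]; group
        _ = y * z := by rw [hgz'']
  -- hence `p r p⁻¹ ∈ r ⟨z⟩`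
  have hσi : ∀ c : G, (p * r * p⁻¹) * (σ * ζ) = r * σ * c → Commute c σ → p * r * p⁻¹ = r * (c * ζ⁻¹) := by
    intro c e hc
    have c5 : Commute σ ζ := hζz σ hσz
    calc p * r * p⁻¹ = (p * r * p⁻¹) * (σ * ζ) * (ζ⁻¹ * σ⁻¹) := by group
      _ = r * (σ * c) * ζ⁻¹ * σ⁻¹ := by rw [e]; group
      _ = r * c * (σ * ζ⁻¹) * σ⁻¹ := by rw [← hc.eq]; group
      _ = r * (c * ζ⁻¹) := by rw [c5.inv_right.eq]; group
  rw [hy'e, hyσ] at hfin
  have hzi : z⁻¹ = z := inv_eq_of_mul_eq_one_left h.zz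
  rcases hfin with h1 | h1
  · have h2 := hσi 1 (by rw [mul_one]; exact h1) (Commute.one_left σ)
    rcases hζ with e | e
    · rw [e, inv_one, mul_one, mul_one] at h2
      exact hn1 h2
    · rw [e, hzi, one_mul] at h2
      exact hn2 h2
  · have h2 := hσi z h1 hσz.symm
    rcases hζ with e | e
    · rw [e, inv_one, mul_one] at h2
      exact hn2 h2
    · rw [e, hzi, h.zz, mul_one] at h2
      exact hn1 h2

/-- **(L9)** Case II is impossible -/
theorem false_two [Finite G] (hFt : ¬ ∀ x ∈ F, x * t = t * x) {z₁ z₂ z₃ z₄ k₁ k₂ c₃ c₄ : G}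
    (f : Fr z K R z₁ z₂ z₃ z₄ k₁ k₂ c₃ c₄) : False := by
  obtain ⟨s, hs⟩ := exists_S1 h hFt
  have hsz := s_z h hs
  have hzt := h.comm
  have czt : Commute z t := hzt.symm
  have czs : Commute z s := hsz.symm
  -- the elements of `F` centralising `D`
  have hcD : ∀ x ∈ F, (∀ d ∈ Pos.oddGen K z, x * d = d * x) →
      (x = 1 ∨ x = z ∨ x = t ∨ x = t * z) ∨ (x * s⁻¹ = 1 ∨ x * s⁻¹ = z ∨ x * s⁻¹ = t ∨ x * s⁻¹ = t * z) := by
    intro x hx hxD
    have hnt := h.nt hx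
    rcases hnt.ct with h1 | h1
    · left
      exact h.cent_R hx (mul_inv_eq_iff_eq_mul.1 h1) (fun r hr => hxD r (h.RD hr))
    · right
      refine h.cent_R (F.mul_mem hx (F.inv_mem hs.sF)) ?_ (fun r hr => ?_)
      · have e : (x * s⁻¹) * t * (x * s⁻¹)⁻¹ = t := by
          have hyz' : x * z * x⁻¹ = z := by rw [hnt.cz]; group
          calc (x * s⁻¹) * t * (x * s⁻¹)⁻¹ = x * (s⁻¹ * t * s) * x⁻¹ := by group
            _ = (x * t * x⁻¹) * (x * z * x⁻¹) := by rw [s_inv h hs]; group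
            _ = t := by rw [h1, hyz', mul_assoc, h.zz, mul_one]
        exact mul_inv_eq_iff_eq_mul.1 e
      · have c1 : Commute x r := hxD r (h.RD hr)
        have c2 : Commute s r := hs.sR r hr
        exact (c1.mul_left c2.inv_left).eq
  -- `H` normalises `D`
  have hHD : ∀ g, g * z = z * g → ∀ d ∈ Pos.oddGen K z, g⁻¹ * d * g ∈ Pos.oddGen K z := by
    intro g hgz d hd
    -- `D` centralises `g t g⁻¹`
    have hDt : ∀ d ∈ Pos.oddGen K z, d * (g * t * g⁻¹) = (g * t * g⁻¹) * d := by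
      intro d hd
      have c1 : Commute d t := h.toSLoc.oddGen_comm_t hd
      have c2 : Commute d z := SLoc.oddGen_comm_z hd
      have c3 : Commute d s := (s_D h hs hd).symm
      have : Commute d (g * t * g⁻¹) := by
        rcases conj_t_mem h hs f hgz with (e | e) | (e | e) | (e | e) <;> rw [e]
        · exact c1
        · exact c1.mul_right c2
        · exact c3
        · exact c2.mul_right c3
        · exact c1.mul_right c3
        · exact c1.mul_right (c2.mul_right c3)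
      exact this
    have h1 : MulAut.conj g⁻¹ d ∈ (Pos.oddGen K z).map (MulAut.conj g⁻¹).toMonoidHom := ⟨d, hd, rfl⟩
    rw [Pos.oddGen, MonoidHom.map_closure] at h1
    have e : MulAut.conj g⁻¹ d = g⁻¹ * d * g := by rw [MulAut.conj_apply, inv_inv]
    rw [e] at h1
    refine closure_mono ?_ h1
    rintro _ ⟨x, ⟨hxK, hxz, hxo⟩, rfl⟩
    have e2 : (MulAut.conj g⁻¹).toMonoidHom x = g⁻¹ * x * g := by
      show g⁻¹ * x * g⁻¹⁻¹ = _
      rw [inv_inv]
    have hxD : x ∈ Pos.oddGen K z := subset_closure ⟨hxK, hxz, hxo⟩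
    have h2 := hDt x hxD
    have h3 : (g⁻¹ * x * g) * t = t * (g⁻¹ * x * g) := by
      calc (g⁻¹ * x * g) * t = g⁻¹ * (x * (g * t * g⁻¹)) * g := by group
        _ = g⁻¹ * ((g * t * g⁻¹) * x) * g := by rw [h2]
        _ = t * (g⁻¹ * x * g) := by group
    have h4 : Odd (orderOf (g⁻¹ * x * g)) := by
      have : orderOf ((MulAut.conj g⁻¹).toMonoidHom x) = orderOf x :=
        orderOf_injective (MulAut.conj g⁻¹).toMonoidHom (MulAut.conj g⁻¹).injective x
      rw [e2] at this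
      rw [this]; exact hxo
    have cgz : Commute g z := hgz
    have cxz : Commute x z := hxz
    rw [e2]
    exact ⟨h.mo _ h3 h4, ((cgz.inv_left.mul_left cxz).mul_left cgz).eq, h4⟩
  -- `H` permutes the elements of `F` centralising `D`
  have hinv : ∀ g, g * z = z * g → ∀ x ∈ F, (∀ d ∈ Pos.oddGen K z, x * d = d * x) →
      (g * x * g⁻¹ ∈ F ∧ ∀ d ∈ Pos.oddGen K z, (g * x * g⁻¹) * d = d * (g * x * g⁻¹)) := by
    intro g hgz x hx hxD
    refine ⟨h.F'.nor g hgz x hx, fun d hd => ?_⟩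
    have h1 := hxD _ (hHD g hgz d hd)
    calc (g * x * g⁻¹) * d = g * (x * (g⁻¹ * d * g)) * g⁻¹ := by group
      _ = g * ((g⁻¹ * d * g) * x) * g⁻¹ := by rw [h1]
      _ = d * (g * x * g⁻¹) := by group
  -- the element `u` of order 4
  obtain ⟨u, huF, huD, huu, hut, huniq⟩ : ∃ u ∈ F, (∀ d ∈ Pos.oddGen K z, u * d = d * u) ∧ u * u = z ∧
      t * u * t⁻¹ = u * z ∧
      ∀ x ∈ F, (∀ d ∈ Pos.oddGen K z, x * d = d * x) → x * x = z → x = u ∨ x = u * z := by
    have hz1 := h.z1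
    have hztz : (t * z) * (t * z) = 1 := by
      calc t * z * (t * z) = t * (z * t) * z := by group
        _ = t * (t * z) * z := by rw [h.comm]
        _ = 1 := by rw [h.tmul, h.zz]
    have hts := ts_sq h hs
    have htst := t_s h hs
    have hsD : ∀ d ∈ Pos.oddGen K z, s * d = d * s := fun d hd => s_D h hs hd
    have htsD : ∀ d ∈ Pos.oddGen K z, (t * s) * d = d * (t * s) := fun d hd => by
      have c1 : Commute t d := (h.toSLoc.oddGen_comm_t hd).symm
      have c2 : Commute s d := hsD d hd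
      exact (c1.mul_left c2).eq
    -- squares of the elements
    have hzsz : (z * s) * (z * s) = s * s := by
      calc (z * s) * (z * s) = z * (s * z) * s := by group
        _ = z * (z * s) * s := by rw [hsz]
        _ = (z * z) * (s * s) := by group
        _ = s * s := by rw [h.zz, one_mul]
    have htzs : (t * z * s) * (t * z * s) = z * (s * s) := by
      rw [← hts]
      have c1 : Commute z (t * s) := czt.mul_right czs
      calc (t * z * s) * (t * z * s) = (z * (t * s)) * (z * (t * s)) := by rw [h.comm]; group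
        _ = ((t * s) * z) * (z * (t * s)) := by rw [c1.eq]
        _ = (t * s) * (z * z) * (t * s) := by group
        _ = (t * s) * (t * s) := by rw [h.zz, mul_one]
    have h0 : ∀ x ∈ F, (∀ d ∈ Pos.oddGen K z, x * d = d * x) → x * x = z →
        x = s ∨ x = z * s ∨ x = t * s ∨ x = t * z * s := by
      intro x hx hxD hxx
      rcases hcD x hx hxD with h1 | h1
      · exfalso
        rcases h1 with h1 | h1 | h1 | h1 <;> rw [h1] at hxx
        · rw [one_mul] at hxx; exact hz1 hxx.symm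
        · rw [h.zz] at hxx; exact hz1 hxx.symm
        · rw [h.tt] at hxx; exact hz1 hxx.symm
        · rw [hztz] at hxx; exact hz1 hxx.symm
      · have e : x = (x * s⁻¹) * s := by group
        rcases h1 with h1 | h1 | h1 | h1 <;> rw [h1] at e
        · left; rw [e, one_mul]
        · right; left; exact e
        · right; right; left; exact e
        · right; right; right; exact e
    rcases s_sq h hs with h1 | h1
    · -- `s² = 1`: `u = t s`
      refine ⟨t * s, F.mul_mem h.tF hs.sF, htsD, by rw [hts, h1, mul_one], ?_, ?_⟩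
      · calc t * (t * s) * t⁻¹ = t * (t * s * t⁻¹) := by group
          _ = t * s * z := by rw [htst]; group
      · intro x hx hxD hxx
        rcases h0 x hx hxD hxx with e | e | e | e
        · exfalso
          rw [e, h1] at hxx
          exact hz1 hxx.symm
        · exfalso
          rw [e, hzsz, h1] at hxx
          exact hz1 hxx.symm
        · exact Or.inl e
        · right; rw [e, mul_assoc, mul_assoc, hsz]
    · refine ⟨s, hs.sF, hsD, h1, htst, ?_⟩
      intro x hx hxD hxx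
      rcases h0 x hx hxD hxx with e | e | e | e
      · exact Or.inl e
      · right; rw [e, hsz]
      · exfalso
        rw [e, hts, h1, h.zz] at hxx
        exact hz1 hxx.symm
      · exfalso
        rw [e, htzs, h1, h.zz] at hxx
        exact hz1 hxx.symm
  have h5 := Cfsg.Agent.OddHalf.D8.CaseX.sign_pair (u := u) h.zz h.z1 hzt h.lam (by
    intro g hgz
    obtain ⟨h1, h2⟩ := hinv g hgz u huF huD
    apply huniq _ h1 h2
    calc g * u * g⁻¹ * (g * u * g⁻¹) = g * (u * u) * g⁻¹ := by group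
      _ = z := by rw [huu, hgz]; group)
  have h6 : t * u * t⁻¹ = u := by rw [h5]; group
  rw [hut] at h6
  exact h.z1 (mul_eq_left.1 h6)

end Cfsg.Agent.OddHalf.D6.QThree.SpTwo

end

-- merged: Cfsg.Agent.OddHalf.D6.QThree.SpOne
section

/-!
# ODD half, D6, `q = 3`: `PSp₄(3)` with an outer part, all the cores `F ∋ t` of `C(z)` in `C(t)` (helper143)

`HPos`: the position; `Dl`: the facts on `D = O²(C_K(z))` and its action; `HPos.false_one`: contradiction, when
`C(t) ∩ C(z)` has an element outside `⟨t⟩ K`.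
-/

set_option autoImplicit false
set_option linter.unusedSectionVars false

namespace Cfsg.Agent.OddHalf.D6.QThree.SpOne

open Subgroup Cfsg Cfsg.Agent.OddHalf.D6.QThree.Sit Cfsg.Agent.OddHalf.D6.QThree.Core
open Cfsg.Agent.OddHalf.D6.QThree.Outer Cfsg.Agent.OddHalf.D6.QThree.SpSit
open Cfsg.Agent.OddHalf.D6.QThree.End (Pos.oddGen Pos.oddGen_le Pos.oddGen_le' comm_mem_of_gen
  mem_of_commutator Pos.swap_cen Pos.swap_inv)

variable {G : Type*} [Group G] {t z : G} {K R F : Subgroup G}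

/-! ### signs -/

section signs

variable {x g h : G}

theorem plus_plus (hg : ∀ r ∈ R, g * r * g⁻¹ ∈ R) (h1 : g * x * g⁻¹ * x⁻¹ ∈ R) (h2 : h * x * h⁻¹ * x⁻¹ ∈ R) :
    (g * h) * x * (g * h)⁻¹ * x⁻¹ ∈ R := by
  have e : (g * h) * x * (g * h)⁻¹ * x⁻¹ = (g * (h * x * h⁻¹ * x⁻¹) * g⁻¹) * (g * x * g⁻¹ * x⁻¹) := by group
  rw [e]; exact R.mul_mem (hg _ h2) h1

theorem minus_plus (hg : ∀ r ∈ R, g * r * g⁻¹ ∈ R) (h1 : g * x * g⁻¹ * x ∈ R) (h2 : h * x * h⁻¹ * x⁻¹ ∈ R) :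
    (g * h) * x * (g * h)⁻¹ * x ∈ R := by
  have e : (g * h) * x * (g * h)⁻¹ * x = (g * (h * x * h⁻¹ * x⁻¹) * g⁻¹) * (g * x * g⁻¹ * x) := by group
  rw [e]; exact R.mul_mem (hg _ h2) h1

theorem plus_minus (hg : ∀ r ∈ R, g * r * g⁻¹ ∈ R) (hx : ∀ r ∈ R, x⁻¹ * r * x ∈ R)
    (h1 : g * x * g⁻¹ * x⁻¹ ∈ R) (h2 : h * x * h⁻¹ * x ∈ R) : (g * h) * x * (g * h)⁻¹ * x ∈ R := by
  have e : (g * h) * x * (g * h)⁻¹ * x =
      (g * (h * x * h⁻¹ * x) * g⁻¹) * (x⁻¹ * (g * x * g⁻¹ * x⁻¹)⁻¹ * x) := by group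
  rw [e]; exact R.mul_mem (hg _ h2) (hx _ (R.inv_mem h1))

theorem minus_minus (hg : ∀ r ∈ R, g * r * g⁻¹ ∈ R) (hx : ∀ r ∈ R, x * r * x⁻¹ ∈ R)
    (h1 : g * x * g⁻¹ * x ∈ R) (h2 : h * x * h⁻¹ * x ∈ R) : (g * h) * x * (g * h)⁻¹ * x⁻¹ ∈ R := by
  have e : (g * h) * x * (g * h)⁻¹ * x⁻¹ =
      (g * (h * x * h⁻¹ * x) * g⁻¹) * (x * (g * x * g⁻¹ * x) * x⁻¹)⁻¹ := by group
  rw [e]; exact R.mul_mem (hg _ h2) (R.inv_mem (hx _ h1))

end signs

/-! ### an extension by an element of order two -/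

/-- `D ∪ u D`, `u² ∈ D` -/
def ext (D : Subgroup G) (u : G) (hu : u * u ∈ D) (hn : ∀ d ∈ D, u * d * u⁻¹ ∈ D) : Subgroup G where
  carrier := {x | x ∈ D ∨ u * x ∈ D}
  one_mem' := Or.inl D.one_mem
  mul_mem' := by
    rintro x y (hx | hx) (hy | hy)
    · exact Or.inl (D.mul_mem hx hy)
    · right
      have e : u * (x * y) = (u * x * u⁻¹) * (u * y) := by group
      rw [e]; exact D.mul_mem (hn x hx) hy
    · right
      have e : u * (x * y) = (u * x) * y := by group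
      rw [e]; exact D.mul_mem hx hy
    · left
      have e : x * y = (u * u)⁻¹ * ((u * (u * x) * u⁻¹) * (u * y)) := by group
      rw [e]; exact D.mul_mem (D.inv_mem hu) (D.mul_mem (hn _ hx) hy)
  inv_mem' := by
    rintro x (hx | hx)
    · exact Or.inl (D.inv_mem hx)
    · right
      have e : u * x⁻¹ = (u * (u * x)⁻¹ * u⁻¹) * (u * u) := by group
      rw [e]; exact D.mul_mem (hn _ (D.inv_mem hx)) hu

theorem ext_conj {D : Subgroup G} {u : G} {hu : u * u ∈ D} {hn : ∀ d ∈ D, u * d * u⁻¹ ∈ D} {a : G}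
    (ha : ∀ d ∈ D, a * d * a⁻¹ ∈ D) (hau : u * (a * u * a⁻¹)⁻¹ ∈ D) {m : G} (hm : m ∈ ext D u hu hn) :
    a * m * a⁻¹ ∈ ext D u hu hn := by
  rcases hm with hm | hm
  · exact Or.inl (ha m hm)
  · right
    have e : u * (a * m * a⁻¹) = (u * (a * u * a⁻¹)⁻¹) * (a * (u * m) * a⁻¹) := by group
    rw [e]; exact D.mul_mem hau (ha _ hm)

/-! ### the parts of an element -/

/-- the 2-part and the `2'`-part -/
theorem exists_parts [Finite G] (x : G) : ∃ a ∈ zpowers x, ∃ b ∈ zpowers x, x = a * b ∧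
    IsPGroup 2 (zpowers a) ∧ Odd (orderOf b) := by
  obtain ⟨k, m, hm, hx⟩ := Nat.exists_eq_two_pow_mul_odd (orderOf_pos x).ne'
  have hcop : Nat.Coprime (2 ^ k) m := Nat.Coprime.pow_left k (Nat.coprime_two_left.2 hm)
  have hb := Nat.gcd_eq_gcd_ab (2 ^ k) m
  rw [hcop, Nat.cast_one] at hb
  set u := Nat.gcdA (2 ^ k) m
  set w := Nat.gcdB (2 ^ k) m
  refine ⟨x ^ ((m : ℤ) * w), ⟨_, rfl⟩, x ^ (((2 ^ k : ℕ) : ℤ) * u), ⟨_, rfl⟩, ?_, ?_, ?_⟩
  · rw [← zpow_add, add_comm, ← hb, zpow_one]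
  · have h1 : (x ^ ((m : ℤ) * w)) ^ (2 ^ k) = 1 := by
      rw [← zpow_natCast, ← zpow_mul]
      have e : (m : ℤ) * w * ((2 ^ k : ℕ) : ℤ) = ((orderOf x : ℕ) : ℤ) * w := by
        rw [hx]; push_cast; ring
      rw [e, zpow_mul, zpow_natCast, pow_orderOf_eq_one, one_zpow]
    rw [IsPGroup.iff_card]
    rw [Nat.card_zpowers]
    obtain ⟨j, -, hj⟩ := (Nat.dvd_prime_pow Nat.prime_two).1 (orderOf_dvd_of_pow_eq_one h1)
    exact ⟨j, hj⟩
  · have h1 : (x ^ (((2 ^ k : ℕ) : ℤ) * u)) ^ m = 1 := by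
      rw [← zpow_natCast, ← zpow_mul]
      have e : ((2 ^ k : ℕ) : ℤ) * u * (m : ℤ) = ((orderOf x : ℕ) : ℤ) * u := by
        rw [hx]; push_cast; ring
      rw [e, zpow_mul, zpow_natCast, pow_orderOf_eq_one, one_zpow]
    exact hm.of_dvd_nat (orderOf_dvd_of_pow_eq_one h1)

/-! ### the position -/

/-- the facts on `D = O²(C_K(z))` -/
structure Dl (t z : G) (K R : Subgroup G) (v d e : G) : Prop where
  vK : v ∈ K
  vv : v * v = 1
  vz : v * z = z * v
  vD : v ∉ Pos.oddGen K z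
  PD : ∀ g ∈ K, g * z = z * g → g ∈ Pos.oddGen K z ∨ v * g ∈ Pos.oddGen K z
  dD : d ∈ Pos.oddGen K z
  eD : e ∈ Pos.oddGen K z
  dR : d ∉ R
  eR : e ∉ R
  vd : v * d * v⁻¹ * d⁻¹ ∈ R
  ve : v * e * v⁻¹ * e ∈ R
  cd : ∀ x ∈ Pos.oddGen K z, v * x * v⁻¹ * x⁻¹ ∈ R → x ∈ R ∨ x * d⁻¹ ∈ R ∨ x * d ∈ R
  ce : ∀ x ∈ Pos.oddGen K z, v * x * v⁻¹ * x ∈ R → x ∈ R ∨ x * e⁻¹ ∈ R ∨ x * e ∈ R
  gen : Pos.oddGen K z ≤ closure ({d, e} ∪ (R : Set G))
  dd : ∀ a ∈ Pos.oddGen K z, ∀ b ∈ Pos.oddGen K z, a * b * a⁻¹ * b⁻¹ ∈ R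
  /-- the 2-elements of `C(t) ∩ C(z)` trivial on `D / R` -/
  o2 : ∀ g, g * t = t * g → g * z = z * g → IsPGroup 2 (zpowers g) →
    (∀ x ∈ Pos.oddGen K z, g * x * g⁻¹ * x⁻¹ ∈ R) → g ∈ R ∨ t * g ∈ R
  /-- `|C(t) : ⟨t⟩ K| ≤ 2` -/
  ix : ∀ a b, a * t = t * a → b * t = t * b → a ∉ K → t * a ∉ K → b ∉ K → t * b ∉ K →
    a * b ∈ K ∨ t * (a * b) ∈ K

/-- all the cores `F ∋ t` of `C(z)` are in `C(t)` -/
structure HPos (t z : G) (K R F : Subgroup G) : Prop extends SPos t z K R F where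
  hle : ∀ F' : Subgroup G, IsF z F' → t ∈ F' → ∀ x ∈ F', x * t = t * x

namespace HPos

variable (h : HPos t z K R F)

include h

theorem ntH [Finite G] {g : G} (hg : g * z = z * g) : Nt t z g :=
  ⟨hg, h.toOLoc.data.conj_t_of_le h.F' h.tF h.nc (h.hle F h.F' h.tF) hg⟩

theorem nD [Finite G] {g : G} (hg : g * z = z * g) {d : G} (hd : d ∈ Pos.oddGen K z) :
    g * d * g⁻¹ ∈ Pos.oddGen K z := h.toSLoc.Nt_D (h.ntH hg) hd

theorem nR' [Finite G] {g : G} (hg : g * z = z * g) : ∀ r ∈ R, g * r * g⁻¹ ∈ R :=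
  fun _ hr => h.toSLoc.Nt_R (h.ntH hg) hr

theorem inv_comm {g : G} (hg : g * z = z * g) : g⁻¹ * z = z * g⁻¹ :=
  (Commute.inv_left (show Commute g z from hg)).eq

/-- **(I2)** elements of odd order of `C(z)` lie in `D` -/
theorem odd_mem [Finite G] {g : G} (hg : g * z = z * g) (ho : Odd (orderOf g)) : g ∈ Pos.oddGen K z := by
  have hgt : g * t = t * g := by
    rcases (h.ntH hg).ct with h1 | h1
    · exact mul_inv_eq_iff_eq_mul.1 h1
    · have hgz : g * z * g⁻¹ = z := by rw [hg]; group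
      have h2 : Commute (g * g) t := by
        apply mul_inv_eq_iff_eq_mul.1
        calc g * g * t * (g * g)⁻¹ = g * (g * t * g⁻¹) * g⁻¹ := by group
          _ = g * (t * z) * g⁻¹ := by rw [h1]
          _ = (g * t * g⁻¹) * (g * z * g⁻¹) := by group
          _ = t := by rw [h1, hgz, mul_assoc, h.zz, mul_one]
      obtain ⟨m, hm⟩ := ho
      have h3 : g = (g * g) ^ (m + 1) := by
        have h4 : g ^ (2 * m + 1) = 1 := by rw [← hm]; exact pow_orderOf_eq_one g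
        calc g = g ^ (2 * m + 1) * g := by rw [h4, one_mul]
          _ = g ^ (2 * (m + 1)) := by rw [← pow_succ]; congr 1
          _ = (g * g) ^ (m + 1) := by rw [pow_mul, pow_two]
      rw [h3]; exact (h2.pow_left _).eq
  exact subset_closure ⟨h.mo g hgt ho, hg, ho⟩

variable {v d e : G} (l : Dl t z K R v d e)

include l

theorem v_inv : v⁻¹ = v := inv_eq_of_mul_eq_one_left l.vv

/-- **(I7)** -/
theorem X_v [Finite G] {x : G} (hxt : x * t = t * x) (hxz : x * z = z * x) :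
    v * (x * v * x⁻¹) ∈ Pos.oddGen K z := by
  have h1 : x * v * x⁻¹ ∈ K := h.nK x hxt v l.vK
  have h2 : (x * v * x⁻¹) * z = z * (x * v * x⁻¹) := by
    have c1 : Commute x z := hxz
    have c2 : Commute v z := l.vz
    exact (c1.mul_left c2).mul_left c1.inv_left
  rcases l.PD _ h1 h2 with h3 | h3
  · exfalso
    apply l.vD
    have h4 := h.nD (h.inv_comm hxz) h3
    have e : x⁻¹ * (x * v * x⁻¹) * x⁻¹⁻¹ = v := by group
    rwa [e] at h4
  · exact h3

/-- **triviality on `D / R`** -/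
theorem triv [Finite G] {g : G} (hg : g * z = z * g) (hd : g * d * g⁻¹ * d⁻¹ ∈ R) (he : g * e * g⁻¹ * e⁻¹ ∈ R) :
    ∀ x ∈ Pos.oddGen K z, g * x * g⁻¹ * x⁻¹ ∈ R := by
  have hDz : ∀ x ∈ Pos.oddGen K z, x * z = z * x := fun x hx =>
    mem_centralizer_singleton_iff.1 (Pos.oddGen_le' hx)
  let C : Subgroup G :=
    { carrier := {x | x ∈ Pos.oddGen K z ∧ g * x * g⁻¹ * x⁻¹ ∈ R}
      one_mem' := ⟨one_mem _, by
        have e : g * 1 * g⁻¹ * 1⁻¹ = 1 := by group
        rw [e]; exact R.one_mem⟩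
      mul_mem' := by
        rintro x y ⟨hx, hx'⟩ ⟨hy, hy'⟩
        refine ⟨mul_mem hx hy, ?_⟩
        have e : g * (x * y) * g⁻¹ * (x * y)⁻¹ = (g * x * g⁻¹ * x⁻¹) * (x * (g * y * g⁻¹ * y⁻¹) * x⁻¹) := by
          group
        rw [e]; exact R.mul_mem hx' (h.nR' (hDz x hx) _ hy')
      inv_mem' := by
        rintro x ⟨hx, hx'⟩
        refine ⟨inv_mem hx, ?_⟩
        have e : g * x⁻¹ * g⁻¹ * x⁻¹⁻¹ = x⁻¹ * (g * x * g⁻¹ * x⁻¹)⁻¹ * x⁻¹⁻¹ := by group
        rw [e]; exact h.nR' (h.inv_comm (hDz x hx)) _ (R.inv_mem hx') }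
  have h1 : Pos.oddGen K z ≤ C := by
    refine l.gen.trans ((closure_le _).2 ?_)
    rintro x ((hx | hx) | hx)
    · rw [hx]; exact ⟨l.dD, hd⟩
    · have hx' : x = e := hx
      rw [hx']; exact ⟨l.eD, he⟩
    · have hx' : x ∈ R := hx
      exact ⟨h.RD hx', R.mul_mem (h.nR' hg x hx') (R.inv_mem hx')⟩
  exact fun x hx => (h1 hx).2

/-- `C₁`: the kernel of the action of `C(z)` on `D / R` -/
def C1 [Finite G] : Subgroup G where
  carrier := {g | g * z = z * g ∧ ∀ x ∈ Pos.oddGen K z, g * x * g⁻¹ * x⁻¹ ∈ R}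
  one_mem' := ⟨by rw [one_mul, mul_one], fun x _ => by
    have e : 1 * x * 1⁻¹ * x⁻¹ = 1 := by group
    rw [e]; exact R.one_mem⟩
  mul_mem' := by
    rintro a b ⟨ha, ha'⟩ ⟨hb, hb'⟩
    have c1 : Commute a z := ha
    have c2 : Commute b z := hb
    exact ⟨c1.mul_left c2, fun x hx => plus_plus (h.nR' ha) (ha' x hx) (hb' x hx)⟩
  inv_mem' := by
    rintro a ⟨ha, ha'⟩
    refine ⟨h.inv_comm ha, fun x hx => ?_⟩
    have e : a⁻¹ * x * a⁻¹⁻¹ * x⁻¹ = a⁻¹ * (a * x * a⁻¹ * x⁻¹)⁻¹ * a⁻¹⁻¹ := by group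
    rw [e]; exact h.nR' (h.inv_comm ha) _ (R.inv_mem (ha' x hx))

/-- **(I5)** -/
theorem mem_C1 [Finite G] {x : G} (hx : x ∈ h.C1) (hxt : x * t = t * x) :
    x ∈ Pos.oddGen K z ∨ t * x ∈ Pos.oddGen K z := by
  obtain ⟨a, ha, b, hb, hab, ha2, hbo⟩ := exists_parts x
  have haC : a ∈ h.C1 := (zpowers_le.2 hx) ha
  have hbC : b ∈ h.C1 := (zpowers_le.2 hx) hb
  have hxc : x ∈ centralizer ({t} : Set G) := mem_centralizer_singleton_iff.2 hxt
  have hat : a * t = t * a := mem_centralizer_singleton_iff.1 ((zpowers_le.2 hxc) ha)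
  have hbD := h.odd_mem hbC.1 hbo
  rcases l.o2 a hat haC.1 ha2 haC.2 with h1 | h1
  · left
    rw [hab]; exact mul_mem (h.RD h1) hbD
  · right
    rw [hab, ← mul_assoc]; exact mul_mem (h.RD h1) hbD

/-! ### the sign dichotomy -/

/-- `c ∈ D ∪ t D` acts trivially on `D / R` -/
theorem act_triv [Finite G] {c : G} (hc : c ∈ Pos.oddGen K z ∨ t * c ∈ Pos.oddGen K z) {x : G}
    (hx : x ∈ Pos.oddGen K z) : c * x * c⁻¹ * x⁻¹ ∈ R := by
  rcases hc with hc | hc
  · exact l.dd c hc x hx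
  · have h1 := l.dd _ hc x hx
    have h2 : t * c * x * (t * c)⁻¹ * x⁻¹ = t * (c * x * c⁻¹) * t⁻¹ * x⁻¹ := by group
    have hct : c * t = t * c := by
      have h3 := h.toSLoc.oddGen_comm_t hc
      have h4 : c = t * (t * c) := (h.tmul c).symm
      have c1 : Commute (t * c) t := h3
      have c2 : Commute (t * (t * c)) t := (Commute.refl t).mul_left c1
      rw [← h4] at c2
      exact c2
    have h3 : (c * x * c⁻¹) * t = t * (c * x * c⁻¹) := by
      have c1 : Commute c t := hct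
      have c2 : Commute x t := h.toSLoc.oddGen_comm_t hx
      exact (c1.mul_left c2).mul_left c1.inv_left
    rw [h2, ← h3, mul_inv_cancel_right] at h1
    exact h1

/-- the sign of `g` on `d` -/
theorem sgn_d [Finite G] {g : G} (hg : g * z = z * g)
    (hc : v * (g * v * g⁻¹) ∈ Pos.oddGen K z ∨ t * (v * (g * v * g⁻¹)) ∈ Pos.oddGen K z) :
    g * d * g⁻¹ * d⁻¹ ∈ R ∨ g * d * g⁻¹ * d ∈ R := by
  have hx : g * d * g⁻¹ ∈ Pos.oddGen K z := h.nD hg l.dD
  have hvi := v_inv h l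
  have hcz : (v * (g * v * g⁻¹)) * z = z * (v * (g * v * g⁻¹)) := by
    have c1 : Commute v z := l.vz
    have c2 : Commute g z := hg
    exact c1.mul_left ((c2.mul_left c1).mul_left c2.inv_left)
  have h1 : v * (g * d * g⁻¹) * v⁻¹ * (g * d * g⁻¹)⁻¹ ∈ R := by
    have e : v * (g * d * g⁻¹) * v⁻¹ * (g * d * g⁻¹)⁻¹ =
        ((v * (g * v⁻¹ * g⁻¹)) * (g * (v * d * v⁻¹ * d⁻¹) * g⁻¹) * (v * (g * v⁻¹ * g⁻¹))⁻¹) *
          ((v * (g * v⁻¹ * g⁻¹)) * (g * d * g⁻¹) * (v * (g * v⁻¹ * g⁻¹))⁻¹ * (g * d * g⁻¹)⁻¹) := by group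
    rw [e]
    have hvi' : v * (g * v⁻¹ * g⁻¹) = v * (g * v * g⁻¹) := by rw [hvi]
    rw [hvi']
    exact R.mul_mem (h.nR' hcz _ (h.nR' hg _ l.vd)) (act_triv h l hc hx)
  rcases l.cd _ hx h1 with h2 | h2 | h2
  · exfalso
    apply l.dR
    have h3 := h.nR' (h.inv_comm hg) _ h2
    have e : g⁻¹ * (g * d * g⁻¹) * g⁻¹⁻¹ = d := by group
    rwa [e] at h3
  · exact Or.inl h2
  · exact Or.inr h2

/-- the sign of `g` on `e` -/
theorem sgn_e [Finite G] {g : G} (hg : g * z = z * g)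
    (hc : v * (g * v * g⁻¹) ∈ Pos.oddGen K z ∨ t * (v * (g * v * g⁻¹)) ∈ Pos.oddGen K z) :
    g * e * g⁻¹ * e⁻¹ ∈ R ∨ g * e * g⁻¹ * e ∈ R := by
  have hx : g * e * g⁻¹ ∈ Pos.oddGen K z := h.nD hg l.eD
  have hvi := v_inv h l
  have hcz : (v * (g * v * g⁻¹)) * z = z * (v * (g * v * g⁻¹)) := by
    have c1 : Commute v z := l.vz
    have c2 : Commute g z := hg
    exact c1.mul_left ((c2.mul_left c1).mul_left c2.inv_left)
  have h1 : v * (g * e * g⁻¹) * v⁻¹ * (g * e * g⁻¹) ∈ R := by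
    have e' : v * (g * e * g⁻¹) * v⁻¹ * (g * e * g⁻¹) =
        ((v * (g * v⁻¹ * g⁻¹)) * (g * (v * e * v⁻¹ * e) * g⁻¹) * (v * (g * v⁻¹ * g⁻¹))⁻¹) *
          ((v * (g * v⁻¹ * g⁻¹)) * (g * e * g⁻¹)⁻¹ * (v * (g * v⁻¹ * g⁻¹))⁻¹ * (g * e * g⁻¹)⁻¹⁻¹) := by group
    rw [e']
    have hvi' : v * (g * v⁻¹ * g⁻¹) = v * (g * v * g⁻¹) := by rw [hvi]
    rw [hvi']
    exact R.mul_mem (h.nR' hcz _ (h.nR' hg _ l.ve)) (act_triv h l hc (inv_mem hx))
  rcases l.ce _ hx h1 with h2 | h2 | h2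
  · exfalso
    apply l.eR
    have h3 := h.nR' (h.inv_comm hg) _ h2
    have e' : g⁻¹ * (g * e * g⁻¹) * g⁻¹⁻¹ = e := by group
    rwa [e'] at h3
  · exact Or.inl h2
  · exact Or.inr h2

/-- an element of `C(t) ∩ C(z)` outside `⟨t⟩ K` is `-1` on `d` -/
theorem outer_d [Finite G] {f : G} (hft : f * t = t * f) (hfz : f * z = z * f) (hfK : f ∉ K)
    (hftK : t * f ∉ K) : f * d * f⁻¹ * d ∈ R := by
  have hvt := h.Kt v l.vK
  rcases sgn_d h l hfz (Or.inl (X_v h l hft hfz)) with h1 | h1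
  swap
  · exact h1
  exfalso
  have hfR := h.nR' hfz
  have heR : ∀ r ∈ R, e * r * e⁻¹ ∈ R := h.nR' (mem_centralizer_singleton_iff.1 (Pos.oddGen_le' l.eD))
  rcases sgn_e h l hfz (Or.inl (X_v h l hft hfz)) with h2 | h2
  · have h3 : f ∈ h.C1 := ⟨hfz, triv h l hfz h1 h2⟩
    rcases mem_C1 h l h3 hft with h4 | h4
    · exact hfK (Pos.oddGen_le h4)
    · exact hftK (Pos.oddGen_le h4)
  · have hfv : (f * v) * z = z * (f * v) := by
      have c1 : Commute f z := hfz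
      have c2 : Commute v z := l.vz
      exact c1.mul_left c2
    have hfvt : (f * v) * t = t * (f * v) := by
      have c1 : Commute f t := hft
      have c2 : Commute v t := hvt
      exact c1.mul_left c2
    have h3 : f * v ∈ h.C1 :=
      ⟨hfv, triv h l hfv (plus_plus hfR h1 l.vd) (minus_minus hfR heR h2 l.ve)⟩
    have hvi := K.inv_mem l.vK
    rcases mem_C1 h l h3 hfvt with h4 | h4
    · apply hfK
      have h5 := K.mul_mem (Pos.oddGen_le h4) hvi
      rwa [mul_inv_cancel_right] at h5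
    · apply hftK
      have h5 := K.mul_mem (Pos.oddGen_le h4) hvi
      rwa [← mul_assoc, mul_inv_cancel_right] at h5

/-- an element moving `t` and trivial on `D / R` -/
theorem exists_s [Finite G] {f s : G} (hft : f * t = t * f) (hfz : f * z = z * f) (hfK : f ∉ K)
    (hftK : t * f ∉ K) (hst : s * t * s⁻¹ = t * z) (hsz : s * z = z * s)
    (hsv : v * (s * v * s⁻¹) ∈ Pos.oddGen K z ∨ t * (v * (s * v * s⁻¹)) ∈ Pos.oddGen K z) :
    ∃ s' ∈ h.C1, s' * t * s'⁻¹ = t * z := by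
  have hvt := h.Kt v l.vK
  have hDR : ∀ x ∈ Pos.oddGen K z, ∀ r ∈ R, x * r * x⁻¹ ∈ R := fun x hx =>
    h.nR' (mem_centralizer_singleton_iff.1 (Pos.oddGen_le' hx))
  have hDR' : ∀ x ∈ Pos.oddGen K z, ∀ r ∈ R, x⁻¹ * r * x ∈ R := fun x hx r hr => by
    have h1 := hDR _ (inv_mem hx) r hr
    rwa [inv_inv] at h1
  have hmul : ∀ a b : G, a * t * a⁻¹ = t * z → b * t = t * b → (a * b) * t * (a * b)⁻¹ = t * z := by
    intro a b ha hb
    calc (a * b) * t * (a * b)⁻¹ = a * (b * t * b⁻¹) * a⁻¹ := by group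
      _ = a * t * a⁻¹ := by rw [hb, mul_inv_cancel_right]
      _ = t * z := ha
  have hmz : ∀ a b : G, a * z = z * a → b * z = z * b → (a * b) * z = z * (a * b) := by
    intro a b ha hb
    have c1 : Commute a z := ha
    have c2 : Commute b z := hb
    exact c1.mul_left c2
  -- first `d`
  have key : ∃ s', s' * t * s'⁻¹ = t * z ∧ s' * z = z * s' ∧ s' * d * s'⁻¹ * d⁻¹ ∈ R ∧
      (s' * e * s'⁻¹ * e⁻¹ ∈ R ∨ s' * e * s'⁻¹ * e ∈ R) := by
    rcases sgn_d h l hsz hsv with h1 | h1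
    · exact ⟨s, hst, hsz, h1, sgn_e h l hsz hsv⟩
    · have hfd := outer_d h l hft hfz hfK hftK
      refine ⟨s * f, hmul s f hst hft, hmz s f hsz hfz, minus_minus (h.nR' hsz) (hDR d l.dD) h1 hfd, ?_⟩
      rcases sgn_e h l hsz hsv with h2 | h2 <;>
        rcases sgn_e h l hfz (Or.inl (X_v h l hft hfz)) with h3 | h3
      · exact Or.inl (plus_plus (h.nR' hsz) h2 h3)
      · exact Or.inr (plus_minus (h.nR' hsz) (hDR' e l.eD) h2 h3)
      · exact Or.inr (minus_plus (h.nR' hsz) h2 h3)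
      · exact Or.inl (minus_minus (h.nR' hsz) (hDR e l.eD) h2 h3)
  obtain ⟨s', h1, h2, h3, h4 | h4⟩ := key
  · exact ⟨s', ⟨h2, triv h l h2 h3 h4⟩, h1⟩
  · refine ⟨s' * v, ⟨hmz s' v h2 l.vz, triv h l (hmz s' v h2 l.vz) (plus_plus (h.nR' h2) h3 l.vd)
      (minus_minus (h.nR' h2) (hDR e l.eD) h4 l.ve)⟩, hmul s' v h1 hvt⟩

/-! ### `C₁ / R` is abelian -/

theorem t_C1 [Finite G] : t ∈ h.C1 := by
  refine ⟨h.comm, fun x hx => ?_⟩
  have c : Commute t x := (h.toSLoc.oddGen_comm_t hx).symm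
  rw [c.eq, mul_inv_cancel_right, mul_inv_cancel]
  exact R.one_mem

theorem D_C1 [Finite G] : Pos.oddGen K z ≤ h.C1 := fun x hx =>
  ⟨mem_centralizer_singleton_iff.1 (Pos.oddGen_le' hx), fun y hy => l.dd x hx y hy⟩

theorem C1_comm [Finite G] {s : G} (hs : s ∈ h.C1) (hst : s * t * s⁻¹ = t * z) :
    ∀ a ∈ h.C1, ∀ b ∈ h.C1, a * b * a⁻¹ * b⁻¹ ∈ R := by
  have ht := t_C1 h l
  have hD := D_C1 h l
  have hsz := hs.1
  have hswap : ∀ a b : G, a * b * a⁻¹ * b⁻¹ ∈ R → b * a * b⁻¹ * a⁻¹ ∈ R := by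
    intro a b hab
    have e : b * a * b⁻¹ * a⁻¹ = (a * b * a⁻¹ * b⁻¹)⁻¹ := by group
    rw [e]; exact R.inv_mem hab
  have hself : ∀ a : G, a * a * a⁻¹ * a⁻¹ ∈ R := fun a => by
    have e : a * a * a⁻¹ * a⁻¹ = 1 := by group
    rw [e]; exact R.one_mem
  have hst' : s * t * s⁻¹ * t⁻¹ ∈ R := by
    have e : s * t * s⁻¹ * t⁻¹ = z := by rw [hst, h.comm, mul_assoc, mul_inv_cancel, mul_one]
    rw [e]; exact h.zR
  apply comm_mem_of_gen (T := ({t, s} : Set G) ∪ Pos.oddGen K z)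
  · intro x hx r hr
    exact h.nR' hx.1 r hr
  · rintro a ((ha | ha) | ha)
    · rw [ha]; exact ht
    · have ha' : a = s := ha
      rw [ha']; exact hs
    · exact hD ha
  · exact h.RD.trans hD
  · intro c hc
    have h1 : ∀ c ∈ h.C1, c * t = t * c → c ∈ closure ((({t, s} : Set G) ∪ Pos.oddGen K z) ∪ (R : Set G)) := by
      intro c hc hct
      rcases mem_C1 h l hc hct with h1 | h1
      · exact subset_closure (Or.inl (Or.inr h1))
      · rw [← h.tmul c]
        exact mul_mem (subset_closure (Or.inl (Or.inl (Or.inl rfl)))) (subset_closure (Or.inl (Or.inr h1)))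
    rcases (h.ntH hc.1).ct with h2 | h2
    · exact h1 c hc (mul_inv_eq_iff_eq_mul.1 h2)
    · have h3 : (s⁻¹ * c) * t = t * (s⁻¹ * c) := by
        have h4 : c * t * c⁻¹ = s * t * s⁻¹ := by rw [h2, hst]
        calc (s⁻¹ * c) * t = s⁻¹ * (c * t * c⁻¹) * c := by group
          _ = s⁻¹ * (s * t * s⁻¹) * c := by rw [h4]
          _ = t * (s⁻¹ * c) := by group
      have e : c = s * (s⁻¹ * c) := by group
      rw [e]
      exact mul_mem (subset_closure (Or.inl (Or.inl (Or.inr rfl)))) (h1 _ (mul_mem (inv_mem hs) hc) h3)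
  · rintro a ((ha | ha) | ha) b ((hb | hb) | hb)
    · rw [ha, hb]; exact hself t
    · have hb' : b = s := hb
      rw [ha, hb']; exact hswap _ _ hst'
    · rw [ha]; exact ht.2 b hb
    · have ha' : a = s := ha
      rw [ha', hb]; exact hst'
    · have ha' : a = s := ha
      have hb' : b = s := hb
      rw [ha', hb']; exact hself s
    · have ha' : a = s := ha
      rw [ha']; exact hs.2 b hb
    · rw [hb]; exact hswap _ _ (ht.2 a ha)
    · have hb' : b = s := hb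
      rw [hb']; exact hswap _ _ (hs.2 a ha)
    · exact l.dd a ha b hb

/-- the 2-elements of `C₁` form a subgroup -/
def P1 [Finite G] {s : G} (hs : s ∈ h.C1) (hst : s * t * s⁻¹ = t * z) : Subgroup G where
  carrier := {x | x ∈ h.C1 ∧ ∃ n : ℕ, x ^ 2 ^ n ∈ R}
  one_mem' := ⟨one_mem _, 0, by rw [one_pow]; exact R.one_mem⟩
  mul_mem' := by
    rintro a b ⟨ha, n, hn⟩ ⟨hb, m, hm⟩
    refine ⟨mul_mem ha hb, n + m, ?_⟩
    have hN : (R.subgroupOf h.C1).Normal := by
      constructor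
      rintro ⟨x, hx⟩ hxR ⟨g, hg⟩
      exact h.nR' hg.1 x hxR
    set a' : h.C1 := ⟨a, ha⟩
    set b' : h.C1 := ⟨b, hb⟩
    have hc : Commute (QuotientGroup.mk' (R.subgroupOf h.C1) a')
        (QuotientGroup.mk' (R.subgroupOf h.C1) b') := by
      have h1 : a' * b' * a'⁻¹ * b'⁻¹ ∈ R.subgroupOf h.C1 := C1_comm h l hs hst a ha b hb
      have h2 : QuotientGroup.mk' (R.subgroupOf h.C1) (a' * b' * a'⁻¹ * b'⁻¹) = 1 :=
        (QuotientGroup.eq_one_iff _).2 h1
      rw [map_mul, map_mul, map_mul, map_inv, map_inv, mul_inv_eq_one, mul_inv_eq_iff_eq_mul] at h2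
      exact h2
    have h3 : QuotientGroup.mk' (R.subgroupOf h.C1) ((a' * b') ^ 2 ^ (n + m)) = 1 := by
      rw [map_pow, map_mul, hc.mul_pow, ← map_pow, ← map_pow]
      have h4 : QuotientGroup.mk' (R.subgroupOf h.C1) (a' ^ 2 ^ (n + m)) = 1 := by
        apply (QuotientGroup.eq_one_iff _).2
        show a ^ 2 ^ (n + m) ∈ R
        rw [pow_add, pow_mul]; exact R.pow_mem hn _
      have h5 : QuotientGroup.mk' (R.subgroupOf h.C1) (b' ^ 2 ^ (n + m)) = 1 := by
        apply (QuotientGroup.eq_one_iff _).2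
        show b ^ 2 ^ (n + m) ∈ R
        rw [add_comm, pow_add, pow_mul]; exact R.pow_mem hm _
      rw [h4, h5, one_mul]
    have h6 : (a' * b') ^ 2 ^ (n + m) ∈ R.subgroupOf h.C1 := (QuotientGroup.eq_one_iff _).1 h3
    exact h6
  inv_mem' := by
    rintro a ⟨ha, n, hn⟩
    refine ⟨inv_mem ha, n, ?_⟩
    rw [inv_pow]; exact R.inv_mem hn

/-- **(I8)** -/
theorem false_C1 [Finite G] {s : G} (hs : s ∈ h.C1) (hst : s * t * s⁻¹ = t * z) : False := by
  set P : Subgroup G := P1 h l hs hst with hP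
  have hPz : ∀ x ∈ P, x * z = z * x := fun x hx => hx.1.1
  have hPp : IsPGroup 2 P := by
    rintro ⟨x, hx, n, hn⟩
    obtain ⟨k, hk⟩ := h.pR ⟨_, hn⟩
    refine ⟨n + k, Subtype.ext ?_⟩
    show x ^ 2 ^ (n + k) = 1
    rw [pow_add, pow_mul]
    exact congrArg Subtype.val hk
  have hPn : ∀ g, g * z = z * g → ∀ x ∈ P, g * x * g⁻¹ ∈ P := by
    rintro g hg x ⟨hx, n, hn⟩
    refine ⟨⟨?_, ?_⟩, n, ?_⟩
    · have c1 : Commute g z := hg
      have c2 : Commute x z := hx.1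
      exact (c1.mul_left c2).mul_left c1.inv_left
    · intro y hy
      have h1 := h.nD (h.inv_comm hg) hy
      rw [inv_inv] at h1
      have h2 := h.nR' hg _ (hx.2 _ h1)
      have e : g * (x * (g⁻¹ * y * g) * x⁻¹ * (g⁻¹ * y * g)⁻¹) * g⁻¹ =
          g * x * g⁻¹ * y * (g * x * g⁻¹)⁻¹ * y⁻¹ := by group
      rwa [e] at h2
    · rw [conj_pow]; exact h.nR' hg _ hn
  have hnorm : F ≤ normalizer (P : Set G) := fun f hf =>
    mem_normalizer_fintype fun x hx => hPn f (h.F'.le f hf) x hx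
  have hF' : IsF z (F ⊔ P) :=
    { pF := h.F'.pF.to_sup_of_normal_right' hPp hnorm
      le := by
        have h1 : F ⊔ P ≤ centralizer ({z} : Set G) := sup_le
          (fun x hx => mem_centralizer_singleton_iff.2 (h.F'.le x hx))
          (fun x hx => mem_centralizer_singleton_iff.2 (hPz x hx))
        exact fun x hx => mem_centralizer_singleton_iff.1 (h1 hx)
      nor := by
        intro g hg x hx
        have h1 : MulAut.conj g x ∈ (F ⊔ P).map (MulAut.conj g).toMonoidHom := ⟨x, hx, rfl⟩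
        rw [Subgroup.map_sup] at h1
        refine (sup_le ?_ ?_ : _ ≤ F ⊔ P) h1
        · rintro _ ⟨y, hy, rfl⟩
          exact mem_sup_left (h.F'.nor g hg y hy)
        · rintro _ ⟨y, hy, rfl⟩
          exact mem_sup_right (hPn g hg y hy)
      self := fun g hg hgF => mem_sup_left (h.F'.self g hg fun x hx => hgF x (mem_sup_left hx)) }
  have hcom := h.hle _ hF' (mem_sup_left h.tF)
  obtain ⟨a, ha, b, hb, hab, ha2, hbo⟩ := exists_parts s
  have haC : a ∈ h.C1 := (zpowers_le.2 hs) ha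
  have hbC : b ∈ h.C1 := (zpowers_le.2 hs) hb
  have hbD := h.odd_mem hbC.1 hbo
  have haP : a ∈ P := by
    refine ⟨haC, ?_⟩
    obtain ⟨k, hk⟩ := ha2 ⟨a, mem_zpowers a⟩
    refine ⟨k, ?_⟩
    have h1 : a ^ 2 ^ k = 1 := congrArg Subtype.val hk
    rw [h1]; exact R.one_mem
  have c1 : Commute a t := hcom a (mem_sup_right haP)
  have c2 : Commute b t := h.toSLoc.oddGen_comm_t hbD
  have c3 : Commute s t := by rw [hab]; exact c1.mul_left c2
  apply h.t_ne_tz
  rw [← hst, c3.eq, mul_inv_cancel_right]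

/-! ### `(I10)` -/

/-- `w = s v s⁻¹` outside `⟨t⟩ K` -/
theorem false_w [Finite G] (tH : (⟨t, mem_centralizer_singleton_iff.2 h.comm⟩ : centralizer ({z} : Set G)) ∈
      _root_.commutator (centralizer ({z} : Set G)))
    {s : G} (hst : s * t * s⁻¹ = t * z) (hsz : s * z = z * s)
    (hwK : s * v * s⁻¹ ∉ K) (htwK : t * (s * v * s⁻¹) ∉ K) : False := by
  have hvt := h.Kt v l.vK
  have hvi := v_inv h l
  have hsz' : s * z * s⁻¹ = z := by rw [hsz]; group
  obtain ⟨hwt, hwz⟩ := Pos.swap_cen h.zz hst hsz' hvt l.vz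
  set w : G := s * v * s⁻¹ with hw
  set D : Subgroup G := Pos.oddGen K z with hD
  have hww : w * w = 1 := by
    calc w * w = s * (v * v) * s⁻¹ := by rw [hw]; group
      _ = 1 := by rw [l.vv]; group
  have hwi : w⁻¹ = w := inv_eq_of_mul_eq_one_left hww
  have hDz : D ≤ centralizer ({z} : Set G) := Pos.oddGen_le'
  -- `w v w⁻¹ ∈ v D`
  have h1 : v * (w * v * w⁻¹) ∈ D := X_v h l hwt hwz
  have huz : (v * w) * z = z * (v * w) := by
    have c1 : Commute v z := l.vz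
    have c2 : Commute w z := hwz
    exact c1.mul_left c2
  have hut : (v * w) * t = t * (v * w) := by
    have c1 : Commute v t := hvt
    have c2 : Commute w t := hwt
    exact c1.mul_left c2
  have huu : (v * w) * (v * w) ∈ D := by
    have e : (v * w) * (v * w) = v * (w * v * w⁻¹) := by rw [hwi]; group
    rw [e]; exact h1
  have hun : ∀ d ∈ D, (v * w) * d * (v * w)⁻¹ ∈ D := fun d hd => h.nD huz hd
  set M : Subgroup G := ext D (v * w) huu hun with hM
  have hDM : D ≤ M := fun x hx => Or.inl hx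
  have hMz : ∀ x ∈ M, x * z = z * x := by
    rintro x (hx | hx)
    · exact mem_centralizer_singleton_iff.1 (hDz hx)
    · have c1 : Commute ((v * w) * x) z := mem_centralizer_singleton_iff.1 (hDz hx)
      have c2 : Commute (v * w) z := huz
      have e : x = (v * w)⁻¹ * ((v * w) * x) := by group
      rw [e]; exact c2.inv_left.mul_left c1
  -- `[u, v] ∈ D`
  have hA : (v * w) * (v * (v * w) * v⁻¹)⁻¹ ∈ D := by
    have e : (v * w) * (v * (v * w) * v⁻¹)⁻¹ = v * (w * v * w⁻¹) * (v * v)⁻¹ := by group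
    rw [e, l.vv, inv_one, mul_one]; exact h1
  -- `[u, s] ∈ D`
  have hB : (v * w) * (s * (v * w) * s⁻¹)⁻¹ ∈ D := by
    have hsst : (s * s) * t = t * (s * s) := by
      apply mul_inv_eq_iff_eq_mul.1
      calc s * s * t * (s * s)⁻¹ = s * (s * t * s⁻¹) * s⁻¹ := by group
        _ = s * (t * z) * s⁻¹ := by rw [hst]
        _ = (s * t * s⁻¹) * (s * z * s⁻¹) := by group
        _ = t := by rw [hst, hsz', mul_assoc, h.zz, mul_one]
    have hssz : (s * s) * z = z * (s * s) := by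
      have c1 : Commute s z := hsz
      exact c1.mul_left c1
    have h2 : v * ((s * s) * v * (s * s)⁻¹) ∈ D := X_v h l hsst hssz
    have e1 : s * (v * w) * s⁻¹ = w * ((s * s) * v * (s * s)⁻¹) := by rw [hw]; group
    have e : (v * w) * (w * ((s * s) * v * (s * s)⁻¹))⁻¹ =
        ((v * w) * (v * ((s * s) * v * (s * s)⁻¹))⁻¹ * (v * w)⁻¹) * (v * (w * v * w⁻¹)) := by group
    rw [e1, e]
    exact D.mul_mem (hun _ (D.inv_mem h2)) h1
  have htu : (v * w) * (t * (v * w) * t⁻¹)⁻¹ ∈ D := by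
    rw [← hut, mul_inv_cancel_right, mul_inv_cancel]; exact D.one_mem
  have hDu : ∀ d ∈ D, (v * w) * (d * (v * w) * d⁻¹)⁻¹ ∈ D := by
    intro d hd
    have e : (v * w) * (d * (v * w) * d⁻¹)⁻¹ = ((v * w) * d * (v * w)⁻¹) * d⁻¹ := by group
    rw [e]; exact D.mul_mem (hun d hd) (D.inv_mem hd)
  have hX : ∀ y : G, y * t = t * y → y * z = z * y → y ∈ closure (({t, s, v} : Set G) ∪ D) := by
    have hvc : v ∈ closure (({t, s, v} : Set G) ∪ D) := subset_closure (Or.inl (Or.inr (Or.inr rfl)))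
    have htc : t ∈ closure (({t, s, v} : Set G) ∪ D) := subset_closure (Or.inl (Or.inl rfl))
    have hsc : s ∈ closure (({t, s, v} : Set G) ∪ D) := subset_closure (Or.inl (Or.inr (Or.inl rfl)))
    have hwc : w ∈ closure (({t, s, v} : Set G) ∪ D) := mul_mem (mul_mem hsc hvc) (inv_mem hsc)
    have hK : ∀ y ∈ K, y * z = z * y → y ∈ closure (({t, s, v} : Set G) ∪ D) := by
      intro y hy hyz
      rcases l.PD y hy hyz with h3 | h3
      · exact subset_closure (Or.inr h3)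
      · have e : y = v * (v * y) := by rw [← mul_assoc, l.vv, one_mul]
        rw [e]
        exact mul_mem hvc (subset_closure (Or.inr h3))
    have hK' : ∀ y, (y ∈ K ∨ t * y ∈ K) → y * z = z * y → y ∈ closure (({t, s, v} : Set G) ∪ D) := by
      intro y hy hyz
      rcases hy with hy | hy
      · exact hK y hy hyz
      · have c1 : Commute t z := h.comm
        have c2 : Commute y z := hyz
        rw [← h.tmul y]
        exact mul_mem htc (hK _ hy (c1.mul_left c2).eq)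
    intro y hyt hyz
    by_cases hy : y ∈ K ∨ t * y ∈ K
    · exact hK' y hy hyz
    · have hy1 : y ∉ K := fun e => hy (Or.inl e)
      have hy2 : t * y ∉ K := fun e => hy (Or.inr e)
      have h3 := l.ix w y hwt hyt hwK htwK hy1 hy2
      have c1 : Commute w z := hwz
      have c2 : Commute y z := hyz
      have h4 := hK' (w * y) h3 (c1.mul_left c2).eq
      have e : y = w⁻¹ * (w * y) := by group
      rw [e]; exact mul_mem (inv_mem hwc) h4
  have hXD : centralizer ({z} : Set G) ≤ closure (({t, s, v} : Set G) ∪ D) := by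
    intro x hx
    have hxz := mem_centralizer_singleton_iff.1 hx
    rcases (h.ntH hxz).ct with h2 | h2
    · exact hX x (mul_inv_eq_iff_eq_mul.1 h2) hxz
    · have h3 : (s⁻¹ * x) * t = t * (s⁻¹ * x) := by
        have h4 : x * t * x⁻¹ = s * t * s⁻¹ := by rw [h2, hst]
        calc (s⁻¹ * x) * t = s⁻¹ * (x * t * x⁻¹) * x := by group
          _ = s⁻¹ * (s * t * s⁻¹) * x := by rw [h4]
          _ = t * (s⁻¹ * x) := by group
      have h4 : (s⁻¹ * x) * z = z * (s⁻¹ * x) := by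
        have c1 : Commute s z := hsz
        have c2 : Commute x z := hxz
        exact c1.inv_left.mul_left c2
      have e : x = s * (s⁻¹ * x) := by group
      rw [e]
      exact mul_mem (subset_closure (Or.inl (Or.inr (Or.inl rfl)))) (hX _ h3 h4)
  have hnorm : centralizer ({z} : Set G) ≤ normalizer (M : Set G) := by
    refine hXD.trans ((closure_le _).2 ?_)
    rintro a ((ha | ha | ha) | ha)
    · rw [ha, SetLike.mem_coe]
      exact mem_normalizer_fintype fun x hx => ext_conj (fun d hd => h.nD h.comm hd) htu hx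
    · rw [ha, SetLike.mem_coe]
      exact mem_normalizer_fintype fun x hx => ext_conj (fun d hd => h.nD hsz hd) hB hx
    · have ha' : a = v := ha
      rw [ha', SetLike.mem_coe]
      exact mem_normalizer_fintype fun x hx => ext_conj (fun d hd => h.nD l.vz hd) hA hx
    · exact le_normalizer (hDM ha)
  have hcomm := comm_mem_of_gen (X := centralizer ({z} : Set G)) (D := M) (T := ({t, s, v} : Set G))
    (fun x hx m hm => (mem_normalizer_iff.1 (hnorm hx) m).1 hm) ?_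
    (fun x hx => mem_centralizer_singleton_iff.2 (hMz x hx)) ?_ ?_
  · rcases mem_of_commutator hcomm _ tH with h2 | h2
    · exact h.tK (Pos.oddGen_le h2)
    · -- `t w ∈ v D`
      apply htwK
      have h3 := K.mul_mem (K.inv_mem l.vK) (Pos.oddGen_le h2)
      have e : v⁻¹ * ((v * w) * t) = w * t := by group
      rw [e, hwt] at h3
      exact h3
  · rintro a (ha | ha | ha)
    · rw [ha]; exact mem_centralizer_singleton_iff.2 h.comm
    · rw [ha]; exact mem_centralizer_singleton_iff.2 hsz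
    · have ha' : a = v := ha
      rw [ha']; exact mem_centralizer_singleton_iff.2 l.vz
  · refine hXD.trans (closure_mono ?_)
    exact Set.union_subset_union_right _ hDM
  · have hself : ∀ a : G, a * a * a⁻¹ * a⁻¹ = 1 := fun a => by group
    have hswap : ∀ a b : G, a * b * a⁻¹ * b⁻¹ ∈ M → b * a * b⁻¹ * a⁻¹ ∈ M := by
      intro a b hab
      have e : b * a * b⁻¹ * a⁻¹ = (a * b * a⁻¹ * b⁻¹)⁻¹ := by group
      rw [e]; exact M.inv_mem hab
    have h11 : v * t * v⁻¹ * t⁻¹ = 1 := by rw [hvt]; group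
    have h1' : v * t * v⁻¹ * t⁻¹ ∈ M := by rw [h11]; exact M.one_mem
    have h2 : s * t * s⁻¹ * t⁻¹ ∈ M := by
      have e : s * t * s⁻¹ * t⁻¹ = z := by rw [hst, h.comm, mul_assoc, mul_inv_cancel, mul_one]
      rw [e]; exact hDM (h.RD h.zR)
    have hsv : s * v * s⁻¹ * v⁻¹ ∈ M := by
      right
      have e : (v * w) * (s * v * s⁻¹ * v⁻¹) = v * (w * w) * v⁻¹ := by rw [hw]; group
      rw [e, hww, mul_one, mul_inv_cancel]; exact D.one_mem
    rintro a ha b hb
    have ha' : a = t ∨ a = s ∨ a = v := ha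
    have hb' : b = t ∨ b = s ∨ b = v := hb
    rcases ha' with ha' | ha' | ha' <;> rcases hb' with hb' | hb' | hb' <;> rw [ha', hb']
    · rw [hself]; exact M.one_mem
    · exact hswap _ _ h2
    · exact hswap _ _ h1'
    · exact h2
    · rw [hself]; exact M.one_mem
    · exact hsv
    · exact h1'
    · exact hswap _ _ hsv
    · rw [hself]; exact M.one_mem

/-- **Case I** -/
theorem false_one [Finite G] (tH : (⟨t, mem_centralizer_singleton_iff.2 h.comm⟩ : centralizer ({z} : Set G)) ∈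
      _root_.commutator (centralizer ({z} : Set G)))
    {f : G} (hft : f * t = t * f) (hfz : f * z = z * f) (hfK : f ∉ K) (hftK : t * f ∉ K) : False := by
  have hvt := h.Kt v l.vK
  obtain ⟨s, hst, hsz'⟩ := h.sw
  have hsz : s * z = z * s := mul_inv_eq_iff_eq_mul.1 hsz'
  obtain ⟨hwt, hwz⟩ := Pos.swap_cen h.zz hst hsz' hvt l.vz
  have hsi : s⁻¹ * z = z * s⁻¹ := h.inv_comm hsz
  have key : v * (s * v * s⁻¹) ∈ Pos.oddGen K z ∨ t * (v * (s * v * s⁻¹)) ∈ Pos.oddGen K z → False := by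
    intro hsv
    obtain ⟨s', hs', hst'⟩ := exists_s h l hft hfz hfK hftK hst hsz hsv
    exact false_C1 h l hs' hst'
  by_cases h1 : s * v * s⁻¹ ∈ K
  · apply key
    left
    rcases l.PD _ h1 hwz with h2 | h2
    · exfalso
      apply l.vD
      have h3 := h.nD hsi h2
      have e : s⁻¹ * (s * v * s⁻¹) * s⁻¹⁻¹ = v := by group
      rwa [e] at h3
    · exact h2
  by_cases h2 : t * (s * v * s⁻¹) ∈ K
  · apply key
    right
    have h3 : (t * (s * v * s⁻¹)) * z = z * (t * (s * v * s⁻¹)) := by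
      have c1 : Commute t z := h.comm
      have c2 : Commute (s * v * s⁻¹) z := hwz
      exact c1.mul_left c2
    rcases l.PD _ h2 h3 with h4 | h4
    · exfalso
      apply h.tK
      have h5 := h.nD hsi h4
      have e : s⁻¹ * (t * (s * v * s⁻¹)) * s⁻¹⁻¹ = (s⁻¹ * t * s) * v := by group
      rw [e, (Pos.swap_inv h.zz hst hsz').1] at h5
      have h6 := K.mul_mem (K.mul_mem (Pos.oddGen_le h5) (K.inv_mem l.vK)) (K.inv_mem h.zK)
      have e2 : t * z * v * v⁻¹ * z⁻¹ = t := by group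
      rwa [e2] at h6
    · have c1 : Commute t v := (show Commute v t from hvt).symm
      have e : t * (v * (s * v * s⁻¹)) = v * (t * (s * v * s⁻¹)) := by
        rw [← mul_assoc, c1.eq, mul_assoc]
      rw [e]; exact h4
  · exact false_w h l tH hst hsz h1 h2

end HPos

end Cfsg.Agent.OddHalf.D6.QThree.SpOne

end

-- merged: Cfsg.Agent.OddHalf.D6.QThree.SpMain
section

/-!
# ODD half, D6, `q = 3`: the row of `PSp₄(3)`, any `|Q|`, with or without outer part (helper143)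

`row_sp`: `K` with the facts `FactsOut.Sp`, `FactsOut.Aut`.
-/

set_option autoImplicit false

namespace Cfsg.Agent.OddHalf.D6.QThree.SpMain

open Subgroup Cfsg Cfsg.Agent.OddHalf.Front.FE Cfsg.Agent.OddHalf.Front
open Cfsg.Agent.OddHalf.D8.GlueE (nmh_apply exists_of_conj isPGroup_nmh)
open Cfsg.Agent.OddHalf.Front.Cyclic (mem_M KQ conjK conjK')
open Cfsg.Agent.OddHalf.D6.QThree.Outer Cfsg.Agent.OddHalf.D6.QThree.SpSit
open Cfsg.Agent.OddHalf.D6.QThree.FrontOut (Emb mem_map)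
open Cfsg.Agent.OddHalf.D6.QThree.Main (mem_oddGen)
open Cfsg.Agent.OddHalf.D6.QThree.End (Pos.oddGen Pos.oddGen_le Pos.oddGen_le')

/-! ### on `K` -/

/-- automorphisms map `z` to a conjugate -/
theorem exists_conj {K : Type*} [Group K] [Finite K] {z : K} {R : Subgroup K} (b : Facts.Base z R)
    (α : MulAut K) : ∃ k : K, k * z * k⁻¹ = α z := by
  obtain ⟨S0, hS0p, hzc, hRS, hSmax⟩ := Sit.exists_sylow b
  set S : Sylow 2 K :=
    { toSubgroup := S0
      isPGroup' := hS0p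
      is_maximal' := fun {Q} hQ hle => le_antisymm (hSmax Q hQ hle) hle } with hS
  have hZ : ∀ y ∈ S, (∀ x ∈ S, x * y = y * x) → y = 1 ∨ y = z := by
    intro y hy hc
    exact b.cR y (hzc y hy) (fun r hr => (hc r (hRS hr)).symm)
  have hp : IsPGroup 2 ((S0.map α.toMonoidHom : Subgroup K)) := hS0p.map _
  obtain ⟨T, hT⟩ := hp.exists_le_sylow
  have hcard : Nat.card (S0.map α.toMonoidHom) = Nat.card S0 :=
    (Nat.card_congr (S0.equivMapOfInjective _ α.injective).toEquiv).symm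
  have hTS : Nat.card T = Nat.card S := by
    rw [Sylow.card_eq_multiplicity, Sylow.card_eq_multiplicity]
  have hTe : S0.map α.toMonoidHom = (T : Subgroup K) := by
    apply Subgroup.eq_of_le_of_card_ge hT
    rw [hcard]
    exact hTS.le
  obtain ⟨g, hg⟩ := MulAction.exists_smul_eq K S T
  have hmem : ∀ x : K, x ∈ (T : Subgroup K) ↔ g⁻¹ * x * g ∈ S := by
    intro x
    rw [← hg, Sylow.coe_subgroup_smul, Subgroup.mem_pointwise_smul_iff_inv_smul_mem]
    have e : (MulAut.conj g)⁻¹ • x = g⁻¹ * x * g := by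
      rw [← map_inv, MulAut.smul_def, MulAut.conj_apply, inv_inv]
    rw [← e]
    rfl
  have hzT : α z ∈ (T : Subgroup K) := by
    rw [← hTe]; exact ⟨z, hRS b.zR, rfl⟩
  have hzS : g⁻¹ * α z * g ∈ S := (hmem _).1 hzT
  have hc : ∀ x ∈ S, x * (g⁻¹ * α z * g) = g⁻¹ * α z * g * x := by
    intro x hx
    have h1 : g * x * g⁻¹ ∈ (T : Subgroup K) := by
      rw [hmem]
      have e : g⁻¹ * (g * x * g⁻¹) * g = x := by group
      rw [e]; exact hx
    rw [← hTe] at h1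
    obtain ⟨y, hy, hyx⟩ := h1
    have hyx' : α y = g * x * g⁻¹ := hyx
    have h2 : α y * α z = α z * α y := by
      rw [← map_mul, ← map_mul, hzc y hy]
    rw [hyx'] at h2
    calc x * (g⁻¹ * α z * g) = g⁻¹ * ((g * x * g⁻¹) * α z) * g := by group
      _ = g⁻¹ * (α z * (g * x * g⁻¹)) * g := by rw [h2]
      _ = g⁻¹ * α z * g * x := by group
  rcases hZ _ hzS hc with h1 | h1
  · exfalso
    apply b.z1
    have h2 : α z = 1 := by
      calc α z = g * (g⁻¹ * α z * g) * g⁻¹ := by group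
        _ = 1 := by rw [h1]; group
    exact (map_eq_one_iff α α.injective).1 h2
  · refine ⟨g, ?_⟩
    calc g * z * g⁻¹ = g * (g⁻¹ * α z * g) * g⁻¹ := by rw [h1]
      _ = α z := by group

/-- the centre of `K` -/
theorem center_eq_bot {K : Type*} [Group K] {z : K} {R : Subgroup K} (f : Facts.Three z R) :
    center K = ⊥ := by
  rw [eq_bot_iff]
  intro x hx
  rw [mem_bot]
  have hx' := mem_center_iff.1 hx
  rcases f.cR x (hx' z).symm (fun r _ => (hx' r).symm) with h1 | h1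
  · exact h1
  · exfalso
    obtain ⟨v, k, -, -, -, hkR, -⟩ := f.ex
    apply hkR
    have h2 : k⁻¹ * z * k = z := by
      rw [← h1, mul_assoc, ← hx' k, ← mul_assoc, inv_mul_cancel, one_mul]
    rw [h2]; exact f.zR

/-! ### in `G` -/

universe u

variable {G : Type u} [Group G] {K : Subgroup G} {t q : G} {z : K} {R : Subgroup K}

/-- `Q = ⟨t⟩` -/
theorem Q_eq [Finite G] (E : Emb K t q z R) (hG : _root_.commutator G = ⊤)
    (hG2 : ∀ H : Subgroup G, H.index ≠ 2) : ∀ y ∈ zpowers q, y = 1 ∨ y = t := by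
  obtain ⟨T, F⟩ := E.facts
  obtain ⟨Fr, hQ, -⟩ := CycT.main F hG hG2
  exact hQ

/-- an element of `C(t)` inducing an inner automorphism -/
theorem mem_of_inn (E : Emb K t q z R) (hQ : ∀ y ∈ zpowers q, y = 1 ∨ y = t) {y : G} (hyt : y * t = t * y)
    (hy : K.normalizerMonoidHom ⟨y, E.st.nK y hyt⟩ ∈ (MulAut.conj : K →* MulAut K).range) :
    y ∈ K ∨ t * y ∈ K := by
  obtain ⟨a, ha, k, hk, e⟩ := (mem_M E.st.toStart0).1 (OfSheet.mem_of_inn E.st hyt hy)
  rcases hQ a ha with h1 | h1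
  · left; rw [e, h1, one_mul]; exact hk
  · right; rw [e, h1, ← mul_assoc, E.st.tt, one_mul]; exact hk

/-- `|C(t) : ⟨t⟩ K| ≤ 2` -/
theorem index_two (E : Emb K t q z R) (hQ : ∀ y ∈ zpowers q, y = 1 ∨ y = t) {a b : G} (ha : a * t = t * a)
    (hb : b * t = t * b) (haK : a ∉ K) (hatK : t * a ∉ K) (hbK : b ∉ K) (hbtK : t * b ∉ K) :
    a * b ∈ K ∨ t * (a * b) ∈ K := by
  have hinn : (MulAut.conj : K →* MulAut K).range.Normal := OfSheet.inn_normal K
  set I : Subgroup (MulAut K) := (MulAut.conj : K →* MulAut K).range with hI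
  have hab : (a * b) * t = t * (a * b) := by
    have c1 : Commute a t := ha
    have c2 : Commute b t := hb
    exact c1.mul_left c2
  apply mem_of_inn E hQ hab
  have e : K.normalizerMonoidHom ⟨a * b, E.st.nK (a * b) hab⟩ =
      K.normalizerMonoidHom ⟨a, E.st.nK a ha⟩ * K.normalizerMonoidHom ⟨b, E.st.nK b hb⟩ := by
    rw [← map_mul]; rfl
  rw [e]
  rcases (Nat.dvd_prime Nat.prime_two).1 E.a.out with h1 | h1
  · have h3 : I = ⊤ := Subgroup.index_eq_one.1 h1
    rw [← hI, h3]; exact mem_top _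
  · rw [← hI, mul_mem_iff_of_index_two h1]
    constructor
    · intro h2
      rcases mem_of_inn E hQ ha h2 with h3 | h3
      · exact absurd h3 haK
      · exact absurd h3 hatK
    · intro h2
      rcases mem_of_inn E hQ hb h2 with h3 | h3
      · exact absurd h3 hbK
      · exact absurd h3 hbtK

/-- `C(t)`-conjugates of `z` -/
theorem kz [Finite G] (E : Emb K t q z R) {g : G} (hg : g * t = t * g) :
    ∃ k ∈ K, k * (z : G) * k⁻¹ = g * z * g⁻¹ := by
  obtain ⟨k, hk⟩ := exists_conj E.b (K.normalizerMonoidHom ⟨g, E.st.nK g hg⟩)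
  refine ⟨k, k.2, ?_⟩
  have h1 := congrArg Subtype.val hk
  rw [nmh_apply] at h1
  exact h1

theorem sloc [Finite G] (E : Emb K t q z R) (hQ : ∀ y ∈ zpowers q, y = 1 ∨ y = t) (f : FactsOut.Sp z R) :
    SLoc t (z : G) K (R.map K.subtype) where
  toOLoc := E.oloc hQ
  mo := fun _ hg ho => E.mem_of_odd hg ho
  oz := mem_oddGen.2 f.oz
  irr := by
    intro N hN hn
    have hNK : N ≤ K := hN.trans (E.oloc hQ).RK
    rcases f.irr (N.subgroupOf K) (fun x hx => mem_map.1 (hN hx))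
      (fun g hgz n hn' => hn g g.2 (congrArg Subtype.val hgz) n hn') with h1 | h1
    · left
      intro n hn'
      rcases h1 ⟨n, hNK hn'⟩ hn' with h2 | h2
      · exact Or.inl (congrArg Subtype.val h2)
      · exact Or.inr (congrArg Subtype.val h2)
    · right
      rw [← h1, subgroupOf_map_subtype, inf_eq_left.2 hNK]
  rr := by
    rintro _ ⟨a, ha, rfl⟩ _ ⟨b, hb, rfl⟩
    rcases f.rr a ha b hb with h1 | h1
    · exact Or.inl (congrArg Subtype.val h1)
    · exact Or.inr (congrArg Subtype.val h1)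
  RD := by
    rintro _ ⟨a, ha, rfl⟩
    exact mem_oddGen.2 (f.RD ha)
  kz := fun g hg => kz E hg
  zR1 := by
    intro k hk h1
    have h2 := f.zR1 ⟨k, hk⟩ ((mem_map (x := ⟨k, hk⟩ * z * (⟨k, hk⟩ : ↥K)⁻¹)).1 h1)
    exact congrArg Subtype.val h2
  p2 := by
    intro k hk k' hk' h1 h2 h3
    exact f.p2 ⟨k, hk⟩ ⟨k', hk'⟩ (Subtype.ext h1) (fun e => h2 (congrArg Subtype.val e)) (Subtype.ext h3)
  p4 := by
    rintro _ ⟨r, hr, rfl⟩ hr1 hrz
    obtain ⟨p, hpz, hpc, hp1, hp2⟩ := f.p4 r hr (fun e => hr1 (congrArg Subtype.val e))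
      (fun e => hrz (congrArg Subtype.val e))
    exact ⟨p, p.2, congrArg Subtype.val hpz, congrArg Subtype.val hpc, fun e => hp1 (Subtype.ext e),
      fun e => hp2 (Subtype.ext e)⟩

/-- the frame -/
theorem exists_fr (f : FactsOut.Sp z R) : ∃ z₁ z₂ z₃ z₄ k₁ k₂ c₃ c₄ : G,
    SpTwo.Fr (z : G) K (R.map K.subtype) z₁ z₂ z₃ z₄ k₁ k₂ c₃ c₄ := by
  obtain ⟨z₁, z₂, z₃, z₄, k₁, k₂, c₃, c₄, e1, e2, e3, e4, z1z, z2z, z3z, z4z, c12, c13, c24, n12, n13, n24, n31,
    prod, d3, d4, p3⟩ := f.frame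
  refine ⟨z₁, z₂, z₃, z₄, k₁, k₂, c₃, c₄,
    { k1 := k₁.2
      k2 := k₂.2
      c3 := c₃.2
      c4 := c₄.2
      e1 := congrArg Subtype.val e1
      e2 := congrArg Subtype.val e2
      e3 := congrArg Subtype.val e3
      e4 := congrArg Subtype.val e4
      z1z := congrArg Subtype.val z1z
      z2z := congrArg Subtype.val z2z
      z3z := congrArg Subtype.val z3z
      z4z := congrArg Subtype.val z4z
      c12 := congrArg Subtype.val c12
      c13 := congrArg Subtype.val c13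
      c24 := congrArg Subtype.val c24
      n12 := fun e => n12 (Subtype.ext e)
      n13 := fun e => n13 (Subtype.ext e)
      n24 := fun e => n24 (Subtype.ext e)
      n31 := fun e => n31 (Subtype.ext e)
      prod := congrArg Subtype.val prod
      d3 := congrArg Subtype.val d3
      d4 := congrArg Subtype.val d4
      p3 := ?_ }⟩
  rintro _ ⟨r, hr, rfl⟩ hrr hr1 hrz
  obtain ⟨p, hpz, hp⟩ := p3 r hr (Subtype.ext hrr) (fun e => hr1 (congrArg Subtype.val e))
    (fun e => hrz (congrArg Subtype.val e))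
  exact ⟨p, p.2, congrArg Subtype.val hpz, congrArg Subtype.val hp⟩

/-- the action on `D / R` -/
theorem exists_dl [Finite G] (E : Emb K t q z R) (hQ : ∀ y ∈ zpowers q, y = 1 ∨ y = t) (f : FactsOut.Sp z R) :
    ∃ v d e : G, SpOne.Dl t (z : G) K (R.map K.subtype) v d e := by
  have hOD : ∀ {x : G}, x ∈ Pos.oddGen K (z : G) → ∃ hx : x ∈ K, (⟨x, hx⟩ : K) ∈ FactsOut.OD z :=
    fun {x} hx => ⟨Pos.oddGen_le hx, mem_oddGen.1 hx⟩
  obtain ⟨v, d, e, vv, vz, vD, PD, dD, eD, dR, eR, vd, ve, cd, ce, gen⟩ := f.delta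
  have hRm : ∀ x : K, (x : G) ∈ R.map K.subtype ↔ x ∈ R := fun x => mem_map
  refine ⟨v, d, e,
    { vK := v.2
      vv := congrArg Subtype.val vv
      vz := congrArg Subtype.val vz
      vD := fun h1 => vD (mem_oddGen.1 h1)
      PD := ?_
      dD := mem_oddGen.2 dD
      eD := mem_oddGen.2 eD
      dR := fun h1 => dR (mem_map.1 h1)
      eR := fun h1 => eR (mem_map.1 h1)
      vd := (hRm (v * d * v⁻¹ * d⁻¹)).2 vd
      ve := (hRm (v * e * v⁻¹ * e)).2 ve
      cd := ?_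
      ce := ?_
      gen := ?_
      dd := ?_
      o2 := ?_
      ix := fun a b ha hb h1 h2 h3 h4 => index_two E hQ ha hb h1 h2 h3 h4 }⟩
  · intro g hg hgz
    rcases PD ⟨g, hg⟩ (Subtype.ext hgz) with h1 | h1
    · exact Or.inl (mem_oddGen.2 h1)
    · exact Or.inr (mem_oddGen.2 h1)
  · intro x hx h1
    obtain ⟨hxK, hxD⟩ := hOD hx
    rcases cd ⟨x, hxK⟩ hxD ((hRm (v * ⟨x, hxK⟩ * v⁻¹ * (⟨x, hxK⟩ : K)⁻¹)).1 h1) with h2 | h2 | h2
    · exact Or.inl ((hRm _).2 h2)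
    · exact Or.inr (Or.inl ((hRm (⟨x, hxK⟩ * d⁻¹)).2 h2))
    · exact Or.inr (Or.inr ((hRm (⟨x, hxK⟩ * d)).2 h2))
  · intro x hx h1
    obtain ⟨hxK, hxD⟩ := hOD hx
    rcases ce ⟨x, hxK⟩ hxD ((hRm (v * ⟨x, hxK⟩ * v⁻¹ * (⟨x, hxK⟩ : K))).1 h1) with h2 | h2 | h2
    · exact Or.inl ((hRm _).2 h2)
    · exact Or.inr (Or.inl ((hRm (⟨x, hxK⟩ * e⁻¹)).2 h2))
    · exact Or.inr (Or.inr ((hRm (⟨x, hxK⟩ * e)).2 h2))
  · intro x hx
    obtain ⟨hxK, hxD⟩ := hOD hx
    have h1 : x ∈ (closure (({d, e} : Set K) ∪ (R : Set K))).map K.subtype := ⟨_, gen hxD, rfl⟩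
    rw [MonoidHom.map_closure] at h1
    refine closure_mono ?_ h1
    rintro _ ⟨y, (hy | hy) | hy, rfl⟩
    · rw [hy]; exact Or.inl (Or.inl rfl)
    · have hy' : y = e := hy
      rw [hy']; exact Or.inl (Or.inr rfl)
    · exact Or.inr ⟨y, hy, rfl⟩
  · intro a ha b hb
    obtain ⟨haK, haD⟩ := hOD ha
    obtain ⟨hbK, hbD⟩ := hOD hb
    exact (hRm (⟨a, haK⟩ * ⟨b, hbK⟩ * (⟨a, haK⟩ : K)⁻¹ * (⟨b, hbK⟩ : K)⁻¹)).2 (f.dd _ haD _ hbD)
  · intro n hgt hgz h2 hn
    set α := K.normalizerMonoidHom ⟨n, E.st.nK n hgt⟩ with hα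
    have hαz : α z = z := by
      apply Subtype.ext
      rw [nmh_apply, hgz]
      group
    obtain ⟨r, hr, hαr⟩ := E.a.a2 α (isPGroup_nmh (E.st.nK n hgt) h2) hαz (by
      intro x hxz hxo
      apply (hRm _).1
      show ((K.normalizerMonoidHom ⟨n, E.st.nK n hgt⟩ x : K) : G) * (x : G)⁻¹ ∈ R.map K.subtype
      rw [nmh_apply]
      exact hn x (subset_closure ⟨x.2, congrArg Subtype.val hxz, by
        rw [Subgroup.orderOf_coe]; exact hxo⟩))
    have h4 := exists_of_conj (E.st.nK n hgt) hαr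
    have h5 : (r : G)⁻¹ * n ∈ zpowers q := by
      apply E.st.cK
      · have h6 := E.st.Kt (r : G)⁻¹ (K.inv_mem r.2)
        calc (r : G)⁻¹ * n * t = (r : G)⁻¹ * (n * t) := by group
          _ = ((r : G)⁻¹ * t) * n := by rw [hgt]; group
          _ = t * ((r : G)⁻¹ * n) := by rw [h6]; group
      · exact h4
    rcases hQ _ h5 with h6 | h6
    · left
      have : n = r := (inv_mul_eq_one.1 h6).symm
      rw [this]; exact ⟨r, hr, rfl⟩
    · right
      have : n = r * t := by rw [← h6]; group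
      rw [this, E.st.Kt r r.2, ← mul_assoc, E.st.tt, one_mul]
      exact ⟨r, hr, rfl⟩

/-- **`PSp₄(3)`, `|Out(K)| ≤ 2`** -/
theorem false_of_sp [Finite G] (hG : _root_.commutator G = ⊤) (hG2 : ∀ H : Subgroup G, H.index ≠ 2)
    (st : Start K t q) (f : FactsOut.Sp z R) (a : FactsOut.Aut z R) (hz : Main.At (z : G)) : False := by
  have E : Emb K t q z R := ⟨st, f.toBase, a⟩
  have hQ := Q_eq E hG hG2
  have P := E.pos hG hG2
  have L := sloc E hQ f
  by_cases hcl : ∀ g, g * t = t * g → g ∈ K ∨ t * g ∈ K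
  · exact Main.false_of_three hG ⟨st.tt, E.tK, st.Kt, hcl⟩ f.toThree hz
  -- an outer element in `C(t) ∩ C(z)`
  push Not at hcl
  obtain ⟨g, hgt, hgK, hgtK⟩ := hcl
  obtain ⟨k, hk, hkz⟩ := kz E hgt
  have hkt := st.Kt k hk
  obtain ⟨F, hF, htF⟩ := P.oloc.data.exists_core P.tH hz.core hz.ni
  have mk : ∀ F' : Subgroup G, Core.IsF (z : G) F' → t ∈ F' → SPos t (z : G) K (R.map K.subtype) F' :=
    fun F' hF' ht =>
      { toSLoc := L
        F' := hF'
        tF := ht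
        nc := P.nc
        sw := P.sw
        lam := L.toOLoc.data.hlam P.tH }
  obtain ⟨z₁, z₂, z₃, z₄, k₁, k₂, c₃, c₄, fr⟩ := exists_fr f
  have hle : ∀ F' : Subgroup G, Core.IsF (z : G) F' → t ∈ F' → ∀ x ∈ F', x * t = t * x := by
    intro F' hF' ht
    by_contra hcon
    exact SpTwo.false_two (mk F' hF' ht) hcon fr
  have H : SpOne.HPos t (z : G) K (R.map K.subtype) F := { toSPos := mk F hF htF, hle := hle }
  obtain ⟨v, d, e, l⟩ := exists_dl E hQ f
  refine H.false_one l P.tH (f := k⁻¹ * g) ?_ ?_ ?_ ?_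
  · have c1 : Commute k t := hkt
    have c2 : Commute g t := hgt
    exact c1.inv_left.mul_left c2
  · calc k⁻¹ * g * (z : G) = k⁻¹ * (g * z * g⁻¹) * g := by group
      _ = k⁻¹ * (k * z * k⁻¹) * g := by rw [hkz]
      _ = z * (k⁻¹ * g) := by group
  · intro h1
    apply hgK
    have h2 := K.mul_mem hk h1
    rwa [mul_inv_cancel_left] at h2
  · intro h1
    apply hgtK
    have h2 := K.mul_mem hk h1
    have e : k * (t * (k⁻¹ * g)) = t * g := by
      calc k * (t * (k⁻¹ * g)) = (k * t) * k⁻¹ * g := by group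
        _ = t * g := by rw [hkt]; group
    rwa [e] at h2

/-- **The row of `PSp₄(3)`** -/
theorem row_sp {G : Type u} [Group G] (hG : Iface.Ctx G) {K : Subgroup G} (hK : Iface.Std G K)
    (hC : Iface.Cyc K) {z : ↥K} {R : Subgroup ↥K} (f : FactsOut.Sp z R) (a : FactsOut.Aut z R)
    (hNI : (⟨(z : G), mem_centralizer_singleton_iff.2 rfl⟩ : ↥(centralizer ({(z : G)} : Set G))) ∉
      layer ↥(centralizer ({(z : G)} : Set G))) : False := by
  have := hG.fin
  obtain ⟨t, q, st⟩ := exists_start hG hK hC (center_eq_bot f.toThree)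
  refine false_of_sp (commutator_eq_top hG) (index_ne_two hG) st f a ⟨?_, hNI⟩
  apply Soft.core_eq_bot
  apply hG.bal
  have h1 : (z : G) ≠ 1 := fun e => f.z1 (Subtype.ext e)
  exact orderOf_eq_prime (by rw [pow_two]; exact congrArg Subtype.val f.zz) h1

end Cfsg.Agent.OddHalf.D6.QThree.SpMain

end
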