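import Cfsg.Agent.OddHalf.D6.QThree.NI
import Cfsg.Agent.Transfer.PGroupNormal

-- merged: Cfsg.Agent.OddHalf.D6.QThree.DiagSign
section

/-!
# ODD half, D6, `q = 3`: the diagonal case, sign argument (helper948, bb #13194; commuting trick: helper577 #13013 (3))

`lam_of_odd`: `z` central, `t y₁ t⁻¹ = y₁ z`, and `y₁⟨z⟩` is the only pair `{y, y z}` of conjugates of `y₁` interchanged
by `t`: then `t` is odd on the class of `y₁`.

`Tri D R y`: `D` subnormal, generated by elements of odd order, `R ≤ D ∩ O₂(X)`, `y ∈ R`, `C_D(R) ⊆ {1, y}`.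
`Tri.comm`: the groups `R`, `R'` of two such triples with `y ≠ y'` commute and intersect trivially.
`Tri.exists_lam`: `t y t⁻¹ = y z` and `C_X(⟨t, {r r^t}⟩)` of order less than `|R|`: `t ∉ X'`.
-/

set_option autoImplicit false

namespace Cfsg.Agent.OddHalf.D6.QThree.DiagSign

open Subgroup Cfsg
open Cfsg.Agent.Cit (cj mem_cj conj_mem_cj cj_mul cj_one)

variable {X : Type*} [Group X]

/-! ### the sign -/

/-- the conjugates of `y₁` -/
abbrev Cl (y₁ : X) : Type _ := {y : X // ∃ g : X, g * y₁ * g⁻¹ = y}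

/-- conjugation by `g` -/
def cjPerm (y₁ : X) : X →* Equiv.Perm (Cl y₁) where
  toFun g :=
    { toFun := fun y => ⟨g * y.1 * g⁻¹, by
        obtain ⟨h, hh⟩ := y.2
        exact ⟨g * h, by rw [← hh]; group⟩⟩
      invFun := fun y => ⟨g⁻¹ * y.1 * g, by
        obtain ⟨h, hh⟩ := y.2
        exact ⟨g⁻¹ * h, by rw [← hh]; group⟩⟩
      left_inv := fun y => Subtype.ext (by
        show g⁻¹ * (g * y.1 * g⁻¹) * g = y.1
        group)
      right_inv := fun y => Subtype.ext (by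
        show g * (g⁻¹ * y.1 * g) * g⁻¹ = y.1
        group) }
  map_one' := Equiv.ext fun y => Subtype.ext (by
      show 1 * y.1 * 1⁻¹ = y.1
      group)
  map_mul' g h := Equiv.ext fun y => Subtype.ext (by
      show g * h * y.1 * (g * h)⁻¹ = g * (h * y.1 * h⁻¹) * g⁻¹
      group)

theorem lam_of_odd [Finite X] {z t y₁ : X} (zc : ∀ x : X, x * z = z * x) (zz : z * z = 1) (z1 : z ≠ 1)
    (tt : t * t = 1) (h1 : t * y₁ * t⁻¹ = y₁ * z)
    (huniq : ∀ g : X, t * (g * y₁ * g⁻¹) * t⁻¹ = g * y₁ * g⁻¹ * z →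
      g * y₁ * g⁻¹ = y₁ ∨ g * y₁ * g⁻¹ = y₁ * z) : ∃ lam : X →* ℤˣ, lam t = -1 := by
  classical
  have ti : t⁻¹ = t := inv_eq_of_mul_eq_one_right tt
  have : Fintype (Cl y₁) := by
    unfold Cl
    exact Fintype.ofFinite _
  refine ⟨(Equiv.Perm.sign (α := Cl y₁)).comp (cjPerm y₁), ?_⟩
  show Equiv.Perm.sign (cjPerm y₁ t) = -1
  set σ := cjPerm y₁ t with hσ
  have hσσ : σ ^ 2 = 1 := by rw [hσ, ← map_pow, pow_two, tt, map_one]
  have hσv : ∀ y : Cl y₁, (σ y).1 = t * y.1 * t⁻¹ := fun y => rfl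
  -- multiplication by `z`
  have hz : ∀ y : Cl y₁, ∃ g : X, g * y₁ * g⁻¹ = y.1 * z := by
    rintro ⟨_, g, rfl⟩
    refine ⟨g * t, ?_⟩
    calc g * t * y₁ * (g * t)⁻¹ = g * (t * y₁ * t⁻¹) * g⁻¹ := by group
      _ = g * y₁ * (z * g⁻¹) := by rw [h1]; group
      _ = g * y₁ * g⁻¹ * z := by rw [← zc g⁻¹]; group
  have hzz : ∀ y : X, y * z * z = y := fun y => by rw [mul_assoc, zz, mul_one]
  set μ : Equiv.Perm (Cl y₁) :=
    { toFun := fun y => ⟨y.1 * z, hz y⟩
      invFun := fun y => ⟨y.1 * z, hz y⟩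
      left_inv := fun y => Subtype.ext (hzz y.1)
      right_inv := fun y => Subtype.ext (hzz y.1) } with hμ
  have hμv : ∀ y : Cl y₁, (μ y).1 = y.1 * z := fun y => rfl
  have hμμ : μ ^ 2 = 1 := Equiv.ext fun y => Subtype.ext (hzz y.1)
  have hcv : ∀ y : Cl y₁, ((σ * μ) y).1 = t * y.1 * t⁻¹ * z := by
    intro y
    show t * (y.1 * z) * t⁻¹ = t * y.1 * t⁻¹ * z
    rw [mul_assoc, mul_assoc, ← zc t⁻¹]
    group
  have hσμ : (σ * μ) ^ 2 = 1 := by
    refine Equiv.ext fun y => Subtype.ext ?_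
    rw [pow_two]
    show ((σ * μ) ((σ * μ) y)).1 = y.1
    rw [hcv, hcv, ti]
    calc t * (t * y.1 * t * z) * t * z = (t * t) * y.1 * (t * (z * t)) * z := by group
      _ = (t * t) * y.1 * (t * (t * z)) * z := by rw [zc t]
      _ = (t * t) * y.1 * ((t * t) * (z * z)) := by group
      _ = y.1 := by rw [tt, zz, one_mul, mul_one, mul_one]
  -- fixed points
  have f1 : Fintype.card (Function.fixedPoints μ) = 0 := by
    rw [Fintype.card_eq_zero_iff]
    refine ⟨fun y => z1 ?_⟩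
    have h2 : (μ y.1).1 = y.1.1 := congrArg Subtype.val y.2
    rw [hμv] at h2
    exact mul_eq_left.1 h2
  have hyz : y₁ * z ≠ y₁ := fun h => z1 (mul_eq_left.1 h)
  have f2 : Fintype.card (Function.fixedPoints (σ * μ)) = 2 := by
    have e : Function.fixedPoints (σ * μ) =
        ({⟨y₁, 1, by group⟩, ⟨y₁ * z, hz ⟨y₁, 1, by group⟩⟩} : Set (Cl y₁)) := by
      ext y
      rw [Set.mem_insert_iff, Set.mem_singleton_iff]
      constructor
      · intro hy
        obtain ⟨g, hg⟩ := y.2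
        have h2 : ((σ * μ) y).1 = y.1 := congrArg Subtype.val hy
        rw [hcv] at h2
        have h3 : t * (g * y₁ * g⁻¹) * t⁻¹ = g * y₁ * g⁻¹ * z := by
          rw [hg]
          calc t * y.1 * t⁻¹ = t * y.1 * t⁻¹ * z * z := (hzz _).symm
            _ = y.1 * z := by rw [h2]
        rcases huniq g h3 with h4 | h4
        · left; exact Subtype.ext (by rw [← hg, h4])
        · right; exact Subtype.ext (by rw [← hg, h4])
      · rintro (rfl | rfl)
        · apply Subtype.ext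
          rw [hcv]
          show t * y₁ * t⁻¹ * z = y₁
          rw [h1, hzz]
        · apply Subtype.ext
          rw [hcv]
          show t * (y₁ * z) * t⁻¹ * z = y₁ * z
          have : t * (y₁ * z) * t⁻¹ = t * y₁ * t⁻¹ * z := by
            rw [mul_assoc, mul_assoc, ← zc t⁻¹]
            group
          rw [this, h1, hzz]
    rw [← Nat.card_eq_fintype_card, e, Nat.card_coe_set_eq, Set.ncard_pair]
    intro h
    exact hyz (congrArg Subtype.val h).symm
  have s1 := Equiv.Perm.sign_of_pow_two_eq_one hμμ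
  have s2 := Equiv.Perm.sign_of_pow_two_eq_one hσμ
  rw [f1, Nat.sub_zero] at s1
  rw [f2] at s2
  -- the number of conjugates is even
  obtain ⟨k, hk⟩ : ∃ k, Fintype.card (Cl y₁) = 2 * k + 2 := by
    have h2 : 2 ∣ Fintype.card (Cl y₁) := by
      have h3 := Equiv.Perm.two_dvd_card_support hμμ
      have h4 : μ.support = Finset.univ := by
        ext y
        simp only [Equiv.Perm.mem_support, Finset.mem_univ, iff_true]
        intro h5
        apply z1
        have h6 : (μ y).1 = y.1 := congrArg Subtype.val h5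
        rw [hμv] at h6
        exact mul_eq_left.1 h6
      rwa [h4, Finset.card_univ] at h3
    obtain ⟨l, hl⟩ := h2
    have h3 : 0 < Fintype.card (Cl y₁) := Fintype.card_pos_iff.2 ⟨⟨y₁, 1, by group⟩⟩
    exact ⟨l - 1, by omega⟩
  rw [hk] at s1 s2
  have e1 : (2 * k + 2) / 2 = k + 1 := by omega
  have e2 : (2 * k + 2 - 2) / 2 = k := by omega
  rw [e1] at s1
  rw [e2, Equiv.Perm.sign_mul, s1, pow_succ] at s2
  have hu : ((-1 : ℤˣ) ^ k) * (-1 : ℤˣ) ^ k = 1 := by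
    rw [← pow_add, ← two_mul, pow_mul]; simp
  have h5 : Equiv.Perm.sign σ * ((-1 : ℤˣ) ^ k * (-1)) * ((-1 : ℤˣ) ^ k * (-1)) =
      (-1 : ℤˣ) ^ k * ((-1 : ℤˣ) ^ k * (-1)) := by rw [s2]
  rw [mul_assoc] at h5
  have h6 : ((-1 : ℤˣ) ^ k * (-1)) * ((-1 : ℤˣ) ^ k * (-1)) = 1 := by
    calc ((-1 : ℤˣ) ^ k * (-1)) * ((-1 : ℤˣ) ^ k * (-1)) = ((-1 : ℤˣ) ^ k * (-1 : ℤˣ) ^ k) * ((-1) * (-1)) := by
          rw [mul_mul_mul_comm]
      _ = 1 := by rw [hu]; simp
  rw [h6, mul_one, ← mul_assoc, hu, one_mul] at h5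
  exact h5

/-! ### subnormal subgroups generated by elements of odd order -/

/-- `O₂(X)` normalises a subnormal subgroup generated by elements of odd order -/
theorem conj_mem_of_subnormal [Finite X] {P D : Subgroup X} (hPn : P.Normal) (hP : IsPGroup 2 P)
    (hg : D ≤ closure {x | x ∈ D ∧ Odd (orderOf x)}) {K : Subgroup X} (hK : K.IsSubnormal) :
    D ≤ K → ∀ p ∈ P, ∀ d ∈ D, p * d * p⁻¹ ∈ K := by
  induction hK with
  | top => intro _ p _ d _; exact mem_top _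
  | step H K hle hS hN ih =>
    intro hDH p hp
    have h1 := ih (hDH.trans hle) p hp
    -- generators
    have key : D ≤ H.comap (MulAut.conj p).toMonoidHom := by
      refine hg.trans ((closure_le _).2 ?_)
      rintro d ⟨hd, ho⟩
      show p * d * p⁻¹ ∈ H
      have hdK : d ∈ K := hle (hDH hd)
      have hk : p * d * p⁻¹ ∈ K := h1 d hd
      have hc : p * d * p⁻¹ * d⁻¹ ∈ P := by
        have h2 := P.mul_mem hp (hPn.conj_mem _ (P.inv_mem hp) d)
        have e : p * (d * p⁻¹ * d⁻¹) = p * d * p⁻¹ * d⁻¹ := by group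
        rwa [e] at h2
      set N : Subgroup K := H.subgroupOf K with hNdef
      set k : K := ⟨p * d * p⁻¹, hk⟩ with hkd
      set c : K := ⟨p * d * p⁻¹ * d⁻¹, K.mul_mem hk (K.inv_mem hdK)⟩ with hcd
      have e1 : (QuotientGroup.mk' N k : K ⧸ N) = QuotientGroup.mk' N c := by
        have e : k = c * ⟨d, hdK⟩ := Subtype.ext (by
          show p * d * p⁻¹ = p * d * p⁻¹ * d⁻¹ * d
          group)
        have hd' : (⟨d, hdK⟩ : K) ∈ N := hDH hd
        rw [e, map_mul, (QuotientGroup.eq_one_iff (⟨d, hdK⟩ : K)).2 hd' |> fun h =>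
          (show QuotientGroup.mk' N (⟨d, hdK⟩ : K) = 1 from h), mul_one]
      have h3 : orderOf (QuotientGroup.mk' N k) ∣ orderOf d := by
        rw [orderOf_dvd_iff_pow_eq_one, ← map_pow]
        have : k ^ orderOf d = 1 := Subtype.ext (by
          show (p * d * p⁻¹) ^ orderOf d = 1
          rw [conj_pow, pow_orderOf_eq_one]; group)
        rw [this, map_one]
      obtain ⟨n, hn⟩ := hP ⟨_, hc⟩
      have h4 : orderOf (QuotientGroup.mk' N k) ∣ 2 ^ n := by
        rw [e1, orderOf_dvd_iff_pow_eq_one, ← map_pow]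
        have hn' : (p * d * p⁻¹ * d⁻¹) ^ 2 ^ n = 1 := congrArg Subtype.val hn
        have : c ^ 2 ^ n = 1 := Subtype.ext hn'
        rw [this, map_one]
      have h5 : orderOf (QuotientGroup.mk' N k) = 1 := by
        have hcop : Nat.Coprime (orderOf d) (2 ^ n) :=
          (Nat.coprime_two_right.2 ho).pow_right n
        exact Nat.eq_one_of_dvd_coprimes hcop h3 h4
      have h6 : QuotientGroup.mk' N k = 1 := orderOf_eq_one_iff.1 h5
      exact (QuotientGroup.eq_one_iff k).1 h6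
    exact fun d hd => key hd

/-! ### triples -/

structure Tri (D R : Subgroup X) (y : X) : Prop where
  sn : D.IsSubnormal
  gen : D ≤ closure {x | x ∈ D ∧ Odd (orderOf x)}
  RD : R ≤ D
  RP : R ≤ pCore 2 X
  cR : ∀ d ∈ D, (∀ r ∈ R, d * r = r * d) → d = 1 ∨ d = y

namespace Tri

variable {D R D' R' : Subgroup X} {y y' : X}

theorem conj (T : Tri D R y) (g : X) : Tri (cj g D) (cj g R) (g * y * g⁻¹) where
  sn := T.sn.map (MulAut.conj g).surjective
  gen := by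
    have h1 : cj g D ≤ cj g (closure {x | x ∈ D ∧ Odd (orderOf x)}) := Cfsg.Agent.Cit.cj_mono g T.gen
    refine h1.trans ?_
    rw [Cfsg.Agent.Cit.cj_def, MonoidHom.map_closure]
    apply Subgroup.closure_mono
    rintro _ ⟨x, ⟨hx, ho⟩, rfl⟩
    refine ⟨conj_mem_cj hx, ?_⟩
    have h2 : orderOf ((MulAut.conj g).toMonoidHom x) = orderOf x :=
      orderOf_injective (MulAut.conj g).toMonoidHom (MulAut.conj g).injective x
    rw [h2]; exact ho
  RD := Cfsg.Agent.Cit.cj_mono g T.RD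
  RP := by
    rintro _ ⟨x, hx, rfl⟩
    exact (Lib.Cores.pCore_normal 2).conj_mem x (T.RP hx) g
  cR := by
    intro d hd hc
    have h1 : g⁻¹ * d * g ∈ D := mem_cj.1 hd
    rcases T.cR _ h1 (fun r hr => by
      have h2 := hc _ (conj_mem_cj (g := g) hr)
      calc g⁻¹ * d * g * r = g⁻¹ * (d * (g * r * g⁻¹)) * g := by group
        _ = g⁻¹ * (g * r * g⁻¹ * d) * g := by rw [h2]
        _ = r * (g⁻¹ * d * g) := by group) with h3 | h3
    · left
      calc d = g * (g⁻¹ * d * g) * g⁻¹ := by group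
        _ = 1 := by rw [h3]; group
    · right
      calc d = g * (g⁻¹ * d * g) * g⁻¹ := by group
        _ = g * y * g⁻¹ := by rw [h3]

/-- **the commuting trick** -/
theorem comm [Finite X] (T : Tri D R y) (T' : Tri D' R' y') (hne : y ≠ y') :
    (∀ r ∈ R, ∀ r' ∈ R', r * r' = r' * r) ∧ ∀ r ∈ R, r ∈ R' → r = 1 := by
  have : Fact (Nat.Prime 2) := ⟨Nat.prime_two⟩
  set P : Subgroup X := pCore 2 X with hP
  have hPn : P.Normal := Lib.Cores.pCore_normal 2
  have hPp : IsPGroup 2 P := Lib.Cores.pCore_isPGroup 2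
  have hD := conj_mem_of_subnormal hPn hPp T.gen T.sn le_rfl
  have hD' := conj_mem_of_subnormal hPn hPp T'.gen T'.sn le_rfl
  -- the intersection
  have hN : ∀ x ∈ D, x ∈ D' → x ∈ P → x = 1 := by
    set N : Subgroup P := (D ⊓ D').subgroupOf P with hNd
    have hNn : N.Normal := by
      refine ⟨fun n hn g => ?_⟩
      rw [mem_subgroupOf] at hn ⊢
      exact ⟨hD g g.2 n hn.1, hD' g g.2 n hn.2⟩
    have hN0 : N = ⊥ := by
      by_contra hne'
      obtain ⟨x, hx, hxc, hxo⟩ := Cfsg.Agent.Transfer.PGroupNormal.exists_mem_inf_center_orderOf hPp N hne'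
      rw [mem_subgroupOf] at hx
      have hcen : ∀ p ∈ P, (x : X) * p = p * x := fun p hp =>
        (congrArg Subtype.val (mem_center_iff.1 hxc ⟨p, hp⟩)).symm
      have hx1 : (x : X) ≠ 1 := by
        intro h
        have h2 : x = 1 := Subtype.ext h
        rw [h2, orderOf_one] at hxo
        exact absurd hxo (by norm_num)
      have e1 : (x : X) = y := (T.cR x hx.1 (fun r hr => hcen r (T.RP hr))).resolve_left hx1
      have e2 : (x : X) = y' := (T'.cR x hx.2 (fun r hr => hcen r (T'.RP hr))).resolve_left hx1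
      exact hne (e1.symm.trans e2)
    intro x hx hx' hxP
    have h1 : (⟨x, hxP⟩ : P) ∈ N := by
      rw [mem_subgroupOf]; exact ⟨hx, hx'⟩
    rw [hN0, mem_bot] at h1
    exact congrArg Subtype.val h1
  refine ⟨fun r hr r' hr' => ?_, fun r hr hr' => hN r (T.RD hr) (T'.RD hr') (T.RP hr)⟩
  have h1 : r * (r' * r⁻¹ * r'⁻¹) ∈ D :=
    D.mul_mem (T.RD hr) (hD r' (T'.RP hr') _ (D.inv_mem (T.RD hr)))
  have h2 : (r * r' * r⁻¹) * r'⁻¹ ∈ D' :=
    D'.mul_mem (hD' r (T.RP hr) r' (T'.RD hr')) (D'.inv_mem (T'.RD hr'))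
  have h3 : r * (r' * r⁻¹ * r'⁻¹) ∈ P :=
    P.mul_mem (T.RP hr) (hPn.conj_mem _ (P.inv_mem (T.RP hr)) r')
  have e : r * (r' * r⁻¹ * r'⁻¹) = (r * r' * r⁻¹) * r'⁻¹ := by group
  have h4 := hN _ h1 (by rw [e]; exact h2) h3
  calc r * r' = r * (r' * r⁻¹ * r'⁻¹) * (r' * r) := by group
    _ = r' * r := by rw [h4, one_mul]

/-- **the sign**: `t y t⁻¹ = y z`, `C_X(⟨t, {r r^t}⟩)` smaller than `R` -/
theorem exists_lam [Finite X] (T : Tri D R y) {z t : X} (zc : ∀ x : X, x * z = z * x) (zz : z * z = 1)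
    (z1 : z ≠ 1) (tt : t * t = 1) (hy : t * y * t⁻¹ = y * z)
    (hB : Nat.card {x : X // x * t = t * x ∧
      ∀ r ∈ R, x * (r * (t * r * t⁻¹)) = r * (t * r * t⁻¹) * x} < Nat.card R) :
    ∃ lam : X →* ℤˣ, lam t = -1 := by
  have ti : t⁻¹ = t := inv_eq_of_mul_eq_one_right tt
  have hyz : ∀ u : X, u * z * z = u := fun u => by rw [mul_assoc, zz, mul_one]
  refine lam_of_odd zc zz z1 tt hy (fun g hg => ?_)
  by_contra hcon
  push Not at hcon
  obtain ⟨n1, n2⟩ := hcon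
  have T1 := T.conj g
  have T2 := T1.conj t
  have T3 := T.conj t
  rw [hg] at T2
  rw [hy] at T3
  set y' := g * y * g⁻¹ with hy'
  obtain ⟨c11, i11⟩ := T1.comm T n1
  obtain ⟨c13, -⟩ := T1.comm T3 n2
  obtain ⟨c21, -⟩ := T2.comm T (fun h => n2 (by rw [← h, hyz]))
  obtain ⟨c23, -⟩ := T2.comm T3 (fun h => n1 (mul_right_cancel h))
  obtain ⟨c12, i12⟩ := T1.comm T2 (fun h => z1 (mul_eq_left.1 h.symm))
  have hx1 : ∀ r : R, g * (r : X) * g⁻¹ ∈ cj g R := fun r => conj_mem_cj r.2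
  have hx2 : ∀ r : R, t * (g * (r : X) * g⁻¹) * t⁻¹ ∈ cj t (cj g R) := fun r => conj_mem_cj (hx1 r)
  let f : R → {x : X // x * t = t * x ∧ ∀ r ∈ R, x * (r * (t * r * t⁻¹)) = r * (t * r * t⁻¹) * x} :=
    fun r => ⟨g * r * g⁻¹ * (t * (g * r * g⁻¹) * t⁻¹), by
      have h := c12 _ (hx1 r) _ (hx2 r)
      rw [ti] at h ⊢
      calc g * r * g⁻¹ * (t * (g * r * g⁻¹) * t) * t = g * r * g⁻¹ * (t * (g * r * g⁻¹)) * (t * t) := by group
        _ = (t * t) * (g * r * g⁻¹) * (t * (g * r * g⁻¹)) := by rw [tt]; group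
        _ = t * (t * (g * r * g⁻¹) * t * (g * r * g⁻¹)) := by group
        _ = t * (g * r * g⁻¹ * (t * (g * r * g⁻¹) * t)) := by rw [h], by
      intro s hs
      have hs' : t * s * t⁻¹ ∈ cj t R := conj_mem_cj hs
      have a1 : Commute (g * (r : X) * g⁻¹) s := c11 _ (hx1 r) s hs
      have a2 : Commute (g * (r : X) * g⁻¹) (t * s * t⁻¹) := c13 _ (hx1 r) _ hs'
      have a3 : Commute (t * (g * (r : X) * g⁻¹) * t⁻¹) s := c21 _ (hx2 r) s hs
      have a4 : Commute (t * (g * (r : X) * g⁻¹) * t⁻¹) (t * s * t⁻¹) := c23 _ (hx2 r) _ hs'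
      exact ((a1.mul_right a2).mul_left (a3.mul_right a4)).eq⟩
  have hf : Function.Injective f := by
    intro r r' h
    have h1 : g * (r : X) * g⁻¹ * (t * (g * r * g⁻¹) * t⁻¹) =
        g * (r' : X) * g⁻¹ * (t * (g * r' * g⁻¹) * t⁻¹) := congrArg Subtype.val h
    have h2 : (g * (r' : X) * g⁻¹)⁻¹ * (g * r * g⁻¹) =
        (t * (g * r' * g⁻¹) * t⁻¹) * (t * (g * r * g⁻¹) * t⁻¹)⁻¹ := by
      calc (g * (r' : X) * g⁻¹)⁻¹ * (g * r * g⁻¹) =
          (g * (r' : X) * g⁻¹)⁻¹ * (g * (r : X) * g⁻¹ * (t * (g * r * g⁻¹) * t⁻¹)) *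
            (t * (g * r * g⁻¹) * t⁻¹)⁻¹ := by group
        _ = (g * (r' : X) * g⁻¹)⁻¹ * (g * (r' : X) * g⁻¹ * (t * (g * r' * g⁻¹) * t⁻¹)) *
            (t * (g * r * g⁻¹) * t⁻¹)⁻¹ := by rw [h1]
        _ = _ := by group
    have h3 : (g * (r' : X) * g⁻¹)⁻¹ * (g * r * g⁻¹) = 1 := by
      refine i12 _ ((cj g R).mul_mem ((cj g R).inv_mem (hx1 r')) (hx1 r)) ?_
      rw [h2]
      exact (cj t (cj g R)).mul_mem (hx2 r') ((cj t (cj g R)).inv_mem (hx2 r))
    have h4 : g * (r' : X) * g⁻¹ = g * r * g⁻¹ := inv_mul_eq_one.1 h3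
    exact Subtype.ext (mul_left_cancel (mul_right_cancel h4)).symm
  have h5 := Nat.card_le_card_of_injective f hf
  omega

end Tri

end Cfsg.Agent.OddHalf.D6.QThree.DiagSign

end

-- merged: Cfsg.Agent.OddHalf.D6.QThree.Diag
section

/-!
# ODD half, D6, `q = 3`: no noncyclic normal elementary abelian subgroup of `C_G(z)` (helper948; texts: helper801 #12978
(3)(4), helper577 #13013 (2)(3), helper948 #13194)

`Pos t z D R`: `D = O²(C(t) ∩ C(z))`, `R = O₂(D)`. `DiagAt t z b D M L`: `M ≠ M^t` components of `C(b)`,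
`D ≤ L = {m m^t}`.

`DiagAt.exists_lam`: the diagonal case contradicts `t ∈ C(z)'`.
`Pos.le_of_normal`: every abelian normal 2-subgroup of exponent two of `C(z)` is contained in `⟨z⟩`.
-/

set_option autoImplicit false

namespace Cfsg.Agent.OddHalf.D6.QThree.Diag

open Subgroup Cfsg
open Cfsg.Agent.Cit (cj mem_cj conj_mem_cj cj_mul cj_one)
open Cfsg.Agent.OddHalf.D6.QThree.DiagSign

variable {G : Type*} [Group G]

/-! ### subnormality -/

theorem sn_chain {A B C : Subgroup G} (hAB : A ≤ B) (h1 : (A.subgroupOf B).IsSubnormal)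
    (h2 : (B.subgroupOf C).IsSubnormal) : (A.subgroupOf C).IsSubnormal := by
  refine IsSubnormal.trans (K := B.subgroupOf C) (fun x hx => hAB hx) ?_ h2
  let f : ↥(B.subgroupOf C) →* ↥B :=
    { toFun := fun x => ⟨x.1.1, x.2⟩
      map_one' := rfl
      map_mul' := fun _ _ => rfl }
  exact h1.comap f

theorem sn_mono {A B C : Subgroup G} (hBC : B ≤ C) (h : (A.subgroupOf C).IsSubnormal) :
    (A.subgroupOf B).IsSubnormal :=
  h.comap (inclusion hBC)

theorem sn_of_conj {A B : Subgroup G} (h : ∀ b ∈ B, ∀ a ∈ A, b * a * b⁻¹ ∈ A) :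
    (A.subgroupOf B).IsSubnormal := by
  have : (A.subgroupOf B).Normal := ⟨fun n hn g => h g g.2 n hn⟩
  exact this.isSubnormal

/-! ### the position -/

/-- `X = C(t) ∩ C(z)`, `D = O²(X)`, `R = O₂(D)` -/
structure Pos (t z : G) (D R : Subgroup G) : Prop where
  tt : t * t = 1
  zz : z * z = 1
  z1 : z ≠ 1
  comm : t * z = z * t
  Dt : ∀ d ∈ D, d * t = t * d
  Dz : ∀ d ∈ D, d * z = z * d
  gen : D ≤ closure {x | x ∈ D ∧ Odd (orderOf x)}
  zR : z ∈ R
  RD : R ≤ D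
  pR : IsPGroup 2 R
  nR : ∀ d ∈ D, ∀ r ∈ R, d * r * d⁻¹ ∈ R
  /-- `C_D(R) = ⟨z⟩` -/
  cR : ∀ d ∈ D, (∀ r ∈ R, d * r = r * d) → d = 1 ∨ d = z
  /-- `C_X(R)` is smaller than `R` -/
  card : Nat.card {x : G // x * t = t * x ∧ ∀ r ∈ R, x * r = r * x} < Nat.card R

/-- the diagonal case at `b`: `M ≠ M^t` are components of `C(b)`, `L = {m m^t} ≥ D`, `D` subnormal in `L ∩ C(z)` -/
structure DiagAt (t z b : G) (D M L : Subgroup G) : Prop where
  Mb : ∀ m ∈ M, m * b = b * m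
  com : ∀ m ∈ M, ∀ n ∈ M, m * (t * n * t⁻¹) = (t * n * t⁻¹) * m
  dis : ∀ m ∈ M, t * m * t⁻¹ ∈ M → m = 1
  perm : ∀ g, g * z = z * g → g * b = b * g → cj g M = M ∨ cj g M = cj t M
  ML : ∀ m ∈ M, m * (t * m * t⁻¹) ∈ L
  LM : ∀ l ∈ L, ∃ m ∈ M, m * (t * m * t⁻¹) = l
  DL : D ≤ L
  sn : (D.subgroupOf (L ⊓ centralizer ({z} : Set G))).IsSubnormal

namespace DiagAt

variable {t z b : G} {D R M L : Subgroup G}

theorem dmul (A : DiagAt t z b D M L) {m n : G} (hm : m ∈ M) (hn : n ∈ M) :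
    (m * n) * (t * (m * n) * t⁻¹) = (m * (t * m * t⁻¹)) * (n * (t * n * t⁻¹)) := by
  have h := A.com n hn m hm
  calc (m * n) * (t * (m * n) * t⁻¹) = m * (n * (t * m * t⁻¹)) * (t * n * t⁻¹) := by group
    _ = m * ((t * m * t⁻¹) * n) * (t * n * t⁻¹) := by rw [h]
    _ = (m * (t * m * t⁻¹)) * (n * (t * n * t⁻¹)) := by group

theorem dinv (A : DiagAt t z b D M L) {m : G} (hm : m ∈ M) :
    m⁻¹ * (t * m⁻¹ * t⁻¹) = (m * (t * m * t⁻¹))⁻¹ := by
  have h := A.com m hm m hm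
  calc m⁻¹ * (t * m⁻¹ * t⁻¹) = ((t * m * t⁻¹) * m)⁻¹ := by group
    _ = (m * (t * m * t⁻¹))⁻¹ := by rw [h]

theorem dinj (A : DiagAt t z b D M L) {m n : G} (hm : m ∈ M) (hn : n ∈ M)
    (h : m * (t * m * t⁻¹) = n * (t * n * t⁻¹)) : m = n := by
  have h1 : t * (n * m⁻¹) * t⁻¹ = n⁻¹ * m := by
    calc t * (n * m⁻¹) * t⁻¹ = n⁻¹ * (n * (t * n * t⁻¹)) * (t * m * t⁻¹)⁻¹ := by group
      _ = n⁻¹ * (m * (t * m * t⁻¹)) * (t * m * t⁻¹)⁻¹ := by rw [h]
      _ = n⁻¹ * m := by group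
  have h2 := A.dis (n * m⁻¹) (M.mul_mem hn (M.inv_mem hm)) (by
    rw [h1]; exact M.mul_mem (M.inv_mem hn) hm)
  exact (mul_inv_eq_one.1 h2).symm

/-- `M ∩ M^t = 1` -/
theorem eq_one (A : DiagAt t z b D M L) {x : G} (h1 : x ∈ M) (h2 : x ∈ cj t M) : x = 1 := by
  have h3 := A.dis _ (mem_cj.1 h2) (by
    have e : t * (t⁻¹ * x * t) * t⁻¹ = x := by group
    rw [e]; exact h1)
  calc x = t * (t⁻¹ * x * t) * t⁻¹ := by group
    _ = 1 := by rw [h3]; group

/-- the subgroup of `M` over `B` -/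
def pre (A : DiagAt t z b D M L) (B : Subgroup G) : Subgroup G where
  carrier := {m | m ∈ M ∧ m * (t * m * t⁻¹) ∈ B}
  one_mem' := ⟨M.one_mem, by
    have e : (1 : G) * (t * 1 * t⁻¹) = 1 := by group
    rw [e]; exact B.one_mem⟩
  mul_mem' := by
    rintro x y ⟨hx, hx'⟩ ⟨hy, hy'⟩
    exact ⟨M.mul_mem hx hy, by rw [A.dmul hx hy]; exact B.mul_mem hx' hy'⟩
  inv_mem' := by
    rintro x ⟨hx, hx'⟩
    exact ⟨M.inv_mem hx, by rw [A.dinv hx]; exact B.inv_mem hx'⟩

theorem mem_pre (A : DiagAt t z b D M L) {B : Subgroup G} {x : G} :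
    x ∈ A.pre B ↔ x ∈ M ∧ x * (t * x * t⁻¹) ∈ B := Iff.rfl

/-- `m ↦ m m^t` -/
def dh (A : DiagAt t z b D M L) : M →* G where
  toFun m := m * (t * m * t⁻¹)
  map_one' := by
    show (1 : G) * (t * 1 * t⁻¹) = 1
    group
  map_mul' m n := A.dmul m.2 n.2

theorem dh_inj (A : DiagAt t z b D M L) : Function.Injective A.dh :=
  fun m n h => Subtype.ext (A.dinj m.2 n.2 h)

theorem orderOf_d (A : DiagAt t z b D M L) {m : G} (hm : m ∈ M) : orderOf (m * (t * m * t⁻¹)) = orderOf m := by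
  have h1 : orderOf (A.dh ⟨m, hm⟩) = orderOf (⟨m, hm⟩ : M) := orderOf_injective A.dh A.dh_inj _
  have h2 : orderOf (⟨m, hm⟩ : M) = orderOf m := (Subgroup.orderOf_coe (⟨m, hm⟩ : M)).symm
  exact h1.trans h2

/-- the element over `z` -/
theorem exists_z (P : Pos t z D R) (A : DiagAt t z b D M L) : ∃ z₁ ∈ M, z₁ * (t * z₁ * t⁻¹) = z :=
  A.LM z (A.DL (P.RD P.zR))

/-- `D₁ ≤ C(z)` -/
theorem pre_z (P : Pos t z D R) (A : DiagAt t z b D M L) {x : G} (hx : x ∈ A.pre D) : x * z = z * x := by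
  obtain ⟨z₁, hz₁, e⟩ := A.exists_z P
  have h1 := P.Dz _ hx.2
  have h2 : x * z₁ = z₁ * x := by
    apply A.dinj (M.mul_mem hx.1 hz₁) (M.mul_mem hz₁ hx.1)
    rw [A.dmul hx.1 hz₁, A.dmul hz₁ hx.1, e]
    exact h1
  have c1 : Commute x z₁ := h2
  have c2 : Commute x (t * z₁ * t⁻¹) := A.com x hx.1 z₁ hz₁
  rw [← e]
  exact (c1.mul_right c2).eq

/-- `D₁` is generated by its elements of odd order -/
theorem pre_gen (P : Pos t z D R) (A : DiagAt t z b D M L) :
    A.pre D ≤ closure {x | x ∈ A.pre D ∧ Odd (orderOf x)} := by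
  intro m hm
  set C : Subgroup G := closure {x | x ∈ A.pre D ∧ Odd (orderOf x)} with hC
  have hCM : C ≤ M := (closure_le _).2 (fun x hx => hx.1.1)
  have h1 : D ≤ (C.subgroupOf M).map A.dh := by
    refine P.gen.trans ((closure_le _).2 ?_)
    rintro x ⟨hx, ho⟩
    obtain ⟨n, hn, e⟩ := A.LM x (A.DL hx)
    have hnC : n ∈ C := by
      apply Subgroup.subset_closure
      refine ⟨⟨hn, by rw [e]; exact hx⟩, ?_⟩
      rw [← A.orderOf_d hn, e]; exact ho
    exact ⟨⟨n, hn⟩, hnC, e⟩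
  obtain ⟨c, hc, e⟩ := h1 hm.2
  have h2 : (c : G) = m := A.dinj c.2 hm.1 e
  have h3 : (c : G) ∈ C := hc
  rwa [h2] at h3

/-- `D₁` is subnormal in `C(b) ∩ C(z)` -/
theorem pre_sn (P : Pos t z D R) (A : DiagAt t z b D M L) (tb : t * b = b * t) :
    ((A.pre D).subgroupOf (centralizer ({b} : Set G) ⊓ centralizer ({z} : Set G))).IsSubnormal := by
  set Z : Subgroup G := centralizer ({z} : Set G) with hZ
  set Y : Subgroup G := centralizer ({b} : Set G) ⊓ Z with hY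
  have hYz : ∀ g ∈ Y, g * z = z * g := fun g hg => mem_centralizer_singleton_iff.1 hg.2
  have hYb : ∀ g ∈ Y, g * b = b * g := fun g hg => mem_centralizer_singleton_iff.1 hg.1
  have htY : t ∈ Y := ⟨mem_centralizer_singleton_iff.2 tb, mem_centralizer_singleton_iff.2 P.comm⟩
  have hne : cj t M ≠ M := by
    intro h
    obtain ⟨z₁, hz₁, e⟩ := A.exists_z P
    have h1 : z₁ = 1 := A.eq_one hz₁ (by rw [h]; exact hz₁)
    rw [h1] at e
    apply P.z1
    rw [← e]; group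
  -- `D₁` subnormal in `M ∩ C(z)`
  have h1 : ((A.pre D).subgroupOf (M ⊓ Z)).IsSubnormal := by
    let f : ↥(M ⊓ Z) →* ↥(L ⊓ Z) :=
      { toFun := fun m => ⟨m * (t * m * t⁻¹), A.ML m m.2.1, by
          have hc : Commute (m : G) z := mem_centralizer_singleton_iff.1 m.2.2
          have ht : Commute t z := P.comm
          exact mem_centralizer_singleton_iff.2
            (hc.mul_left ((ht.mul_left hc).mul_left ht.inv_left)).eq⟩
        map_one' := Subtype.ext (by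
          show (1 : G) * (t * 1 * t⁻¹) = 1
          group)
        map_mul' := fun m n => Subtype.ext (A.dmul m.2.1 n.2.1) }
    have h2 := A.sn.comap f
    have e : (D.subgroupOf (L ⊓ Z)).comap f = (A.pre D).subgroupOf (M ⊓ Z) := by
      ext x
      rw [mem_comap, mem_subgroupOf, mem_subgroupOf, A.mem_pre]
      exact ⟨fun h => ⟨x.2.1, h⟩, fun h => h.2⟩
    rwa [e] at h2
  -- `N = N_Y(M)`
  set N : Subgroup G := Y ⊓ normalizer (M : Set G) with hN
  have hNM : ∀ g ∈ Y, g ∈ N ↔ cj g M = M := by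
    intro g hg
    constructor
    · intro h; exact Cfsg.Agent.Cit.mem_normalizer_iff_cj.1 h.2
    · intro h; exact ⟨hg, Cfsg.Agent.Cit.mem_normalizer_iff_cj.2 h⟩
  have hNt : ∀ g ∈ N, cj g (cj t M) = cj t M := by
    intro g hg
    have h2 := (hNM g hg.1).1 hg
    have hgt : g * t ∈ Y := Y.mul_mem hg.1 htY
    rcases A.perm (g * t) (hYz _ hgt) (hYb _ hgt) with h3 | h3
    · exfalso
      rw [cj_mul] at h3
      have h4 : cj g (cj t M) = cj g M := h3.trans h2.symm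
      exact hne (Cfsg.Agent.Cit.cj_inj.1 h4)
    · rwa [cj_mul] at h3
  have h2 : ((M ⊓ Z).subgroupOf N).IsSubnormal := by
    apply sn_of_conj
    rintro g hg m ⟨hm, hmz⟩
    refine ⟨?_, ?_⟩
    · have h3 := (hNM g hg.1).1 hg
      have h4 : g * m * g⁻¹ ∈ cj g M := conj_mem_cj hm
      rwa [h3] at h4
    · have hc : Commute m z := mem_centralizer_singleton_iff.1 hmz
      have hg' : Commute g z := hYz g hg.1
      exact mem_centralizer_singleton_iff.2 ((hg'.mul_left hc).mul_left hg'.inv_left).eq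
  have h3 : (N.subgroupOf Y).IsSubnormal := by
    apply sn_of_conj
    intro g hg n hn
    have hgn : g * n * g⁻¹ ∈ Y := Y.mul_mem (Y.mul_mem hg hn.1) (Y.inv_mem hg)
    rw [hNM _ hgn, cj_mul, cj_mul]
    have hn' := (hNM n hn.1).1 hn
    rcases A.perm g⁻¹ (hYz _ (Y.inv_mem hg)) (hYb _ (Y.inv_mem hg)) with h4 | h4
    · rw [h4, hn']
      calc cj g M = cj g (cj g⁻¹ M) := by rw [h4]
        _ = M := Cfsg.Agent.Cit.cj_cj_inv g M
    · rw [h4, hNt n hn, ← h4]
      exact Cfsg.Agent.Cit.cj_cj_inv g M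
  have hMN : M ⊓ Z ≤ N := by
    rintro m ⟨hm, hmz⟩
    refine ⟨⟨mem_centralizer_singleton_iff.2 (A.Mb m hm), hmz⟩, ?_⟩
    exact le_normalizer hm
  have hDM : A.pre D ≤ M ⊓ Z := fun x hx => ⟨hx.1, mem_centralizer_singleton_iff.2 (A.pre_z P hx)⟩
  exact sn_chain hDM h1 (sn_chain hMN h2 h3)

/-- a normal subgroup `W` of `C(z)` centralised by `D`, with `b ∈ W`, is centralised by `D₁` -/
theorem pre_comm [Finite G] (P : Pos t z D R) (A : DiagAt t z b D M L) (tb : t * b = b * t) {W : Subgroup G}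
    (hWz : ∀ w ∈ W, w * z = z * w) (hWb : ∀ w ∈ W, w * b = b * w) (hWp : IsPGroup 2 W)
    (hWn : ∀ g, g * z = z * g → ∀ w ∈ W, g * w * g⁻¹ ∈ W) (hWD : ∀ w ∈ W, ∀ d ∈ D, w * d = d * w) :
    ∀ w ∈ W, ∀ d ∈ A.pre D, w * d = d * w := by
  intro w hw
  obtain ⟨z₁, hz₁, ez⟩ := A.exists_z P
  have hz1 : z₁ ≠ 1 := by
    intro h
    rw [h] at ez
    apply P.z1
    rw [← ez]; group
  have hne : cj t M ≠ M := fun h => hz1 (A.eq_one hz₁ (by rw [h]; exact hz₁))
  have htz : (w * t) * z = z * (w * t) :=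
    ((show Commute w z from hWz w hw).mul_left (show Commute t z from P.comm)).eq
  have htb : (w * t) * b = b * (w * t) :=
    ((show Commute w b from hWb w hw).mul_left (show Commute t b from tb)).eq
  have hwt := A.perm (w * t) htz htb
  rw [cj_mul] at hwt
  -- the equation
  have heq : ∀ d ∈ A.pre D, (w * d * w⁻¹) * (w * (t * d * t⁻¹) * w⁻¹) = d * (t * d * t⁻¹) := by
    intro d hd
    have h := hWD w hw _ hd.2
    calc (w * d * w⁻¹) * (w * (t * d * t⁻¹) * w⁻¹) = w * (d * (t * d * t⁻¹)) * w⁻¹ := by group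
      _ = d * (t * d * t⁻¹) := by rw [h]; group
  rcases A.perm w (hWz w hw) (hWb w hw) with h1 | h1
  · -- `w` normalises `M`
    have h2 : cj w (cj t M) = cj t M := by
      rcases hwt with h2 | h2
      · exact absurd (Cfsg.Agent.Cit.cj_inj.1 (h2.trans h1.symm)) hne
      · exact h2
    intro d hd
    have a1 : w * d * w⁻¹ ∈ M := by
      have := conj_mem_cj (g := w) hd.1
      rwa [h1] at this
    have a2 : w * (t * d * t⁻¹) * w⁻¹ ∈ cj t M := by
      have := conj_mem_cj (g := w) (conj_mem_cj (g := t) hd.1)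
      rwa [h2] at this
    have h3 : d⁻¹ * (w * d * w⁻¹) = (t * d * t⁻¹) * (w * (t * d * t⁻¹) * w⁻¹)⁻¹ := by
      calc d⁻¹ * (w * d * w⁻¹) = d⁻¹ * ((w * d * w⁻¹) * (w * (t * d * t⁻¹) * w⁻¹)) *
            (w * (t * d * t⁻¹) * w⁻¹)⁻¹ := by group
        _ = d⁻¹ * (d * (t * d * t⁻¹)) * (w * (t * d * t⁻¹) * w⁻¹)⁻¹ := by rw [heq d hd]
        _ = _ := by group
    have h4 : d⁻¹ * (w * d * w⁻¹) = 1 := by
      apply A.eq_one (M.mul_mem (M.inv_mem hd.1) a1)
      rw [h3]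
      exact (cj t M).mul_mem (conj_mem_cj hd.1) ((cj t M).inv_mem a2)
    have h5 : d = w * d * w⁻¹ := inv_mul_eq_one.1 h4
    calc w * d = w * d * w⁻¹ * w := by group
      _ = d * w := by rw [← h5]
  · -- `w` swaps
    exfalso
    have h2 : cj w (cj t M) = M := by
      rcases hwt with h2 | h2
      · exact h2
      · exact absurd (Cfsg.Agent.Cit.cj_inj.1 (h2.trans h1.symm)) hne
    have key : ∀ d ∈ A.pre D, Odd (orderOf d) → d = 1 := by
      intro d hd ho
      have a1 : w * d * w⁻¹ ∈ cj t M := by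
        have := conj_mem_cj (g := w) hd.1
        rwa [h1] at this
      have a2 : w * (t * d * t⁻¹) * w⁻¹ ∈ M := by
        have := conj_mem_cj (g := w) (conj_mem_cj (g := t) hd.1)
        rwa [h2] at this
      -- the two factors commute
      have a3 : (w * (t * d * t⁻¹) * w⁻¹) * (w * d * w⁻¹) = (w * d * w⁻¹) * (w * (t * d * t⁻¹) * w⁻¹) := by
        have h := A.com _ a2 _ (mem_cj.1 a1)
        have e : t * (t⁻¹ * (w * d * w⁻¹) * t) * t⁻¹ = w * d * w⁻¹ := by group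
        rwa [e] at h
      have h3 : d⁻¹ * (w * (t * d * t⁻¹) * w⁻¹) = (t * d * t⁻¹) * (w * d * w⁻¹)⁻¹ := by
        calc d⁻¹ * (w * (t * d * t⁻¹) * w⁻¹) = d⁻¹ * ((w * (t * d * t⁻¹) * w⁻¹) * (w * d * w⁻¹)) *
              (w * d * w⁻¹)⁻¹ := by group
          _ = d⁻¹ * (d * (t * d * t⁻¹)) * (w * d * w⁻¹)⁻¹ := by rw [a3, heq d hd]
          _ = _ := by group
      have h4 : d⁻¹ * (w * (t * d * t⁻¹) * w⁻¹) = 1 := by
        apply A.eq_one (M.mul_mem (M.inv_mem hd.1) a2)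
        rw [h3]
        exact (cj t M).mul_mem (conj_mem_cj hd.1) ((cj t M).inv_mem a1)
      have h5 : w * d * w⁻¹ = t * d * t⁻¹ := by
        rw [h4] at h3
        exact (mul_inv_eq_one.1 h3.symm).symm
      have hdz : Commute d z := A.pre_z P hd
      have h6 : d⁻¹ * (t * d * t⁻¹) ∈ W := by
        rw [← h5]
        have h7 := W.mul_mem (hWn d⁻¹ hdz.inv_left.eq w hw) (W.inv_mem hw)
        have e : d⁻¹ * w * d⁻¹⁻¹ * w⁻¹ = d⁻¹ * (w * d * w⁻¹) := by group
        rwa [e] at h7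
      obtain ⟨n, hn⟩ := hWp ⟨_, h6⟩
      have hn' : (d⁻¹ * (t * d * t⁻¹)) ^ 2 ^ n = 1 := congrArg Subtype.val hn
      have hc : Commute d⁻¹ (t * d * t⁻¹) := (show Commute d (t * d * t⁻¹) from A.com d hd.1 d hd.1).inv_left
      rw [hc.mul_pow, inv_pow, inv_mul_eq_one] at hn'
      have h7 : d ^ 2 ^ n = 1 := by
        apply A.eq_one (M.pow_mem hd.1 _)
        rw [hn']
        exact (cj t M).pow_mem (conj_mem_cj hd.1) _
      have hcop : Nat.Coprime (orderOf d) (2 ^ n) := (Nat.coprime_two_right.2 ho).pow_right n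
      exact orderOf_eq_one_iff.1 (Nat.eq_one_of_dvd_coprimes hcop dvd_rfl (orderOf_dvd_of_pow_eq_one h7))
    have hz₁D : z₁ ∈ A.pre D := ⟨hz₁, by rw [ez]; exact P.RD P.zR⟩
    have h8 : closure {x | x ∈ A.pre D ∧ Odd (orderOf x)} ≤ ⊥ :=
      (closure_le _).2 (fun x hx => mem_bot.2 (key x hx.1 hx.2))
    exact hz1 (mem_bot.1 (h8 (A.pre_gen P hz₁D)))

/-- **the diagonal case**: `t` is not in `C(z)'` -/
theorem exists_lam [Finite G] (P : Pos t z D R) (A : DiagAt t z b D M L) (tb : t * b = b * t) {W : Subgroup G}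
    (hWz : ∀ w ∈ W, w * z = z * w) (hWb : ∀ w ∈ W, w * b = b * w) (hbW : b ∈ W) (hWp : IsPGroup 2 W)
    (hWn : ∀ g, g * z = z * g → ∀ w ∈ W, g * w * g⁻¹ ∈ W) (hWD : ∀ w ∈ W, ∀ d ∈ D, w * d = d * w) :
    ∃ lam : ↥(centralizer ({z} : Set G)) →* ℤˣ, lam ⟨t, mem_centralizer_singleton_iff.2 P.comm⟩ = -1 := by
  obtain ⟨z₁, hz₁, ez⟩ := A.exists_z P
  have hcomm := A.pre_comm P tb hWz hWb hWp hWn hWD
  set Z : Subgroup G := centralizer ({z} : Set G) with hZ
  have memZ : ∀ g, g ∈ Z ↔ g * z = z * g := fun g => mem_centralizer_singleton_iff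
  -- `D₁` is subnormal in `C(z)`
  set C : Subgroup G := centralizer (W : Set G) ⊓ Z with hC
  have hDC : A.pre D ≤ C := by
    intro d hd
    exact ⟨mem_centralizer_iff.2 (fun w hw => hcomm w hw d hd), (memZ d).2 (A.pre_z P hd)⟩
  have hCY : C ≤ centralizer ({b} : Set G) ⊓ Z := by
    rintro c ⟨h1, h2⟩
    exact ⟨mem_centralizer_singleton_iff.2 ((mem_centralizer_iff.1 h1) b hbW).symm, h2⟩
  have hCn : (C.subgroupOf Z).IsSubnormal := by
    apply sn_of_conj
    rintro g hg c ⟨h1, h2⟩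
    refine ⟨mem_centralizer_iff.2 (fun w hw => ?_), Z.mul_mem (Z.mul_mem hg h2) (Z.inv_mem hg)⟩
    have hgz : Commute g z := (memZ g).1 hg
    have h3 := (mem_centralizer_iff.1 h1) _ (hWn g⁻¹ hgz.inv_left.eq w hw)
    calc w * (g * c * g⁻¹) = g * (g⁻¹ * w * g⁻¹⁻¹ * c) * g⁻¹ := by group
      _ = g * (c * (g⁻¹ * w * g⁻¹⁻¹)) * g⁻¹ := by rw [h3]
      _ = g * c * g⁻¹ * w := by group
  have hDsn : ((A.pre D).subgroupOf Z).IsSubnormal :=
    sn_chain hDC (sn_mono hCY (A.pre_sn P tb)) hCn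
  have hDZ : A.pre D ≤ Z := hDC.trans inf_le_right
  -- `R₁`
  have hRD : A.pre R ≤ A.pre D := fun x hx => ⟨hx.1, P.RD hx.2⟩
  have hRsn : ((A.pre R).subgroupOf Z).IsSubnormal := by
    refine sn_chain hRD (sn_of_conj ?_) hDsn
    rintro d hd r hr
    refine ⟨M.mul_mem (M.mul_mem hd.1 hr.1) (M.inv_mem hd.1), ?_⟩
    rw [A.dmul (M.mul_mem hd.1 hr.1) (M.inv_mem hd.1), A.dmul hd.1 hr.1, A.dinv hd.1]
    exact P.nR _ hd.2 _ hr.2
  have hRp : IsPGroup 2 (A.pre R) := by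
    rintro ⟨x, hx⟩
    obtain ⟨n, hn⟩ := P.pR ⟨_, hx.2⟩
    have hn' : (x * (t * x * t⁻¹)) ^ 2 ^ n = 1 := congrArg Subtype.val hn
    refine ⟨n, Subtype.ext ?_⟩
    show x ^ 2 ^ n = 1
    rw [← orderOf_dvd_iff_pow_eq_one, ← A.orderOf_d hx.1, orderOf_dvd_iff_pow_eq_one]
    exact hn'
  set z' : Z := ⟨z, (memZ z).2 rfl⟩ with hz'
  set t' : Z := ⟨t, (memZ t).2 P.comm⟩ with ht'
  have hz₁D : z₁ ∈ A.pre D := ⟨hz₁, by rw [ez]; exact P.RD P.zR⟩
  set y : Z := ⟨z₁, hDZ hz₁D⟩ with hy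
  have T : Tri ((A.pre D).subgroupOf Z) ((A.pre R).subgroupOf Z) y :=
    { sn := hDsn
      gen := by
        intro x hx
        have h1 : (x : G) ∈ A.pre D := hx
        have h2 := A.pre_gen P h1
        have h3 : closure {x | x ∈ A.pre D ∧ Odd (orderOf x)} ≤
            (closure {x : Z | x ∈ (A.pre D).subgroupOf Z ∧ Odd (orderOf x)}).map Z.subtype := by
          rw [MonoidHom.map_closure]
          apply Subgroup.closure_mono
          rintro u ⟨hu, ho⟩
          refine ⟨⟨u, hDZ hu⟩, ⟨hu, ?_⟩, rfl⟩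
          rw [← Subgroup.orderOf_coe]; exact ho
        obtain ⟨v, hv, e⟩ := h3 h2
        have e' : v = x := Subtype.ext e
        rwa [e'] at hv
      RD := fun x hx => hRD hx
      RP := Cfsg.Agent.SignalizersComponents.CompBasic.subnormal_pGroup_le_pCore hRsn
        (hRp.comap_of_injective Z.subtype Z.subtype_injective)
      cR := by
        intro d hd hc
        have hd' : (d : G) ∈ A.pre D := hd
        have h1 : ∀ r ∈ R, ((d : G) * (t * d * t⁻¹)) * r = r * ((d : G) * (t * d * t⁻¹)) := by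
          intro r hr
          obtain ⟨n, hn, e⟩ := A.LM r (A.DL (P.RD hr))
          have hnR : n ∈ A.pre R := ⟨hn, by rw [e]; exact hr⟩
          have h2 : (d : G) * n = n * d := congrArg Subtype.val (hc ⟨n, hDZ (hRD hnR)⟩ hnR)
          rw [← e, ← A.dmul hd'.1 hn, ← A.dmul hn hd'.1, h2]
        rcases P.cR _ hd'.2 h1 with h2 | h2
        · left
          apply Subtype.ext
          apply A.dinj hd'.1 M.one_mem
          rw [h2]
          group
        · right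
          apply Subtype.ext
          exact A.dinj hd'.1 hz₁ (h2.trans ez.symm) }
  have hz₁1 : z₁ * z₁ = 1 := by
    apply A.dinj (M.mul_mem hz₁ hz₁) M.one_mem
    rw [A.dmul hz₁ hz₁, ez, P.zz]; group
  have zc : ∀ x : Z, x * z' = z' * x := fun x => Subtype.ext ((memZ x).1 x.2)
  refine T.exists_lam (z := z') (t := t') zc (Subtype.ext P.zz) (fun h => P.z1 (congrArg Subtype.val h))
    (Subtype.ext P.tt) (Subtype.ext ?_) ?_
  · show t * z₁ * t⁻¹ = z₁ * z
    calc t * z₁ * t⁻¹ = (z₁ * z₁) * (t * z₁ * t⁻¹) := by rw [hz₁1, one_mul]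
      _ = z₁ * (z₁ * (t * z₁ * t⁻¹)) := by group
      _ = z₁ * z := by rw [ez]
  · -- the orders
    have h1 : Nat.card R ≤ Nat.card ((A.pre R).subgroupOf Z) := by
      have hx : ∀ x : (A.pre R).subgroupOf Z, (x.1 : G) ∈ A.pre R := fun x => x.2
      let f : (A.pre R).subgroupOf Z → R := fun x => ⟨(x.1 : G) * (t * x.1 * t⁻¹), (hx x).2⟩
      apply Nat.card_le_card_of_surjective f
      rintro ⟨r, hr⟩
      obtain ⟨n, hn, e⟩ := A.LM r (A.DL (P.RD hr))
      have hnR : n ∈ A.pre R := ⟨hn, by rw [e]; exact hr⟩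
      exact ⟨⟨⟨n, hDZ (hRD hnR)⟩, hnR⟩, Subtype.ext e⟩
    have h2 : Nat.card {x : Z // x * t' = t' * x ∧
        ∀ r ∈ (A.pre R).subgroupOf Z, x * (r * (t' * r * t'⁻¹)) = r * (t' * r * t'⁻¹) * x} ≤
        Nat.card {x : G // x * t = t * x ∧ ∀ r ∈ R, x * r = r * x} := by
      let f : {x : Z // x * t' = t' * x ∧
          ∀ r ∈ (A.pre R).subgroupOf Z, x * (r * (t' * r * t'⁻¹)) = r * (t' * r * t'⁻¹) * x} →
          {x : G // x * t = t * x ∧ ∀ r ∈ R, x * r = r * x} :=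
        fun x => ⟨x.1.1, congrArg Subtype.val x.2.1, by
          intro r hr
          obtain ⟨n, hn, e⟩ := A.LM r (A.DL (P.RD hr))
          have hnR : n ∈ A.pre R := ⟨hn, by rw [e]; exact hr⟩
          have h3 := congrArg Subtype.val (x.2.2 ⟨n, hDZ (hRD hnR)⟩ hnR)
          have h4 : (x.1.1 : G) * (n * (t * n * t⁻¹)) = n * (t * n * t⁻¹) * x.1.1 := h3
          rwa [e] at h4⟩
      have hf : Function.Injective f := by
        intro x x' h
        have h3 : (f x).1 = (f x').1 := congrArg Subtype.val h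
        exact Subtype.ext (Subtype.ext h3)
      exact Nat.card_le_card_of_injective f hf
    have h3 := P.card
    omega

end DiagAt

end Cfsg.Agent.OddHalf.D6.QThree.Diag

end
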