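import Cfsg.Agent.OddHalf.D6.QThree.FrontLoc
import Cfsg.Agent.OddHalf.D6.QThree.DiagEnd
import Cfsg.Agent.OddHalf.NI3.Bad.Basic
import Cfsg.Agent.Transfer.SL23Recog
import Cfsg.Agent.OddHalf.D6.QThree.NIB.RefOf
import Cfsg.Agent.OddHalf.D6.QThree.TS.Rad

-- merged: Cfsg.Agent.OddHalf.D6.QThree.FrontInst
section

/-!
# ODD half, D6, `q = 3`, `U₄(3)`, `L₄(3)` with an outer part: the hypotheses of `Diag`, `DiagEnd` (helper948)

`Loc.pos`: `Diag.Pos t z D R`; `Loc.hyp`: `DiagEnd.Hyp t z D R J`, `J = ⟨i, j, a⟩ ≅ SL₂(3)`, from `Ctx G` and the data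
`Ref` at the reflections.
-/

set_option autoImplicit false

namespace Cfsg.Agent.OddHalf.D6.QThree.FrontLoc

open Subgroup Cfsg
open Cfsg.Agent.OddHalf.D6.QThree.NIFacts
open Cfsg.Agent.OddHalf.D6.QThree.PlusOf (hom hom_range hom_injective)
open Cfsg.Agent.LargeExtra.W2.PlusHom (M)

theorem card_M : Nat.card M = 32 := by
  rw [Nat.card_eq_fintype_card]
  decide +kernel

variable {G : Type*} [Group G] {t z : G} {R : Subgroup G} {i j k l a b : G}

namespace Loc0

theorem cardR (L : Loc0 t z R i j k l a b) : Nat.card R = 32 := by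
  rw [L.gR, ← hom_range L.fr.toQRel, ← card_M]
  exact (Nat.card_congr (MonoidHom.ofInjective (hom_injective L.fr.toQRel)).toEquiv).symm

theorem pR (L : Loc0 t z R i j k l a b) : IsPGroup 2 R :=
  IsPGroup.of_card (n := 5) (by rw [L.cardR]; norm_num)

theorem zR (L : Loc0 t z R i j k l a b) : z ∈ R := by
  have hi : i ∈ R := by rw [L.gR]; exact subset_closure (by simp)
  rw [← L.fr.ii]; exact mul_mem hi hi

theorem RD (L : Loc0 t z R i j k l a b) : R ≤ closure {i, j, k, l, a, b} := by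
  rw [L.gR]
  apply Subgroup.closure_mono
  intro x hx
  have hx' : x = i ∨ x = j ∨ x = k ∨ x = l := by simpa using hx
  rcases hx' with rfl | rfl | rfl | rfl <;> simp

theorem Dz (L : Loc0 t z R i j k l a b) : ∀ x ∈ closure ({i, j, k, l, a, b} : Set G), x * z = z * x := by
  have h2 : closure ({i, j, k, l, a, b} : Set G) ≤ centralizer ({z} : Set G) := by
    rw [closure_le]
    intro x hx
    have hx' : x = i ∨ x = j ∨ x = k ∨ x = l ∨ x = a ∨ x = b := by simpa using hx
    rw [SetLike.mem_coe, mem_centralizer_singleton_iff]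
    rcases hx' with rfl | rfl | rfl | rfl | rfl | rfl
    exacts [L.fr.iz, L.fr.jz, L.fr.kz, L.fr.lz, az L.fr, bz L.fr]
  exact fun x hx => mem_centralizer_singleton_iff.1 (h2 hx)

theorem odd3 {c : G} (hc : c * c * c = 1) : Odd (orderOf c) := by
  have h1 : c ^ 3 = 1 := by rw [pow_succ, pow_two]; exact hc
  have h2 := orderOf_dvd_of_pow_eq_one h1
  rcases (Nat.dvd_prime Nat.prime_three).1 h2 with h | h <;> rw [h] <;> decide

/-- `i, j` lie in the group generated by the conjugates of `a` -/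
theorem gen_ij {i j a z : G} (zz : z * z = 1) (jz : j * z = z * j) (ii : i * i = z) (jj : j * j = z)
    (ji : j * i = i * j * z) (ai : a * i * a⁻¹ = j) (aj : a * j * a⁻¹ = i * j) {S : Subgroup G} (ha : a ∈ S)
    (hai : i * a⁻¹ * i⁻¹ ∈ S) : i ∈ S ∧ j ∈ S := by
  have h1 : a * (i * a⁻¹ * i⁻¹) = i * j := by
    calc a * (i * a⁻¹ * i⁻¹) = (a * i * a⁻¹) * i⁻¹ := by group
      _ = j * i⁻¹ := by rw [ai]
      _ = j * (i * z) := by
          have : i⁻¹ = i * z := inv_eq_of_mul_eq_one_right (by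
            calc i * (i * z) = i * i * z := by group
              _ = 1 := by rw [ii, zz])
          rw [this]
      _ = (j * i) * z := by group
      _ = i * j * (z * z) := by rw [ji]; group
      _ = i * j := by rw [zz, mul_one]
  have hij : i * j ∈ S := by rw [← h1]; exact mul_mem ha hai
  have h2 : a * (i * j) * a⁻¹ = i := by
    calc a * (i * j) * a⁻¹ = (a * i * a⁻¹) * (a * j * a⁻¹) := by group
      _ = j * (i * j) := by rw [ai, aj]
      _ = (j * i) * j := by group
      _ = i * j * z * j := by rw [ji]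
      _ = i * (j * (z * j)) := by group
      _ = i * (j * (j * z)) := by rw [jz]
      _ = i * ((j * j) * z) := by group
      _ = i := by rw [jj, zz, mul_one]
  have hi : i ∈ S := by rw [← h2]; exact mul_mem (mul_mem ha hij) (inv_mem ha)
  refine ⟨hi, ?_⟩
  have e : j = i⁻¹ * (i * j) := by group
  rw [e]; exact mul_mem (inv_mem hi) hij

/-- `D` is generated by elements of odd order -/
theorem gen (L : Loc0 t z R i j k l a b) : closure ({i, j, k, l, a, b} : Set G) ≤
    closure {x | x ∈ closure ({i, j, k, l, a, b} : Set G) ∧ Odd (orderOf x)} := by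
  set D := closure ({i, j, k, l, a, b} : Set G) with hD
  set S := closure {x | x ∈ D ∧ Odd (orderOf x)} with hS
  have mi : i ∈ D := subset_closure (by simp)
  have mj : j ∈ D := subset_closure (by simp)
  have mk : k ∈ D := subset_closure (by simp)
  have ml : l ∈ D := subset_closure (by simp)
  have ma : a ∈ D := subset_closure (by simp)
  have mb : b ∈ D := subset_closure (by simp)
  have inS : ∀ x ∈ D, x * x * x = 1 → x ∈ S := fun x hx h => subset_closure ⟨hx, odd3 h⟩
  have ha := inS a ma L.a3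
  have hb := inS b mb L.b3
  have cube : ∀ c x : G, c * c * c = 1 → (x * c⁻¹ * x⁻¹) * (x * c⁻¹ * x⁻¹) * (x * c⁻¹ * x⁻¹) = 1 := by
    intro c x hc
    calc (x * c⁻¹ * x⁻¹) * (x * c⁻¹ * x⁻¹) * (x * c⁻¹ * x⁻¹) = x * (c * c * c)⁻¹ * x⁻¹ := by group
      _ = 1 := by rw [hc]; group
  obtain ⟨hi, hj⟩ := gen_ij L.fr.zz L.fr.jz L.fr.ii L.fr.jj L.fr.ji L.fr.act_a.i L.fr.act_a.j ha
    (inS _ (mul_mem (mul_mem mi (inv_mem ma)) (inv_mem mi)) (cube a i L.a3))
  obtain ⟨hk, hl⟩ := gen_ij L.fr.zz L.fr.lz L.fr.kk L.fr.ll L.fr.lk L.fr.act_b.k L.fr.act_b.l hb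
    (inS _ (mul_mem (mul_mem mk (inv_mem mb)) (inv_mem mk)) (cube b k L.b3))
  rw [hD, closure_le]
  intro x hx
  have hx' : x = i ∨ x = j ∨ x = k ∨ x = l ∨ x = a ∨ x = b := by simpa using hx
  rcases hx' with rfl | rfl | rfl | rfl | rfl | rfl
  exacts [hi, hj, hk, hl, ha, hb]

/-- `D` is normal in `X` -/
theorem nD (L : Loc0 t z R i j k l a b) (g : G) (hgt : g * t = t * g) (hgz : g * z = z * g) :
    ∀ d ∈ closure ({i, j, k, l, a, b} : Set G), g * d * g⁻¹ ∈ closure ({i, j, k, l, a, b} : Set G) := by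
  set D := closure ({i, j, k, l, a, b} : Set G) with hD
  have h1 : D ≤ D.comap (MulAut.conj g).toMonoidHom := by
    refine L.gen.trans ?_
    rw [closure_le]
    rintro x ⟨hx, hxo⟩
    show g * x * g⁻¹ ∈ D
    have c1 : Commute g t := hgt
    have c2 : Commute g z := hgz
    have c3 : Commute x t := L.Dt x hx
    have c4 : Commute x z := L.Dz x hx
    apply L.od
    · exact (c1.mul_left c3).mul_left c1.inv_left
    · exact (c2.mul_left c4).mul_left c2.inv_left
    · have : orderOf (g * x * g⁻¹) = orderOf x :=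
        orderOf_injective (MulAut.conj g).toMonoidHom (MulAut.conj g).injective x
      rw [this]; exact hxo
  exact fun d hd => h1 hd

/-- **the position of `Diag`** -/
theorem pos [Finite G] (L : Loc0 t z R i j k l a b) : Diag.Pos t z (closure {i, j, k, l, a, b}) R where
  tt := L.tt
  zz := L.fr.zz
  z1 := L.fr.z1
  comm := L.comm
  Dt := L.Dt
  Dz := L.Dz
  gen := L.gen
  zR := L.zR
  RD := L.RD
  pR := L.pR
  nR := fun d hd r hr => L.nR d (L.Dt d hd) (L.Dz d hd) r hr
  cR := L.cR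
  card := by
    have h1 := L.Bcard
    have h2 := L.cardR
    have h3 : Nat.card {x : G // x * t = t * x ∧ ∀ r ∈ R, x * r = r * x} ≤ 16 := h1
    omega

/-- `J = ⟨i, j, a⟩ ≅ SL₂(3)` -/
theorem isPr [Finite G] (L : Loc0 t z R i j k l a b) : NI3.IsPr (closure {i, j, a}) z := by
  have zz := L.fr.zz
  have hzi : ∀ x : G, x * x = z → x⁻¹ = x * z := fun x hx => inv_eq_of_mul_eq_one_right (by
    calc x * (x * z) = x * x * z := by group
      _ = 1 := by rw [hx, zz])
  have hz2 : z ^ 2 = 1 := by rw [pow_two]; exact zz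
  -- the relations
  have hrel : Cfsg.Agent.Transfer.SL23Recog.SLRel i j a :=
    { hi := by rw [show (4 : ℕ) = 2 * 2 from rfl, pow_mul, pow_two i, L.fr.ii, hz2]
      hj := by rw [pow_two, pow_two, L.fr.ii, L.fr.jj]
      hji := by
        calc j * i * j⁻¹ = i * j * z * j⁻¹ := by rw [L.fr.ji]
          _ = i * (j * z) * j⁻¹ := by group
          _ = i * (z * j) * j⁻¹ := by rw [L.fr.jz]
          _ = i * z := by group
          _ = i⁻¹ := (hzi i L.fr.ii).symm
      hti := L.fr.act_a.i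
      htj := L.fr.act_a.j }
  have ha3 : a ^ 3 = 1 := by rw [pow_succ, pow_two]; exact L.a3
  obtain ⟨hfin, hle⟩ := hrel.card_le ha3
  -- the order
  have s₁ : NISide.Side z 1 a L.fr.Q₁ L.fr.Q₂ := L.fr.side₁ (by simp) (by simp) (by simp) (by simp) (by simp)
  have hQ : L.fr.Q₁ ≤ closure {i, j, a} := L.fr.Q₁_le (subset_closure (by simp)) (subset_closure (by simp))
  have h8 : 8 ∣ Nat.card (closure ({i, j, a} : Set G)) := by
    rw [← s₁.card]
    exact Subgroup.card_dvd_of_le hQ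
  have ha1 : a ≠ 1 := by
    intro h
    have h1 := L.fr.act_a.i
    rw [h, one_mul, inv_one, mul_one] at h1
    have h2 := L.fr.ji
    rw [← h1, L.fr.ii, zz] at h2
    exact L.fr.z1 h2
  have h3 : 3 ∣ Nat.card (closure ({i, j, a} : Set G)) := by
    have h4 : orderOf a = 3 := orderOf_eq_prime ha3 ha1
    rw [← h4, ← Nat.card_zpowers]
    exact Subgroup.card_dvd_of_le (by rw [zpowers_le]; exact subset_closure (by simp))
  have h24 : 24 ∣ Nat.card (closure ({i, j, a} : Set G)) :=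
    Nat.Coprime.mul_dvd_of_dvd_of_dvd (by norm_num) h8 h3
  have hcard : Nat.card (closure ({i, j, a} : Set G)) = 24 :=
    le_antisymm hle (Nat.le_of_dvd Nat.card_pos h24)
  have mi : i ∈ closure ({i, j, a} : Set G) := subset_closure (by simp)
  have mj : j ∈ closure ({i, j, a} : Set G) := subset_closure (by simp)
  have ma : a ∈ closure ({i, j, a} : Set G) := subset_closure (by simp)
  refine ⟨?_, ?_, ?_⟩
  · refine Cfsg.Agent.Transfer.SL23Recog.sl23_of_relations (i := (⟨i, mi⟩ : closure ({i, j, a} : Set G)))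
      (j := ⟨j, mj⟩) (t := ⟨a, ma⟩)
      { hi := Subtype.ext hrel.hi
        hj := Subtype.ext hrel.hj
        hji := Subtype.ext hrel.hji
        hti := Subtype.ext hrel.hti
        htj := Subtype.ext hrel.htj } (Subtype.ext ha3) ?_ hcard
    have h5 : (closure ({(⟨i, mi⟩ : closure ({i, j, a} : Set G)), ⟨j, mj⟩, ⟨a, ma⟩} : Set _)).map
        (closure ({i, j, a} : Set G)).subtype = closure {i, j, a} := by
      rw [MonoidHom.map_closure]
      congr 1
      simp [Set.image_insert_eq]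
    rw [eq_top_iff]
    intro x _
    have h6 : (x : G) ∈ (closure ({(⟨i, mi⟩ : closure ({i, j, a} : Set G)), ⟨j, mj⟩, ⟨a, ma⟩} : Set _)).map
        (closure ({i, j, a} : Set G)).subtype := by rw [h5]; exact x.2
    obtain ⟨y, hy, hyx⟩ := h6
    have h7 : y = x := Subtype.ext hyx
    rwa [← h7]
  · exact orderOf_eq_prime hz2 L.fr.z1
  · rw [← L.fr.ii]; exact mul_mem mi mi

theorem JD : closure ({i, j, a} : Set G) ≤ closure {i, j, k, l, a, b} := by
  apply Subgroup.closure_mono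
  intro x hx
  have hx' : x = i ∨ x = j ∨ x = a := by simpa using hx
  rcases hx' with rfl | rfl | rfl <;> simp

/-- `J` is normal in `D` -/
theorem nJ (L : Loc0 t z R i j k l a b) : ∀ d ∈ closure ({i, j, k, l, a, b} : Set G),
    ∀ x ∈ closure ({i, j, a} : Set G), d * x * d⁻¹ ∈ closure ({i, j, a} : Set G) := by
  set J := closure ({i, j, a} : Set G) with hJ
  have mi : i ∈ J := subset_closure (by simp)
  have mj : j ∈ J := subset_closure (by simp)
  have ma : a ∈ J := subset_closure (by simp)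
  have hself : ∀ c ∈ J, c ∈ normalizer (J : Set G) := fun c hc => le_normalizer hc
  have hcen : ∀ c : G, i * c = c * i → j * c = c * j → a * c = c * a → c ∈ normalizer (J : Set G) := by
    intro c h1 h2 h3
    have h4 : J ≤ centralizer ({c} : Set G) := by
      rw [hJ, closure_le]
      intro x hx
      have hx' : x = i ∨ x = j ∨ x = a := by simpa using hx
      rw [SetLike.mem_coe, mem_centralizer_singleton_iff]
      rcases hx' with rfl | rfl | rfl
      exacts [h1, h2, h3]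
    rw [mem_normalizer_iff]
    intro x
    constructor
    · intro hx
      have h5 := mem_centralizer_singleton_iff.1 (h4 hx)
      rw [← h5, mul_inv_cancel_right]; exact hx
    · intro hx
      have h5 := mem_centralizer_singleton_iff.1 (h4 hx)
      have h6 : x = c * x * c⁻¹ := by
        have h7 : c * x = c * (c * x * c⁻¹) := by rw [← h5]; group
        exact mul_left_cancel h7
      rw [h6]; exact hx
  have hle : closure ({i, j, k, l, a, b} : Set G) ≤ normalizer (J : Set G) := by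
    rw [closure_le]
    intro x hx
    have hx' : x = i ∨ x = j ∨ x = k ∨ x = l ∨ x = a ∨ x = b := by simpa using hx
    rcases hx' with rfl | rfl | rfl | rfl | rfl | rfl
    · exact hself _ mi
    · exact hself _ mj
    · exact hcen _ L.fr.ki.symm L.fr.kj.symm (mul_inv_eq_iff_eq_mul.1 L.fr.act_a.k)
    · exact hcen _ L.fr.li.symm L.fr.lj.symm (mul_inv_eq_iff_eq_mul.1 L.fr.act_a.l)
    · exact hself _ ma
    · exact hcen _ (mul_inv_eq_iff_eq_mul.1 L.fr.act_b.i).symm (mul_inv_eq_iff_eq_mul.1 L.fr.act_b.j).symm L.ab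
  exact fun d hd x hx => (mem_normalizer_iff.1 (hle hd) x).1 hx

end Loc0

namespace Loc

theorem JD : closure ({i, j, a} : Set G) ≤ closure {i, j, k, l, a, b} := Loc0.JD

/-- `b` is a reflection -/
def Rf (t z : G) (R : Subgroup G) (b : G) : Prop := Bt t R b ∧ b * b = 1 ∧ ¬ T4 t z b

/-- **the hypotheses of `DiagEnd`** -/
theorem hyp {G : Type*} [Group G] {t z : G} {R : Subgroup G} {i j k l a b : G} (C : Iface.Ctx G)
    (L : Loc t z R i j k l a b)
    (ref : ∀ c, Rf t z R c → DiagEnd.Ref t z c (closure {i, j, k, l, a, b}) (closure {i, j, a})) :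
    DiagEnd.Hyp t z (closure {i, j, k, l, a, b}) R (closure {i, j, a}) := by
  have := C.fin
  exact
  { toPos := L.pos
    nD := L.nD
    ab := by
      intro B hB hB2 hab hn
      exact L.abR B (L.max B hB hB2 hn) hab hn
    JD := JD
    Jsn := Diag.sn_of_conj L.nJ
    cl := by
      intro h
      refine NI3.Bad.Cfg.not_cl C (x := z) (J := closure {i, j, a}) ⟨L.isPr, ?_, h⟩
      exact fun x hx => mem_centralizer_singleton_iff.2 (L.Dz x (JD hx))
    lam := by
      intro lam h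
      have h1 : commutator ↥(centralizer ({z} : Set G)) ≤ lam.ker := Abelianization.commutator_subset_ker lam
      have h2 : lam _ = 1 := h1 L.tH
      rw [h] at h2
      exact absurd h2 (by decide)
    cw := by
      intro C hs ht hz hD hn htC hzC
      by_cases h : ∃ b ∈ C, ¬ T4 t z b
      · obtain ⟨b, hb, hbT⟩ := h
        exact Or.inr ⟨b, hb, ref b ⟨⟨ht b hb, fun r hr => hD b hb r (L.RD hr)⟩, hs b hb, hbT⟩⟩
      · left
        intro c hc
        have h1 : T4 t z c := by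
          by_contra h2
          exact h ⟨c, hc, h2⟩
        rcases h1 with h1 | h1 | h1 | h1
        · exact Or.inl h1
        · exact Or.inr h1
        · exact absurd (h1 ▸ hc) htC
        · exfalso
          apply htC
          have h2 := C.mul_mem hc hzC
          rwa [h1, mul_assoc, L.fr.zz, mul_one] at h2 }

end Loc

end Cfsg.Agent.OddHalf.D6.QThree.FrontLoc

end

-- merged: Cfsg.Agent.OddHalf.D6.QThree.FrontInstB
section

/-!
# ODD half, D6, `q = 3`, `U₄(3)`, `L₄(3)` with an outer part: the hypotheses of `NIB` (helper948)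

`X = C_G(z)`. `Loc.pre`: `NIB.Pre`; `Loc.hypB`: `NIB.HypB`, from `Loc`, `O(X) = 1`, and the data `RefD` at the
reflections.
-/

set_option autoImplicit false

namespace Cfsg.Agent.OddHalf.D6.QThree.FrontLoc

open Subgroup Cfsg
open Cfsg.Agent.SignalizersComponents.Components
open Cfsg.Agent.OddHalf.D6.QThree.NIFacts
open Cfsg.Agent.OddHalf.D6.QThree.NISide

universe u

variable {G : Type u} [Group G] {t z : G} {R : Subgroup G} {i j k l a b : G}

/-- an element of `C(z)`, as an element of `X` -/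
abbrev up (z : G) (x : G) (hx : x * z = z * x) : ↥(centralizer ({z} : Set G)) :=
  ⟨x, mem_centralizer_singleton_iff.2 hx⟩

namespace Loc0

/-- the frame inside `X` -/
theorem frX (L : Loc0 t z R i j k l a b) :
    Frame (up z z rfl) (up z i L.fr.iz) (up z j L.fr.jz) (up z k L.fr.kz) (up z l L.fr.lz) (up z a (az L.fr))
      (up z b (bz L.fr)) where
  zz := Subtype.ext L.fr.zz
  z1 := fun e => L.fr.z1 (congrArg Subtype.val e)
  iz := Subtype.ext L.fr.iz
  jz := Subtype.ext L.fr.jz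
  kz := Subtype.ext L.fr.kz
  lz := Subtype.ext L.fr.lz
  ii := Subtype.ext L.fr.ii
  jj := Subtype.ext L.fr.jj
  kk := Subtype.ext L.fr.kk
  ll := Subtype.ext L.fr.ll
  ji := Subtype.ext L.fr.ji
  lk := Subtype.ext L.fr.lk
  ki := Subtype.ext L.fr.ki
  li := Subtype.ext L.fr.li
  kj := Subtype.ext L.fr.kj
  lj := Subtype.ext L.fr.lj
  act_a := ⟨Subtype.ext L.fr.act_a.z, Subtype.ext L.fr.act_a.i, Subtype.ext L.fr.act_a.j, Subtype.ext L.fr.act_a.k,
    Subtype.ext L.fr.act_a.l⟩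
  act_b := ⟨Subtype.ext L.fr.act_b.z, Subtype.ext L.fr.act_b.i, Subtype.ext L.fr.act_b.j, Subtype.ext L.fr.act_b.k,
    Subtype.ext L.fr.act_b.l⟩

theorem mem_RX (L : Loc0 t z R i j k l a b) (x : ↥(centralizer ({z} : Set G))) :
    x ∈ closure ({up z i L.fr.iz, up z j L.fr.jz, up z k L.fr.kz, up z l L.fr.lz} : Set _) ↔ (x : G) ∈ R := by
  have h1 : (closure ({up z i L.fr.iz, up z j L.fr.jz, up z k L.fr.kz, up z l L.fr.lz} : Set _)).map
      (centralizer ({z} : Set G)).subtype = R := by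
    refine Eq.trans ?_ L.gR.symm
    rw [MonoidHom.map_closure]
    congr 1
    simp [Set.image_insert_eq]
  constructor
  · intro hx
    rw [← h1]; exact ⟨x, hx, rfl⟩
  · intro hx
    rw [← h1] at hx
    obtain ⟨y, hy, hyx⟩ := hx
    have : y = x := Subtype.ext hyx
    rwa [← this]

theorem mem₁ (L : Loc0 t z R i j k l a b) (y : ↥(centralizer ({z} : Set G))) : y ∈ L.frX.Q₁ ↔ (y : G) ∈ L.fr.Q₁ := by
  have h1 : L.frX.Q₁.map (centralizer ({z} : Set G)).subtype = L.fr.Q₁ := by
    rw [L.frX.Q₁_eq, L.fr.Q₁_eq, MonoidHom.map_closure]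
    congr 1
    simp [Set.image_insert_eq]
  rw [← h1]
  constructor
  · intro hy
    exact ⟨y, hy, rfl⟩
  · rintro ⟨x, hx, hxy⟩
    have : x = y := Subtype.ext hxy
    rwa [← this]

theorem mem₂ (L : Loc0 t z R i j k l a b) (y : ↥(centralizer ({z} : Set G))) : y ∈ L.frX.Q₂ ↔ (y : G) ∈ L.fr.Q₂ := by
  have h1 : L.frX.Q₂.map (centralizer ({z} : Set G)).subtype = L.fr.Q₂ := by
    rw [L.frX.Q₂_eq, L.fr.Q₂_eq, MonoidHom.map_closure]
    congr 1
    simp [Set.image_insert_eq]
  rw [← h1]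
  constructor
  · intro hy
    exact ⟨y, hy, rfl⟩
  · rintro ⟨x, hx, hxy⟩
    have : x = y := Subtype.ext hxy
    rwa [← this]

theorem Q₁R (L : Loc0 t z R i j k l a b) : L.fr.Q₁ ≤ R := L.fr.le₁.trans L.gR.ge
theorem Q₂R (L : Loc0 t z R i j k l a b) : L.fr.Q₂ ≤ R := L.fr.le₂.trans L.gR.ge

theorem exists_mulR (L : Loc0 t z R i j k l a b) {r : G} (hr : r ∈ R) : ∃ x ∈ L.fr.Q₁, ∃ y ∈ L.fr.Q₂, r = x * y := by
  rw [L.gR] at hr; exact L.fr.exists_mul hr

/-- `T4` inside `X` -/
theorem T4_iff (L : Loc0 t z R i j k l a b) (x : ↥(centralizer ({z} : Set G))) :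
    NIB.T4 (up z z rfl) (up z t L.comm) x ↔ T4 t z (x : G) := by
  constructor
  · rintro (h | h | h | h)
    · exact Or.inl (congrArg Subtype.val h)
    · exact Or.inr (Or.inl (congrArg Subtype.val h))
    · exact Or.inr (Or.inr (Or.inl (congrArg Subtype.val h)))
    · exact Or.inr (Or.inr (Or.inr (congrArg Subtype.val h)))
  · rintro (h | h | h | h)
    · exact Or.inl (Subtype.ext h)
    · exact Or.inr (Or.inl (Subtype.ext h))
    · exact Or.inr (Or.inr (Or.inl (Subtype.ext h)))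
    · exact Or.inr (Or.inr (Or.inr (Subtype.ext h)))

/-- `Bt` inside `X` -/
theorem Bt_iff (L : Loc0 t z R i j k l a b) (x : ↥(centralizer ({z} : Set G))) :
    NIB.Bt (up z t L.comm) L.frX.Q₁ L.frX.Q₂ x ↔ Bt t R (x : G) := by
  have hX : ∀ r ∈ R, r * z = z * r := fun r hr => L.Dz r (L.RD hr)
  constructor
  · rintro ⟨h1, h2, h3⟩
    refine ⟨congrArg Subtype.val h1, fun r hr => ?_⟩
    obtain ⟨q, hq, q', hq', e⟩ := L.exists_mulR hr
    have e1 := congrArg Subtype.val (h2 (up z q (hX q (L.Q₁R hq))) ((L.mem₁ _).2 hq))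
    have e2 := congrArg Subtype.val (h3 (up z q' (hX q' (L.Q₂R hq'))) ((L.mem₂ _).2 hq'))
    have c1 : Commute (x : G) q := e1
    have c2 : Commute (x : G) q' := e2
    rw [e]
    exact c1.mul_right c2
  · rintro ⟨h1, h2⟩
    exact ⟨Subtype.ext h1, fun q hq => Subtype.ext (h2 q (L.Q₁R ((L.mem₁ q).1 hq))),
      fun q hq => Subtype.ext (h2 q (L.Q₂R ((L.mem₂ q).1 hq)))⟩

theorem T4_sq (L : Loc0 t z R i j k l a b) {x : G} (h : T4 t z x) : x * x = 1 := by
  rcases h with rfl | rfl | rfl | rfl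
  · exact mul_one 1
  · exact L.fr.zz
  · exact L.tt
  · calc t * z * (t * z) = t * (z * t) * z := by group
      _ = t * (t * z) * z := by rw [L.comm]
      _ = (t * t) * (z * z) := by group
      _ = 1 := by rw [L.tt, L.fr.zz, mul_one]

theorem Bt_pow (L : Loc0 t z R i j k l a b) {x : G} (h : Bt t R x) : x ^ 4 = 1 := by
  have h1 := L.T4_sq (L.Bsq x h)
  calc x ^ 4 = (x * x) * (x * x) := by rw [pow_succ, pow_succ, pow_two]; group
    _ = 1 := h1

theorem side₁X (L : Loc0 t z R i j k l a b) {w : ↥(centralizer ({z} : Set G))}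
    (hw : ∀ d ∈ closure ({i, j, k, l, a, b} : Set G), d * w = w * d) :
    Side (up z z rfl) w (up z a (az L.fr)) L.frX.Q₁ L.frX.Q₂ :=
  L.frX.side₁ (Subtype.ext (hw i (subset_closure (by simp)))) (Subtype.ext (hw j (subset_closure (by simp))))
    (Subtype.ext (hw k (subset_closure (by simp)))) (Subtype.ext (hw l (subset_closure (by simp))))
    (Subtype.ext (hw a (subset_closure (by simp))))

theorem side₂X (L : Loc0 t z R i j k l a b) {w : ↥(centralizer ({z} : Set G))}
    (hw : ∀ d ∈ closure ({i, j, k, l, a, b} : Set G), d * w = w * d) :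
    Side (up z z rfl) w (up z b (bz L.fr)) L.frX.Q₂ L.frX.Q₁ :=
  L.frX.side₂ (Subtype.ext (hw i (subset_closure (by simp)))) (Subtype.ext (hw j (subset_closure (by simp))))
    (Subtype.ext (hw k (subset_closure (by simp)))) (Subtype.ext (hw l (subset_closure (by simp))))
    (Subtype.ext (hw b (subset_closure (by simp))))

theorem norX (L : Loc0 t z R i j k l a b) (g : ↥(centralizer ({z} : Set G)))
    (hg : g * up z t L.comm = up z t L.comm * g) :
    ∀ r ∈ closure ({up z i L.fr.iz, up z j L.fr.jz, up z k L.fr.kz, up z l L.fr.lz} : Set _),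
      g * r * g⁻¹ ∈ closure ({up z i L.fr.iz, up z j L.fr.jz, up z k L.fr.kz, up z l L.fr.lz} : Set _) := by
  intro r hr
  rw [L.mem_RX] at hr ⊢
  exact L.nR g (congrArg Subtype.val hg) (mem_centralizer_singleton_iff.1 g.2) r hr

/-- **the hypotheses `NIB.Pre`** -/
theorem pre [Finite G] (L : Loc0 t z R i j k l a b) (hO : pPrimeCore 2 ↥(centralizer ({z} : Set G)) = ⊥) :
    NIB.Pre (up z z rfl) (up z t L.comm) (up z a (az L.fr)) (up z b (bz L.fr)) L.frX.Q₁ L.frX.Q₂ := by
  have zc : ∀ x : ↥(centralizer ({z} : Set G)), x * up z z rfl = up z z rfl * x := fun x =>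
    Subtype.ext (mem_centralizer_singleton_iff.1 x.2)
  have s₁ := L.side₁X (w := up z t L.comm) L.Dt
  have s₂ := L.side₂X (w := up z t L.comm) L.Dt
  have s₁' := L.side₁X (w := 1) (fun d _ => by
    show d * 1 = 1 * d
    rw [mul_one, one_mul])
  have s₂' := L.side₂X (w := 1) (fun d _ => by
    show d * 1 = 1 * d
    rw [mul_one, one_mul])
  have hfs : ∀ g : ↥(centralizer ({z} : Set G)), g * up z t L.comm = up z t L.comm * g →
      ((∀ q ∈ L.frX.Q₁, g * q * g⁻¹ ∈ L.frX.Q₁) ∧ (∀ q ∈ L.frX.Q₂, g * q * g⁻¹ ∈ L.frX.Q₂)) ∨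
      ((∀ q ∈ L.frX.Q₁, g * q * g⁻¹ ∈ L.frX.Q₂) ∧ (∀ q ∈ L.frX.Q₂, g * q * g⁻¹ ∈ L.frX.Q₁)) := fun g hg =>
    NISolv.fix_or_swap L.frX zc (L.norX g hg) s₁' s₂'
  exact
  { zc := zc
    zz := L.frX.zz
    z1 := L.frX.z1
    tt := Subtype.ext L.tt
    t1 := fun e => L.t1 (congrArg Subtype.val e)
    tz := fun e => L.tz (congrArg Subtype.val e)
    O := hO
    sol := TS.Rad.solvable L.frX zc L.norX (fun g hg => ⟨2, Subtype.ext (L.Bt_pow ((L.Bt_iff g).1 hg))⟩) s₁' s₂'
    s₁ := s₁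
    s₂ := s₂
    comm := L.frX.comm
    nor := by
      intro g hg x hx y hy
      exact L.frX.exists_mul (L.norX g hg _ (mul_mem (L.frX.le₁ hx) (L.frX.le₂ hy)))
    rad := by
      intro N hNt hN2 hNn n hn
      -- `N ∩ D ≤ R`
      have hND : ((N.map (centralizer ({z} : Set G)).subtype) ⊓ closure ({i, j, k, l, a, b} : Set G)) ≤ R := by
        apply L.max _ inf_le_right ((hN2.map _).to_le inf_le_left)
        rintro g hgt hgz _ ⟨⟨y, hy, rfl⟩, hyD⟩
        exact ⟨⟨_, hNn (up z g hgz) (Subtype.ext hgt) y hy, rfl⟩, L.nD g hgt hgz _ hyD⟩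
      have key : ∀ c : ↥(centralizer ({z} : Set G)), (c : G) ∈ closure ({i, j, k, l, a, b} : Set G) →
          ∃ x ∈ L.frX.Q₁, ∃ y ∈ L.frX.Q₂, n * c * n⁻¹ * c⁻¹ = x * y := by
        intro c hc
        apply L.frX.exists_mul
        rw [L.mem_RX]
        apply hND
        have h1 : n * c * n⁻¹ * c⁻¹ ∈ N := by
          have e : n * c * n⁻¹ * c⁻¹ = n * (c * n⁻¹ * c⁻¹) := by group
          rw [e]
          exact N.mul_mem hn (hNn c (Subtype.ext (L.Dt _ hc)) _ (N.inv_mem hn))
        refine ⟨⟨_, h1, rfl⟩, ?_⟩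
        have h2 := L.nD (n : G) (congrArg Subtype.val (hNt n hn)) (mem_centralizer_singleton_iff.1 n.2) _ hc
        exact Subgroup.mul_mem _ h2 (Subgroup.inv_mem _ hc)
      obtain ⟨m, hm⟩ := hN2 ⟨n, hn⟩
      exact TS.Rad.exists_xyb s₁ s₂ zc L.frX.zz L.frX.z1 L.frX.comm (hNt n hn) ⟨m, congrArg Subtype.val hm⟩
        (hfs n (hNt n hn)) (key _ (subset_closure (by simp))) (key _ (subset_closure (by simp)))
    odd := by
      intro c hc d hd ho
      refine Subtype.ext (L.BD c ((L.Bt_iff c).1 hc) d (L.od d (congrArg Subtype.val hd)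
        (mem_centralizer_singleton_iff.1 d.2) ?_))
      rw [Subgroup.orderOf_coe]; exact ho
    oa₁ := odd3 (Subtype.ext L.a3)
    oa₂ := odd3 (Subtype.ext L.b3)
    Bsq := fun c hc => (L.T4_iff _).2 (L.Bsq c ((L.Bt_iff c).1 hc))
    Bnc := by
      intro c d hc hd hcd
      rw [L.T4_iff]
      have hc' : c⁻¹ = c := inv_eq_of_mul_eq_one_right hc.2.1
      rcases L.Bcc c d ((L.Bt_iff c).1 hc.1) ((L.Bt_iff d).1 hd.1) (congrArg Subtype.val hcd) with h | h | h
      · exact absurd ((L.T4_iff c).2 h) hc.2.2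
      · exact absurd ((L.T4_iff d).2 h) hd.2.2
      · have h2 : ((c * d : ↥(centralizer ({z} : Set G))) : G) = (c : G)⁻¹ * d := by
          rw [← Subgroup.coe_inv, hc']; rfl
        rw [h2]; exact h
    sw := by
      obtain ⟨s, hs, hsz⟩ := L.s
      exact ⟨up z s (mul_inv_eq_iff_eq_mul.1 hsz), Subtype.ext hs⟩ }

/-! ### `B` -/

/-- `t^s = t z`: conjugation by `s` preserves `C(t) ∩ C(z)` -/
theorem sX (L : Loc0 t z R i j k l a b) {s : G} (hs : s * t * s⁻¹ = t * z) (hsz : s * z * s⁻¹ = z) {g : G}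
    (h1 : g * t = t * g) (h2 : g * z = z * g) :
    (s * g * s⁻¹) * t = t * (s * g * s⁻¹) ∧ (s * g * s⁻¹) * z = z * (s * g * s⁻¹) := by
  have e1 : (s * g * s⁻¹) * (t * z) = (t * z) * (s * g * s⁻¹) := by
    rw [← hs]
    calc s * g * s⁻¹ * (s * t * s⁻¹) = s * (g * t) * s⁻¹ := by group
      _ = s * (t * g) * s⁻¹ := by rw [h1]
      _ = s * t * s⁻¹ * (s * g * s⁻¹) := by group
  have e2 : (s * g * s⁻¹) * z = z * (s * g * s⁻¹) := by
    calc s * g * s⁻¹ * z = s * g * s⁻¹ * (s * z * s⁻¹) := by rw [hsz]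
      _ = s * (g * z) * s⁻¹ := by group
      _ = s * (z * g) * s⁻¹ := by rw [h2]
      _ = (s * z * s⁻¹) * (s * g * s⁻¹) := by group
      _ = z * (s * g * s⁻¹) := by rw [hsz]
  refine ⟨?_, e2⟩
  have c1 : Commute (s * g * s⁻¹) (t * z) := e1
  have c2 : Commute (s * g * s⁻¹) z := e2
  have e : t = t * z * z := by rw [mul_assoc, L.fr.zz, mul_one]
  rw [e]
  exact c1.mul_right c2

theorem s_inv (L : Loc0 t z R i j k l a b) {s : G} (hs : s * t * s⁻¹ = t * z) (hsz : s * z * s⁻¹ = z) :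
    s⁻¹ * t * s⁻¹⁻¹ = t * z ∧ s⁻¹ * z * s⁻¹⁻¹ = z := by
  have e2 : s⁻¹ * z * s⁻¹⁻¹ = z := by
    calc s⁻¹ * z * s⁻¹⁻¹ = s⁻¹ * (s * z * s⁻¹) * s⁻¹⁻¹ := by rw [hsz]
      _ = z := by group
  refine ⟨?_, e2⟩
  have e3 : s⁻¹ * (t * z) * s⁻¹⁻¹ = t := by rw [← hs]; group
  calc s⁻¹ * t * s⁻¹⁻¹ = s⁻¹ * (t * (z * z)) * s⁻¹⁻¹ := by rw [L.fr.zz, mul_one]
    _ = s⁻¹ * (t * z) * s⁻¹⁻¹ * (s⁻¹ * z * s⁻¹⁻¹) := by group
    _ = t * z := by rw [e3, e2]

/-- `s` normalises `D` -/
theorem sD (L : Loc0 t z R i j k l a b) {s : G} (hs : s * t * s⁻¹ = t * z) (hsz : s * z * s⁻¹ = z) :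
    ∀ d ∈ closure ({i, j, k, l, a, b} : Set G), s * d * s⁻¹ ∈ closure ({i, j, k, l, a, b} : Set G) := by
  have h1 : closure ({i, j, k, l, a, b} : Set G) ≤
      (closure ({i, j, k, l, a, b} : Set G)).comap (MulAut.conj s).toMonoidHom := by
    refine L.gen.trans ?_
    rw [closure_le]
    rintro x ⟨hx, hxo⟩
    show s * x * s⁻¹ ∈ closure ({i, j, k, l, a, b} : Set G)
    obtain ⟨c1, c2⟩ := L.sX hs hsz (L.Dt x hx) (L.Dz x hx)
    apply L.od _ c1 c2
    have : orderOf (s * x * s⁻¹) = orderOf x :=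
      orderOf_injective (MulAut.conj s).toMonoidHom (MulAut.conj s).injective x
    rw [this]; exact hxo
  exact fun d hd => h1 hd

/-- `s` normalises `R` -/
theorem sR [Finite G] (L : Loc0 t z R i j k l a b) {s : G} (hs : s * t * s⁻¹ = t * z) (hsz : s * z * s⁻¹ = z) :
    ∀ r ∈ R, s * r * s⁻¹ ∈ R := by
  have h1 : R.map (MulAut.conj s).toMonoidHom ≤ R := by
    apply L.max
    · rintro _ ⟨r, hr, rfl⟩
      exact L.sD hs hsz r (L.RD hr)
    · exact L.pR.map _
    · rintro g hgt hgz _ ⟨r, hr, rfl⟩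
      obtain ⟨f1, f2⟩ := L.s_inv hs hsz
      obtain ⟨g1, g2⟩ := L.sX f1 f2 hgt hgz
      refine ⟨_, L.nR _ g1 g2 r hr, ?_⟩
      show s * (s⁻¹ * g * s⁻¹⁻¹ * r * (s⁻¹ * g * s⁻¹⁻¹)⁻¹) * s⁻¹ = g * (s * r * s⁻¹) * g⁻¹
      group
  exact fun r hr => h1 ⟨r, hr, rfl⟩

/-- `s` normalises `B` -/
theorem sB [Finite G] (L : Loc0 t z R i j k l a b) {s : G} (hs : s * t * s⁻¹ = t * z) (hsz : s * z * s⁻¹ = z)
    {x : G} (hx : Bt t R x) : Bt t R (s * x * s⁻¹) := by
  have hxz : x * z = z * x := hx.2 z L.zR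
  refine ⟨(L.sX hs hsz hx.1 hxz).1, fun r hr => ?_⟩
  obtain ⟨f1, f2⟩ := L.s_inv hs hsz
  have h1 := hx.2 _ (L.sR f1 f2 r hr)
  calc s * x * s⁻¹ * r = s * (x * (s⁻¹ * r * s⁻¹⁻¹)) * s⁻¹ := by group
    _ = s * ((s⁻¹ * r * s⁻¹⁻¹) * x) * s⁻¹ := by rw [h1]
    _ = r * (s * x * s⁻¹) := by group

theorem T4_comm (L : Loc0 t z R i j k l a b) {u x : G} (hu : T4 t z u) (hx : Bt t R x) : x * u = u * x := by
  have c1 : Commute x t := hx.1
  have c2 : Commute x z := hx.2 z L.zR
  rcases hu with rfl | rfl | rfl | rfl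
  · rw [mul_one, one_mul]
  · exact c2
  · exact c1
  · exact c1.mul_right c2

theorem T4_mul (L : Loc0 t z R i j k l a b) {u v : G} (hu : T4 t z u) (hv : T4 t z v) : T4 t z (u * v) := by
  have hzt : z * t = t * z := L.comm.symm
  have e1 : t * z * t = z := by
    calc t * z * t = t * (z * t) := by group
      _ = t * (t * z) := by rw [hzt]
      _ = z := by rw [← mul_assoc, L.tt, one_mul]
  have e2 : t * (t * z) = z := by rw [← mul_assoc, L.tt, one_mul]
  have e3 : z * (t * z) = t := by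
    rw [← mul_assoc, hzt, mul_assoc, L.fr.zz, mul_one]
  have e4 : t * z * z = t := by rw [mul_assoc, L.fr.zz, mul_one]
  have e5 : t * z * (t * z) = 1 := by rw [← mul_assoc, e1, L.fr.zz]
  rcases hu with rfl | rfl | rfl | rfl <;> rcases hv with rfl | rfl | rfl | rfl
  · left; rw [one_mul]
  · right; left; rw [one_mul]
  · right; right; left; rw [one_mul]
  · right; right; right; rw [one_mul]
  · right; left; rw [mul_one]
  · left; exact L.fr.zz
  · right; right; right; exact hzt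
  · right; right; left; exact e3
  · right; right; left; rw [mul_one]
  · right; right; right; rfl
  · left; exact L.tt
  · right; left; exact e2
  · right; right; right; rw [mul_one]
  · right; right; left; exact e4
  · right; left; exact e1
  · left; exact e5

theorem T4_inv (L : Loc0 t z R i j k l a b) {u : G} (hu : T4 t z u) : T4 t z u⁻¹ := by
  rw [inv_eq_of_mul_eq_one_right (L.T4_sq hu)]; exact hu

theorem Bt_mul {x y : G} (hx : Bt t R x) (hy : Bt t R y) : Bt t R (x * y) :=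
  ⟨(show Commute x t from hx.1).mul_left hy.1, fun r hr => (show Commute x r from hx.2 r hr).mul_left (hy.2 r hr)⟩

theorem Bt_inv {x : G} (hx : Bt t R x) : Bt t R x⁻¹ :=
  ⟨(show Commute x t from hx.1).inv_left, fun r hr => (show Commute x r from hx.2 r hr).inv_left⟩

/-- `B / ⟨t, z⟩` is abelian -/
theorem comm_T4 (L : Loc0 t z R i j k l a b) {x y : G} (hx : Bt t R x) (hy : Bt t R y) :
    T4 t z (x * y * x⁻¹ * y⁻¹) := by
  have h1 := L.Bsq _ hx
  have h2 := L.Bsq _ hy
  have h3 := L.Bsq _ (Bt_mul hx hy)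
  have c1 : Commute y⁻¹ (x * x)⁻¹ := L.T4_comm (L.T4_inv h1) (Bt_inv hy)
  have e : x * y * x⁻¹ * y⁻¹ = (x * y * (x * y)) * (x * x)⁻¹ * (y * y)⁻¹ := by
    calc x * y * x⁻¹ * y⁻¹ = (x * y * (x * y)) * (y⁻¹ * (x * x)⁻¹) * y⁻¹ := by group
      _ = (x * y * (x * y)) * ((x * x)⁻¹ * y⁻¹) * y⁻¹ := by rw [c1.eq]
      _ = (x * y * (x * y)) * (x * x)⁻¹ * (y * y)⁻¹ := by group
  rw [e]
  exact L.T4_mul (L.T4_mul h3 (L.T4_inv h1)) (L.T4_inv h2)

/-- `x`, `y` commute modulo `⟨u⟩` -/
def Ct (u x y : G) : Prop := x * y = y * x ∨ x * y = y * x * u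

theorem Ct.mul {u x y w : G} (uu : u * u = 1) (hu : w * u = u * w) (h1 : Ct u x y)
    (h2 : Ct u x w) : Ct u x (y * w) := by
  rcases h1 with h1 | h1 <;> rcases h2 with h2 | h2
  · left
    rw [← mul_assoc, h1, mul_assoc, h2, ← mul_assoc]
  · right
    rw [← mul_assoc, h1, mul_assoc, h2]; group
  · right
    calc x * (y * w) = x * y * w := by group
      _ = y * x * (u * w) := by rw [h1]; group
      _ = y * x * (w * u) := by rw [hu]
      _ = y * (x * w) * u := by group
      _ = y * w * x * u := by rw [h2]; group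
  · left
    calc x * (y * w) = x * y * w := by group
      _ = y * x * (u * w) := by rw [h1]; group
      _ = y * x * (w * u) := by rw [hu]
      _ = y * (x * w) * u := by group
      _ = y * w * x * (u * u) := by rw [h2]; group
      _ = y * w * x := by rw [uu, mul_one]

theorem Ct.symm {u x y : G} (uu : u * u = 1) (h : Ct u x y) : Ct u y x := by
  rcases h with h | h
  · exact Or.inl h.symm
  · right
    rw [h, mul_assoc, uu, mul_one]

/-- `[x, y] = u` is the only commutator -/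
theorem Ct_all (L : Loc0 t z R i j k l a b) {u x y : G} (hu : T4 t z u) (u1 : u ≠ 1) (hx : Bt t R x)
    (hy : Bt t R y) (hxy : x * y * x⁻¹ * y⁻¹ = u) {w w' : G} (hw : Bt t R w) (hw' : Bt t R w') : Ct u w w' := by
  have uu := L.T4_sq hu
  have e : x * y = u * (y * x) := by rw [← hxy]; group
  have hyx : Ct u x y := by
    right
    rw [e]
    have c : Commute (y * x) u := L.T4_comm hu (Bt_mul hy hx)
    exact c.symm
  have hne : ¬ x * y = y * x := by
    intro h
    apply u1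
    rw [← hxy, h]; group
  have nx : ¬ T4 t z x := fun h => hne (L.T4_comm h hy).symm
  have ny : ¬ T4 t z y := fun h => hne (L.T4_comm h hx)
  have nxy : ¬ T4 t z (x⁻¹ * y) := by
    intro h
    have h1 := L.T4_comm h hx
    apply hne
    calc x * y = x * (x * (x⁻¹ * y)) := by group
      _ = x * (x⁻¹ * y * x) := by rw [h1]
      _ = y * x := by group
  -- everything is in `⟨t, z, x, y⟩`
  have key : ∀ v, Bt t R v → ∀ v' : G, Bt t R v' → Ct u v' x → Ct u v' y → Ct u v' v := by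
    intro v hv v' hv' h1 h2
    have hT : ∀ c : G, T4 t z (c⁻¹ * v) → Bt t R c → Ct u v' c → Ct u v' v := by
      intro c hc hcB h3
      have h4 : Ct u v' (c⁻¹ * v) := Or.inl (L.T4_comm hc hv')
      have e : v = c * (c⁻¹ * v) := by group
      rw [e]
      exact Ct.mul uu (L.T4_comm hu (Bt_mul (Bt_inv hcB) hv)) h3 h4
    rcases L.B4 x y v hx hy hv nx ny nxy with h | h | h | h
    · exact Or.inl (L.T4_comm h hv')
    · exact hT x h hx h1
    · exact hT y h hy h2
    · exact hT (x * y) h (Bt_mul hx hy) (Ct.mul uu (L.T4_comm hu hy) h1 h2)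
  have self : ∀ c : G, Ct u c c := fun c => Or.inl rfl
  have kx : Ct u x w := key w hw x hx (self x) hyx
  have ky : Ct u y w := key w hw y hy (hyx.symm uu) (self y)
  exact key w' hw' w hw (kx.symm uu) (ky.symm uu)

/-- `B' ≤ ⟨z⟩` -/
theorem Bc [Finite G] (L : Loc0 t z R i j k l a b) {x y : G} (hx : Bt t R x) (hy : Bt t R y) :
    x * y * x⁻¹ * y⁻¹ = 1 ∨ x * y * x⁻¹ * y⁻¹ = z := by
  obtain ⟨s, hs, hsz⟩ := L.s
  have key : ∀ u, T4 t z u → s * u * s⁻¹ = u * z → x * y * x⁻¹ * y⁻¹ = u → u = 1 ∨ u = z := by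
    intro u hu hsu h
    by_cases u1 : u = 1
    · exact Or.inl u1
    exfalso
    have h1 := L.Ct_all hu u1 hx hy h (L.sB hs hsz hx) (L.sB hs hsz hy)
    have h2 : (s * x * s⁻¹) * (s * y * s⁻¹) * (s * x * s⁻¹)⁻¹ * (s * y * s⁻¹)⁻¹ = u * z := by
      rw [← hsu, ← h]; group
    rcases h1 with h1 | h1
    · rw [h1] at h2
      have h3 : u * z = 1 := by rw [← h2]; group
      -- `u = z` and `s z s⁻¹ = z`
      have h4 : u = z := by
        calc u = u * (z * z) := by rw [L.fr.zz, mul_one]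
          _ = u * z * z := by group
          _ = z := by rw [h3, one_mul]
      rw [h4, hsz, L.fr.zz] at hsu
      exact L.fr.z1 hsu
    · have hc := L.T4_comm hu (Bt_inv (L.sB hs hsz hx))
      have hc' := L.T4_comm hu (Bt_inv (L.sB hs hsz hy))
      have h3 : (s * x * s⁻¹) * (s * y * s⁻¹) * (s * x * s⁻¹)⁻¹ * (s * y * s⁻¹)⁻¹ = u := by
        set p := s * x * s⁻¹ with hp
        set q := s * y * s⁻¹ with hq
        have c1 : Commute p⁻¹ u := hc
        have c2 : Commute q⁻¹ u := hc'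
        calc p * q * p⁻¹ * q⁻¹ = q * p * (u * (p⁻¹ * q⁻¹)) := by rw [h1]; group
          _ = q * p * ((p⁻¹ * q⁻¹) * u) := by rw [(c1.mul_left c2).eq]
          _ = u := by group
      rw [h3] at h2
      have h4 : z = 1 := by
        have h5 : u * 1 = u * z := by rw [mul_one]; exact h2
        exact (mul_left_cancel h5).symm
      exact L.fr.z1 h4
  have h0 := L.comm_T4 hx hy
  rcases h0 with h | h | h | h
  · exact Or.inl h
  · exact Or.inr h
  · rcases key t (Or.inr (Or.inr (Or.inl rfl))) hs h with e | e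
    · exact absurd e L.t1
    · exact absurd e L.tz
  · have hsu : s * (t * z) * s⁻¹ = t * z * z := by
      calc s * (t * z) * s⁻¹ = (s * t * s⁻¹) * (s * z * s⁻¹) := by group
        _ = t * z * z := by rw [hs, hsz]
    rcases key (t * z) (Or.inr (Or.inr (Or.inr rfl))) hsu h with e | e
    · exfalso
      apply L.tz
      calc t = t * (z * z) := by rw [L.fr.zz, mul_one]
        _ = t * z * z := by group
        _ = z := by rw [e, one_mul]
    · exfalso
      apply L.t1
      have e' : t * z = 1 * z := by rw [one_mul]; exact e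
      exact mul_right_cancel e'

/-- the two factors are conjugate -/
theorem swapX (L : Loc0 t z R i j k l a b) : ∃ p : ↥(centralizer ({z} : Set G)), p * up z t L.comm = up z t L.comm * p ∧
    (∀ x ∈ L.frX.Q₁, p * x * p⁻¹ ∈ L.frX.Q₂) ∧ ∀ x ∈ L.frX.Q₂, p * x * p⁻¹ ∈ L.frX.Q₁ := by
  obtain ⟨p, hpt, hpz, hp⟩ := L.sw
  have zc : ∀ x : ↥(centralizer ({z} : Set G)), x * up z z rfl = up z z rfl * x := fun x =>
    Subtype.ext (mem_centralizer_singleton_iff.1 x.2)
  have s₁' := L.side₁X (w := 1) (fun d _ => by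
    show d * 1 = 1 * d
    rw [mul_one, one_mul])
  have s₂' := L.side₂X (w := 1) (fun d _ => by
    show d * 1 = 1 * d
    rw [mul_one, one_mul])
  have hpt' : up z p hpz * up z t L.comm = up z t L.comm * up z p hpz := Subtype.ext hpt
  rcases NISolv.fix_or_swap L.frX zc (L.norX _ hpt') s₁' s₂' with ⟨h1, -⟩ | ⟨h1, h2⟩
  · exfalso
    have h4 := h1 _ L.frX.mem_i₁
    have h5 : up z p hpz * up z i L.fr.iz * (up z p hpz)⁻¹ = up z k L.fr.kz := Subtype.ext hp
    rw [h5] at h4
    rcases s₂'.center L.frX.mem_k₂ (fun q hq => L.frX.comm _ h4 q hq) with e | e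
    · have := L.frX.kk
      rw [e, one_mul] at this
      exact L.frX.z1 this.symm
    · have := L.frX.kk
      rw [e, L.frX.zz] at this
      exact L.frX.z1 this.symm
  · exact ⟨_, hpt', h1, h2⟩

/-- `D` is solvable -/
theorem solD [Finite G] (L : Loc0 t z R i j k l a b) (hO : pPrimeCore 2 ↥(centralizer ({z} : Set G)) = ⊥) :
    Group.IsSolvable (closure ({i, j, k, l, a, b} : Set G)) := by
  have h1 := (L.pre hO).sol
  let f : ↥(closure ({i, j, k, l, a, b} : Set G)) →*
      ↥(centralizer ({up z t L.comm} : Set ↥(centralizer ({z} : Set G)))) :=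
    { toFun := fun x => ⟨up z x (L.Dz x x.2), mem_centralizer_singleton_iff.2 (Subtype.ext (L.Dt x x.2))⟩
      map_one' := rfl
      map_mul' := fun _ _ => rfl }
  refine Group.isSolvable_of_isSolvable_injective (f := f) ?_
  intro x y hxy
  exact Subtype.ext (congrArg (fun w => ((w.1 : ↥(centralizer ({z} : Set G))) : G)) hxy)

/-- (W), inside `X` -/
theorem elemX [Finite G] (L : Loc0 t z R i j k l a b) {J : Subgroup G}
    (h : DiagEnd.Hyp t z (closure {i, j, k, l, a, b}) R J) :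
    ∀ W : Subgroup ↥(centralizer ({z} : Set G)), W.Normal → (∀ w ∈ W, w * w = 1) →
      ∀ w ∈ W, w = 1 ∨ w = up z z rfl := by
  intro W hn hs w hw
  have h1 := h.le_of_normal (W := W.map (centralizer ({z} : Set G)).subtype) (by
      rintro _ ⟨w, -, rfl⟩
      exact mem_centralizer_singleton_iff.1 w.2) (by
      rintro _ ⟨w, hw, rfl⟩
      exact congrArg Subtype.val (hs w hw)) (by
      rintro g hg _ ⟨w, hw, rfl⟩
      exact ⟨_, hn.conj_mem w hw (up z g hg), rfl⟩) (w : G) ⟨w, hw, rfl⟩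
  rcases h1 with h1 | h1
  · exact Or.inl (Subtype.ext h1)
  · exact Or.inr (Subtype.ext h1)

end Loc0

namespace Loc

/-- **the hypotheses `NIB.HypB`**, from the data `RefD` at the reflections and the field `nF` -/
theorem hypB {G : Type u} [Group G] {t z : G} {R : Subgroup G} {i j k l a b : G} (C : Iface.Ctx G)
    (L : Loc t z R i j k l a b)
    (ref : ∀ c, Rf t z R c → NIB.RefD t z c (closure {i, j, k, l, a, b}))
    (hnF : NIB.Pre (up z z rfl) (up z t L.comm) (up z a (az L.fr)) (up z b (bz L.fr)) L.frX.Q₁ L.frX.Q₂ →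
      (∀ W : Subgroup ↥(centralizer ({z} : Set G)), W.Normal → (∀ w ∈ W, w * w = 1) →
        ∀ w ∈ W, w = 1 ∨ w = up z z rfl) →
      (∀ M : Subgroup ↥(centralizer ({z} : Set G)), IsComponent M → up z z rfl ∈ M) →
      (∀ M : Subgroup ↥(centralizer ({z} : Set G)), IsComponent M →
        (∀ x ∈ L.frX.Q₁, ∀ m ∈ M, x * m = m * x) ∧ ∀ x ∈ L.frX.Q₂, ∀ m ∈ M, x * m = m * x) →
      ∀ F : Subgroup ↥(centralizer ({z} : Set G)), F.Normal → IsPGroup 2 F →
        ¬ (L.frX.Q₁ ≤ F ∧ L.frX.Q₂ ≤ F)) :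
    NIB.HypB (up z z rfl) (up z t L.comm) (up z a (az L.fr)) (up z b (bz L.fr)) L.frX.Q₁ L.frX.Q₂ := by
  have := C.fin
  have hz : orderOf z = 2 := orderOf_eq_prime (by rw [pow_two]; exact L.fr.zz) L.fr.z1
  have hO : pPrimeCore 2 ↥(centralizer ({z} : Set G)) = ⊥ := Soft.core_eq_bot (C.bal _ hz)
  have P := L.pre hO
  have H : DiagEnd.Hyp t z (closure {i, j, k, l, a, b}) R (closure {i, j, a}) :=
    L.hyp C fun c hc => NIB.RefD.ref (ref c hc) JD (Diag.sn_of_conj L.nJ)
  have hel := L.elemX H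
  have hrefl : ∀ c : ↥(centralizer ({z} : Set G)),
      NIB.Refl (up z z rfl) (up z t L.comm) L.frX.Q₁ L.frX.Q₂ c → Rf t z R (c : G) := fun c hc =>
    ⟨(L.Bt_iff c).1 hc.1, congrArg Subtype.val hc.2.1, fun h => hc.2.2 ((L.T4_iff c).2 h)⟩
  exact
  { zc := P.zc
    zz := P.zz
    z1 := P.z1
    tt := P.tt
    t1 := P.t1
    tz := P.tz
    O := P.O
    sol := P.sol
    s₁ := P.s₁
    s₂ := P.s₂
    comm := P.comm
    nor := P.nor
    rad := P.rad
    odd := P.odd
    oa₁ := P.oa₁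
    oa₂ := P.oa₂
    Bsq := P.Bsq
    Bc := by
      intro c d hc hd
      rcases L.Bc ((L.Bt_iff c).1 hc) ((L.Bt_iff d).1 hd) with h | h
      · exact Or.inl (Subtype.ext h)
      · exact Or.inr (Subtype.ext h)
    Bu := by
      intro c d hc hd h1 h2
      rw [L.T4_iff]
      exact L.Bu _ _ ((L.Bt_iff c).1 hc) ((L.Bt_iff d).1 hd) (congrArg Subtype.val h1) (congrArg Subtype.val h2)
    sw := P.sw
    swap := L.swapX
    com := L.tH
    elem := hel
    zM := fun M hM => P.zM hM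
    refl := NIB.Pre.refl_of L.pos (L.solD hO) P rfl (fun q hq => L.RD (L.Q₁R ((L.mem₁ q).1 hq)))
      (fun q hq => L.RD (L.Q₂R ((L.mem₂ q).1 hq))) fun c hc => ref c (hrefl c hc)
    nF := hnF P hel fun M hM => P.zM hM }

end Loc

end Cfsg.Agent.OddHalf.D6.QThree.FrontLoc

end
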