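import Cfsg.Prelude.Def_CaseTheorems
import Cfsg.Agent.Lib.Cores
import Cfsg.Agent.Lib.GenFitting
import Cfsg.Agent.OddHalf.Small.Generic
import Cfsg.Agent.J2Sylow.J3EndAux
import Cfsg.Agent.OddHalf.Table.OutSpSix
import Cfsg.Agent.OddHalf.Small.Sp
import Cfsg.Agent.StandardComponent.AltAut
import Cfsg.Agent.Cit.CoreTools
import Cfsg.Agent.S1246
import Cfsg.Agent.OddHalf.D6.QThree.Facts
import Cfsg.Agent.OddHalf.D6.QThree.U43Facts
import Cfsg.Agent.KFacts.LFourThree.Facts
import Cfsg.Agent.KFacts.PSpFourThree.Classes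
import Cfsg.Agent.OddHalf.D6.QThree.PumpKnown
import Cfsg.Agent.OddHalf.D6.QThree.PumpHyp
import Cfsg.Agent.OddHalf.Orders.ExcFi23
import Cfsg.Agent.S0270
import Cfsg.Agent.OddHalf.NI3.K.Sp
import Cfsg.Agent.OddHalf.NI.SpClosed
import Cfsg.Agent.OddHalf.D6.QThree.DiagEnd
import Cfsg.Agent.OddHalf.D6.PumpDown
import Cfsg.Agent.OddHalf.D8.PumpX
import Cfsg.Agent.OddHalf.Orders.Quo
import Cfsg.Agent.SmallSimple.PSLTwoPart

-- merged: Cfsg.Agent.UGT.End.AllInner
section

/-!
# Ends of the Unbalanced Group Theorem: groups `F*(G)` all of whose automorphisms are inner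

* `map_centralizerPPrimeCore`, `coreFree_congr`: transport of `O(C(t))` along isomorphisms.
* `eq_top`: if every automorphism of `F*(G)` is inner then `F*(G) = G`.
* `core_eq_bot`, `core_eq_bot_of_charTwo`: if `F*(G)` is isomorphic to a group `X` all of whose automorphisms
  are inner and all of whose involutions have a core-free centralizer (for instance `X` of characteristic
  two type), then `O(C_G(t)) = 1` for every involution `t` of `G`.
-/

set_option autoImplicit false

namespace Cfsg.Agent.UGT.End.AllInner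

open Cfsg Subgroup

/-- The generalized Fitting subgroup. -/
local notation "Fs" => generalizedFittingSubgroup

section transport

variable {G H : Type*} [Group G] [Group H]

theorem map_centralizer_singleton (e : G ≃* H) (t : G) :
    (centralizer ({t} : Set G)).map e.toMonoidHom = centralizer ({e t} : Set H) := by
  ext h
  rw [mem_map, mem_centralizer_singleton_iff]
  constructor
  · rintro ⟨g, hg, rfl⟩
    rw [mem_centralizer_singleton_iff] at hg
    show e g * e t = e t * e g
    rw [← map_mul, ← map_mul, hg]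
  · intro hh
    refine ⟨e.symm h, ?_, e.apply_symm_apply h⟩
    rw [mem_centralizer_singleton_iff]
    apply e.injective
    rw [map_mul, map_mul, e.apply_symm_apply, hh]

/-- `O_{p'}(C(t))` is transported by isomorphisms. -/
theorem map_centralizerPPrimeCore (e : G ≃* H) (p : ℕ) (t : G) :
    (centralizerPPrimeCore p t).map e.toMonoidHom = centralizerPPrimeCore p (e t) := by
  let f : ↥(centralizer ({t} : Set G)) ≃* ↥(centralizer ({e t} : Set H)) :=
    ((centralizer ({t} : Set G)).equivMapOfInjective e.toMonoidHom e.injective).trans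
      (MulEquiv.subgroupCongr (map_centralizer_singleton e t))
  have h1 := Lib.Cores.map_equiv_pPrimeCore f p
  unfold centralizerPPrimeCore
  rw [← h1, map_map, map_map]
  rfl

/-- All involution centralizers core-free: transport. -/
theorem coreFree_congr (e : G ≃* H)
    (h : ∀ t : G, orderOf t = 2 → centralizerPPrimeCore 2 t = ⊥) (s : H) (hs : orderOf s = 2) :
    centralizerPPrimeCore 2 s = ⊥ := by
  have h1 := h (e.symm s) (by rw [MulEquiv.orderOf_eq, hs])
  have h2 := map_centralizerPPrimeCore e 2 (e.symm s)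
  rw [h1, Subgroup.map_bot, e.apply_symm_apply] at h2
  exact h2.symm

end transport

section inner

variable {G : Type*} [Group G] [Finite G]

/-- If all automorphisms of `F*(G)` are inner, `G = F*(G)`. -/
theorem eq_top (h : ∀ α : MulAut ↥(Fs G), ∃ x : ↥(Fs G), α = MulAut.conj x) : Fs G = ⊤ := by
  have hn : (Fs G).Normal := Lib.GenFitting.genFitting_normal
  rw [eq_top_iff]
  intro g _
  obtain ⟨x, hx⟩ := h (MulAut.conjNormal g)
  have h1 : (x : G)⁻¹ * g ∈ centralizer (Fs G : Set G) := by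
    rw [mem_centralizer_iff]
    intro y hy
    have h2 : ((MulAut.conjNormal g : MulAut ↥(Fs G)) ⟨y, hy⟩ : G) = ((MulAut.conj x) ⟨y, hy⟩ : ↥(Fs G)) := by
      rw [hx]
    rw [MulAut.conjNormal_apply] at h2
    have h3 : g * y * g⁻¹ = x * y * (x : G)⁻¹ := h2
    have h4 : g * y = x * y * (x : G)⁻¹ * g := by rw [← h3]; group
    calc y * ((x : G)⁻¹ * g) = (x : G)⁻¹ * (x * y * (x : G)⁻¹ * g) := by group
      _ = (x : G)⁻¹ * g * y := by rw [← h4]; group
  have h2 := Lib.GenFitting.centralizer_genFitting_le h1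
  have h3 := (Fs G).mul_mem x.2 h2
  rwa [mul_inv_cancel_left] at h3

variable {X : Type*} [Group X]

theorem eq_top_of_equiv (e : ↥(Fs G) ≃* X) (h : ∀ α : MulAut X, ∃ x : X, α = MulAut.conj x) :
    Fs G = ⊤ := by
  apply eq_top
  intro α
  obtain ⟨x, hx⟩ := h ((e.symm.trans α).trans e)
  refine ⟨e.symm x, ?_⟩
  ext y
  have h1 : ((e.symm.trans α).trans e) (e y) = MulAut.conj x (e y) := by rw [hx]
  have h2 : e (α y) = x * e y * x⁻¹ := by
    simpa using h1
  have h3 : α y = e.symm x * y * (e.symm x)⁻¹ := by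
    apply e.injective
    rw [h2]
    simp
  rw [h3, MulAut.conj_apply]

/-- If `F*(G)` is isomorphic to a group all of whose automorphisms are inner, `G` is isomorphic to it. -/
theorem exists_equiv (e : ↥(Fs G) ≃* X) (h : ∀ α : MulAut X, ∃ x : X, α = MulAut.conj x) :
    Nonempty (X ≃* G) :=
  ⟨e.symm.trans ((MulEquiv.subgroupCongr (eq_top_of_equiv e h)).trans Subgroup.topEquiv)⟩

/-- If `F*(G)` is isomorphic to a group `X` all of whose automorphisms are inner and all of whose involution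
centralizers are core-free, then all involution centralizers of `G` are core-free. -/
theorem core_eq_bot (e : ↥(Fs G) ≃* X) (h : ∀ α : MulAut X, ∃ x : X, α = MulAut.conj x)
    (hc : ∀ a : X, orderOf a = 2 → centralizerPPrimeCore 2 a = ⊥) (t : G) (ht : orderOf t = 2) :
    centralizerPPrimeCore 2 t = ⊥ := by
  obtain ⟨f⟩ := exists_equiv e h
  exact coreFree_congr f hc t ht

/-- The same with `X` of characteristic two type. -/
theorem core_eq_bot_of_charTwo (e : ↥(Fs G) ≃* X) (h : ∀ α : MulAut X, ∃ x : X, α = MulAut.conj x)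
    (hc : IsCharacteristicTwoType X) (t : G) (ht : orderOf t = 2) :
    centralizerPPrimeCore 2 t = ⊥ := by
  have : Finite X := Finite.of_equiv _ e.toEquiv
  exact core_eq_bot e h (fun a ha => J2Sylow.J3EndAux.centralizerPPrimeCore_eq_bot hc ha) t ht

end inner

end Cfsg.Agent.UGT.End.AllInner

end

-- merged: Cfsg.Agent.UGT.End.SpSix
section

/-!
# Ends of the Unbalanced Group Theorem: `F*(G)` isomorphic to `Sp_2m(2)`, `m ≥ 3`

All automorphisms of `Sp_2m(2)` are inner and `Sp_2m(2)` is of characteristic two type.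
-/

set_option autoImplicit false

namespace Cfsg.Agent.UGT.End.SpSix

open Cfsg Subgroup

/-- The generalized Fitting subgroup. -/
local notation "Fs" => generalizedFittingSubgroup

variable {m : ℕ} {F : Type*} [Field F]

theorem charP_of_card (hF : Nat.card F = 2) : CharP F 2 := by
  have hfin : Finite F := Nat.finite_of_card_ne_zero (by rw [hF]; decide)
  have := Fintype.ofFinite F
  rw [Nat.card_eq_fintype_card] at hF
  obtain ⟨p, hp⟩ := CharP.exists F
  have hpp : p.Prime := (CharP.char_is_prime_or_zero F p).resolve_right (fun h0 => by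
    subst h0
    exact CharP.char_ne_zero_of_finite F 0 rfl)
  obtain ⟨n, -, hn⟩ := FiniteField.card F p
  have h2 : p ∣ 2 := by
    rw [← hF, hn]
    exact dvd_pow_self p n.2.ne'
  have h3 : p = 2 := (Nat.prime_dvd_prime_iff_eq hpp Nat.prime_two).1 h2
  exact h3 ▸ hp

theorem charTwo (hm : 3 ≤ m) (hF : Nat.card F = 2) : IsCharacteristicTwoType (PSp m F) := by
  have hfin : Finite F := Nat.finite_of_card_ne_zero (by rw [hF]; decide)
  have := charP_of_card hF
  exact OddHalf.Small.Sp.charTwo_PSp (by omega)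

/-- `F*(G) ≅ Sp_2m(2)`, `m ≥ 3`: all involution centralizers of `G` are core-free. -/
theorem core_eq_bot (hm : 3 ≤ m) (hF : Nat.card F = 2) {G : Type*} [Group G] [Finite G]
    (e : ↥(Fs G) ≃* PSp m F) (t : G) (ht : orderOf t = 2) : centralizerPPrimeCore 2 t = ⊥ :=
  AllInner.core_eq_bot_of_charTwo e (OddHalf.Table.OutSpSix.inner hm hF) (charTwo hm hF) t ht

end Cfsg.Agent.UGT.End.SpSix

end

-- merged: Cfsg.Agent.OddHalf.D6.QThree.PumpTwo
section

/-!
# The pump-up fact: `A₉`, `A₁₀` and `Sp₆(2)` have no involutory automorphism with a component `PSp₄(3)` in its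
centraliser
-/

set_option autoImplicit false

namespace Cfsg.Agent.OddHalf.D6.QThree.Pump

open Subgroup Equiv

/-- the fixed points of an automorphism -/
def fixSub {X : Type*} [Group X] (τ : MulAut X) : Subgroup X where
  carrier := {x | τ x = x}
  mul_mem' := fun {a b} ha hb => by
    show τ (a * b) = a * b
    rw [map_mul]
    exact congrArg₂ _ ha hb
  one_mem' := map_one τ
  inv_mem' := fun {a} ha => by
    show τ a⁻¹ = a⁻¹
    rw [map_inv]
    exact congrArg _ ha

theorem mem_fixSub {X : Type*} [Group X] {τ : MulAut X} {x : X} : x ∈ fixSub τ ↔ τ x = x := Iff.rfl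

/-! ### Alternating groups -/

/-- the orders of the centralisers of involutions of `S_n` -/
theorem card_cent_perm {n : ℕ} (σ : Perm (Fin n)) (h1 : σ ≠ 1) (h2 : σ * σ = 1) :
    ∃ k : ℕ, 1 ≤ k ∧ 2 * k ≤ n ∧
      Nat.card (centralizer ({σ} : Set (Perm (Fin n)))) = (n - 2 * k).factorial * 2 ^ k * k.factorial := by
  have ho : orderOf σ = 2 := orderOf_eq_prime (by rw [pow_two]; exact h2) h1
  obtain ⟨k, hk⟩ := Perm.cycleType_prime_order (σ := σ) (by rw [ho]; exact Nat.prime_two)
  rw [ho] at hk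
  have hs : σ.cycleType.sum = 2 * (k + 1) := by rw [hk]; simp; ring
  refine ⟨k + 1, by omega, ?_, ?_⟩
  · rw [← hs]
    have h3 := σ.sum_cycleType
    rw [h3]
    exact (Finset.card_le_univ _).trans (by simp)
  · have h4 : (Multiset.replicate (k + 1) 2).toFinset = {2} := by
      ext a
      simp only [Multiset.mem_toFinset, Finset.mem_singleton, Multiset.mem_replicate]
      omega
    rw [Perm.nat_card_centralizer, hs, hk, Fintype.card_fin, Multiset.prod_replicate, h4,
      Finset.prod_singleton, Multiset.count_replicate_self]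

theorem no_alt_aux {m : ℕ} (hm : m = 7 ∨ m = 8) (τ : MulAut (alternatingGroup (Fin (m + 2))))
    (hτ : ∀ x, τ (τ x) = x) (h1 : τ ≠ 1) (L : Subgroup (alternatingGroup (Fin (m + 2))))
    (hL : ∀ x ∈ L, τ x = x) (hc : Nat.card L = 25920) : False := by
  obtain ⟨σ, hσ⟩ := Cfsg.Agent.StandardComponent.AltAut.exists_conj (m := m) (by omega) τ
  -- `σ` commutes with no alternating group
  have hcen : ∀ ρ : Perm (Fin (m + 2)), (∀ x : alternatingGroup (Fin (m + 2)), ρ * (x : Perm (Fin (m + 2))) * ρ⁻¹ = x) → ρ = 1 := by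
    intro ρ hρ
    by_contra hne
    obtain ⟨a, ha⟩ : ∃ a, ρ a ≠ a := by
      by_contra hcon
      push Not at hcon
      exact hne (Perm.ext hcon)
    obtain ⟨c, hc⟩ : ∃ c : Fin (m + 2), c ∉ ({a, ρ a} : Finset (Fin (m + 2))) := by
      by_contra hcon
      push Not at hcon
      have h3 : (Finset.univ : Finset (Fin (m + 2))).card ≤ ({a, ρ a} : Finset (Fin (m + 2))).card :=
        Finset.card_le_card (fun x _ => hcon x)
      have h4 := Finset.card_le_two (a := a) (b := ρ a)
      rw [Finset.card_univ, Fintype.card_fin] at h3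
      omega
    obtain ⟨d, hd⟩ : ∃ d : Fin (m + 2), d ∉ ({a, ρ a, c} : Finset (Fin (m + 2))) := by
      by_contra hcon
      push Not at hcon
      have h3 : (Finset.univ : Finset (Fin (m + 2))).card ≤ ({a, ρ a, c} : Finset (Fin (m + 2))).card :=
        Finset.card_le_card (fun x _ => hcon x)
      have h4 := Finset.card_le_three (a := a) (b := ρ a) (c := c)
      rw [Finset.card_univ, Fintype.card_fin] at h3
      omega
    simp only [Finset.mem_insert, Finset.mem_singleton, not_or] at hc hd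
    obtain ⟨hca, hcb⟩ := hc
    obtain ⟨hda, hdb, hdc⟩ := hd
    have h3 : (swap a c * swap a d).IsThreeCycle :=
      Perm.isThreeCycle_swap_mul_swap_same (Ne.symm hca) (Ne.symm hda) (Ne.symm hdc)
    have h4 := hρ ⟨_, h3.mem_alternatingGroup⟩
    have h5 : ρ * (swap a c * swap a d) = (swap a c * swap a d) * ρ := by
      rw [mul_inv_eq_iff_eq_mul] at h4
      exact h4
    have h6 := congrArg (fun f : Perm (Fin (m + 2)) => f a) h5
    simp only [Perm.mul_apply, swap_apply_left] at h6
    rw [swap_apply_of_ne_of_ne (a := a) (b := c) (x := d) hda hdc,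
      swap_apply_of_ne_of_ne (a := a) (b := d) (x := ρ a) ha (Ne.symm hdb),
      swap_apply_of_ne_of_ne (a := a) (b := c) (x := ρ a) ha (Ne.symm hcb)] at h6
    exact hda (ρ.injective h6)
  have hσ1 : σ ≠ 1 := by
    rintro rfl
    apply h1
    ext x : 2
    rw [hσ]
    simp
  have hσ2 : σ * σ = 1 := by
    apply hcen
    intro x
    have h3 := hσ (τ x)
    rw [hτ, hσ] at h3
    rw [mul_inv_rev]
    simp only [mul_assoc] at h3 ⊢
    exact h3.symm
  obtain ⟨k, hk1, hk2, hk3⟩ := card_cent_perm σ hσ1 hσ2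
  have h4 : Nat.card L ∣ Nat.card (centralizer ({σ} : Set (Perm (Fin (m + 2))))) := by
    have h5 : (L.map (alternatingGroup (Fin (m + 2))).subtype) ≤ centralizer ({σ} : Set (Perm (Fin (m + 2)))) := by
      rintro _ ⟨x, hx, rfl⟩
      rw [mem_centralizer_singleton_iff]
      have h6 := hσ x
      rw [hL x hx] at h6
      show (x : Perm (Fin (m + 2))) * σ = σ * x
      conv_lhs => rw [h6]
      group
    have h6 : Nat.card (L.map (alternatingGroup (Fin (m + 2))).subtype) = Nat.card L :=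
      Nat.card_congr (L.equivMapOfInjective _ (alternatingGroup (Fin (m + 2))).subtype_injective).symm.toEquiv
    rw [← h6]
    exact Subgroup.card_dvd_of_le h5
  rw [hc, hk3] at h4
  rcases hm with rfl | rfl
  · have hk5 : k < 5 := by omega
    interval_cases k <;> revert h4 <;> decide +kernel
  · have hk5 : k < 6 := by omega
    interval_cases k <;> revert h4 <;> decide +kernel

/-- `A₉`, `A₁₀` -/
theorem no_alt {X : Type*} [Group X] {n : ℕ} (hn : n = 9 ∨ n = 10) (e : X ≃* alternatingGroup (Fin n))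
    (τ : MulAut X) (hτ : ∀ x, τ (τ x) = x) (h1 : τ ≠ 1) (L : Subgroup X)
    (hL : ∀ x ∈ L, τ x = x) (hc : Nat.card L = 25920) : False := by
  obtain ⟨m, rfl, hm⟩ : ∃ m, n = m + 2 ∧ (m = 7 ∨ m = 8) := by
    rcases hn with rfl | rfl
    · exact ⟨7, rfl, Or.inl rfl⟩
    · exact ⟨8, rfl, Or.inr rfl⟩
  refine no_alt_aux hm ((e.symm.trans τ).trans e) ?_ ?_ (L.map e.toMonoidHom) ?_ ?_
  · intro x
    show e (τ (e.symm (e (τ (e.symm x))))) = x
    rw [e.symm_apply_apply, hτ, e.apply_symm_apply]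
  · intro hcon
    apply h1
    ext x
    have h2 := DFunLike.congr_fun hcon (e x)
    change e (τ (e.symm (e x))) = e x at h2
    rw [e.symm_apply_apply] at h2
    exact e.injective h2
  · rintro _ ⟨x, hx, rfl⟩
    show e (τ (e.symm (e x))) = e x
    rw [e.symm_apply_apply, hL x hx]
  · rw [← hc]
    exact Nat.card_congr (L.equivMapOfInjective _ e.injective).symm.toEquiv

/-! ### `Sp₆(2)` -/

/-- in a group of characteristic two type all of whose automorphisms are inner -/
theorem no_charTwo {X : Type*} [Group X] [Finite X] (hX : IsCharacteristicTwoType X)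
    (hI : ∀ α : MulAut X, ∃ x : X, α = MulAut.conj x) (hZ : center X = ⊥)
    (τ : MulAut X) (hτ : ∀ x, τ (τ x) = x) (h1 : τ ≠ 1) (L : Subgroup X)
    (hL : ∀ x ∈ L, τ x = x) (hs : (L.subgroupOf (fixSub τ)).IsSubnormal) (hq : IsQuasisimple ↥L)
    (hc : ¬ IsPGroup 2 L) : False := by
  obtain ⟨g, rfl⟩ := hI τ
  have hg1 : g ≠ 1 := by
    rintro rfl
    exact h1 (map_one _)
  have hg2 : g * g = 1 := by
    have h2 : g * g ∈ center X := by
      rw [mem_center_iff]
      intro x
      have h3 := hτ x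
      simp only [MulAut.conj_apply] at h3
      have h4 : g * g * x * (g * g)⁻¹ = x := by
        rw [mul_inv_rev]; simp only [mul_assoc] at h3 ⊢; exact h3
      rw [mul_inv_eq_iff_eq_mul] at h4
      exact h4.symm
    rw [hZ, mem_bot] at h2
    exact h2
  -- the fixed points are the normaliser of `⟨g⟩`
  have hT2 : IsPGroup 2 (zpowers g) := by
    refine IsPGroup.of_card (n := 1) ?_
    rw [Nat.card_zpowers, pow_one]
    exact orderOf_eq_prime (by rw [pow_two]; exact hg2) hg1
  have hT1 : zpowers g ≠ ⊥ := by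
    rw [Ne, zpowers_eq_bot]; exact hg1
  have hch := hX.2 (zpowers g) hT2 hT1
  have hz : ∀ h : X, h ∈ zpowers g ↔ h = 1 ∨ h = g := by
    intro h
    constructor
    · rintro ⟨k, rfl⟩
      rcases Int.even_or_odd' k with ⟨m, rfl | rfl⟩
      · left
        show g ^ (2 * m) = 1
        rw [zpow_mul, zpow_two, hg2, one_zpow]
      · right
        show g ^ (2 * m + 1) = g
        rw [zpow_add, zpow_mul, zpow_two, hg2, one_zpow, one_mul, zpow_one]
    · rintro (rfl | rfl)
      · exact one_mem _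
      · exact mem_zpowers _
  have hN : fixSub (MulAut.conj g) = normalizer (zpowers g : Set X) := by
    ext x
    rw [mem_fixSub, MulAut.conj_apply, mem_normalizer_iff]
    constructor
    · intro h h'
      have h2 : x * g * x⁻¹ = g := by
        rw [mul_inv_eq_iff_eq_mul] at h ⊢
        exact h.symm
      show h' ∈ zpowers g ↔ x * h' * x⁻¹ ∈ zpowers g
      rw [hz, hz]
      constructor
      · rintro (rfl | rfl)
        · left; group
        · right; exact h2
      · rintro (h3 | h3)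
        · left
          rw [mul_inv_eq_iff_eq_mul, one_mul] at h3
          exact mul_left_cancel (a := x) (by rw [h3, mul_one])
        · right
          rw [← h2] at h3
          exact mul_left_cancel (mul_right_cancel h3)
    · intro h
      have h2 : x * g * x⁻¹ ∈ zpowers g := (h g).1 (mem_zpowers g)
      rw [hz] at h2
      rcases h2 with h2 | h2
      · exfalso
        apply hg1
        rw [mul_inv_eq_iff_eq_mul, one_mul] at h2
        exact mul_left_cancel (a := x) (by rw [h2, mul_one])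
      · rw [mul_inv_eq_iff_eq_mul] at h2 ⊢
        exact h2.symm
  rw [hN] at hs
  have hLN : L ≤ normalizer (zpowers g : Set X) := fun x hx => hN ▸ hL x hx
  have hcomp : IsComponent (L.subgroupOf (normalizer (zpowers g : Set X))) := by
    refine ⟨hs, ?_⟩
    exact Cfsg.Agent.S1246.quasisimple_of_equiv (subgroupOfEquivOfLe hLN).symm hq
  have h3 := Cfsg.Agent.Cit.CoreTools.component_le_centralizer_pCore hcomp
  have h4 := h3.trans hch
  apply hc
  have h5 : IsPGroup 2 (L.subgroupOf (normalizer (zpowers g : Set X))) :=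
    (Cfsg.Agent.Lib.Cores.pCore_isPGroup 2).to_le h4
  exact h5.of_equiv (subgroupOfEquivOfLe hLN)

/-- `Sp₆(2)` -/
theorem no_sp {X : Type*} [Group X] [Finite X] (hZ : center X = ⊥) {F : Type} [Field F] [Fintype F] (hF : Fintype.card F = 2)
    (e : X ≃* PSp 3 F) (τ : MulAut X) (hτ : ∀ x, τ (τ x) = x) (h1 : τ ≠ 1) (L : Subgroup X)
    (hL : ∀ x ∈ L, τ x = x) (hs : (L.subgroupOf (fixSub τ)).IsSubnormal) (hq : IsQuasisimple ↥L)
    (hc : ¬ IsPGroup 2 L) : False := by
  have hF' : Nat.card F = 2 := by rw [Nat.card_eq_fintype_card, hF]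
  refine no_charTwo (Cfsg.Agent.OddHalf.Small.Generic.isCharacteristicTwoType_congr e.symm
    (Cfsg.Agent.UGT.End.SpSix.charTwo le_rfl hF')) ?_ hZ τ hτ h1 L hL hs hq hc
  · intro α
    obtain ⟨y, hy⟩ := Cfsg.Agent.OddHalf.Table.OutSpSix.inner (F := F) le_rfl hF' ((e.symm.trans α).trans e)
    refine ⟨e.symm y, ?_⟩
    ext x
    have h2 := DFunLike.congr_fun hy (e x)
    change e (α (e.symm (e x))) = y * e x * y⁻¹ at h2
    rw [e.symm_apply_apply] at h2
    rw [MulAut.conj_apply]
    apply e.injective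
    rw [h2, map_mul, map_mul, map_inv, e.apply_symm_apply]

end Cfsg.Agent.OddHalf.D6.QThree.Pump

end

-- merged: Cfsg.Agent.OddHalf.D6.QThree.PumpAbs
section

/-!
# The pump-up fact: the K-free part

`L ≅ PSp₄(3)` inside `X ≅ U₄(3)` or `L₄(3)`: the elements of odd order of `C_X(z)` lie in `L`.
-/

set_option autoImplicit false

namespace Cfsg.Agent.OddHalf.D6.QThree.Pump

open Subgroup Cfsg.Agent.OddHalf.D6.QThree.Facts

/-- the subgroup generated by the elements of odd order of `C(z)` -/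
def OO {X : Type*} [Group X] (z : X) : Subgroup X := closure {x : X | x * z = z * x ∧ Odd (orderOf x)}

section

variable {X Y : Type*} [Group X] [Group Y]

theorem oo_map_le {f : X →* Y} (hf : Function.Injective f) (z : X) : (OO z).map f ≤ OO (f z) := by
  unfold OO
  rw [MonoidHom.map_closure, closure_le]
  rintro _ ⟨x, ⟨hx, ho⟩, rfl⟩
  refine subset_closure ⟨?_, ?_⟩
  · rw [← map_mul, hx, map_mul]
  · rw [orderOf_injective f hf]; exact ho

theorem oo_map (f : X ≃* Y) (z : X) : (OO z).map f.toMonoidHom = OO (f z) := by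
  refine le_antisymm (oo_map_le f.injective z) ?_
  intro x hx
  have h1 := oo_map_le (f := f.symm.toMonoidHom) f.symm.injective (f z) (mem_map_of_mem _ hx)
  have h2 : f.symm.toMonoidHom (f z) = z := f.symm_apply_apply z
  rw [h2] at h1
  exact ⟨_, h1, f.apply_symm_apply x⟩

theorem card_map_inj {f : X →* Y} (hf : Function.Injective f) (H : Subgroup X) :
    Nat.card (H.map f) = Nat.card H := Nat.card_congr (H.equivMapOfInjective _ hf).symm.toEquiv

theorem card_oo_map (f : X ≃* Y) (z : X) : Nat.card (OO (f z)) = Nat.card (OO z) := by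
  rw [← oo_map f z]
  exact card_map_inj f.injective _

theorem card_oo_conj {z : X} (k : X) : Nat.card (OO (k * z * k⁻¹)) = Nat.card (OO z) :=
  card_oo_map (MulAut.conj k) z

end

/-! ### 2-central involutions -/

section

variable {X : Type*} [Group X] [Finite X]

/-- 2-part of the order of a Sylow subgroup -/
theorem card_syl {m k : ℕ} (hX : Nat.card X = 2 ^ k * m) (hm : Odd m) (S : Sylow 2 X) :
    Nat.card S = 2 ^ k := by
  have : Fact (Nat.Prime 2) := ⟨Nat.prime_two⟩
  have h1 := (S : Subgroup X).card_mul_index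
  have h2 : ¬ 2 ∣ (S : Subgroup X).index := S.not_dvd_index
  have h3 : Nat.Coprime (2 ^ k) (S : Subgroup X).index :=
    Nat.Coprime.pow_left k ((Nat.Prime.coprime_iff_not_dvd Nat.prime_two).2 h2)
  have h4 : 2 ^ k ∣ Nat.card (S : Subgroup X) := by
    refine h3.dvd_of_dvd_mul_right ?_
    rw [h1, hX]; exact dvd_mul_right _ _
  obtain ⟨j, hj⟩ := IsPGroup.iff_card.1 S.isPGroup'
  have h5 : Nat.Coprime (Nat.card (S : Subgroup X)) m := by
    rw [hj]
    refine Nat.Coprime.pow_left j ((Nat.Prime.coprime_iff_not_dvd Nat.prime_two).2 ?_)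
    intro h6
    rcases hm with ⟨a, ha⟩
    omega
  have h6 : Nat.card (S : Subgroup X) ∣ 2 ^ k := by
    refine h5.dvd_of_dvd_mul_right ?_
    rw [← hX, ← h1]; exact dvd_mul_right _ _
  exact Nat.dvd_antisymm h6 h4

/-- a 2-subgroup of a subgroup of odd index lies in a Sylow 2-subgroup contained in it -/
theorem exists_sylow_le {H : Subgroup X} (hH : Odd H.index) {R : Subgroup X} (hR : IsPGroup 2 R) (hRH : R ≤ H) :
    ∃ S : Sylow 2 X, (S : Subgroup X) ≤ H ∧ R ≤ S := by
  have : Fact (Nat.Prime 2) := ⟨Nat.prime_two⟩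
  have hR2 : IsPGroup 2 (R.subgroupOf H) := hR.of_equiv (subgroupOfEquivOfLe hRH).symm
  obtain ⟨S0, hS0⟩ := hR2.exists_le_sylow
  have h2 : IsPGroup 2 ((S0 : Subgroup H).map H.subtype) := S0.isPGroup'.map _
  have h4 : ¬ 2 ∣ ((S0 : Subgroup H).map H.subtype).index := by
    rw [index_map_subtype]
    intro h5
    rcases (Nat.Prime.dvd_mul Nat.prime_two).1 h5 with h6 | h6
    · exact S0.not_dvd_index h6
    · rcases hH with ⟨a, ha⟩
      omega
  refine ⟨h2.toSylow h4, ?_, ?_⟩
  · rw [IsPGroup.toSylow_coe]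
    exact map_subtype_le _
  · rw [IsPGroup.toSylow_coe]
    intro r hr
    exact ⟨⟨r, hRH hr⟩, hS0 hr, rfl⟩

/-- a Sylow 2-subgroup whose centre is `⟨z⟩` -/
theorem exists_syl {z : X} {R : Subgroup X} (h : Base z R) :
    ∃ S : Sylow 2 X, z ∈ S ∧ (∀ g ∈ S, g * z = z * g) ∧ ∀ g ∈ S, (∀ s ∈ S, g * s = s * g) → g = 1 ∨ g = z := by
  have hRC : R ≤ centralizer ({z} : Set X) := fun r hr => mem_centralizer_singleton_iff.2 (h.RP r hr)
  obtain ⟨S, hSC, hRS⟩ := exists_sylow_le h.odd h.pR hRC
  have hSC : ∀ g ∈ S, g * z = z * g := fun g hg => mem_centralizer_singleton_iff.1 (hSC hg)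
  exact ⟨S, hRS h.zR, hSC, fun g hg hc => h.cR g (hSC g hg) fun r hr => hc r (hRS hr)⟩

theorem isPGroup_zpowers {w : X} (ww : w * w = 1) : IsPGroup 2 (zpowers w) := by
  rintro ⟨x, k, rfl⟩
  refine ⟨1, Subtype.ext ?_⟩
  show (w ^ k) ^ (2 ^ 1) = 1
  rw [pow_one, pow_two, ← zpow_add, ← two_mul, zpow_mul, zpow_two, ww, one_zpow]

/-- 2-central involutions are conjugate -/
theorem conj_of_odd {z : X} {R : Subgroup X} (h : Base z R) {w : X} (ww : w * w = 1) (w1 : w ≠ 1)
    (hw : Odd (centralizer ({w} : Set X)).index) : ∃ k, k * z * k⁻¹ = w := by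
  have : Fact (Nat.Prime 2) := ⟨Nat.prime_two⟩
  obtain ⟨S, hz, hzc, hcen⟩ := exists_syl h
  obtain ⟨T, hTC, hwT⟩ := exists_sylow_le hw (isPGroup_zpowers ww)
    (by rw [zpowers_le]; exact mem_centralizer_singleton_iff.2 rfl)
  have hwT' : w ∈ T := hwT (mem_zpowers w)
  obtain ⟨g, hg⟩ := MulAction.exists_smul_eq X T S
  have hmem : ∀ x, x ∈ S ↔ g⁻¹ * x * g ∈ T := by
    intro x
    rw [← hg]
    have h3 : x ∈ ((g • T : Sylow 2 X) : Subgroup X) ↔ (MulAut.conj g)⁻¹ • x ∈ (T : Subgroup X) := by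
      rw [Sylow.coe_subgroup_smul]
      exact Subgroup.mem_pointwise_smul_iff_inv_smul_mem
    have h4 : (MulAut.conj g)⁻¹ • x = g⁻¹ * x * g := by simp [MulAut.smul_def]
    rw [h4] at h3
    exact h3
  have h1 : g * w * g⁻¹ ∈ S := by
    rw [hmem]
    have : g⁻¹ * (g * w * g⁻¹) * g = w := by group
    rw [this]; exact hwT'
  have h2 := hcen _ h1 (by
    intro s hs
    rw [hmem] at hs
    have h3 := mem_centralizer_singleton_iff.1 (hTC hs)
    calc g * w * g⁻¹ * s = g * (w * (g⁻¹ * s * g)) * g⁻¹ := by group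
      _ = g * ((g⁻¹ * s * g) * w) * g⁻¹ := by rw [h3]
      _ = _ := by group)
  rcases h2 with h2 | h2
  · exfalso
    apply w1
    have : w = g⁻¹ * (g * w * g⁻¹) * g := by group
    rw [this, h2]; group
  · refine ⟨g⁻¹, ?_⟩
    rw [← h2]; group

end

/-! ### The embedding -/

/-- facts on `X = U₄(3)`, `L₄(3)` -/
def Top (X : Type*) [Group X] : Prop := ∃ (z : X) (R : Subgroup X), Base z R ∧ Nat.card (OO z) ≤ 288

section

variable {X : Type*} [Group X] [Finite X]

theorem Top.le (h : Top X) {w : X} (ww : w * w = 1) (w1 : w ≠ 1)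
    (hw : Odd (centralizer ({w} : Set X)).index) : Nat.card (OO w) ≤ 288 := by
  obtain ⟨z, R, hb, hc⟩ := h
  obtain ⟨k, rfl⟩ := conj_of_odd hb ww w1 hw
  rw [card_oo_conj]; exact hc

/-- `z` is 2-central -/
theorem odd_index {m : ℕ} (hX : Nat.card X = 2 ^ 7 * m) (hm : Odd m) {P : Subgroup X} (hP : Nat.card P = 64)
    {z : X} (zP : z ∈ P) (hz : ∀ g ∈ P, g * z = z * g) (z1 : z ≠ 1)
    (hc : ∀ g ∈ P, (∀ h ∈ P, g * h = h * g) → g = 1 ∨ g = z) : Odd (centralizer ({z} : Set X)).index := by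
  have : Fact (Nat.Prime 2) := ⟨Nat.prime_two⟩
  have hP2 : IsPGroup 2 P := IsPGroup.of_card (n := 6) (by rw [hP]; norm_num)
  obtain ⟨S, hPS⟩ := hP2.exists_le_sylow
  have hS := card_syl hX hm S
  have hi : (P.subgroupOf (S : Subgroup X)).index = 2 := by
    have h1 := (P.subgroupOf (S : Subgroup X)).card_mul_index
    have h2 : Nat.card (P.subgroupOf (S : Subgroup X)) = 64 := by
      rw [← hP]; exact Nat.card_congr (subgroupOfEquivOfLe hPS).toEquiv
    rw [h2] at h1
    have h3 : 64 * (P.subgroupOf (S : Subgroup X)).index = 128 := by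
      rw [h1]; exact hS
    omega
  have hn : (P.subgroupOf (S : Subgroup X)).Normal := normal_of_index_eq_two hi
  have hnc : ∀ s ∈ S, ∀ g ∈ P, s * g * s⁻¹ ∈ P := by
    intro s hs g hg
    exact hn.conj_mem ⟨g, hPS hg⟩ hg ⟨s, hs⟩
  have hcen : (S : Subgroup X) ≤ centralizer ({z} : Set X) := by
    intro s hs
    rw [mem_centralizer_singleton_iff]
    have h1 := hc _ (hnc s hs z zP) (by
      intro h hh
      have h2 : s⁻¹ * h * s ∈ P := by
        have := hnc s⁻¹ (inv_mem hs) h hh
        rwa [inv_inv] at this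
      have h3 := hz _ h2
      calc s * z * s⁻¹ * h = s * (z * (s⁻¹ * h * s)) * s⁻¹ := by group
        _ = s * ((s⁻¹ * h * s) * z) * s⁻¹ := by rw [h3]
        _ = _ := by group)
    rcases h1 with h1 | h1
    · exfalso
      apply z1
      have : z = s⁻¹ * (s * z * s⁻¹) * s := by group
      rw [this, h1]; group
    · rw [mul_inv_eq_iff_eq_mul] at h1
      exact h1
  have h1 : ¬ 2 ∣ (centralizer ({z} : Set X)).index := fun h2 =>
    S.not_dvd_index (h2.trans (index_dvd_of_le hcen))
  exact Nat.not_even_iff_odd.1 (fun h2 => h1 h2.two_dvd)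

/-- the elements of odd order of `C_X(z)` lie in `L` -/
theorem mem_range {L : Type*} [Group L] [Finite L] {m : ℕ} (hX : Nat.card X = 2 ^ 7 * m) (hm : Odd m) (hT : Top X)
    {n : ℕ} (hL : Nat.card L = 2 ^ 6 * n) (hn : Odd n) {z : L} {R : Subgroup L} (hb : Base z R)
    (hO : 288 ≤ Nat.card (OO z)) {f : L →* X} (hf : Function.Injective f) {x : X} (hx : x * f z = f z * x)
    (ho : Odd (orderOf x)) : x ∈ f.range := by
  obtain ⟨S, zS, hzS, hcS⟩ := exists_syl hb
  have hcard := card_syl hL hn S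
  have hodd : Odd (centralizer ({f z} : Set X)).index := by
    refine odd_index hX hm (P := (S : Subgroup L).map f) ?_ (mem_map_of_mem f zS) ?_ ?_ ?_
    · rw [card_map_inj hf]; exact hcard
    · rintro _ ⟨g, hg, rfl⟩
      rw [← map_mul, hzS g hg, map_mul]
    · intro h1
      rw [map_eq_one_iff f hf] at h1
      exact hb.z1 h1
    · rintro _ ⟨g, hg, rfl⟩ h1
      rcases hcS g hg (fun s hs => hf (by rw [map_mul, map_mul]; exact h1 _ (mem_map_of_mem f hs))) with h2 | h2
      · left; rw [h2, map_one]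
      · right; rw [h2]
  have h1 := hT.le (w := f z) (by rw [← map_mul, hb.zz, map_one])
    (fun h1 => hb.z1 ((map_eq_one_iff f hf).1 h1)) hodd
  have h2 := oo_map_le hf z
  have h3 : (OO z).map f = OO (f z) := by
    refine eq_of_le_of_card_ge h2 ?_
    rw [card_map_inj hf]; omega
  have h4 : x ∈ OO (f z) := subset_closure ⟨hx, ho⟩
  rw [← h3] at h4
  obtain ⟨y, -, rfl⟩ := h4
  exact ⟨y, rfl⟩

end

/-- an element of odd order of `L * Z` with `Z` a central 2-subgroup lies in `L` -/
theorem mem_of_odd {M : Type*} [Group M] {L : Subgroup M} {l ζ : M} (hl : l ∈ L) (hc : l * ζ = ζ * l) {n : ℕ}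
    (hn : ζ ^ (2 ^ n) = 1) (ho : Odd (orderOf (l * ζ))) : l * ζ ∈ L := by
  have h1 : (l * ζ) ^ (2 ^ n) = l ^ (2 ^ n) := by
    rw [Commute.mul_pow hc, hn, mul_one]
  have h2 : Nat.Coprime (2 ^ n) (orderOf (l * ζ)) := Nat.Coprime.pow_left n (Nat.coprime_two_left.2 ho)
  obtain ⟨m, hm⟩ := exists_pow_eq_self_of_coprime h2
  rw [← hm, h1]
  exact pow_mem (pow_mem hl _) _

end Cfsg.Agent.OddHalf.D6.QThree.Pump

end

-- merged: Cfsg.Agent.OddHalf.D6.QThree.PumpKF
section

/-!
# The pump-up fact: `O²(C(z))` in `U₄(3)`, `L₄(3)` and `PSp₄(3)`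
-/

set_option autoImplicit false

namespace Cfsg.Agent.OddHalf.D6.QThree.Pump

open Subgroup Cfsg.Agent.OddHalf.D6.QThree.Facts
open Cfsg.Agent.LargeExtra.W2 Cfsg.Agent.SmallExtra438.ModelA Cfsg.Agent.SmallExtra438.FrameA

/-! ### `U₄(3)`, `L₄(3)` -/

theorem chk_nine : ∀ k < 36, 9 ≤ k → km (km (km (km k k) (km k k)) (km (km k k) (km k k))) k ≠ 0 := by
  decide +kernel

theorem chk_km : ∀ k < 9, ∀ k' < 9, km k k' < 9 := by decide +kernel

theorem mm_div {t m n : ℕ} (hm : m < 1152) (hn : n < 1152) : mm t m n / 32 = km (m / 32) (n / 32) := by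
  have h1 : act (m / 32) (n % 32) < 32 := act_lt _ (by omega) _ (by omega)
  have h2 := Cfsg.Agent.SmallExtra438.Model.qm_lt (m % 32) (by omega) _ h1
  have h5 := (xor_tw _ h2 (tw t (m / 32) (n / 32)) (tw_lt _ _ _)).1
  unfold mm; omega

section

variable {G : Type*} [Group G] [Finite G] {Q : Subgroup G} {z i j k l x₁ x₂ y s : G}

/-- `O²(C(z))` has at most 288 elements -/
theorem card_oo_le (h : Case9aa Q z i j k l x₁ x₂ y s) : Nat.card (OO z) ≤ 288 := by
  obtain ⟨t, ht8, ht⟩ := exists_tw h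
  let K₀ : Submonoid G :=
    { carrier := {g | ∃ m < 288, F z i j k l x₁ x₂ y s m = g}
      one_mem' := ⟨0, by norm_num, F_0⟩
      mul_mem' := by
        rintro _ _ ⟨m, hm, rfl⟩ ⟨n, hn, rfl⟩
        refine ⟨mm t m n, ?_, F_mul h ht (by omega) (by omega)⟩
        have h1 := mm_div (t := t) (m := m) (n := n) (by omega) (by omega)
        have h2 := chk_km (m / 32) (by omega) (n / 32) (by omega)
        omega }
  let K : Subgroup G :=
    { K₀ with
      inv_mem' := by
        intro g hg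
        have h1 : g⁻¹ = g ^ (orderOf g - 1) := by
          rw [inv_eq_iff_mul_eq_one, ← pow_succ', Nat.sub_add_cancel (orderOf_pos g),
            pow_orderOf_eq_one]
        rw [h1]
        exact K₀.pow_mem hg _ }
  have hle : OO z ≤ K := by
    unfold OO
    rw [closure_le]
    rintro x ⟨hx, ho⟩
    obtain ⟨m, hm, rfl⟩ := exists_code h hx
    refine ⟨m, ?_, rfl⟩
    by_contra hcon
    -- the ninth power is trivial
    have h4 : orderOf (F z i j k l x₁ x₂ y s m) ∣ 1152 := by
      rw [← h.card_cent]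
      have h5 : orderOf (⟨F z i j k l x₁ x₂ y s m, mem_centralizer_singleton_iff.2 hx⟩ : centralizer ({z} : Set G)) ∣
        Nat.card (centralizer ({z} : Set G)) := orderOf_dvd_natCard _
      rwa [orderOf_mk] at h5
    have h6 : orderOf (F z i j k l x₁ x₂ y s m) ∣ 9 := by
      have h7 : Nat.Coprime (orderOf (F z i j k l x₁ x₂ y s m)) (2 ^ 7) :=
        (Nat.coprime_two_right.2 ho).pow_right 7
      exact h7.dvd_of_dvd_mul_left (by norm_num; exact h4)
    have h9 : F z i j k l x₁ x₂ y s m ^ 9 = 1 := orderOf_dvd_iff_pow_eq_one.1 h6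
    have c2 := mm_lt (t := t) hm hm
    have c4 := mm_lt (t := t) c2 c2
    have c8 := mm_lt (t := t) c4 c4
    have e9 : F z i j k l x₁ x₂ y s (mm t (mm t (mm t (mm t m m) (mm t m m)) (mm t (mm t m m) (mm t m m))) m) = 1 := by
      rw [F_mul h ht c8 hm, F_mul h ht c4 c4, F_mul h ht c2 c2, F_mul h ht hm hm, ← h9]
      simp only [pow_succ, pow_zero, one_mul, mul_assoc]
    rw [← F_0 (z := z) (i := i) (j := j) (k := k) (l := l) (x₁ := x₁) (x₂ := x₂) (y := y) (s := s)] at e9
    have e10 := F_inj h (mm_lt c8 hm) (by norm_num) e9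
    have e11 := mm_div (t := t) c8 hm
    rw [e10, mm_div (t := t) c4 c4, mm_div (t := t) c2 c2, mm_div (t := t) hm hm] at e11
    exact chk_nine (m / 32) (by omega) (by omega) e11.symm
  have hK : Nat.card K ≤ 288 := by
    let f : Fin 288 → K := fun m => ⟨F z i j k l x₁ x₂ y s m, ⟨m, m.2, rfl⟩⟩
    have hf : Function.Surjective f := by
      rintro ⟨g, m, hm, rfl⟩
      exact ⟨⟨m, hm⟩, rfl⟩
    have := Nat.card_le_card_of_surjective f hf
    rwa [Nat.card_eq_fintype_card (α := Fin 288), Fintype.card_fin] at this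
  exact (card_le_of_le hle).trans hK

end

theorem Top.map {X Y : Type*} [Group X] [Group Y] (h : Top X) (e : X ≃* Y) : Top Y := by
  obtain ⟨z, R, hb, hc⟩ := h
  exact ⟨e z, _, Base.map hb e, by rw [card_oo_map]; exact hc⟩

theorem top_psl {F : Type*} [Field F] [Fintype F] (hF : Fintype.card F = 3) :
    Top (Matrix.ProjectiveSpecialLinearGroup (Fin 4) F) := by
  obtain ⟨e⟩ := Cfsg.Agent.LargeExtra.W2.LFour.PslFacts.psl_congr F hF
  exact Top.map ⟨_, _, Cfsg.Agent.KFacts.LFourThree.Facts.one_L.toBase,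
    card_oo_le Cfsg.Agent.KFacts.LFourThree.case9aa⟩ e

theorem top_psu {F : Type*} [Field F] [Fintype F] (hF : Fintype.card F = 9) : Top (Cfsg.PSU 4 F 3) := by
  have : Fact (Nat.Prime 3) := ⟨Nat.prime_three⟩
  have : CharP F 3 := charP_of_card_eq_prime_pow (f := 2) (by rw [hF]; norm_num)
  have : Finite (Cfsg.PSU 4 F 3) := inferInstance
  obtain ⟨i, j, k, l, x₁, x₂, y, s, h, hs, -⟩ := U43Tw.exists_tw (F := F) hF
  have hcls := U43Tw.one_class (F := F) hF
  exact ⟨_, _, (U43Facts.two_of_tw h hs (U43Tw.odd_index (by rw [U43Tw.card_K hF]; norm_num) hcls) hcls).toBase,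
    card_oo_le h.toCase9aa⟩

/-! ### `PSp₄(3)` -/

section

open Cfsg.Agent.KFacts.PSpFourThree
open Cfsg.Agent.Lib.FieldThree (F3)

theorem psp_aux : 288 ≤ Nat.card (OO (PE.z)) := by
  have hcard : Nat.card (Cfsg.PSp 2 F3) = 25920 := by
    have h := card_psp F3 2 (by norm_num)
    rw [Cfsg.Agent.Lib.FieldThree.F3.card, Finset.prod_range_succ, Finset.prod_range_succ,
      Finset.prod_range_zero] at h
    norm_num at h
    omega
  have hi : (centralizer ({PE.z} : Set (Cfsg.PSp 2 F3))).index = 45 := by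
    have h1 : PE.HH.index = (centralizer ({PE.z} : Set (Cfsg.PSp 2 F3))).index :=
      index_comap_of_surjective _ (QuotientGroup.mk'_surjective _)
    have h2 := PE.HH.card_mul_index
    rw [PE.card_HH, PE.card_Sp] at h2
    rw [← h1]
    omega
  have hC := (centralizer ({PE.z} : Set (Cfsg.PSp 2 F3))).card_mul_index
  rw [hi, hcard] at hC
  obtain ⟨v, k, hvv, hvz, -, -, -, -, hcov, -⟩ := three.ex
  have hle : OO PE.z ≤ centralizer ({PE.z} : Set (Cfsg.PSp 2 F3)) := by
    unfold OO
    rw [closure_le]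
    rintro x ⟨hx, -⟩
    exact mem_centralizer_singleton_iff.2 hx
  let f : OO (PE.z) ⊕ OO (PE.z) → centralizer ({PE.z} : Set (Cfsg.PSp 2 F3)) := fun p =>
    Sum.elim (fun d : OO (PE.z) => (⟨d.1, hle d.2⟩ : centralizer ({PE.z} : Set (Cfsg.PSp 2 F3))))
      (fun d : OO (PE.z) => ⟨v * d.1, mul_mem (mem_centralizer_singleton_iff.2 hvz) (hle d.2)⟩) p
  have hf : Function.Surjective f := by
    rintro ⟨g, hg⟩
    rcases hcov g (mem_centralizer_singleton_iff.1 hg) with h1 | h1
    · exact ⟨Sum.inl ⟨g, h1⟩, rfl⟩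
    · refine ⟨Sum.inr ⟨v * g, h1⟩, Subtype.ext ?_⟩
      show v * (v * g) = g
      rw [← mul_assoc, hvv, one_mul]
  have h1 := Nat.card_le_card_of_surjective f hf
  rw [Nat.card_sum] at h1
  omega

/-- facts on `L` -/
theorem sp_fact {L : Type*} [Group L] {F : Type*} [Field F] [Fintype F] (hF : Fintype.card F = 3)
    (e : L ≃* Cfsg.PSp 2 F) {z : L} (zz : z * z = 1) (z1 : z ≠ 1) {N : Subgroup L} (hN : IsPGroup 2 N)
    (hz : ∀ n ∈ N, n * z = z * n) (hn : ∀ g, g * z = z * g → ∀ n ∈ N, g * n * g⁻¹ ∈ N)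
    (hna : ∃ a ∈ N, ∃ b ∈ N, a * b ≠ b * a) : ∃ R : Subgroup L, Base z R ∧ 288 ≤ Nat.card (OO z) := by
  let f : L ≃* Cfsg.PSp 2 F3 := e.trans
    (Cfsg.Agent.LieClassical.FieldTransfer.pspCongr 2 (Cfsg.Agent.Lib.FieldThree.equivOfCard hF))
  obtain ⟨k, hk⟩ : ∃ k, k * PE.z * k⁻¹ = f z := by
    rcases three.classes (f z) (by rw [← map_mul, zz, map_one])
      (fun h1 => z1 ((map_eq_one_iff f f.injective).1 h1)) with h1 | h1
    · exact h1
    · exfalso
      obtain ⟨a, ha, b, hb, hab⟩ := hna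
      apply hab
      apply f.injective
      rw [map_mul, map_mul]
      refine h1 (N.map f.toMonoidHom) (hN.map _) ?_ ?_ _ (mem_map_of_mem _ ha) _ (mem_map_of_mem _ hb)
      · rintro _ ⟨n, hn', rfl⟩
        show f n * f z = f z * f n
        rw [← map_mul, hz n hn', map_mul]
      · rintro g hg _ ⟨n, hn', rfl⟩
        obtain ⟨g, rfl⟩ := f.surjective g
        have hg' : g * z = z * g := f.injective (by rw [map_mul, map_mul]; exact hg)
        refine ⟨g * n * g⁻¹, hn g hg' n hn', ?_⟩
        show f (g * n * g⁻¹) = f g * f n * (f g)⁻¹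
        rw [map_mul, map_mul, map_inv]
  let f' : Cfsg.PSp 2 F3 ≃* L := (MulAut.conj k).trans f.symm
  have hz' : f' PE.z = z := by
    show f.symm (k * PE.z * k⁻¹) = z
    rw [hk, f.symm_apply_apply]
  refine ⟨_, hz' ▸ Base.map three.toBase f', ?_⟩
  rw [← hz', card_oo_map]
  exact psp_aux

end

end Cfsg.Agent.OddHalf.D6.QThree.Pump

end

-- merged: Cfsg.Agent.OddHalf.D6.QThree.PumpExc
section

/-!
# The pump-up fact: the exceptional groups of Lie type (`ExcOrd`)
-/

set_option autoImplicit false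

namespace Cfsg.Agent.OddHalf.D6.QThree.Pump

open Cfsg.Agent.OddHalf.Orders

universe u

theorem g2Chk' : allEx 25920 6531840 g2 (fun _ => 1) 4 = true := by decide +kernel

theorem g2_big : Big.{u} (fun G _ => Lie.IsoChevG2 G) := by
  intro X _ hX hd
  by_contra hcon
  have hN : Nat.card X ≤ 6531840 := by omega
  obtain ⟨F, _, _, h3, ⟨e⟩⟩ := hX
  have h : Nat.card X = g2 (Fintype.card F) := (Nat.card_congr e.toEquiv).trans (S1059.result rfl)
  have hq : 2 ≤ Fintype.card F := Fintype.one_lt_card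
  have h1 : 1 * Nat.card X = g2 (Fintype.card F) := by rw [one_mul, h]
  refine no g2Chk' hq (lt_of_pow (d := 12) (D := 1) ?_ hN (by norm_num)) h1 hd hN
  rw [h1]; exact le_g2 hq

theorem f4_big : Big.{u} (fun G _ => Lie.IsoF4 G) := by
  intro X _ hX _
  by_contra hcon
  have hN : Nat.card X ≤ 6531840 := by omega
  obtain ⟨F, _, _, ⟨e⟩⟩ := hX
  have h : Nat.card X = f4 (Fintype.card F) := (Nat.card_congr e.toEquiv).trans (S1062.result rfl)
  have hq : 2 ≤ Fintype.card F := Fintype.one_lt_card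
  refine big (D := 1) hq ((le_f4 hq).trans ?_) hN (by norm_num)
  rw [one_mul, h]

theorem te6_big : Big.{u} (fun G _ => Lie.Iso2E6 G) := by
  intro X _ hX _
  by_contra hcon
  exact e26_fi23 hX (by omega)

theorem td4_big : Big.{u} (fun G _ => Lie.Iso3D4 G) := by
  intro X _ hX _
  by_contra hcon
  have hN : Nat.card X ≤ 6531840 := by omega
  obtain ⟨F, _, _, q, hpp, hF, ⟨e⟩⟩ := hX
  have h : Nat.card X = d4 q := (Nat.card_congr e.toEquiv).trans (S1067.result hpp hF)
  have hq : 2 ≤ q := hpp.two_le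
  refine big (D := 1) hq ((le_d4 hq).trans ?_) hN (by norm_num)
  rw [one_mul, h]

theorem sz_big : Big.{u} (fun G _ => Lie.IsoSuzuki G) := by
  intro X _ hX hd
  by_contra hcon
  have hN : Nat.card X ≤ 6531840 := by omega
  obtain ⟨F, _, _, m, hm, hF, ⟨e⟩⟩ := hX
  have h : Nat.card X = sz (2 ^ (2 * m + 1)) :=
    (Nat.card_congr e.toEquiv).trans (S1163.result hm hF).1
  rcases Nat.lt_or_ge m 2 with h2 | h2
  · obtain rfl : m = 1 := by omega
    have h3 : sz (2 ^ (2 * 1 + 1)) = 29120 := by decide +kernel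
    rw [h3] at h
    omega
  · have hq : 2 ^ 5 ≤ 2 ^ (2 * m + 1) := Nat.pow_le_pow_right (by norm_num) (by omega)
    have h3 : (2 ^ 5) ^ 2 * (2 ^ 5 - 1) * ((2 ^ 5) ^ 2 + 1) ≤ sz (2 ^ (2 * m + 1)) := by
      unfold sz
      exact Nat.mul_le_mul (Nat.mul_le_mul (Nat.pow_le_pow_left hq _) (by omega))
        (Nat.add_le_add_right (Nat.pow_le_pow_left hq _) _)
    rw [← h] at h3
    norm_num at h3
    omega

theorem ree_big : Big.{u} (fun G _ => Lie.IsoRee G) := by
  intro X _ hX _
  by_contra hcon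
  have hN : Nat.card X ≤ 6531840 := by omega
  obtain ⟨F, _, _, m, hm, hF, ⟨e⟩⟩ := hX
  have h : Nat.card X = ree (3 ^ (2 * m + 1)) :=
    (Nat.card_congr e.toEquiv).trans (S1069.result hF)
  have hq : 3 ^ 3 ≤ 3 ^ (2 * m + 1) := Nat.pow_le_pow_right (by norm_num) (by omega)
  have h3 : (3 ^ 3) ^ 3 * (3 ^ 3 - 1) * ((3 ^ 3) ^ 3 + 1) ≤ ree (3 ^ (2 * m + 1)) := by
    unfold ree
    exact Nat.mul_le_mul (Nat.mul_le_mul (Nat.pow_le_pow_left hq _) (by omega))
      (Nat.add_le_add_right (Nat.pow_le_pow_left hq _) _)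
  rw [← h] at h3
  norm_num at h3
  omega

theorem tf4_big : Big.{u} (fun G _ => Lie.Iso2F4 G) := by
  intro X _ hX _
  by_contra hcon
  have hN : Nat.card X ≤ 6531840 := by omega
  obtain ⟨F, _, _, m, hm, hF, ⟨e⟩⟩ := hX
  have h : Nat.card X = f42 (2 ^ (2 * m + 1)) :=
    (Nat.card_congr e.toEquiv).trans (S1068.result hF)
  have hq : 2 ≤ 2 ^ (2 * m + 1) := by
    calc 2 = 2 ^ 1 := rfl
      _ ≤ _ := Nat.pow_le_pow_right (by norm_num) (by omega)
  have h3 : (2 ^ (2 * m + 1)) ^ 24 ≤ Nat.card X := by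
    rw [h]
    generalize 2 ^ (2 * m + 1) = q at hq
    exact mul_pow_le (mul_pow_le (mul_pow_le (mul_pow_le (b := 0) le_rfl (by rw [pow_zero]; omega))
      (pow_le_add q 3)) (pow_le_sub hq 3)) (pow_le_add q 6)
  exact big (D := 1) hq (by rw [one_mul]; exact h3) hN (by norm_num)

theorem excOrd : ExcOrd.{u} where
  g2 := g2_big
  f4 := f4_big
  e6 := fun X _ hX _ => by by_contra hcon; exact e6_fi23 hX (by omega)
  e7 := fun X _ hX _ => by by_contra hcon; exact e7_fi23 hX (by omega)
  e8 := fun X _ hX _ => by by_contra hcon; exact e8_fi23 hX (by omega)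
  te6 := te6_big
  td4 := td4_big
  sz := sz_big
  ree := ree_big
  tf4 := tf4_big

end Cfsg.Agent.OddHalf.D6.QThree.Pump

end

-- merged: Cfsg.Agent.OddHalf.D6.QThree.PumpMain
section

/-!
# The pump-up fact

`M` quasisimple with `Z(M)` a 2-group and `M / Z(M)` a known simple group of order at most `6531840`, `τ` an
automorphism with `τ² = 1`, `L ≅ PSp₄(3)` subnormal in `C_M(τ)`, `z` a 2-central involution of `L`. Then every element
of odd order of `C_M(z)` lies in `L`.
-/

set_option autoImplicit false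

namespace Cfsg.Agent.OddHalf.D6.QThree.Pump

open Subgroup Cfsg.Agent.OddHalf.D6.QThree.Facts
open scoped commutatorElement

universe u

section

variable {M : Type u} [Group M]

/-- the automorphism of the central quotient -/
def bar (τ : MulAut M) : MulAut (M ⧸ center M) :=
  QuotientGroup.congr (center M) (center M) τ (by
    ext x
    constructor
    · rintro ⟨y, hy, rfl⟩
      rw [SetLike.mem_coe, mem_center_iff] at hy
      rw [mem_center_iff]
      intro g
      obtain ⟨g, rfl⟩ := τ.surjective g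
      show τ g * τ y = τ y * τ g
      rw [← map_mul, hy g, map_mul]
    · intro hx
      refine ⟨τ.symm x, ?_, τ.apply_symm_apply x⟩
      rw [mem_center_iff] at hx
      rw [SetLike.mem_coe, mem_center_iff]
      intro g
      apply τ.injective
      rw [map_mul, map_mul]
      show τ g * τ (τ.symm x) = τ (τ.symm x) * τ g
      rw [τ.apply_symm_apply]
      exact hx _)

theorem bar_mk (τ : MulAut M) (x : M) : bar τ (QuotientGroup.mk' (center M) x) = QuotientGroup.mk' (center M) (τ x) :=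
  rfl

theorem mk_eq_iff {x y : M} : QuotientGroup.mk' (center M) x = QuotientGroup.mk' (center M) y ↔
    ∃ ζ ∈ center M, x = y * ζ := by
  rw [QuotientGroup.mk'_apply, QuotientGroup.mk'_apply, eq_comm, QuotientGroup.eq]
  constructor
  · intro h
    exact ⟨_, h, by group⟩
  · rintro ⟨ζ, hζ, rfl⟩
    simpa using hζ

/-- if `bar τ = 1` and `M` is perfect then `τ = 1` -/
theorem eq_one_of_bar (hp : commutator M = ⊤) {τ : MulAut M} (h : bar τ = 1) : τ = 1 := by
  have h1 : ∀ x : M, x⁻¹ * τ x ∈ center M := by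
    intro x
    have h2 := DFunLike.congr_fun h (QuotientGroup.mk' (center M) x)
    rw [bar_mk] at h2
    obtain ⟨ζ, hζ, h3⟩ := mk_eq_iff.1 h2
    rw [h3]; simpa using hζ
  have hτ : ∀ x : M, τ x = x * (x⁻¹ * τ x) := fun x => by group
  let f : M →* M :=
    { toFun := fun x => x⁻¹ * τ x
      map_one' := by simp
      map_mul' := fun x y => by
        have h2 := (mem_center_iff.1 (h1 x)) y⁻¹
        rw [map_mul, mul_inv_rev]
        calc y⁻¹ * x⁻¹ * (τ x * τ y) = (y⁻¹ * (x⁻¹ * τ x)) * τ y := by group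
          _ = (x⁻¹ * τ x * y⁻¹) * τ y := by rw [h2]
          _ = _ := by group }
  have hf : ∀ x, f x ∈ center M := h1
  have hk : commutator M ≤ f.ker := by
    rw [commutator_def, commutator_le]
    intro a _ b _
    rw [MonoidHom.mem_ker, map_commutatorElement, commutatorElement_eq_one_iff_mul_comm]
    exact ((mem_center_iff.1 (hf a)) (f b)).symm
  ext x
  have h2 : x⁻¹ * τ x = 1 := hk (by rw [hp]; exact mem_top x)
  rw [MulAut.one_apply]
  rw [inv_mul_eq_one] at h2
  exact h2.symm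

/-- subnormality in the fixed points of `bar τ` -/
theorem subnormal_bar {τ : MulAut M} {L : Subgroup M} (hL : ∀ x ∈ L, τ x = x)
    (hs : (L.subgroupOf (fixSub τ)).IsSubnormal) :
    ((L.map (QuotientGroup.mk' (center M))).subgroupOf (fixSub (bar τ))).IsSubnormal := by
  let P : Subgroup M := (fixSub (bar τ)).comap (QuotientGroup.mk' (center M))
  have hP : ∀ x, x ∈ P ↔ x⁻¹ * τ x ∈ center M := by
    intro x
    show bar τ (QuotientGroup.mk' (center M) x) = QuotientGroup.mk' (center M) x ↔ _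
    rw [bar_mk]
    constructor
    · intro h
      obtain ⟨ζ, hζ, h3⟩ := mk_eq_iff.1 h
      rw [h3]; simpa using hζ
    · intro h
      exact mk_eq_iff.2 ⟨_, h, by group⟩
  have hFP : fixSub τ ≤ P := by
    intro x hx
    rw [hP, mem_fixSub.1 hx]
    simp
  have hn : ((fixSub τ).subgroupOf P).Normal := by
    refine ⟨fun f hf g => ?_⟩
    show τ ((g : M) * f * (g : M)⁻¹) = g * f * (g : M)⁻¹
    have hf' : τ (f : M) = f := hf
    have h1 := (hP g).1 g.2
    have h2 : τ (g : M) = g * ((g : M)⁻¹ * τ g) := by group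
    have h3 := mem_center_iff.1 h1 (f : M)
    rw [map_mul, map_mul, map_inv, hf', h2]
    generalize (g : M)⁻¹ * τ g = c at h3
    calc (g : M) * c * f * ((g : M) * c)⁻¹ = g * (c * f) * c⁻¹ * (g : M)⁻¹ := by group
      _ = g * (f * c) * c⁻¹ * (g : M)⁻¹ := by rw [h3]
      _ = _ := by group
  have hLF : L ≤ fixSub τ := fun x hx => hL x hx
  have h1 : (L.subgroupOf P).IsSubnormal := by
    -- `L` is subnormal in `fixSub τ`, which is normal in `P`
    have h2 : ((L.subgroupOf P).subgroupOf ((fixSub τ).subgroupOf P)).IsSubnormal := by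
      let e : ((fixSub τ).subgroupOf P) ≃* (fixSub τ) := subgroupOfEquivOfLe hFP
      have h3 := hs.comap e.toMonoidHom
      exact h3
    refine IsSubnormal.trans ?_ h2 hn.isSubnormal
    intro x hx
    exact hLF hx
  -- the image
  let φ : P →* fixSub (bar τ) :=
    ((QuotientGroup.mk' (center M)).comp P.subtype).codRestrict (fixSub (bar τ)) (fun x => x.2)
  have hφ : Function.Surjective φ := by
    rintro ⟨y, hy⟩
    obtain ⟨x, rfl⟩ := QuotientGroup.mk'_surjective (center M) y
    exact ⟨⟨x, hy⟩, rfl⟩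
  have h2 := h1.map hφ
  have h3 : (L.subgroupOf P).map φ = (L.map (QuotientGroup.mk' (center M))).subgroupOf (fixSub (bar τ)) := by
    ext y
    constructor
    · rintro ⟨x, hx, rfl⟩
      exact ⟨x, hx, rfl⟩
    · rintro ⟨x, hx, hy⟩
      exact ⟨⟨x, hFP (hLF hx)⟩, hx, Subtype.ext hy⟩
  rw [← h3]
  exact h2

end

/-- a non-abelian simple group is quasisimple -/
theorem quasisimple_of_simple {X : Type*} [Group X] [IsSimpleGroup X] (h : ∃ a b : X, a * b ≠ b * a) :
    IsQuasisimple X := by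
  obtain ⟨a, b, hab⟩ := h
  have hc : center X = ⊥ := by
    rcases (inferInstance : (center X).Normal).eq_bot_or_eq_top with h1 | h1
    · exact h1
    · exfalso
      apply hab
      have h2 : b ∈ center X := by rw [h1]; exact mem_top b
      exact mem_center_iff.1 h2 a
  have hp : commutator X = ⊤ := by
    rcases (inferInstance : (commutator X).Normal).eq_bot_or_eq_top with h1 | h1
    · exfalso
      apply hab
      have h2 : ⁅a, b⁆ ∈ commutator X := commutator_mem_commutator (mem_top a) (mem_top b)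
      rw [h1, mem_bot, commutatorElement_eq_one_iff_mul_comm] at h2
      exact h2
    · exact h1
  refine ⟨⟨hp⟩, ?_⟩
  have e : X ≃* X ⧸ center X :=
    (QuotientGroup.quotientBot.symm).trans (QuotientGroup.quotientMulEquivOfEq hc.symm)
  exact e.isSimpleGroup_congr.1 inferInstance

theorem card_psp_three {F : Type*} [Field F] [Fintype F] (hF : Fintype.card F = 3) :
    Nat.card (PSp 2 F) = 25920 := by
  have h := card_psp (ZMod 3) 2 (by norm_num)
  rw [ZMod.card, Finset.prod_range_succ, Finset.prod_range_succ, Finset.prod_range_zero] at h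
  norm_num at h
  have e1 := Cfsg.Agent.LieClassical.FieldTransfer.pspCongr 2 (Cfsg.Agent.Lib.FieldThree.equivOfCard hF)
  have e2 := Cfsg.Agent.LieClassical.FieldTransfer.pspCongr 2
    (Cfsg.Agent.Lib.FieldThree.equivOfCard (F := ZMod 3) (ZMod.card 3))
  rw [Nat.card_congr (e1.trans e2.symm).toEquiv]
  omega

/-- **The pump-up fact.** -/
theorem main {M : Type u} [Group M] [Finite M] (hS : SpOrd.{u}) (hq : IsQuasisimple M)
    (hZ : IsPGroup 2 (center M)) (hK : IsKnownSimple' (M ⧸ center M))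
    (hc : Nat.card (M ⧸ center M) ≤ 6531840) (τ : MulAut M) (hτ : ∀ x, τ (τ x) = x) (L : Subgroup M)
    (hL : ∀ x ∈ L, τ x = x) (hs : (L.subgroupOf (fixSub τ)).IsSubnormal)
    {F : Type*} [Field F] [Fintype F] (hF : Fintype.card F = 3) (e : L ≃* PSp 2 F)
    {z : M} (hz : z ∈ L) (zz : z * z = 1) (z1 : z ≠ 1) {N : Subgroup M} (hN : IsPGroup 2 N) (hNL : N ≤ L)
    (hNz : ∀ n ∈ N, n * z = z * n) (hNn : ∀ g ∈ L, g * z = z * g → ∀ n ∈ N, g * n * g⁻¹ ∈ N)
    (hna : ∃ a ∈ N, ∃ b ∈ N, a * b ≠ b * a) {x : M} (hx : x * z = z * x) (ho : Odd (orderOf x)) : x ∈ L := by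
  haveI := hq.1
  haveI hXs := hq.2
  haveI hLs : IsSimpleGroup L := by
    have := Cfsg.Agent.S0270.result (F := F) 2 le_rfl (fun _ => hF.ge)
    exact e.isSimpleGroup_congr.2 this
  -- the facts on `L`
  obtain ⟨R, hb, hO⟩ := sp_fact (z := (⟨z, hz⟩ : L)) hF e (Subtype.ext zz) (fun h => z1 (congrArg Subtype.val h))
    (N := N.subgroupOf L) (hN.of_equiv (subgroupOfEquivOfLe hNL).symm)
    (fun n hn => Subtype.ext (hNz n hn)) (fun g hg n hn => hNn g g.2 (congrArg Subtype.val hg) n hn) (by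
      obtain ⟨a, ha, b, hb, hab⟩ := hna
      exact ⟨⟨a, hNL ha⟩, ha, ⟨b, hNL hb⟩, hb, fun h => hab (congrArg Subtype.val h)⟩)
  have hLn : ∃ a b : L, a * b ≠ b * a := by
    obtain ⟨a, ha, b, hb, hab⟩ := hna
    exact ⟨⟨a, hNL ha⟩, ⟨b, hNL hb⟩, fun h => hab (congrArg Subtype.val h)⟩
  have hcardL : Nat.card L = 25920 := by
    rw [Nat.card_congr e.toEquiv, card_psp_three hF]
  -- the central quotient
  set π := QuotientGroup.mk' (center M) with hπ
  have hinj : Function.Injective (π.comp L.subtype) := by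
    rw [← MonoidHom.ker_eq_bot_iff]
    rcases (inferInstance : (π.comp L.subtype).ker.Normal).eq_bot_or_eq_top with h1 | h1
    · exact h1
    · exfalso
      obtain ⟨a, b, hab⟩ := hLn
      apply hab
      have h2 : b ∈ (π.comp L.subtype).ker := by rw [h1]; exact mem_top b
      have h3 : (b : M) ∈ center M := by
        rw [MonoidHom.mem_ker] at h2
        exact (QuotientGroup.eq_one_iff _).1 h2
      exact Subtype.ext (mem_center_iff.1 h3 a)
  have hLm : L.map π = (π.comp L.subtype).range := by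
    rw [MonoidHom.range_comp, range_subtype]
  have hcardLm : Nat.card (L.map π) = 25920 := by
    rw [hLm, ← hcardL]
    exact Nat.card_congr (MonoidHom.ofInjective hinj).symm.toEquiv
  -- it is enough to have `x ∈ L Z(M)`
  have hfin : π x ∈ L.map π → x ∈ L := by
    rintro ⟨l, hl, h1⟩
    obtain ⟨ζ, hζ, h2⟩ := mk_eq_iff.1 h1.symm
    obtain ⟨n, hn⟩ := hZ ⟨ζ, hζ⟩
    rw [h2] at ho ⊢
    exact mem_of_odd hl (mem_center_iff.1 hζ l) (congrArg Subtype.val hn) ho
  apply hfin
  by_cases hb1 : bar τ = 1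
  · -- `τ = 1`
    have h1 := eq_one_of_bar hq.1.commutator_eq_top hb1
    have h2 := subnormal_bar hL hs
    rw [hb1] at h2
    have h3 : fixSub (1 : MulAut (M ⧸ center M)) = ⊤ := by
      ext y; simp [mem_fixSub]
    have h4 : (L.map π).IsSubnormal := by
      refine IsSubnormal.trans (K := fixSub (1 : MulAut (M ⧸ center M))) (by rw [h3]; exact le_top) h2 ?_
      rw [h3]; exact IsSubnormal.top
    rcases h4.eq_bot_or_top_of_isSimpleGroup hXs with h5 | h5
    · rw [h5] at hcardLm
      simp at hcardLm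
    · rw [h5]; exact mem_top _
  -- the general case
  have hbL : ∀ y ∈ L.map π, bar τ y = y := by
    rintro _ ⟨l, hl, rfl⟩
    rw [bar_mk, hL l hl]
  have hbτ : ∀ y, bar τ (bar τ y) = y := by
    intro y
    obtain ⟨y, rfl⟩ := QuotientGroup.mk'_surjective (center M) y
    rw [bar_mk, bar_mk, hτ]
  have hqL : IsQuasisimple (L.map π) :=
    Cfsg.Agent.S1246.quasisimple_of_equiv
      ((MonoidHom.ofInjective hinj).trans (MulEquiv.subgroupCongr hLm.symm)) (quasisimple_of_simple hLn)
  have hnp : ¬ IsPGroup 2 (L.map π) := by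
    intro h1
    obtain ⟨n, hn⟩ := IsPGroup.iff_card.1 h1
    rw [hcardLm] at hn
    have h3 : 3 ∣ 2 ^ n := by rw [← hn]; norm_num
    have h4 := Nat.prime_three.dvd_of_dvd_pow h3
    omega
  have hπx : π x * π z = π z * π x := by rw [← map_mul, hx, map_mul]
  have hπo : Odd (orderOf (π x)) := Odd.of_dvd_nat ho (orderOf_map_dvd π x)
  have hrange : ∀ {m : ℕ}, Nat.card (M ⧸ center M) = 2 ^ 7 * m → Odd m → Top (M ⧸ center M) → π x ∈ L.map π := by
    intro m h1 h2 h3
    rw [hLm]
    exact mem_range h1 h2 h3 (n := 405) (by rw [hcardL]; norm_num) (by decide) hb hO hinj hπx hπo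
  have hdvd : 25920 ∣ Nat.card (M ⧸ center M) := by
    rw [← hcardLm]; exact card_subgroup_dvd_card _
  cases seven hS excOrd hK hdvd hc with
  | psp F' h e' =>
    have h1 : L.map π = ⊤ := by
      apply eq_top_of_card_eq
      obtain ⟨e'⟩ := e'
      rw [hcardLm, Nat.card_congr e'.toEquiv, card_psp_three h]
    rw [h1]; exact mem_top _
  | psu F' h e' =>
    obtain ⟨e'⟩ := e'
    refine hrange (m := 25515) ?_ (by decide) (Top.map (top_psu h) e'.symm)
    rw [Nat.card_congr e'.toEquiv, U43Tw.card_K h]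
  | psl F' h e' =>
    obtain ⟨e'⟩ := e'
    refine hrange (m := 47385) ?_ (by decide) (Top.map (top_psl h) e'.symm)
    obtain ⟨e2⟩ := Cfsg.Agent.LargeExtra.W2.LFour.PslFacts.psl_congr F' h
    rw [Nat.card_congr (e'.trans e2.symm).toEquiv, Cfsg.Agent.LargeExtra.W2.LFour.PslFacts.card_psl]
    norm_num
  | sp6 F' h e' =>
    obtain ⟨e'⟩ := e'
    exact absurd (no_sp (Group.IsPerfect.center_quotient_center_eq_bot M) h e' (bar τ) hbτ hb1 (L.map π) hbL
      (subnormal_bar hL hs) hqL hnp) id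
  | a9 e' =>
    obtain ⟨e'⟩ := e'
    exact absurd (no_alt (Or.inl rfl) e' (bar τ) hbτ hb1 (L.map π) hbL hcardLm) id
  | a10 e' =>
    obtain ⟨e'⟩ := e'
    exact absurd (no_alt (Or.inr rfl) e' (bar τ) hbτ hb1 (L.map π) hbL hcardLm) id

end Cfsg.Agent.OddHalf.D6.QThree.Pump

end

-- merged: Cfsg.Agent.OddHalf.D6.QThree.RefIntr
section

/-!
# The intrinsic double cover of `PSp₄(3)` has `HasY`

`M` quasisimple, `Z(M)` a nontrivial 2-group, `M / Z(M) ≅ PSp₄(3)`. Then `M ≅ Sp₄(3)`, so `HasY M`.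
-/

set_option autoImplicit false

namespace Cfsg.Agent.OddHalf.D6.QThree.RefIntr

open Subgroup Matrix Cfsg Cfsg.Agent.OddHalf.NI3 Cfsg.Agent.OddHalf.NI3.K Cfsg.Agent.OddHalf.LieOddFam
open Cfsg.Agent.OddHalf.NI (CompIn Even8 IsSL CoverOf.exists_cover)
open Cfsg.Agent.OddHalf.NI3.K.Sp

universe u

theorem hasY {M : Type u} [Group M] [Finite M] (hq : IsQuasisimple M) (hZ : IsPGroup 2 (center M))
    (hne : center M ≠ ⊥) {F : Type} [Field F] [Fintype F] (hF : Fintype.card F = 3)
    (e : M ⧸ center M ≃* PSp 2 F) : HasY M := by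
  have h2 : (2 : F) ≠ 0 := NI.Blocks.two_ne_zero_of_odd (by rw [hF]; decide)
  have h3 : (3 : F) = 0 := by
    have := FiniteField.cast_card_eq_zero F
    rw [hF] at this
    exact_mod_cast this
  have hqs : IsQuasisimple ↥(symplecticGroup (Fin 2) F) :=
    ⟨⟨Cfsg.Agent.S0269.result 2 (Or.inr (Or.inl ⟨rfl, by omega⟩))⟩,
      Cfsg.Agent.S0270.result 2 le_rfl (fun _ => by omega)⟩
  have hr : Rk (↥(symplecticGroup (Fin 2) F) ⧸ center ↥(symplecticGroup (Fin 2) F)) 3 :=
    Or.inr (Or.inl ⟨F, _, _, 2, hF, le_rfl, ⟨MulEquiv.refl _⟩⟩)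
  obtain ⟨φ, hs, hk⟩ := NI.CoverOf.exists_cover (L := symplecticGroup (Fin 2) F) hq.1.commutator_eq_top hZ
    hqs.1.commutator_eq_top (NI.SpClosed.closed2 (by rw [hF]; decide) one_le_two) e
  have hcen : ∀ x ∈ center (symplecticGroup (Fin 2) F), x = 1 ∨ x = NI.FrameSp.neg 2 F := by
    intro x hx
    obtain ⟨a, ha⟩ := (LieClassical.SympCenter.mem_center_iff 2 x).1 hx
    have h4 := x.2
    rw [SymplecticGroup.mem_iff, ha] at h4
    have h5 : a * a = 1 := by
      have h6 := congrFun (congrFun h4 (Sum.inl 0)) (Sum.inr 0)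
      simp [J, Matrix.fromBlocks, Matrix.mul_apply, Matrix.one_apply] at h6
      exact h6
    have h7 : (a - 1) * (a + 1) = 0 := by linear_combination h5
    rcases mul_eq_zero.1 h7 with h8 | h8
    · left
      apply Subtype.ext
      show x.1 = 1
      rw [ha, sub_eq_zero.1 h8, one_smul]
    · right
      apply Subtype.ext
      show x.1 = (NI.FrameSp.neg 2 F : Matrix _ _ F)
      rw [ha, NI.FrameSp.neg_coe, eq_neg_of_add_eq_zero_left h8, neg_smul, one_smul]
  have hinj : Function.Injective φ := by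
    rw [← MonoidHom.ker_eq_bot_iff]
    by_contra hk'
    apply hne
    obtain ⟨x, hx0⟩ := Subgroup.ne_bot_iff_exists_ne_one.1 hk'
    obtain ⟨x, hx⟩ := x
    have hx1 : x ≠ 1 := fun h => hx0 (Subtype.ext h)
    have hker : φ.ker = center (symplecticGroup (Fin 2) F) := by
      apply le_antisymm hk
      intro y hy
      rcases hcen y hy with rfl | rfl
      · exact one_mem _
      · rcases hcen x (hk hx) with h | h
        · exact absurd h hx1
        · rw [← h]; exact hx
    -- `M ≅ PSp` has trivial centre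
    have hM : M ≃* PSp 2 F :=
      (QuotientGroup.quotientKerEquivOfSurjective φ hs).symm.trans (QuotientGroup.quotientMulEquivOfEq hker)
    have hsim : IsSimpleGroup M := hM.isSimpleGroup_congr.2 hqs.2
    rcases (inferInstance : (center M).Normal).eq_bot_or_eq_top with h4 | h4
    · exact h4
    · exfalso
      have := hq.1.commutator_eq_top
      have h5 : commutator M = ⊥ := by
        rw [commutator_def, commutator_eq_bot_iff_le_centralizer]
        intro x _
        rw [mem_centralizer_iff]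
        intro y _
        have h6 : x ∈ center M := by rw [h4]; exact mem_top x
        exact mem_center_iff.1 h6 y
      rw [h5] at this
      have h6 := hq.2.exists_pair_ne
      obtain ⟨a, b, hab⟩ := h6
      obtain ⟨a, rfl⟩ := QuotientGroup.mk_surjective a
      obtain ⟨b, rfl⟩ := QuotientGroup.mk_surjective b
      have h7 : a = b := by
        have h8 : ∀ x : M, x = 1 := fun x => by
          have : x ∈ (⊥ : Subgroup M) := by rw [this]; exact mem_top x
          exact mem_bot.1 this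
        rw [h8 a, h8 b]
      exact hab (by rw [h7])
  exact hasY_of_block φ hs hk (MonoidHom.id _) hqs (neg_mem_center 2) (even8_neg one_le_two h3 h2) hr
    (fun g _ a => ⟨g * a * g⁻¹, rfl⟩) (by simpa using hinj)

end Cfsg.Agent.OddHalf.D6.QThree.RefIntr

end

-- merged: Cfsg.Agent.OddHalf.D6.QThree.RefOf
section

/-!
# ODD half, D6, `q = 3`: the reflections (L-balance in `C(b)`)

`t`, `b` commuting involutions, `L ≅ PSp₄(3)` subnormal in `C(b) ∩ C(t)`, `z ∈ D ≤ L`, `D = O²(C(t) ∩ C(z))`.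
`Data.main`: `D` is normalised by `C(b) ∩ C(z)`, or `DiagAt t z b D M L`.
-/

set_option autoImplicit false

namespace Cfsg.Agent.OddHalf.D6.QThree.RefOf

open Subgroup Cfsg Cfsg.Agent.OddHalf.Iface Cfsg.Agent.OddHalf.D3
open Cfsg.Agent.OddHalf.D6.QThree.Pump (SpOrd fixSub)
open Cfsg.Agent.OddHalf.D6.QThree.Diag (DiagAt)

universe u

variable {G : Type u} [Group G]

/-- the hypotheses: `L ≅ PSp₄(3)` a component of `C(b) ∩ C(t)` -/
structure Data (t z b : G) (D R L : Subgroup G) (F : Type) [Field F] [Fintype F] : Prop where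
  tt : t * t = 1
  t1 : t ≠ 1
  bb : b * b = 1
  b1 : b ≠ 1
  bt : b * t = t * b
  zz : z * z = 1
  z1 : z ≠ 1
  hF : Fintype.card F = 3
  iso : Nonempty (L ≃* PSp 2 F)
  Lb : ∀ l ∈ L, l * b = b * l
  Lt : ∀ l ∈ L, l * t = t * l
  sub : (L.subgroupOf (centralizer ({b} : Set G) ⊓ centralizer ({t} : Set G))).IsSubnormal
  DL : D ≤ L
  zR : z ∈ R
  RD : R ≤ D
  Dz : ∀ d ∈ D, d * z = z * d
  gen : D ≤ closure {x | x ∈ D ∧ Odd (orderOf x)}
  /-- `D` contains the elements of odd order of `C_L(z)` -/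
  odd : ∀ x ∈ L, x * z = z * x → Odd (orderOf x) → x ∈ D
  nD : ∀ g ∈ L, g * z = z * g → ∀ d ∈ D, g * d * g⁻¹ ∈ D
  pR : IsPGroup 2 R
  nR : ∀ g ∈ L, g * z = z * g → ∀ r ∈ R, g * r * g⁻¹ ∈ R
  na : ∃ x ∈ R, ∃ y ∈ R, x * y ≠ y * x

namespace Data

variable {t z b : G} {D R L : Subgroup G} {F : Type} [Field F] [Fintype F]

theorem card_L (h : Data t z b D R L F) : Nat.card L = 25920 := by
  obtain ⟨e⟩ := h.iso
  rw [Nat.card_congr e.toEquiv, Pump.card_psp_three h.hF]

theorem simple_L (h : Data t z b D R L F) : IsSimpleGroup L := by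
  obtain ⟨e⟩ := h.iso
  have := Cfsg.Agent.S0270.result (F := F) 2 le_rfl (fun _ => h.hF.ge)
  exact e.isSimpleGroup_congr.2 this

theorem na_L (h : Data t z b D R L F) : ∃ a b : L, a * b ≠ b * a := by
  obtain ⟨x, hx, y, hy, hxy⟩ := h.na
  exact ⟨⟨x, h.DL (h.RD hx)⟩, ⟨y, h.DL (h.RD hy)⟩, fun e => hxy (congrArg Subtype.val e)⟩

theorem quasi_L (h : Data t z b D R L F) : IsQuasisimple L :=
  have := h.simple_L
  Pump.quasisimple_of_simple h.na_L

theorem eq_one_L (h : Data t z b D R L F) {x : G} (hx : x ∈ L) (hc : ∀ l ∈ L, x * l = l * x) : x = 1 := by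
  haveI := h.simple_L
  have h1 : (⟨x, hx⟩ : L) ∈ center L := by
    rw [mem_center_iff]
    intro g
    exact Subtype.ext (hc g g.2).symm
  rcases (inferInstance : (center L).Normal).eq_bot_or_eq_top with h2 | h2
  · rw [h2, mem_bot] at h1
    exact congrArg Subtype.val h1
  · exfalso
    obtain ⟨a, b, hab⟩ := h.na_L
    have h3 : b ∈ center L := by rw [h2]; exact mem_top b
    exact hab (mem_center_iff.1 h3 a)

theorem not_l2o (h : Data t z b D R L F) : ¬ IsL2o L := by
  rintro ⟨E, _, _, ho, h5, ⟨e⟩⟩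
  have h1 : Nat.card (Matrix.ProjectiveSpecialLinearGroup (Fin 2) E) = 25920 := by
    rw [← Nat.card_congr e.toEquiv, h.card_L]
  have h2 := Cfsg.Agent.SmallSimple.PSLTwoPart.card_psl_two_odd ho
  rw [h1] at h2
  generalize Fintype.card E = q at h2 h5
  obtain ⟨k, rfl⟩ := Nat.exists_eq_add_of_le h5
  have h3 : (5 + k) ^ 2 - 1 = 24 + 10 * k + k ^ 2 := by
    rw [Nat.sub_eq_iff_eq_add (by nlinarith)]
    ring
  rw [h3] at h2
  have h4 : k < 37 := by
    by_contra hk
    push Not at hk
    have h5 : 37 * 37 ≤ k * k := Nat.mul_le_mul hk hk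
    nlinarith
  interval_cases k <;> omega

theorem b_ord (h : Data t z b D R L F) : orderOf b = 2 :=
  orderOf_eq_prime (by rw [pow_two]; exact h.bb) h.b1

theorem zL (h : Data t z b D R L F) : z ∈ L := h.DL (h.RD h.zR)

/-! ### the vertical case -/

/-- **the vertical case**: `D` contains the elements of odd order of `C_M(z)` -/
theorem odd_mem (h : Data t z b D R L F) (C : Ctx G) (hS : SpOrd.{u}) {K : Subgroup G} (S : Std G K)
    (hK : Nat.card K ≤ 6531840) {M : Subgroup G} (hM : Comp b M) (hLM : L ≤ M) (ht : cj t M = M) {x : G}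
    (hx : x ∈ M) (hxz : x * z = z * x) (ho : Odd (orderOf x)) : x ∈ D := by
  have := C.fin
  have ti : t⁻¹ = t := inv_eq_of_mul_eq_one_right h.tt
  have htM : ∀ m ∈ M, t * m * t⁻¹ ∈ M := fun m hm => by
    have := conj_mem_cj (g := t) hm
    rwa [ht] at this
  have hcomp : CompOf b M := ⟨hM.le, hM.comp⟩
  have hZ : IsPGroup 2 (center M) := Soft.CompOf.center_isPGroup (C.bal b h.b_ord) hcomp
  -- the order of `M`
  have hcard : Nat.card M ≤ 6531840 := by
    refine (S.max b M h.b_ord hcomp fun hl => ?_).trans hK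
    exfalso
    apply h.not_l2o
    refine D6.PumpDown.of_le hl h.tt htM hLM h.Lt ?_ ?_ ?_
    · have h1 := h.quasi_L.1.commutator_eq_top
      have h2 := congrArg (Subgroup.map L.subtype) h1
      rw [commutator_def, map_commutator, ← MonoidHom.range_eq_map, range_subtype] at h2
      exact h2
    · intro h1
      have h2 := h.zL
      rw [h1, mem_bot] at h2
      exact h.z1 h2
    · refine Diag.sn_mono ?_ h.sub
      exact inf_le_inf_right _ hM.le
  have hne : M ≠ ⊤ := by
    intro h1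
    have := C.simple
    have h2 : b ∈ center G := by
      rw [mem_center_iff]
      intro g
      exact mem_cs.1 (hM.le (h1 ▸ mem_top g))
    rcases (inferInstance : (center G).Normal).eq_bot_or_eq_top with h3 | h3
    · rw [h3, mem_bot] at h2
      exact h.b1 h2
    · apply C.na
      refine ⟨⟨fun x y => ?_⟩⟩
      have h4 : y ∈ center G := h3 ▸ mem_top y
      exact mem_center_iff.1 h4 x
  have hknown : IsKnownSimple' (M ⧸ center M) :=
    Known.known_quotient C.kproper M hne (center M) hM.quasi.2 (Orders.Quo.quo_na hM.quasi)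
  have hcq : Nat.card (M ⧸ center M) ≤ 6531840 := by
    refine le_trans ?_ hcard
    exact Nat.le_of_dvd Nat.card_pos (card_quotient_dvd_card (center M))
  -- the automorphism
  have htM' : ∀ m ∈ M, t⁻¹ * m * t ∈ M := by
    intro m hm
    have h1 := htM m hm
    rw [ti] at h1 ⊢
    exact h1
  let τ : MulAut M :=
    { toFun := fun l => ⟨t * l * t⁻¹, htM l l.2⟩
      invFun := fun l => ⟨t⁻¹ * l * t, htM' l l.2⟩
      left_inv := fun l => Subtype.ext (by simp only; group)
      right_inv := fun l => Subtype.ext (by simp only; group)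
      map_mul' := fun a b => Subtype.ext (by
        show t * ((a : G) * b) * t⁻¹ = t * a * t⁻¹ * (t * b * t⁻¹)
        group) }
  have hτc : ∀ l : M, ((τ l : M) : G) = t * l * t⁻¹ := fun l => rfl
  have hτ : ∀ x, τ (τ x) = x := by
    intro l
    apply Subtype.ext
    rw [hτc, hτc]
    calc t * (t * (l : G) * t⁻¹) * t⁻¹ = t * t * l * (t * t)⁻¹ := by group
      _ = l := by rw [h.tt]; group
  have hfix : ∀ l : M, τ l = l ↔ (l : G) * t = t * l := by
    intro l
    constructor
    · intro h1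
      have := congrArg Subtype.val h1
      rw [hτc, mul_inv_eq_iff_eq_mul] at this
      exact this.symm
    · intro h1
      apply Subtype.ext
      rw [hτc, ← h1, mul_inv_cancel_right]
  have hLfix : ∀ x ∈ L.subgroupOf M, τ x = x := by
    intro x hx
    rw [hfix]
    exact h.Lt x hx
  have hsub : ((L.subgroupOf M).subgroupOf (fixSub τ)).IsSubnormal := by
    let ι : fixSub τ →* (centralizer ({b} : Set G) ⊓ centralizer ({t} : Set G) : Subgroup G) :=
      { toFun := fun l => ⟨((l : M) : G), ⟨hM.le (l : M).2, mem_cs.2 ((hfix _).1 l.2)⟩⟩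
        map_one' := rfl
        map_mul' := fun _ _ => rfl }
    exact h.sub.comap ι
  obtain ⟨e⟩ := h.iso
  have hRL : R ≤ L := h.RD.trans h.DL
  have hRM : R ≤ M := hRL.trans hLM
  have h1 := Pump.main hS hM.quasi hZ hknown hcq τ hτ (L.subgroupOf M) hLfix hsub h.hF
    ((subgroupOfEquivOfLe hLM).trans e) (z := ⟨z, hLM h.zL⟩) h.zL (Subtype.ext h.zz)
    (fun h1 => h.z1 (congrArg Subtype.val h1)) (N := R.subgroupOf M)
    (h.pR.of_equiv (subgroupOfEquivOfLe hRM).symm) (fun r hr => hRL hr)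
    (fun n hn => Subtype.ext (h.Dz n (h.RD hn)))
    (fun g hg hgz n hn => h.nR g hg (congrArg Subtype.val hgz) n hn)
    (by
      obtain ⟨a, ha, b, hb, hab⟩ := h.na
      exact ⟨⟨a, hRM ha⟩, ha, ⟨b, hRM hb⟩, hb, fun h1 => hab (congrArg Subtype.val h1)⟩)
    (x := ⟨x, hx⟩) (Subtype.ext hxz) (by rwa [Subgroup.orderOf_mk])
  exact h.odd x h1 hxz ho

/-- in the vertical case `D` is normalised by `C(b) ∩ C(z)` -/
theorem norm_of_le (h : Data t z b D R L F) (C : Ctx G) (hS : SpOrd.{u}) {K : Subgroup G} (S : Std G K)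
    (hK : Nat.card K ≤ 6531840) {M : Subgroup G} (hM : Comp b M) (hLM : L ≤ M) (ht : cj t M = M) {g : G}
    (hgb : g * b = b * g) (hgz : g * z = z * g) : ∀ d ∈ D, g * d * g⁻¹ ∈ D := by
  have := C.fin
  have hg : cj g M = M := by
    by_contra hne
    have h1 := (hM.conj_of_comm hgb).comm hM hne
    apply h.z1
    apply h.eq_one_L h.zL
    intro l hl
    have h2 : z ∈ cj g M := by
      rw [mem_cj]
      have h3 : g⁻¹ * z * g = z := by rw [mul_assoc, ← hgz, ← mul_assoc, inv_mul_cancel, one_mul]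
      rw [h3]
      exact hLM h.zL
    exact comm_elt h1 h2 (hLM hl)
  have key : ∀ d ∈ D, Odd (orderOf d) → g * d * g⁻¹ ∈ D := by
    intro d hd ho
    apply h.odd_mem C hS S hK hM hLM ht
    · have := conj_mem_cj (g := g) (hLM (h.DL hd))
      rwa [hg] at this
    · have hc1 : Commute g z := hgz
      have hc2 : Commute d z := h.Dz d hd
      exact (hc1.mul_left hc2).mul_left hc1.inv_left
    · rwa [orderOf_conj]
  have h1 : D ≤ D.comap (MulAut.conj g).toMonoidHom :=
    h.gen.trans ((closure_le _).2 (fun x hx => key x hx.1 hx.2))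
  exact fun d hd => h1 hd

/-! ### the diagonal case -/

variable {M : Subgroup G}

/-- in the diagonal case `Z(M) = 1` -/
theorem center_eq_bot (h : Data t z b D R L F) (C : Ctx G) (hN : ∀ K : Subgroup G, CompOf b K → ¬ NI3.HasY ↥K)
    (hM : Comp b M) (ht : cj t M ≠ M) (hML : ∀ m ∈ M, m * (t * m * t⁻¹) ∈ L)
    (hLM : ∀ l ∈ L, ∃ m ∈ M, l = m * (t * m * t⁻¹)) : center M = ⊥ := by
  have := C.fin
  by_contra hne
  have hcomp : CompOf b M := ⟨hM.le, hM.comp⟩
  have hZ : IsPGroup 2 (center M) := Soft.CompOf.center_isPGroup (C.bal b h.b_ord) hcomp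
  have hMt := hM.conj_of_comm (g := t) h.bt.symm
  have hcom : ∀ m ∈ M, ∀ n ∈ M, m * (t * n * t⁻¹) = (t * n * t⁻¹) * m := by
    intro m hm n hn
    exact (comm_elt (hMt.comm hM ht) (conj_mem_cj hn) hm).symm
  -- the diagonal homomorphism
  let φ : M →* L :=
    { toFun := fun m => ⟨m * (t * m * t⁻¹), hML m m.2⟩
      map_one' := Subtype.ext (by
        show (1 : G) * (t * 1 * t⁻¹) = 1
        group)
      map_mul' := fun m n => Subtype.ext (by
        show ((m : G) * n) * (t * (m * n) * t⁻¹) = (m * (t * m * t⁻¹)) * (n * (t * n * t⁻¹))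
        have h1 := hcom n n.2 m m.2
        calc ((m : G) * n) * (t * (m * n) * t⁻¹) = m * (n * (t * m * t⁻¹)) * (t * n * t⁻¹) := by group
          _ = m * ((t * m * t⁻¹) * n) * (t * n * t⁻¹) := by rw [h1]
          _ = (m * (t * m * t⁻¹)) * (n * (t * n * t⁻¹)) := by group) }
  have hφc : ∀ m : M, ((φ m : L) : G) = m * (t * m * t⁻¹) := fun _ => rfl
  have hφs : Function.Surjective φ := by
    rintro ⟨l, hl⟩
    obtain ⟨m, hm, h1⟩ := hLM l hl
    exact ⟨⟨m, hm⟩, Subtype.ext h1.symm⟩
  have hker : φ.ker = center M := by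
    ext m
    rw [MonoidHom.mem_ker]
    constructor
    · intro h1
      have h2 : (m : G) * (t * m * t⁻¹) = 1 := congrArg Subtype.val h1
      rw [mem_center_iff]
      intro n
      apply Subtype.ext
      have h3 := hcom n n.2 m m.2
      have h4 : t * (m : G) * t⁻¹ = (m : G)⁻¹ := (inv_eq_of_mul_eq_one_right h2).symm
      rw [h4] at h3
      show (n : G) * m = m * n
      calc (n : G) * m = m * ((m : G)⁻¹ * n) * m := by group
        _ = m * (n * (m : G)⁻¹) * m := by rw [h3]
        _ = m * n := by group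
    · intro h1
      apply Subtype.ext
      apply h.eq_one_L (φ m).2
      intro l hl
      obtain ⟨n, hn, rfl⟩ := hLM l hl
      have h2 : ((φ m : L) * (φ ⟨n, hn⟩ : L)) = φ ⟨n, hn⟩ * φ m := by
        rw [← map_mul, ← map_mul, mem_center_iff.1 h1 ⟨n, hn⟩]
      exact congrArg Subtype.val h2
  -- `M / Z(M) ≅ PSp₄(3)`
  obtain ⟨e⟩ := h.iso
  have e1 : M ⧸ center M ≃* PSp 2 F :=
    ((QuotientGroup.quotientMulEquivOfEq hker.symm).trans (QuotientGroup.quotientKerEquivOfSurjective φ hφs)).trans e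
  exact hN M hcomp (RefIntr.hasY hM.quasi hZ hne h.hF e1)

/-- **the diagonal case** -/
theorem diagAt (h : Data t z b D R L F) (C : Ctx G) (hN : ∀ K : Subgroup G, CompOf b K → ¬ NI3.HasY ↥K)
    (hM : Comp b M) (ht : cj t M ≠ M) (hML : ∀ m ∈ M, m * (t * m * t⁻¹) ∈ L)
    (hLM : ∀ l ∈ L, ∃ m ∈ M, l = m * (t * m * t⁻¹)) : DiagAt t z b D M L := by
  have := C.fin
  have hZ := h.center_eq_bot C hN hM ht hML hLM
  have hMt := hM.conj_of_comm (g := t) h.bt.symm
  have hcom : ∀ m ∈ M, ∀ n ∈ M, m * (t * n * t⁻¹) = (t * n * t⁻¹) * m := by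
    intro m hm n hn
    exact (comm_elt (hMt.comm hM ht) (conj_mem_cj hn) hm).symm
  have hcen : ∀ m ∈ M, (∀ n ∈ M, m * n = n * m) → m = 1 := by
    intro m hm h1
    have h2 : (⟨m, hm⟩ : M) ∈ center M := by
      rw [mem_center_iff]
      intro n
      exact Subtype.ext (h1 n n.2).symm
    rw [hZ, mem_bot] at h2
    exact congrArg Subtype.val h2
  have hdis : ∀ m ∈ M, t * m * t⁻¹ ∈ M → m = 1 := by
    intro m hm h1
    have h2 : t * m * t⁻¹ = 1 := hcen _ h1 (fun n hn => (hcom n hn m hm).symm)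
    calc m = t⁻¹ * (t * m * t⁻¹) * t := by group
      _ = 1 := by rw [h2]; group
  refine ⟨fun m hm => mem_cs.1 (hM.le hm), hcom, hdis, ?_, hML, ?_, h.DL, ?_⟩
  · intro g hgz hgb
    by_contra hne
    push Not at hne
    have hgM := hM.conj_of_comm hgb
    have h1 := hgM.comm hM hne.1
    have h2 := hgM.comm hMt hne.2
    obtain ⟨m, hm, hz⟩ := hLM z h.zL
    -- `z` centralises `cj g M`, so `M`
    have h3 : ∀ n ∈ M, z * n = n * z := by
      intro n hn
      have h4 : (g * n * g⁻¹) * z = z * (g * n * g⁻¹) := by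
        have h5 := comm_elt h1 (conj_mem_cj (g := g) hn) hm
        have h6 := comm_elt h2 (conj_mem_cj (g := g) hn) (conj_mem_cj (g := t) hm)
        have c1 : Commute (g * n * g⁻¹) m := h5
        have c2 : Commute (g * n * g⁻¹) (t * m * t⁻¹) := h6
        rw [hz]
        exact c1.mul_right c2
      have c3 : Commute g z := hgz
      have c4 : Commute (g * n * g⁻¹) z := h4
      have c5 : Commute (g⁻¹ * (g * n * g⁻¹) * g) z := (c3.inv_left.mul_left c4).mul_left c3
      have e : g⁻¹ * (g * n * g⁻¹) * g = n := by group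
      rw [e] at c5
      exact c5.symm
    have h4 : m = 1 := by
      apply hcen m hm
      intro n hn
      have h5 := h3 n hn
      rw [hz] at h5
      have h6 := hcom n hn m hm
      have c1 : Commute n (t * m * t⁻¹) := h6
      have c2 : Commute (m * (t * m * t⁻¹)) n := h5
      have c3 : Commute (m * (t * m * t⁻¹) * (t * m * t⁻¹)⁻¹) n := c2.mul_left c1.symm.inv_left
      rw [mul_inv_cancel_right] at c3
      exact c3
    apply h.z1
    rw [hz, h4]; group
  · intro l hl
    obtain ⟨m, hm, h1⟩ := hLM l hl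
    exact ⟨m, hm, h1.symm⟩
  · refine Diag.sn_of_conj ?_
    rintro x ⟨hx1, hx2⟩ d hd
    exact h.nD x hx1 (mem_cs.1 hx2) d hd

/-- **The reflections.** -/
theorem main (h : Data t z b D R L F) (C : Ctx G) (hS : SpOrd.{u}) {K : Subgroup G} (S : Std G K)
    (hK : Nat.card K ≤ 6531840) (hN : ∀ K : Subgroup G, CompOf b K → ¬ NI3.HasY ↥K) :
    (∀ g, g * b = b * g → g * z = z * g → ∀ d ∈ D, g * d * g⁻¹ ∈ D) ∨
      ∃ M L' : Subgroup G, Comp b M ∧ L' = L ∧ DiagAt t z b D M L' := by
  have := C.fin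
  have heven : 2 ∣ Nat.card L := by rw [h.card_L]; norm_num
  obtain ⟨M, hM, h1 | ⟨h1, h2⟩ | ⟨h1, h2, h3⟩⟩ := D8.PumpX.pump (C.bal b h.b_ord) h.tt h.bt
    (fun l hl => mem_cs.2 (h.Lb l hl)) (fun l hl => mem_cs.2 (h.Lt l hl)) h.quasi_L heven h.sub
  · left
    intro g hgb hgz
    refine h.norm_of_le C hS S hK hM h1.le ?_ hgb hgz
    rw [← h1]
    apply le_antisymm
    · rintro _ ⟨l, hl, rfl⟩
      show t * l * t⁻¹ ∈ L
      rw [← h.Lt l hl, mul_inv_cancel_right]
      exact hl
    · intro l hl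
      rw [mem_cj, mul_assoc, h.Lt l hl]
      have e : t⁻¹ * (t * l) = l := by group
      rw [e]
      exact hl
  · left
    intro g hgb hgz
    exact h.norm_of_le C hS S hK hM h1.le h2 hgb hgz
  · right
    exact ⟨M, L, hM, rfl, h.diagAt C hN hM h1 h2 h3⟩

/-- helper948's form -/
theorem ref (h : Data t z b D R L F) (C : Ctx G) (hS : SpOrd.{u}) {K : Subgroup G} (S : Std G K)
    (hK : Nat.card K ≤ 6531840) (hN : ∀ K : Subgroup G, CompOf b K → ¬ NI3.HasY ↥K) {J : Subgroup G}
    (hJD : J ≤ D) (hJ : (J.subgroupOf D).IsSubnormal) : DiagEnd.Ref t z b D J := by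
  rcases h.main C hS S hK hN with h1 | ⟨M, L', -, -, h1⟩
  · left
    refine Diag.sn_chain hJD hJ (Diag.sn_of_conj ?_)
    rintro g ⟨hg1, hg2⟩ d hd
    exact h1 g (mem_cs.1 hg1) (mem_cs.1 hg2) d hd
  · exact Or.inr ⟨M, L', h1⟩

end Data

end Cfsg.Agent.OddHalf.D6.QThree.RefOf

end
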