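import Cfsg.Agent.KFacts.LFourThree.Facts
import Cfsg.Agent.ClassicalGeometry.AutPSL.Main
import Cfsg.Agent.OddHalf.D6.QThree.FactsOut

-- merged: Cfsg.Agent.OddHalf.D6.QThree.L43Aut
section

/-!
# ODD half, D6, `q = 3`: `L₄(3) = PSL(4, 3)`, the automorphisms trivial on `R = O₂(C(z))` (helper76)

* `two_forms`: every automorphism is `lift (cj A)` or `lift (cj A) * lift itr`, `A ∈ GL(4, 3)`.
* `r = lift (conj (ij') ∘ inverse transpose)`: an involution, trivial on `C_K(z)`.
* `main`: an automorphism trivial on `R` is `1`, `z`, `r` or `z r`.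
-/

set_option autoImplicit false

namespace Cfsg.Agent.OddHalf.D6.QThree.L43Aut

open Matrix
open Cfsg.Agent.KFacts.LFourThree
open Cfsg.Agent.ClassicalGeometry.AutPSL.Auto

abbrev GL4 := GL (Fin 4) F3

/-- the alternating matrix `diag(I₂, I₂)` -/
def eC : SL4 := eI * eK

theorem eC_sq : eC * eC = m1 := by decide +kernel

theorem eC_val : eC.1 = bd I2.1 I2.1 := by decide +kernel

/-- `A ↦ C A⁻ᵀ C⁻¹` -/
def rS : MulAut SL4 := MulAut.conj eC * itr

/-- the graph automorphism centralising `C_K(z)` -/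
noncomputable def r : MulAut L := lift rS

theorem lift_conj (A : SL4) : lift (MulAut.conj A) = MulAut.conj (pr A) := by
  apply MulEquiv.ext
  intro x
  obtain ⟨x, rfl⟩ := pr_surj x
  rfl

theorem lift_pr' (e : MulAut SL4) (x : SL4) : lift e (pr x) = pr (e x) := rfl

theorem itr_conj (A : SL4) : (itr * MulAut.conj A : MulAut SL4) = MulAut.conj (itr A) * itr := by
  apply MulEquiv.ext
  intro x
  change itr (A * x * A⁻¹) = itr A * itr x * (itr A)⁻¹
  rw [map_mul, map_mul, map_inv]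

theorem itr_eC : itr eC = eC := by decide +kernel

theorem rS_sq : rS * rS = MulAut.conj m1 := by
  calc rS * rS = MulAut.conj eC * (itr * MulAut.conj eC) * itr := by simp only [rS, mul_assoc]
    _ = MulAut.conj eC * MulAut.conj eC * (itr * itr) := by rw [itr_conj, itr_eC]; simp only [mul_assoc]
    _ = MulAut.conj m1 := by rw [itr_mul_itr, mul_one, ← map_mul, eC_sq]

theorem rr : r * r = 1 := by
  rw [r, ← map_mul, rS_sq, lift_conj, pr_m1, map_one]

/-- the field of three elements has no automorphisms -/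
theorem fld_one (σ : F3 ≃+* F3) : σ = 1 := by
  ext x
  have h : ∀ x : F3, x = 0 ∨ x = 1 ∨ x = 1 + 1 := by decide
  rcases h x with rfl | rfl | rfl <;> simp

theorem two_forms (α : MulAut L) : (∃ A : GL4, α = lift (cj A)) ∨ (∃ A : GL4, α = lift (cj A) * lift itr) := by
  rcases Cfsg.Agent.ClassicalGeometry.AutPSL.Main.surj_three 3 (by norm_num) α with ⟨A, σ, h⟩ | ⟨A, σ, h⟩
  · left
    refine ⟨A, ?_⟩
    rw [h, fld_one σ, map_one, mul_one]
  · right
    refine ⟨A, ?_⟩
    rw [h, fld_one σ, map_one, mul_one, map_mul]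

/-! ### the automorphisms trivial on `R` -/

theorem cj_val (A : GL4) (g : SL4) : (cj A g).1 * A.1 = A.1 * g.1 := by
  rw [coe_cj, mul_assoc, ← Units.val_mul, inv_mul_cancel, Units.val_one, mul_one]

/-- an element of nonzero trace fixed in `PSL` is fixed in `SL` -/
theorem comm_of_fix {A : GL4} {g : SL4} (ht : g.1.trace ≠ 0) (h : lift (cj A) (pr g) = pr g) :
    A.1 * g.1 = g.1 * A.1 := by
  rw [lift_pr', pr_eq_iff] at h
  rcases h with h | h
  · rw [← cj_val, h]
  · exfalso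
    apply ht
    have h1 : (cj A g).1.trace = g.1.trace := by
      rw [coe_cj, mul_assoc, Matrix.trace_mul_comm, mul_assoc, ← Units.val_mul, inv_mul_cancel, Units.val_one,
        mul_one]
    rw [h, m1_val, Matrix.trace_smul] at h1
    have h2 : ∀ x : F3, (2 : F3) • x = x → x = 0 := by decide
    exact h2 _ h1

theorem blocks (A : M4) (hI : A * eI.1 = eI.1 * A) (hJ : A * eJ.1 = eJ.1 * A)
    (hK : A * eK.1 = eK.1 * A) (hL : A * eL.1 = eL.1 * A) :
    ∃ p q : F3, A = Matrix.diagonal ![p, p, q, q] := by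
  have key : ∀ (X : SL4), A * X.1 = X.1 * A → ∀ a b, (A * X.1) a b = (X.1 * A) a b := by
    intro X h a b; rw [h]
  have kI := key _ hI
  have kJ := key _ hJ
  have kK := key _ hK
  have kL := key _ hL
  simp [eI, eJ, eK, eL, Matrix.mul_apply, Fin.sum_univ_four, Fin.forall_fin_succ] at kI kJ kK kL
  have e2 : ∀ x : F3, x * 2 = x → x = 0 := by decide
  obtain ⟨⟨i1, i2, i3, i4⟩, -, ⟨-, i5⟩, -, i6⟩ := kI
  obtain ⟨⟨j1, -, j2, j3⟩, -, ⟨j4, -⟩, j5, -⟩ := kJ
  obtain ⟨-, -, ⟨-, -, k1, k2⟩, -⟩ := kK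
  obtain ⟨-, -, ⟨-, -, l1, -⟩, -⟩ := kL
  have a01 : A 0 1 = 0 := e2 _ (by rw [i1, j1])
  have a23 : A 2 3 = 0 := e2 _ (by rw [k1, l1])
  have a10 : A 1 0 = 0 := by rw [← j1, a01]
  have a32 : A 3 2 = 0 := by rw [← l1, a23]
  have a20 : A 2 0 = 0 := by rw [i5, j4]
  have a30 : A 3 0 = 0 := by rw [i6, j5]
  have a02 : A 0 2 = 0 := by rw [i3, j2]
  have a03 : A 0 3 = 0 := by rw [i4, j3]
  refine ⟨A 0 0, A 2 2, ?_⟩
  ext a b
  fin_cases a <;> fin_cases b <;>
    simp [a01, a23, a10, a32, a20, a30, a02, a03, j2, j3, j4, j5, i2, k2]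

theorem cj_one {A : GL4} {p : F3} (h : A.1 = Matrix.diagonal ![p, p, p, p]) : cj A = 1 := by
  apply MulEquiv.ext
  intro g
  apply Subtype.ext
  have h1 : A.1 = p • (1 : M4) := by
    rw [h]
    ext a b
    fin_cases a <;> fin_cases b <;> simp
  have h2 : A.1 * g.1 = g.1 * A.1 := by
    rw [h1, Matrix.smul_mul, Matrix.mul_smul, one_mul, mul_one]
  rw [coe_cj, h2, mul_assoc, ← Units.val_mul, mul_inv_cancel, Units.val_one, mul_one]
  rfl

theorem smul_eZ : ∀ p : F3, Matrix.diagonal ![p, p, 2 * p, 2 * p] = (2 * p : F3) • eZ.1 := by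
  decide +kernel

/-- an element of `GL` centralising `Q₈ ∘ Q₈` induces `1` or `z` -/
theorem cj_of_comm {A : GL4} (hI : A.1 * eI.1 = eI.1 * A.1) (hJ : A.1 * eJ.1 = eJ.1 * A.1)
    (hK : A.1 * eK.1 = eK.1 * A.1) (hL : A.1 * eL.1 = eL.1 * A.1) :
    cj A = 1 ∨ cj A = MulAut.conj eZ := by
  obtain ⟨p, q, h⟩ := blocks A.1 hI hJ hK hL
  have hdet : A.1.det ≠ 0 := by
    have := A.isUnit.map (Matrix.detMonoidHom)
    exact this.ne_zero
  rw [h, Matrix.det_diagonal, Fin.prod_univ_four] at hdet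
  have hp : p ≠ 0 := by rintro rfl; simp at hdet
  have hq : q ≠ 0 := by rintro rfl; simp at hdet
  have key : ∀ p q : F3, p ≠ 0 → q ≠ 0 → q = p ∨ q = 2 * p := by decide
  rcases key p q hp hq with rfl | rfl
  · exact Or.inl (cj_one h)
  · right
    have h1 : A.1 = (2 * p : F3) • eZ.1 := by rw [h, smul_eZ]
    apply MulEquiv.ext
    intro g
    apply Subtype.ext
    have h3 : eZ.1 * g.1 = (eZ * g * eZ⁻¹).1 * eZ.1 := by
      rw [← Matrix.SpecialLinearGroup.coe_mul, ← Matrix.SpecialLinearGroup.coe_mul, inv_mul_cancel_right]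
    have h2 : A.1 * g.1 = (eZ * g * eZ⁻¹).1 * A.1 := by
      rw [h1, Matrix.smul_mul, Matrix.mul_smul, h3]
    rw [coe_cj, h2, mul_assoc, ← Units.val_mul, mul_inv_cancel, Units.val_one, mul_one, MulAut.conj_apply]

theorem fix_inner {A : GL4} (hi : lift (cj A) i = i) (hj : lift (cj A) j = j) (hk : lift (cj A) k = k)
    (hl : lift (cj A) l = l) : lift (cj A) = 1 ∨ lift (cj A) = MulAut.conj z := by
  have tI : eI.1.trace ≠ 0 := by decide +kernel
  have tJ : eJ.1.trace ≠ 0 := by decide +kernel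
  have tK : eK.1.trace ≠ 0 := by decide +kernel
  have tL : eL.1.trace ≠ 0 := by decide +kernel
  rcases cj_of_comm (comm_of_fix tI hi) (comm_of_fix tJ hj) (comm_of_fix tK hk) (comm_of_fix tL hl) with h | h
  · left; rw [h, map_one]
  · right; rw [h, lift_conj, z]

theorem r_pr {A : SL4} (h : rS A = A ∨ rS A = m1 * A) : r (pr A) = pr A := by
  rw [r, lift_pr', pr_eq_iff]
  exact h

theorem ri : r i = i := r_pr (by decide +kernel)
theorem rj : r j = j := r_pr (by decide +kernel)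
theorem rk : r k = k := r_pr (by decide +kernel)
theorem rl : r l = l := r_pr (by decide +kernel)
theorem rx₁ : r x₁ = x₁ := r_pr (by decide +kernel)
theorem rx₂ : r x₂ = x₂ := r_pr (by decide +kernel)
theorem ry : r y = y := r_pr (by decide +kernel)
theorem rs : r s = s := r_pr (by decide +kernel)
theorem rz : r z = z := r_pr (by decide +kernel)

theorem lift_itr_mul_r : lift itr * r = MulAut.conj (pr eC) := by
  rw [r, rS, ← map_mul, ← mul_assoc, itr_conj, itr_eC, mul_assoc, itr_mul_itr, mul_one, lift_conj]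

/-- **the automorphisms trivial on `R`** -/
theorem main {α : MulAut L} (hi : α i = i) (hj : α j = j) (hk : α k = k) (hl : α l = l) :
    α = 1 ∨ α = MulAut.conj z ∨ α = r ∨ α = MulAut.conj z * r := by
  rcases two_forms α with ⟨A, rfl⟩ | ⟨A, rfl⟩
  · rcases fix_inner hi hj hk hl with h | h
    · exact Or.inl h
    · exact Or.inr (Or.inl h)
  · have h1 : lift (cj A) * lift itr * r = lift (cj (A * Matrix.SpecialLinearGroup.toGL eC)) := by
      rw [mul_assoc, lift_itr_mul_r, ← lift_conj, ← map_mul, map_mul cj]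
      congr 2
    have e : ∀ x, r x = x → lift (cj A) (lift itr x) = x →
        lift (cj (A * Matrix.SpecialLinearGroup.toGL eC)) x = x := by
      intro x h2 h3
      rw [← h1]
      change lift (cj A) (lift itr (r x)) = x
      rw [h2, h3]
    have h2 : lift (cj A) * lift itr = lift (cj (A * Matrix.SpecialLinearGroup.toGL eC)) * r := by
      rw [← h1, mul_assoc, rr, mul_one]
    rcases fix_inner (e i ri hi) (e j rj hj) (e k rk hk) (e l rl hl) with h | h
    · right; right; left; rw [h2, h, one_mul]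
    · right; right; right; rw [h2, h]

end Cfsg.Agent.OddHalf.D6.QThree.L43Aut

end

-- merged: Cfsg.Agent.OddHalf.D6.QThree.L43AutD
section

/-!
# ODD half, D6, `q = 3`: `L₄(3)`, the group `D = O²(C(z))`, the outer automorphisms (helper76)

* `mem_OD`: `OD z = {pr (b M N)}`; `R ≤ OD z`; `r` is trivial on `C_K(z)`.
* `cent_OD`, `cent_syl`: `C_Aut(D) = C_Aut(S) = {1, z, r, z r}` for `R ≤ S ≤ C_K(z)`.
* `four_forms`: every automorphism is inner times `1`, `δ`, `r` or `δ r`; `δ² = 1`, `δ r δ⁻¹ = z r`.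
-/

set_option autoImplicit false

namespace Cfsg.Agent.OddHalf.D6.QThree.L43Aut

open Matrix
open Cfsg.Agent.KFacts.LFourThree
open Cfsg.Agent.ClassicalGeometry.AutPSL.Auto
open Cfsg.Agent.OddHalf.D6.QThree.FactsOut (OD)

/-! ### `D` -/

theorem cz {g : L} (h : g ∈ ({i, j, k, l, x₁, x₂, y, s} : Set L)) : g * z = z * g := z_comm h

theorem OD_of_cube {g : L} (h1 : g * z = z * g) (h2 : g ^ 3 = 1) : g ∈ OD z :=
  Subgroup.subset_closure ⟨h1, Facts.odd_of_cube h2⟩

theorem x₁_mem : x₁ ∈ OD z := OD_of_cube (cz (by simp)) x₁3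
theorem x₂_mem : x₂ ∈ OD z := OD_of_cube (cz (by simp)) x₂3

theorem comm_conj {a g : L} (ha : a * z = z * a) (hg : g * z = z * g) : a * g * a⁻¹ * z = z * (a * g * a⁻¹) := by
  have h1 : Commute a z := ha
  have h2 : Commute g z := hg
  exact ((h1.mul_left h2).mul_left h1.inv_left).eq

theorem conj_mem_OD {a g : L} (ha : a * z = z * a) (hg : g ∈ OD z) : a * g * a⁻¹ ∈ OD z := by
  induction hg using Subgroup.closure_induction with
  | mem x hx =>
    refine Subgroup.subset_closure ⟨comm_conj ha hx.1, ?_⟩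
    have : orderOf (a * x * a⁻¹) = orderOf x := by
      rw [← MulAut.conj_apply, MulEquiv.orderOf_eq]
    rw [this]
    exact hx.2
  | one => rw [mul_one, mul_inv_cancel]; exact one_mem _
  | mul x y _ _ hx hy =>
    have : a * (x * y) * a⁻¹ = (a * x * a⁻¹) * (a * y * a⁻¹) := by group
    rw [this]; exact mul_mem hx hy
  | inv x _ hx =>
    have : a * x⁻¹ * a⁻¹ = (a * x * a⁻¹)⁻¹ := by group
    rw [this]; exact inv_mem hx

theorem i_mem : i ∈ OD z := by
  have h1 : i * x₁ * i⁻¹ ∈ OD z := conj_mem_OD (cz (by simp)) x₁_mem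
  have e : i = x₁ * (x₁ * (i * x₁ * i⁻¹)⁻¹) * x₁⁻¹ := by
    have e1 : i⁻¹ = pr (eI⁻¹) := (map_inv pr eI).symm
    have e2 : x₁⁻¹ = pr (eX₁⁻¹) := (map_inv pr eX₁).symm
    have e3 : (i * x₁ * i⁻¹)⁻¹ = i * x₁⁻¹ * i⁻¹ := by group
    rw [e3, e1, e2]
    simp only [i, x₁, ← map_mul]
    exact pm (by decide +kernel)
  rw [e]
  exact mul_mem (mul_mem x₁_mem (mul_mem x₁_mem (inv_mem h1))) (inv_mem x₁_mem)

theorem k_mem : k ∈ OD z := by
  have h1 : k * x₂ * k⁻¹ ∈ OD z := conj_mem_OD (cz (by simp)) x₂_mem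
  have e : k = x₂ * (x₂ * (k * x₂ * k⁻¹)⁻¹) * x₂⁻¹ := by
    have e1 : k⁻¹ = pr (eK⁻¹) := (map_inv pr eK).symm
    have e2 : x₂⁻¹ = pr (eX₂⁻¹) := (map_inv pr eX₂).symm
    have e3 : (k * x₂ * k⁻¹)⁻¹ = k * x₂⁻¹ * k⁻¹ := by group
    rw [e3, e1, e2]
    simp only [k, x₂, ← map_mul]
    exact pm (by decide +kernel)
  rw [e]
  exact mul_mem (mul_mem x₂_mem (mul_mem x₂_mem (inv_mem h1))) (inv_mem x₂_mem)

theorem j_mem : j ∈ OD z := by
  have h : j = x₁ * i * x₁⁻¹ := x₁_act.i.symm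
  rw [h]
  exact mul_mem (mul_mem x₁_mem i_mem) (inv_mem x₁_mem)

theorem l_mem : l ∈ OD z := by
  have h : l = x₂ * k * x₂⁻¹ := x₂_act.k.symm
  rw [h]
  exact mul_mem (mul_mem x₂_mem k_mem) (inv_mem x₂_mem)

theorem Q_le_OD : Q ≤ OD z := by
  rw [Q, Subgroup.closure_le]
  rintro g hg
  simp only [Set.mem_insert_iff, Set.mem_singleton_iff] at hg
  rcases hg with rfl | rfl | rfl | rfl
  · exact i_mem
  · exact j_mem
  · exact k_mem
  · exact l_mem

/-- `D` as a group of matrices -/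
def DD : Subgroup L where
  carrier := {g | ∃ M N : SL2, pr (b M N) = g}
  mul_mem' := by
    rintro _ _ ⟨M, N, rfl⟩ ⟨M', N', rfl⟩
    exact ⟨M * M', N * N', by rw [← map_mul, b_mul]⟩
  one_mem' := ⟨1, 1, by rw [b_eq, map_one, map_one, one_mul, map_one]⟩
  inv_mem' := by
    rintro _ ⟨M, N, rfl⟩
    refine ⟨M⁻¹, N⁻¹, ?_⟩
    rw [eq_inv_iff_mul_eq_one, ← map_mul, b_mul, inv_mul_cancel, inv_mul_cancel, b_eq, map_one, map_one, one_mul,
      map_one]

theorem mem_DD {g : L} : g ∈ DD ↔ ∃ M N : SL2, pr (b M N) = g := Iff.rfl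

theorem DD_le : DD ≤ OD z := by
  rintro _ ⟨M, N, rfl⟩
  rw [b_eq, map_mul]
  refine mul_mem (mem_of_word b₁ ?_ ?_ ?_ M) (mem_of_word b₂ ?_ ?_ ?_ N)
  · rw [b₁_I]; exact i_mem
  · rw [b₁_J]; exact j_mem
  · rw [b₁_X]; exact x₁_mem
  · rw [b₂_I]; exact k_mem
  · rw [b₂_J]; exact l_mem
  · rw [b₂_X]; exact x₂_mem

theorem det_yc (M : SL2) (c : Bool) : (M.1 * yc c).det = (yc c).det := by rw [det_mul, M.2, one_mul]

theorem sq_mem_DD {g : L} (hg : g * z = z * g) : g * g ∈ DD := by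
  obtain ⟨A, rfl⟩ := pr_surj g
  rw [comm_pr] at hg
  obtain ⟨⟨M, N, c, e⟩, rfl⟩ := exists_phi hg
  have hd : ∀ c, (yc c).det * (yc c).det = 1 := by decide +kernel
  cases e
  · have hv : (phi (M, N, c, false)).1 = bd (M.1 * yc c) (N.1 * yc c) := by
      rw [← by_val]
      change ((b M N * (if c then eY else 1)).1 * 1) = _
      rw [mul_one]
    refine ⟨⟨(M.1 * yc c) * (M.1 * yc c), ?_⟩, ⟨(N.1 * yc c) * (N.1 * yc c), ?_⟩, ?_⟩
    · rw [det_mul, det_yc, hd]
    · rw [det_mul, det_yc, hd]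
    · rw [← map_mul]
      congr 1
      apply Subtype.ext
      change bd _ _ = (phi (M, N, c, false)).1 * (phi (M, N, c, false)).1
      rw [hv, bd_mul]
  · have hv : (phi (M, N, c, true)).1 = bd (M.1 * yc c) (N.1 * yc c) * eS.1 := by
      rw [← by_val]; rfl
    have hs : ∀ P R : M2, eS.1 * bd P R = bd R P * eS.1 := by
      intro P R
      ext a b
      fin_cases a <;> fin_cases b <;> simp [eS, bd, Matrix.mul_apply, Fin.sum_univ_four]
    have hss : eS.1 * eS.1 = 1 := congrArg Subtype.val eS_sq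
    refine ⟨⟨(M.1 * yc c) * (N.1 * yc c), ?_⟩, ⟨(N.1 * yc c) * (M.1 * yc c), ?_⟩, ?_⟩
    · rw [det_mul, det_yc, det_yc, hd]
    · rw [det_mul, det_yc, det_yc, hd]
    · rw [← map_mul]
      congr 1
      apply Subtype.ext
      have h5 : (phi (M, N, c, true)).1 * (phi (M, N, c, true)).1 =
          bd ((M.1 * yc c) * (N.1 * yc c)) ((N.1 * yc c) * (M.1 * yc c)) := by
        have h6 : eS.1 * (bd (M.1 * yc c) (N.1 * yc c) * eS.1) = bd (N.1 * yc c) (M.1 * yc c) := by
          rw [← mul_assoc, hs, mul_assoc, hss, mul_one]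
        rw [hv, mul_assoc, h6, bd_mul]
      exact h5.symm

theorem OD_eq : OD z = DD := by
  apply le_antisymm _ DD_le
  rw [OD, Subgroup.closure_le]
  rintro g ⟨h1, n, h2⟩
  have h3 : g * g ∈ DD := sq_mem_DD h1
  have h4 : g = (g * g) ^ (n + 1) := by
    have h5 : g ^ (2 * n + 1) = 1 := by rw [← h2]; exact pow_orderOf_eq_one g
    calc g = g ^ (2 * n + 1) * g := by rw [h5, one_mul]
      _ = g ^ (2 * (n + 1)) := by rw [← pow_succ]; congr 1
      _ = (g * g) ^ (n + 1) := by rw [pow_mul, pow_two]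
  rw [h4]
  exact pow_mem h3 _

theorem mem_OD {g : L} : g ∈ OD z ↔ ∃ M N : SL2, pr (b M N) = g := by rw [OD_eq, mem_DD]

/-! ### the automorphisms trivial on `D`, on `S` -/

/-- `C_K(r)` -/
def CR : Subgroup L where
  carrier := {x | r x = x}
  mul_mem' := by
    intro a b ha hb
    change r (a * b) = a * b
    rw [map_mul]
    change r a = a at ha
    change r b = b at hb
    rw [ha, hb]
  one_mem' := map_one r
  inv_mem' := by
    intro a ha
    change r a = a at ha
    change r a⁻¹ = a⁻¹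
    rw [map_inv, ha]

theorem mem_CR {x : L} : x ∈ CR ↔ r x = x := Iff.rfl

/-- `r` is trivial on `C_K(z)` -/
theorem r_cent {x : L} (hx : x * z = z * x) : r x = x := by
  have h1 : x ∈ Subgroup.centralizer ({z} : Set L) := Subgroup.mem_centralizer_singleton_iff.2 hx
  rw [cent_eq] at h1
  have h2 : Subgroup.closure {i, j, k, l, x₁, x₂, y, s} ≤ CR := by
    rw [Subgroup.closure_le]
    intro x hx
    simp only [Set.mem_insert_iff, Set.mem_singleton_iff] at hx
    rcases hx with rfl | rfl | rfl | rfl | rfl | rfl | rfl | rfl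
    · exact ri
    · exact rj
    · exact rk
    · exact rl
    · exact rx₁
    · exact rx₂
    · exact ry
    · exact rs
  exact h2 h1

theorem r_ne : r ≠ 1 := by
  intro h
  have h1 : r Facts.g = Facts.g := by rw [h]; rfl
  rw [r, Facts.g, lift_pr', pr_eq_iff] at h1
  revert h1
  decide +kernel

theorem r_ne_z : r ≠ MulAut.conj z := by
  intro h
  have h1 : r Facts.g = MulAut.conj z Facts.g := by rw [h]
  rw [r, Facts.g, lift_pr', MulAut.conj_apply, z, ← map_mul, ← map_inv, ← map_mul, pr_eq_iff] at h1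
  revert h1
  decide +kernel

theorem r_comm_z : r * MulAut.conj z = MulAut.conj z * r := by
  apply MulEquiv.ext
  intro x
  change r (z * x * z⁻¹) = z * r x * z⁻¹
  rw [map_mul, map_mul, map_inv, rz]

/-- `C_Aut(D) = {1, z, r, z r}` (the condition `α z = z` is not needed) -/
theorem cent_OD {α : MulAut L} (h : ∀ x, x * z = z * x → Odd (orderOf x) → α x = x) :
    α = 1 ∨ α = MulAut.conj z ∨ α = r ∨ α = MulAut.conj z * r := by
  have h1 : ∀ x ∈ OD z, α x = x := by
    intro x hx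
    induction hx using Subgroup.closure_induction with
    | mem x hx => exact h x hx.1 hx.2
    | one => exact map_one α
    | mul x y _ _ hx hy => rw [map_mul, hx, hy]
    | inv x _ hx => rw [map_inv, hx]
  exact main (h1 _ i_mem) (h1 _ j_mem) (h1 _ k_mem) (h1 _ l_mem)

/-- `C_Aut(S) = {1, z, r, z r}` for `R ≤ S` -/
theorem cent_syl {α : MulAut L} {S : Subgroup L} (hS : Q ≤ S) (h : ∀ x ∈ S, α x = x) :
    α = 1 ∨ α = MulAut.conj z ∨ α = r ∨ α = MulAut.conj z * r :=
  main (h _ (hS (gen_mem (by simp)))) (h _ (hS (gen_mem (by simp)))) (h _ (hS (gen_mem (by simp))))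
    (h _ (hS (gen_mem (by simp))))

/-! ### the outer automorphisms -/

/-- `diag(-1, 1, 1, 1)` -/
def gD : GL4 := ⟨Matrix.diagonal ![2, 1, 1, 1], Matrix.diagonal ![2, 1, 1, 1], by decide +kernel, by decide +kernel⟩

/-- the diagonal automorphism -/
noncomputable def dl : MulAut L := lift (cj gD)

theorem gD_sq : gD * gD = 1 := by
  apply Units.ext
  change gD.1 * gD.1 = 1
  decide +kernel

theorem dl_sq : dl * dl = 1 := by rw [dl, ← map_mul, ← map_mul, gD_sq, map_one, map_one]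

theorem toGL_val (B : SL4) : (Matrix.SpecialLinearGroup.toGL B : GL4).1 = B.1 := rfl

theorem cj_toGL_apply {ι F : Type*} [Fintype ι] [DecidableEq ι] [Field F] (A g : Matrix.SpecialLinearGroup ι F) :
    cj (Matrix.SpecialLinearGroup.toGL A) g = A * g * A⁻¹ := by
  rw [eq_mul_inv_iff_mul_eq]
  apply Subtype.ext
  rw [Matrix.SpecialLinearGroup.coe_mul, Matrix.SpecialLinearGroup.coe_mul, coe_cj, mul_assoc]
  have h : ((Matrix.SpecialLinearGroup.toGL A)⁻¹ : GL ι F).1 * A.1 = 1 := by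
    change ((Matrix.SpecialLinearGroup.toGL A)⁻¹ : GL ι F).1 * (Matrix.SpecialLinearGroup.toGL A).1 = 1
    rw [← Units.val_mul, inv_mul_cancel, Units.val_one]
  rw [h, mul_one]
  rfl

theorem cj_toGL (A : SL4) : cj (Matrix.SpecialLinearGroup.toGL A) = MulAut.conj A := by
  apply MulEquiv.ext
  intro g
  exact cj_toGL_apply A g

/-- matrices of determinant one -/
def mk (A : M4) (h : A.det = 1) : SL4 := ⟨A, h⟩

theorem toGL_of_det {A : GL4} (h : A.1.det = 1) : Matrix.SpecialLinearGroup.toGL (mk A.1 h) = A :=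
  Units.ext (toGL_val (mk A.1 h))

theorem cj_forms (A : GL4) : ∃ x : L, lift (cj A) = MulAut.conj x ∨ lift (cj A) = MulAut.conj x * dl := by
  have hdet : A.1.det ≠ 0 := by
    have := A.isUnit.map (Matrix.detMonoidHom)
    exact this.ne_zero
  have key : ∀ d : F3, d ≠ 0 → d = 1 ∨ d = 2 := by decide
  rcases key _ hdet with h | h
  · refine ⟨pr (mk A.1 h), Or.inl ?_⟩
    rw [← lift_conj, ← cj_toGL, toGL_of_det]
  · have h2 : (A * gD).1.det = 1 := by
      rw [Units.val_mul, det_mul, h]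
      decide +kernel
    refine ⟨pr (mk (A * gD).1 h2), Or.inr ?_⟩
    rw [← lift_conj, ← cj_toGL, toGL_of_det, dl, ← map_mul, ← map_mul, mul_assoc, gD_sq, mul_one]

theorem lift_itr_eq : lift itr = MulAut.conj (pr eC) * r := by
  rw [← lift_itr_mul_r, mul_assoc, rr, mul_one]

theorem cj_itr (A B : GL4) (h : A.1ᵀ * B.1 = 1) : cj A * itr = itr * cj B := by
  have h2 : B.1 * A.1ᵀ = 1 := mul_eq_one_comm.1 h
  have h3 : (B⁻¹ : GL4).1 = A.1ᵀ := by
    rw [← mul_one (B⁻¹ : GL4).1, ← h2, ← mul_assoc, ← Units.val_mul, inv_mul_cancel, Units.val_one, one_mul]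
  have h4 : (A⁻¹ : GL4).1ᵀ = B.1 := by
    have h5 : (A⁻¹ : GL4).1ᵀ * A.1ᵀ = 1 := by
      rw [← Matrix.transpose_mul, ← Units.val_mul, mul_inv_cancel, Units.val_one, Matrix.transpose_one]
    rw [← mul_one (A⁻¹ : GL4).1ᵀ, ← h, ← mul_assoc, h5, one_mul]
  have h6 : (A⁻¹ : GL4).1 = B.1ᵀ := by rw [← h4, Matrix.transpose_transpose]
  apply MulEquiv.ext
  intro g
  apply Subtype.ext
  have e : (itr (cj B g) : M4) = ((cj B g⁻¹ : SL4) : M4)ᵀ := by rw [coe_itr, ← map_inv]
  change (cj A (itr g) : M4) = (itr (cj B g) : M4)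
  rw [e, coe_cj, coe_cj, coe_itr, Matrix.transpose_mul, Matrix.transpose_mul, h3, h6, Matrix.transpose_transpose,
    mul_assoc]

/-- `δ r δ⁻¹ = z r` -/
theorem dl_r : dl * r = MulAut.conj z * r * dl := by
  have h1 : itr * cj gD = cj gD * itr := (cj_itr gD gD (by decide +kernel)).symm
  have h2 : gD * Matrix.SpecialLinearGroup.toGL eC = Matrix.SpecialLinearGroup.toGL (eZ * eC) * gD := by
    apply Units.ext
    change gD.1 * eC.1 = (eZ * eC).1 * gD.1
    decide +kernel
  rw [dl, r, rS, z, ← lift_conj, ← map_mul, ← map_mul, ← map_mul, ← cj_toGL, ← cj_toGL, mul_assoc (cj _) _ (cj gD),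
    mul_assoc (cj _) itr, h1, ← mul_assoc, ← map_mul, h2, map_mul Matrix.SpecialLinearGroup.toGL, map_mul cj,
    map_mul cj]
  simp only [mul_assoc]

/-- **every automorphism is inner times `1`, `δ`, `r` or `δ r`** -/
theorem four_forms (α : MulAut L) : ∃ x : L, α = MulAut.conj x ∨ α = MulAut.conj x * dl ∨
    α = MulAut.conj x * r ∨ α = MulAut.conj x * dl * r := by
  rcases two_forms α with ⟨A, rfl⟩ | ⟨A, rfl⟩
  · obtain ⟨x, h | h⟩ := cj_forms A
    · exact ⟨x, Or.inl h⟩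
    · exact ⟨x, Or.inr (Or.inl h)⟩
  · rw [lift_itr_eq]
    obtain ⟨x, h | h⟩ := cj_forms A
    · refine ⟨x * pr eC, Or.inr (Or.inr (Or.inl ?_))⟩
      rw [h, map_mul, mul_assoc]
    · refine ⟨x * dl (pr eC), Or.inr (Or.inr (Or.inr ?_))⟩
      have h2 : dl * MulAut.conj (pr eC) = MulAut.conj (dl (pr eC)) * dl := by
        apply MulEquiv.ext
        intro g
        change dl (pr eC * g * (pr eC)⁻¹) = dl (pr eC) * dl g * (dl (pr eC))⁻¹
        rw [map_mul, map_mul, map_inv]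
      rw [h, map_mul, mul_assoc, ← mul_assoc dl, h2]
      simp only [mul_assoc]

end Cfsg.Agent.OddHalf.D6.QThree.L43Aut

end
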