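import Cfsg.Agent.OddHalf.Small.U43Good
import Cfsg.Agent.ClassicalGeometry.PSUAutMain
import Cfsg.Agent.OddHalf.D6.QThree.U43Plus

-- merged: Cfsg.Agent.OddHalf.D6.QThree.U43Aut
section

/-!
# ODD half, D6, `q = 3`: the automorphisms of `U₄(3)` as semilinear matrices (helper218)

`sa hF M hM ε : MulAut (PSU 4 F 3)`, `M` unitary, `ε : Bool` (`true`: semilinear).
-/

set_option autoImplicit false
set_option linter.unusedSectionVars false

namespace Cfsg.Agent.OddHalf.D6.QThree.U43Aut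

open Matrix Cfsg Cfsg.Agent.OddHalf.Small.U43Mat Cfsg.Agent.OddHalf.Small.U43Good
open Cfsg.Agent.LieClassical.HermSiegel Cfsg.Agent.LieClassical.SUBasic
open Cfsg.Agent.ClassicalGeometry.UnitAutBasic (pr pr_surjective)
open Cfsg.Agent.ClassicalGeometry.PSUAutCount Cfsg.Agent.ClassicalGeometry.PSUAutMain

variable {F : Type*} [Field F] [CharP F 3]

/-- entrywise cube if `ε` -/
def tw (ε : Bool) (M : M4 F) : M4 F := M.map (fun x => bif ε then x ^ 3 else x)

theorem tw_false (M : M4 F) : tw false M = M := by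
  ext i j; rfl

theorem tw_true (M : M4 F) : tw true M = M.map (frobenius F 3) := rfl

theorem tw_mul (ε : Bool) (M N : M4 F) : tw ε (M * N) = tw ε M * tw ε N := by
  cases ε
  · rw [tw_false, tw_false, tw_false]
  · rw [tw_true, tw_true, tw_true, Matrix.map_mul]

theorem tw_one (ε : Bool) : tw ε (1 : M4 F) = 1 := by
  cases ε
  · rw [tw_false]
  · rw [tw_true, Matrix.map_one _ (map_zero _) (map_one _)]

theorem tw_smul_one {c : F} (hc : c ^ 3 = c) (ε : Bool) (M : M4 F) : tw ε (c • M) = c • tw ε M := by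
  cases ε
  · rw [tw_false, tw_false]
  · ext i j
    show (c * M i j) ^ 3 = c * (M i j) ^ 3
    rw [mul_pow, hc]

theorem tw_smul (ε : Bool) (c : F) (M : M4 F) : tw ε (c • M) = (bif ε then c ^ 3 else c) • tw ε M := by
  cases ε
  · rw [tw_false, tw_false]; rfl
  · ext i j
    show (c * M i j) ^ 3 = c ^ 3 * (M i j) ^ 3
    rw [mul_pow]

theorem trace_tw (ε : Bool) (M : M4 F) : (tw ε M).trace = bif ε then M.trace ^ 3 else M.trace := by
  cases ε
  · rw [tw_false]; rfl
  · rw [tw_true]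
    show ((M.map (frobenius F 3)).trace) = (M.trace) ^ 3
    have := map_sum (frobenius F 3) (fun i => M i i) Finset.univ
    exact this.symm

theorem det_tw (ε : Bool) (M : M4 F) : (tw ε M).det = bif ε then M.det ^ 3 else M.det := by
  cases ε
  · rw [tw_false]; rfl
  · rw [tw_true, ← RingHom.mapMatrix_apply, ← RingHom.map_det]
    rfl

theorem st_tw (ε : Bool) (M : M4 F) : st (tw ε M) = tw ε (st M) := by
  cases ε
  · rw [tw_false, tw_false]
  · ext i j; rfl

theorem tw_tw (h9 : ∀ x : F, x ^ 9 = x) (ε η : Bool) (M : M4 F) : tw ε (tw η M) = tw (xor ε η) M := by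
  cases ε <;> cases η
  · rw [tw_false]; rfl
  · rw [tw_false]; rfl
  · rw [tw_false]; rfl
  · ext i j
    show ((M i j) ^ 3) ^ 3 = M i j
    rw [← pow_mul, h9]

/-- the field automorphism -/
noncomputable def ph (F : Type*) [Field F] [CharP F 3] [Finite F] (ε : Bool) : F ≃+* F :=
  bif ε then RingEquiv.ofBijective (frobenius F 3)
    (Finite.injective_iff_bijective.1 (frobenius F 3).injective) else RingEquiv.refl F

theorem ph_apply [Finite F] (ε : Bool) (x : F) : ph F ε x = bif ε then x ^ 3 else x := by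
  cases ε <;> rfl

theorem map_ph [Finite F] (ε : Bool) (M : M4 F) : M.map (ph F ε) = tw ε M := by
  ext i j
  exact ph_apply ε _

theorem exists_a [Fintype F] (hF : Fintype.card F = 9) : ∃ a : F, a ^ 2 = -1 := by
  have h1 : IsSquare (-1 : F) := by
    rw [FiniteField.isSquare_neg_one_iff, hF]; norm_num
  obtain ⟨a, ha⟩ := h1
  exact ⟨a, by rw [pow_two, ← ha]⟩

theorem exists_ph [Fintype F] (hF : Fintype.card F = 9) (ρ : F ≃+* F) : ∃ ε, ρ = ph F ε := by
  obtain ⟨a, ha⟩ := exists_a hF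
  have ha0 : a ≠ 0 := by
    rintro rfl
    have : (1 : F) = 0 := by linear_combination ha
    exact one_ne_zero this
  have hc : Nat.card (F ≃+* F) = 2 :=
    Lib.FieldAutCard.card_ringAut (p := 3) (by norm_num) (by rw [hF]; norm_num)
  have hne : ph F true ≠ ph F false := by
    intro h
    have h1 := congrArg (fun r : F ≃+* F => r a) h
    simp only [ph_apply, cond_true, cond_false] at h1
    have h2 : (2 : F) * a = 0 := by linear_combination a * ha - h1
    exact (mul_ne_zero two_ne ha0) h2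
  obtain ⟨x, y, hxy, hu⟩ := Nat.card_eq_two_iff.1 hc
  have k : ∀ r : F ≃+* F, r = x ∨ r = y := by
    intro r
    have : r ∈ ({x, y} : Set (F ≃+* F)) := by rw [hu]; trivial
    simpa using this
  rcases k ρ with h | h <;> rcases k (ph F true) with h1 | h1 <;> rcases k (ph F false) with h2 | h2
  · exact ⟨true, h.trans h1.symm⟩
  · exact ⟨true, h.trans h1.symm⟩
  · exact ⟨false, h.trans h2.symm⟩
  · exact absurd (h1.trans h2.symm) hne
  · exact absurd (h1.trans h2.symm) hne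
  · exact ⟨false, h.trans h2.symm⟩
  · exact ⟨true, h.trans h1.symm⟩
  · exact ⟨true, h.trans h1.symm⟩

/-! ### Unitary matrices and `GU` -/

theorem herm_of_st {M : M4 F} (h : st M * M = 1) (u v : Fin 4 → F) :
    hermForm 4 F 3 (M *ᵥ u) (M *ᵥ v) = hermForm 4 F 3 u v := by
  have h1 : Mᵀ * M.map (frobenius F 3) = 1 := by
    have := congrArg transpose h
    rw [transpose_mul, transpose_one] at this
    exact this
  have e1 : hermForm 4 F 3 (M *ᵥ u) (M *ᵥ v) = (M *ᵥ u) ⬝ᵥ (M.map (frobenius F 3) *ᵥ (fun i => v i ^ 3)) := by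
    unfold hermForm
    rw [dotProduct]
    apply Finset.sum_congr rfl
    intro i _
    congr 1
    show (M *ᵥ v) i ^ 3 = ∑ j, (M i j) ^ 3 * (v j) ^ 3
    rw [mulVec, dotProduct]
    have := map_sum (frobenius F 3) (fun j => M i j * v j) Finset.univ
    calc (∑ j, M i j * v j) ^ 3 = ∑ j, (M i j * v j) ^ 3 := this
      _ = _ := Finset.sum_congr rfl (fun j _ => mul_pow _ _ _)
  rw [e1]
  have e2 : (M *ᵥ u) ⬝ᵥ (M.map (frobenius F 3) *ᵥ (fun i => v i ^ 3)) =
      u ⬝ᵥ ((Mᵀ * M.map (frobenius F 3)) *ᵥ (fun i => v i ^ 3)) := by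
    rw [← mulVec_mulVec, dotProduct_mulVec u Mᵀ, vecMul_transpose]
  rw [e2, h1, one_mulVec]
  rfl


theorem st_of_form {M : M4 F}
    (h : ∀ u v, hermForm 4 F 3 (M *ᵥ u) (M *ᵥ v) = hermForm 4 F 3 u v) : st M * M = 1 := by
  have h1 : Mᵀ * M.map (frobenius F 3) = 1 := by
    ext i j
    have h2 := h (Pi.single i 1) (Pi.single j 1)
    rw [mulVec_single_one, mulVec_single_one] at h2
    unfold hermForm at h2
    rw [mul_apply]
    have h3 : ∑ k, (Pi.single i (1 : F) : Fin 4 → F) k * (Pi.single j (1 : F) : Fin 4 → F) k ^ 3 =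
        (1 : M4 F) i j := by
      rw [Finset.sum_eq_single i]
      · rw [Pi.single_eq_same, one_mul, one_apply]
        by_cases hij : i = j
        · subst hij
          rw [Pi.single_eq_same, if_pos rfl, one_pow]
        · rw [Pi.single_eq_of_ne hij, if_neg hij]
          ring
      · intro k _ hk
        rw [Pi.single_eq_of_ne hk, zero_mul]
      · intro hi
        exact absurd (Finset.mem_univ i) hi
    rw [h3] at h2
    rw [← h2]
    rfl
  have h2 := congrArg transpose h1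
  rw [transpose_mul, transpose_transpose, transpose_one] at h2
  exact h2

theorem st_gm (A : Cfsg.GU 4 F 3) : st (gm A) * gm A = 1 := st_of_form (herm_gm A)

theorem exists_gu [Fintype F] (hF : Fintype.card F = 9) {M : M4 F} (h : st M * M = 1) :
    ∃ A : Cfsg.GU 4 F 3, gm A = M := by
  obtain ⟨A, hA, hm⟩ := Cfsg.Agent.ClassicalGeometry.HermOrtho.exists_GU_of_isometry (q := 3)
    (by rw [hF]; norm_num) (herm_of_st h)
  exact ⟨⟨A, hA⟩, hm⟩

theorem gm_inv (A : Cfsg.GU 4 F 3) : gm A⁻¹ = st (gm A) := by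
  calc gm A⁻¹ = (st (gm A) * gm A) * gm A⁻¹ := by rw [st_gm, one_mul]
    _ = st (gm A) := by rw [mul_assoc, gm_mul_inv, mul_one]

variable [Fintype F]

/-- the automorphism `x ↦ M x^φ M⁻¹` -/
noncomputable def sa (hF : Fintype.card F = 9) (M : M4 F) (hM : st M * M = 1) (ε : Bool) :
    MulAut (PSU 4 F 3) := toAut (exists_gu hF hM).choose (ph F ε)

theorem mat_semiConj (A : Cfsg.GU 4 F 3) (ε : Bool) (g : SU 4 F 3) :
    mat (semiConj A (ph F ε) g) = gm A * tw ε (mat g) * st (gm A) := by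
  rw [← gm_inv, ← map_ph]
  rfl

theorem sa_pr (hF : Fintype.card F = 9) {M : M4 F} (hM : st M * M = 1) (ε : Bool) (g : SU 4 F 3) :
    ∃ h : SU 4 F 3, sa hF M hM ε (pr 4 F 3 g) = pr 4 F 3 h ∧ mat h = M * tw ε (mat g) * st M := by
  refine ⟨_, toAut_pr _ _ _, ?_⟩
  rw [mat_semiConj, (exists_gu hF hM).choose_spec]

/-- the action on elements -/
theorem sa_iff (hF : Fintype.card F = 9) {M : M4 F} (hM : st M * M = 1) (ε : Bool) (g h : SU 4 F 3) :
    sa hF M hM ε (pr 4 F 3 g) = pr 4 F 3 h ↔ ∃ c : F, c ^ 4 = 1 ∧ M * tw ε (mat g) = c • (mat h * M) := by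
  obtain ⟨k, hk, hm⟩ := sa_pr hF hM ε g
  rw [hk]
  constructor
  · intro h1
    obtain ⟨c, hc, h2⟩ := mat_of_pr_eq hF h1.symm
    refine ⟨c, hc, ?_⟩
    calc M * tw ε (mat g) = M * tw ε (mat g) * (st M * M) := by rw [hM, mul_one]
      _ = mat k * M := by rw [hm, ← mul_assoc]
      _ = c • (mat h * M) := by rw [h2, Matrix.smul_mul]
  · rintro ⟨c, -, h1⟩
    refine (pr_eq_of_mat (c := c) ?_).symm
    rw [hm, h1, Matrix.smul_mul, mul_assoc, mul_st hM, mul_one]

theorem sa_of (hF : Fintype.card F = 9) {M : M4 F} (hM : st M * M = 1) (ε : Bool) {g h : SU 4 F 3}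
    (e : M * tw ε (mat g) = mat h * M) : sa hF M hM ε (pr 4 F 3 g) = pr 4 F 3 h :=
  (sa_iff hF hM ε g h).2 ⟨1, one_pow _, by rw [one_smul]; exact e⟩

theorem exists_sa (hF : Fintype.card F = 9) (α : MulAut (PSU 4 F 3)) :
    ∃ (M : M4 F) (hM : st M * M = 1) (ε : Bool), α = sa hF M hM ε := by
  obtain ⟨A, ρ, rfl⟩ := exists_toAut (q := 3) (by rw [hF]; norm_num) (by norm_num) (by norm_num) α
  obtain ⟨ε, rfl⟩ := exists_ph hF ρ
  refine ⟨gm A, st_gm A, ε, ?_⟩
  unfold sa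
  congr 1
  apply gm_inj
  rw [(exists_gu hF (st_gm A)).choose_spec]

theorem ext_pr {α β : MulAut (PSU 4 F 3)} (h : ∀ g, α (pr 4 F 3 g) = β (pr 4 F 3 g)) : α = β := by
  ext x
  obtain ⟨g, rfl⟩ := pr_surjective x
  exact h g

theorem un_mul {M N : M4 F} (hM : st M * M = 1) (hN : st N * N = 1) : st (M * N) * (M * N) = 1 := by
  rw [st_mul]
  calc st N * st M * (M * N) = st N * (st M * M) * N := by simp only [mul_assoc]
    _ = 1 := by rw [hM, mul_one, hN]

theorem un_tw (ε : Bool) {M : M4 F} (hM : st M * M = 1) : st (tw ε M) * tw ε M = 1 := by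
  rw [st_tw, ← tw_mul, hM, tw_one]

theorem un_smul {c : F} (hc : c ^ 4 = 1) {M : M4 F} (hM : st M * M = 1) : st (c • M) * (c • M) = 1 := by
  rw [st_smul, Matrix.smul_mul, Matrix.mul_smul, smul_smul, hM, ← pow_succ, hc, one_smul]

theorem sa_mul (hF : Fintype.card F = 9) {M N : M4 F} (hM : st M * M = 1) (hN : st N * N = 1)
    (ε η : Bool) : sa hF M hM ε * sa hF N hN η =
      sa hF (M * tw ε N) (un_mul hM (un_tw ε hN)) (xor ε η) := by
  have h9 : ∀ x : F, x ^ 9 = x := fun x => by rw [← hF]; exact FiniteField.pow_card x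
  apply ext_pr
  intro g
  rw [MulAut.mul_apply]
  obtain ⟨k, hk, hkm⟩ := sa_pr hF hN η g
  rw [hk]
  obtain ⟨l, hl, hlm⟩ := sa_pr hF hM ε k
  rw [hl]
  obtain ⟨r, hr, hrm⟩ := sa_pr hF (un_mul hM (un_tw ε hN)) (xor ε η) g
  rw [hr]
  apply pr_eq_of_mat (c := 1)
  rw [hrm, hlm, hkm, one_smul, tw_mul, tw_mul, tw_tw h9, st_mul, st_tw]
  simp only [mul_assoc]

theorem sa_smul (hF : Fintype.card F = 9) {M N : M4 F} (hM : st M * M = 1) (hN : st N * N = 1)
    (ε : Bool) {c : F} (h : N = c • M) : sa hF M hM ε = sa hF N hN ε := by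
  subst h
  apply ext_pr
  intro g
  obtain ⟨k, hk, hkm⟩ := sa_pr hF hM ε g
  obtain ⟨l, hl, hlm⟩ := sa_pr hF hN ε g
  rw [hk, hl]
  apply pr_eq_of_mat (c := c ^ 3 * c)
  rw [hlm, hkm, st_smul, Matrix.smul_mul, Matrix.smul_mul, Matrix.mul_smul, smul_smul, mul_comm (c ^ 3)]

theorem sa_congr (hF : Fintype.card F = 9) {M N : M4 F} (hM : st M * M = 1) (hN : st N * N = 1)
    (ε : Bool) (h : N = M) : sa hF M hM ε = sa hF N hN ε := by
  subst h; rfl

theorem sa_inj (hF : Fintype.card F = 9) {M N : M4 F} (hM : st M * M = 1) (hN : st N * N = 1)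
    {ε η : Bool} (h : sa hF M hM ε = sa hF N hN η) : η = ε ∧ ∃ c : F, c ^ 4 = 1 ∧ N = c • M := by
  obtain ⟨h1, c, hc, h2⟩ := eq_of_toAut_eq (q := 3) (by rw [hF]; norm_num) (by norm_num) h
  rw [(exists_gu hF hM).choose_spec, (exists_gu hF hN).choose_spec] at h2
  refine ⟨?_, c, by rw [← hc]; ring, h2⟩
  obtain ⟨a, ha⟩ := exists_a hF
  have ha0 : a ≠ 0 := by
    rintro rfl
    have : (1 : F) = 0 := by linear_combination ha
    exact one_ne_zero this
  have h3 := congrArg (fun r : F ≃+* F => r a) h1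
  simp only [ph_apply] at h3
  cases ε <;> cases η
  · rfl
  · exfalso
    have h2 : (2 : F) * a = 0 := by
      simp only [cond_true, cond_false] at h3
      linear_combination a * ha - h3
    exact (mul_ne_zero two_ne ha0) h2
  · exfalso
    have h2 : (2 : F) * a = 0 := by
      simp only [cond_true, cond_false] at h3
      linear_combination a * ha + h3
    exact (mul_ne_zero two_ne ha0) h2
  · rfl

theorem conj_eq (hF : Fintype.card F = 9) (g : SU 4 F 3) :
    MulAut.conj (pr 4 F 3 g) = sa hF (mat g) (st_mat g) false := by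
  apply ext_pr
  intro x
  obtain ⟨k, hk, hkm⟩ := sa_pr hF (st_mat g) false x
  rw [hk, MulAut.conj_apply, ← map_inv, ← map_mul, ← map_mul]
  apply pr_eq_of_mat (c := 1)
  rw [hkm, tw_false, one_smul, mat_mul, mat_mul, mat_inv]

theorem sa_one (hF : Fintype.card F = 9) {M : M4 F} (hM : st M * M = 1) {c : F} (h : M = c • 1) :
    sa hF M hM false = 1 := by
  have h1 : sa hF M hM false = MulAut.conj (pr 4 F 3 1) := by
    rw [conj_eq hF]
    refine (sa_smul hF _ _ false (c := c) ?_).symm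
    rw [h, mat_one]
  rw [h1, map_one, map_one]

/-! ### The sign: `-1` on the semilinear automorphisms -/

/-- the type of an automorphism (`true`: semilinear) -/
noncomputable def ty (hF : Fintype.card F = 9) (α : MulAut (PSU 4 F 3)) : Bool :=
  (exists_sa hF α).choose_spec.choose_spec.choose

theorem ty_spec (hF : Fintype.card F = 9) (α : MulAut (PSU 4 F 3)) :
    ∃ (M : M4 F) (hM : st M * M = 1), α = sa hF M hM (ty hF α) :=
  ⟨_, _, (exists_sa hF α).choose_spec.choose_spec.choose_spec⟩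

theorem ty_sa (hF : Fintype.card F = 9) {M : M4 F} (hM : st M * M = 1) (ε : Bool) :
    ty hF (sa hF M hM ε) = ε := by
  obtain ⟨N, hN, h⟩ := ty_spec hF (sa hF M hM ε)
  exact (sa_inj hF hM hN h).1

theorem ty_mul (hF : Fintype.card F = 9) (α β : MulAut (PSU 4 F 3)) :
    ty hF (α * β) = xor (ty hF α) (ty hF β) := by
  obtain ⟨M, hM, ε, rfl⟩ := exists_sa hF α
  obtain ⟨N, hN, η, rfl⟩ := exists_sa hF β
  rw [sa_mul hF hM hN, ty_sa, ty_sa, ty_sa]

/-- `-1` on the semilinear automorphisms -/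
noncomputable def sgn (hF : Fintype.card F = 9) : MulAut (PSU 4 F 3) →* ℤˣ where
  toFun α := bif ty hF α then -1 else 1
  map_one' := by
    have h : (1 : MulAut (PSU 4 F 3)) = sa hF 1 (by rw [st_one, one_mul]) false :=
      (sa_one hF _ (c := 1) (by rw [one_smul])).symm
    rw [h, ty_sa]
    rfl
  map_mul' α β := by
    rw [ty_mul]
    cases ty hF α <;> cases ty hF β <;> simp

theorem sgn_sa (hF : Fintype.card F = 9) {M : M4 F} (hM : st M * M = 1) (ε : Bool) :
    sgn hF (sa hF M hM ε) = bif ε then -1 else 1 := by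
  show (bif ty hF (sa hF M hM ε) then (-1 : ℤˣ) else 1) = _
  rw [ty_sa]

theorem sgn_conj (hF : Fintype.card F = 9) (x : PSU 4 F 3) : sgn hF (MulAut.conj x) = 1 := by
  obtain ⟨g, rfl⟩ := pr_surjective x
  rw [conj_eq hF, sgn_sa]
  rfl

theorem of_sgn (hF : Fintype.card F = 9) {α : MulAut (PSU 4 F 3)} (h : sgn hF α = -1) :
    ∃ (M : M4 F) (hM : st M * M = 1), α = sa hF M hM true := by
  obtain ⟨M, hM, ε, rfl⟩ := exists_sa hF α
  rw [sgn_sa] at h
  cases ε
  · exact absurd h (by decide)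
  · exact ⟨M, hM, rfl⟩

theorem det_pow {M : M4 F} (hM : st M * M = 1) : M.det ^ 4 = 1 := by
  have h := congrArg Matrix.det hM
  rw [det_mul, det_st, det_one] at h
  linear_combination h

theorem four_cases {a c : F} (ha : a ^ 2 = -1) (hc : c ^ 4 = 1) : c = 1 ∨ c = -1 ∨ c = a ∨ c = -a := by
  have h : (c - 1) * ((c + 1) * ((c - a) * (c + a))) = 0 := by
    linear_combination hc - (c ^ 2 - 1) * ha
  rcases mul_eq_zero.1 h with h | h
  · left; linear_combination h
  rcases mul_eq_zero.1 h with h | h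
  · right; left; linear_combination h
  rcases mul_eq_zero.1 h with h | h
  · right; right; left; linear_combination h
  · right; right; right; linear_combination h

/-- automorphisms with the same determinant and type differ by an inner automorphism -/
theorem exists_conj_mul (hF : Fintype.card F = 9) {M N : M4 F} (hM : st M * M = 1) (hN : st N * N = 1)
    (ε : Bool) (h : N.det = M.det) :
    ∃ k : PSU 4 F 3, MulAut.conj k * sa hF M hM ε = sa hF N hN ε := by
  have hMi : st (st M) * st M = 1 := by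
    have h9 : ∀ x : F, x ^ 9 = x := fun x => by rw [← hF]; exact FiniteField.pow_card x
    rw [st_st h9, mul_st hM]
  have hu := un_mul hN hMi
  have hd : (N * st M).det = 1 := by
    rw [det_mul, h, ← det_mul, mul_st hM, det_one]
  refine ⟨pr 4 F 3 (mkSU (N * st M) hd (herm_of_st hu)), ?_⟩
  rw [conj_eq hF, sa_mul]
  have e : N = mat (mkSU (N * st M) hd (herm_of_st hu)) * tw false M := by
    rw [mat_mkSU, tw_false, mul_assoc, hM, mul_one]
  have h1 : (xor false ε) = ε := by cases ε <;> rfl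
  have h2 := sa_congr hF (un_mul (st_mat (mkSU (N * st M) hd (herm_of_st hu))) (un_tw false hM)) hN ε e
  rw [← h2]
  congr 1

end Cfsg.Agent.OddHalf.D6.QThree.U43Aut

end

-- merged: Cfsg.Agent.OddHalf.D6.QThree.U43AutRef
section

/-!
# ODD half, D6, `q = 3`: `U₄(3)`, the automorphisms centralising `O₂(C(z))` (helper218)

`del b = diag(1, 1, b, b)`, `ref b = (J ⊕ b J) φ`, `b⁴ = 1`.
-/

set_option autoImplicit false
set_option linter.unusedSectionVars false
set_option linter.unusedTactic false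
set_option linter.unreachableTactic false

namespace Cfsg.Agent.OddHalf.D6.QThree.U43AutRef

open Matrix Cfsg.Agent.OddHalf.D6.QThree.U43Aut Cfsg Cfsg.Agent.OddHalf.Small.U43Mat Cfsg.Agent.OddHalf.Small.U43Good
open Cfsg.Agent.LieClassical.HermSiegel Cfsg.Agent.LieClassical.SUBasic
open Cfsg.Agent.ClassicalGeometry.UnitAutBasic (pr pr_surjective)
open Cfsg.Agent.ClassicalGeometry.PSUAutCount Cfsg.Agent.ClassicalGeometry.PSUAutMain
open Cfsg.Agent.OddHalf.D6.QThree.U43Elt Cfsg.Agent.OddHalf.D6.QThree.U43Plus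

variable {F : Type*} [Field F] [CharP F 3]

/-- `diag(1, 1, b, b)` -/
def dd (b : F) : M4 F := diagonal ![1, 1, b, b]

/-- `J ⊕ b J` -/
def rr (b : F) : M4 F := !![0, 1, 0, 0; -1, 0, 0, 0; 0, 0, 0, b; 0, 0, -b, 0]

/-- diagonal unitary matrices -/
theorem un_diag {v : Fin 4 → F} (h : ∀ i, v i ^ 4 = 1) :
    st (diagonal v : M4 F) * (diagonal v : M4 F) = 1 := by
  ext i j
  rw [mul_diagonal, st_apply, one_apply, diagonal_apply]
  by_cases hij : j = i
  · subst hij
    rw [if_pos rfl, if_pos rfl]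
    linear_combination h j
  · rw [if_neg hij, if_neg (fun h => hij h.symm)]
    ring

theorem un_dd {b : F} (hb : b ^ 4 = 1) : st (dd b) * dd b = 1 := un_diag (by
  intro i; fin_cases i <;> simp [hb])

theorem un_rr {b : F} (hb : b ^ 4 = 1) : st (rr b) * rr b = 1 := by
  have hb' : b ^ 3 * b = 1 := by linear_combination hb
  have h3 : (-b) ^ 3 * -b = 1 := by linear_combination hb
  ext i j
  rw [mul_apply, Fin.sum_univ_four, st_apply, st_apply, st_apply, st_apply]
  fin_cases i <;> fin_cases j <;> simp [rr, hb', h3] <;> ring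

variable [Fintype F]

/-- the automorphism `diag(1, 1, b, b)` -/
noncomputable def del (hF : Fintype.card F = 9) (b : F) (hb : b ^ 4 = 1) : MulAut (PSU 4 F 3) :=
  sa hF (dd b) (un_dd hb) false

/-- the automorphism `(J ⊕ b J) φ` -/
noncomputable def ref (hF : Fintype.card F = 9) (b : F) (hb : b ^ 4 = 1) : MulAut (PSU 4 F 3) :=
  sa hF (rr b) (un_rr hb) true

theorem sgn_del (hF : Fintype.card F = 9) (b : F) (hb : b ^ 4 = 1) : sgn hF (del hF b hb) = 1 := sgn_sa _ _ _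

theorem sgn_ref (hF : Fintype.card F = 9) (b : F) (hb : b ^ 4 = 1) : sgn hF (ref hF b hb) = -1 := sgn_sa _ _ _

theorem dd_one : dd (1 : F) = 1 := by
  ext i j; fin_cases i <;> fin_cases j <;> simp [dd]

theorem dd_neg : dd (-1 : F) = mat (d : SU 4 F 3) := by
  rw [m_d]
  ext i j; fin_cases i <;> fin_cases j <;> simp [dd]

theorem dd_mul (b c : F) : dd b * dd c = dd (b * c) := by
  unfold dd
  rw [diagonal_mul_diagonal]
  congr 1
  funext i
  fin_cases i <;> simp

theorem det_dd (b : F) : (dd b).det = b ^ 2 := by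
  unfold dd
  rw [det_diagonal, Fin.prod_univ_four]
  simp
  ring

theorem det_rr (b : F) : (rr b).det = b ^ 2 := by
  unfold rr
  simp [det_succ_row_zero, Fin.sum_univ_succ, Fin.succAbove]
  ring

theorem tw_dd (b : F) : tw true (dd b) = dd (b ^ 3) := by
  ext i j; fin_cases i <;> fin_cases j <;> simp [dd, tw]

theorem tw_rr (b : F) : tw true (rr b) = rr (b ^ 3) := by
  ext i j
  fin_cases i <;> fin_cases j <;> simp [rr, tw] <;> ring

theorem rr_mul_rr (b c : F) : rr b * rr c = -dd (b * c) := by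
  ext i j
  rw [mul_apply, Fin.sum_univ_four]
  fin_cases i <;> fin_cases j <;> simp [rr, dd]

theorem dd_mul_rr (b c : F) : dd b * rr c = rr (b * c) := by
  ext i j
  rw [mul_apply, Fin.sum_univ_four]
  fin_cases i <;> fin_cases j <;> simp [rr, dd]

theorem rr_mul_dd (b c : F) : rr b * dd c = rr (b * c) := by
  ext i j
  rw [mul_apply, Fin.sum_univ_four]
  fin_cases i <;> fin_cases j <;> simp [rr, dd]

theorem del_one (hF : Fintype.card F = 9) (h : (1 : F) ^ 4 = 1) : del hF 1 h = 1 :=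
  sa_one hF _ (c := 1) (by rw [one_smul, dd_one])

theorem del_neg (hF : Fintype.card F = 9) (h : (-1 : F) ^ 4 = 1) :
    del hF (-1) h = MulAut.conj (pr 4 F 3 d) := by
  rw [conj_eq hF]
  exact sa_congr hF _ _ false dd_neg.symm

theorem p4 {b c : F} (hb : b ^ 4 = 1) (hc : c ^ 4 = 1) : (b * c) ^ 4 = 1 := by
  rw [mul_pow, hb, hc, one_mul]

theorem p34 {b : F} (hb : b ^ 4 = 1) : (b ^ 3) ^ 4 = 1 := by
  rw [← pow_mul, mul_comm, pow_mul, hb, one_pow]

theorem del_mul (hF : Fintype.card F = 9) {b c : F} (hb : b ^ 4 = 1) (hc : c ^ 4 = 1) :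
    del hF b hb * del hF c hc = del hF (b * c) (p4 hb hc) := by
  unfold del
  rw [sa_mul]
  exact sa_congr hF _ _ _ (by rw [tw_false, dd_mul])

theorem del_mul_ref (hF : Fintype.card F = 9) {b c : F} (hb : b ^ 4 = 1) (hc : c ^ 4 = 1) :
    del hF b hb * ref hF c hc = ref hF (b * c) (p4 hb hc) := by
  unfold del ref
  rw [sa_mul]
  exact sa_congr hF _ _ _ (by rw [tw_false, dd_mul_rr])

theorem ref_mul_del (hF : Fintype.card F = 9) {b c : F} (hb : b ^ 4 = 1) (hc : c ^ 4 = 1) :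
    ref hF b hb * del hF c hc = ref hF (b * c ^ 3) (p4 hb (p34 hc)) := by
  unfold del ref
  rw [sa_mul]
  exact sa_congr hF _ _ _ (by rw [tw_dd, rr_mul_dd])

theorem ref_mul_ref (hF : Fintype.card F = 9) {b c : F} (hb : b ^ 4 = 1) (hc : c ^ 4 = 1) :
    ref hF b hb * ref hF c hc = del hF (b * c ^ 3) (p4 hb (p34 hc)) := by
  unfold del ref
  rw [sa_mul]
  refine (sa_smul hF (un_dd (p4 hb (p34 hc))) _ false (c := -1) ?_).symm
  rw [tw_rr, rr_mul_rr, neg_smul, one_smul]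

theorem ref_sq (hF : Fintype.card F = 9) {b : F} (hb : b ^ 4 = 1) : ref hF b hb * ref hF b hb = 1 := by
  rw [ref_mul_ref]
  have e : b * b ^ 3 = 1 := by linear_combination hb
  rw [← del_one hF (one_pow 4)]
  exact sa_congr hF _ _ _ (by rw [e])

/-! ### The centralizer of `Q₈ * Q₈` -/

/-- an automorphism fixing `pr g`, `g` with trace `2`: the scalar is `1` -/
theorem fix_of_trace (hF : Fintype.card F = 9) {M : M4 F} (hM : st M * M = 1) (ε : Bool) {g : SU 4 F 3}
    (ht : (mat g).trace = 2) (h : sa hF M hM ε (pr 4 F 3 g) = pr 4 F 3 g) :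
    M * tw ε (mat g) = mat g * M := by
  obtain ⟨c, hc4, hc⟩ := (sa_iff hF hM ε g g).1 h
  have h1 : M * tw ε (mat g) * st M = c • mat g := by
    rw [hc, Matrix.smul_mul, mul_assoc, mul_st hM, mul_one]
  have h2 := congrArg Matrix.trace h1
  rw [trace_mul_comm, ← mul_assoc, hM, one_mul, trace_smul, trace_tw, ht, smul_eq_mul] at h2
  have h3 : (3 : F) = 0 := three
  have h4 : c = 1 := by
    have h5 : (2 : F) = c * 2 := by
      cases ε
      · exact h2
      · simp only [cond_true] at h2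
        linear_combination h2 - 2 * h3
    have h6 : (2 : F) * (c - 1) = 0 := by linear_combination -h5
    linear_combination (mul_eq_zero.1 h6).resolve_left two_ne
  rw [hc, h4, one_smul]

section cent

variable {a : F} (ha : a ^ 2 = -1)

theorem tr_i1 : (mat (i1 a ha)).trace = 2 := by
  rw [m_i1]; simp [trace, Fin.sum_univ_four]; ring

theorem tr_i2 : (mat (i2 a ha)).trace = 2 := by
  rw [m_i2]; simp [trace, Fin.sum_univ_four]; ring

theorem tr_j1 : (mat (j1 : SU 4 F 3)).trace = 2 := by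
  rw [m_j1]; simp [trace, Fin.sum_univ_four]; ring

theorem tr_j2 : (mat (j2 : SU 4 F 3)).trace = 2 := by
  rw [m_j2]; simp [trace, Fin.sum_univ_four]; ring

/-- the linear automorphisms -/
theorem cent_lin (hF : Fintype.card F = 9) {M : M4 F} (hM : st M * M = 1)
    (h1 : M * mat (i1 a ha) = mat (i1 a ha) * M) (h2 : M * mat (i2 a ha) = mat (i2 a ha) * M)
    (h3 : M * mat (j1 : SU 4 F 3) = mat (j1 : SU 4 F 3) * M)
    (h4 : M * mat (j2 : SU 4 F 3) = mat (j2 : SU 4 F 3) * M) :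
    ∃ (b : F) (hb : b ^ 4 = 1), sa hF M hM false = del hF b hb := by
  have e1 : ∀ k l, M k l * (![a, -a, 1, 1] : Fin 4 → F) l = (![a, -a, 1, 1] : Fin 4 → F) k * M k l := by
    intro k l
    have h := congrFun (congrFun h1 k) l
    have e : mat (i1 a ha) = diagonal ![a, -a, 1, 1] := rfl
    rwa [e, mul_diagonal, diagonal_mul] at h
  have e2 : ∀ k l, M k l * (![1, 1, a, -a] : Fin 4 → F) l = (![1, 1, a, -a] : Fin 4 → F) k * M k l := by
    intro k l
    have h := congrFun (congrFun h2 k) l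
    have e : mat (i2 a ha) = diagonal ![1, 1, a, -a] := rfl
    rwa [e, mul_diagonal, diagonal_mul] at h
  have t : ∀ {x : F}, 2 * x = 0 → x = 0 := fun h => (mul_eq_zero.1 h).resolve_left two_ne
  have z01 : M 0 1 = 0 := t (by have h := e1 0 1; simp at h; linear_combination a * h + 2 * M 0 1 * ha)
  have z10 : M 1 0 = 0 := t (by have h := e1 1 0; simp at h; linear_combination -a * h + 2 * M 1 0 * ha)
  have z02 : M 0 2 = 0 := t (by have h := e1 0 2; simp at h; linear_combination (1 + a) * h + M 0 2 * ha)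
  have z03 : M 0 3 = 0 := t (by have h := e1 0 3; simp at h; linear_combination (1 + a) * h + M 0 3 * ha)
  have z12 : M 1 2 = 0 := t (by have h := e1 1 2; simp at h; linear_combination (1 - a) * h + M 1 2 * ha)
  have z13 : M 1 3 = 0 := t (by have h := e1 1 3; simp at h; linear_combination (1 - a) * h + M 1 3 * ha)
  have z20 : M 2 0 = 0 := t (by have h := e1 2 0; simp at h; linear_combination -(1 + a) * h + M 2 0 * ha)
  have z21 : M 2 1 = 0 := t (by have h := e1 2 1; simp at h; linear_combination -(1 - a) * h + M 2 1 * ha)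
  have z30 : M 3 0 = 0 := t (by have h := e1 3 0; simp at h; linear_combination -(1 + a) * h + M 3 0 * ha)
  have z31 : M 3 1 = 0 := t (by have h := e1 3 1; simp at h; linear_combination -(1 - a) * h + M 3 1 * ha)
  have z23 : M 2 3 = 0 := t (by have h := e2 2 3; simp at h; linear_combination a * h + 2 * M 2 3 * ha)
  have z32 : M 3 2 = 0 := t (by have h := e2 3 2; simp at h; linear_combination -a * h + 2 * M 3 2 * ha)
  have d01 : M 0 0 = M 1 1 := by
    have h := congrFun (congrFun h3 0) 1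
    rw [m_j1, mul_apply, mul_apply, Fin.sum_univ_four, Fin.sum_univ_four] at h
    simpa using h
  have d23 : M 2 2 = M 3 3 := by
    have h := congrFun (congrFun h4 2) 3
    rw [m_j2, mul_apply, mul_apply, Fin.sum_univ_four, Fin.sum_univ_four] at h
    simpa using h
  have u0 : M 0 0 ^ 3 * M 0 0 = 1 := by
    have h := congrFun (congrFun hM 0) 0
    rw [mul_apply, Fin.sum_univ_four, st_apply, st_apply, st_apply, st_apply, z10, z20, z30] at h
    simpa using h
  have u2 : M 2 2 ^ 3 * M 2 2 = 1 := by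
    have h := congrFun (congrFun hM 2) 2
    rw [mul_apply, Fin.sum_univ_four, st_apply, st_apply, st_apply, st_apply, z02, z12, z32] at h
    simpa using h
  have hb : (M 0 0 ^ 3 * M 2 2) ^ 4 = 1 := by
    apply p4
    · exact p34 (by linear_combination u0)
    · linear_combination u2
  refine ⟨_, hb, ?_⟩
  refine (sa_smul hF (un_dd hb) hM false (c := M 0 0) ?_).symm
  ext i j
  rw [Matrix.smul_apply, smul_eq_mul]
  fin_cases i <;> fin_cases j <;> simp [dd, z01, z10, z02, z03, z12, z13, z20, z21, z30, z31, z23, z32]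
  · exact d01.symm
  · linear_combination -M 2 2 * u0
  · rw [← d23]; linear_combination -M 2 2 * u0

/-- `ref b` fixes the elements of `SU₂ × SU₂` -/
theorem ref_fix (hF : Fintype.card F = 9) {b : F} (hb : b ^ 4 = 1) {g : SU 4 F 3}
    (h12 : b12 (mat g) = 0) (h21 : b21 (mat g) = 0) (h1 : (b11 (mat g)).det = 1)
    (h2 : (b22 (mat g)).det = 1) : ref hF b hb (pr 4 F 3 g) = pr 4 F 3 g := by
  obtain ⟨p1, p2, p3⟩ := entries (u11 (st_mat g) h21) h1
  obtain ⟨q1, q2, q3⟩ := entries (u22 (st_mat g) h12) h2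
  have f0 : mat g 1 1 = mat g 0 0 ^ 3 := p1
  have f1 : mat g 0 1 = - mat g 1 0 ^ 3 := p2
  have f2 : mat g 3 3 = mat g 2 2 ^ 3 := q1
  have f3 : mat g 2 3 = - mat g 3 2 ^ 3 := q2
  have z02 : mat g 0 2 = 0 := congrFun (congrFun h12 0) 0
  have z03 : mat g 0 3 = 0 := congrFun (congrFun h12 0) 1
  have z12 : mat g 1 2 = 0 := congrFun (congrFun h12 1) 0
  have z13 : mat g 1 3 = 0 := congrFun (congrFun h12 1) 1
  have z20 : mat g 2 0 = 0 := congrFun (congrFun h21 0) 0
  have z21 : mat g 2 1 = 0 := congrFun (congrFun h21 0) 1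
  have z30 : mat g 3 0 = 0 := congrFun (congrFun h21 1) 0
  have z31 : mat g 3 1 = 0 := congrFun (congrFun h21 1) 1
  have h9 := h9 hF
  have n9 : ∀ x : F, (x ^ 3) ^ 3 = x := fun x => by rw [← pow_mul, h9]
  have n9' : ∀ x : F, (-x ^ 3) ^ 3 = -x := fun x => by
    rw [show (-x ^ 3) ^ 3 = -((x ^ 3) ^ 3) by ring, n9]
  apply sa_of
  ext i j
  rw [mul_apply, mul_apply, Fin.sum_univ_four, Fin.sum_univ_four]
  fin_cases i <;> fin_cases j <;>
    simp [rr, tw, z02, z03, z12, z13, z20, z21, z30, z31, f0, f1, f2, f3, n9, n9'] <;> ring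

/-- `del b` fixes the block diagonal elements -/
theorem del_fix (hF : Fintype.card F = 9) {b : F} (hb : b ^ 4 = 1) {g : SU 4 F 3}
    (h12 : b12 (mat g) = 0) (h21 : b21 (mat g) = 0) : del hF b hb (pr 4 F 3 g) = pr 4 F 3 g := by
  have z02 : mat g 0 2 = 0 := congrFun (congrFun h12 0) 0
  have z03 : mat g 0 3 = 0 := congrFun (congrFun h12 0) 1
  have z12 : mat g 1 2 = 0 := congrFun (congrFun h12 1) 0
  have z13 : mat g 1 3 = 0 := congrFun (congrFun h12 1) 1
  have z20 : mat g 2 0 = 0 := congrFun (congrFun h21 0) 0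
  have z21 : mat g 2 1 = 0 := congrFun (congrFun h21 0) 1
  have z30 : mat g 3 0 = 0 := congrFun (congrFun h21 1) 0
  have z31 : mat g 3 1 = 0 := congrFun (congrFun h21 1) 1
  apply sa_of
  rw [tw_false]
  ext i j
  rw [mul_apply, mul_apply, Fin.sum_univ_four, Fin.sum_univ_four]
  fin_cases i <;> fin_cases j <;>
    simp [dd, z02, z03, z12, z13, z20, z21, z30, z31] <;> ring

theorem ref_fix_Q (hF : Fintype.card F = 9) {b : F} (hb : b ^ 4 = 1) {x : PSU 4 F 3} (hx : x ∈ QQ hF) :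
    ref hF b hb x = x := by
  obtain ⟨g, hg, rfl⟩ := hx
  obtain ⟨h1, h2, h3, h4⟩ := mem_Q0.1 hg
  exact ref_fix hF hb h1 h2 h3.2.1 h4.2.1

theorem del_fix_Q (hF : Fintype.card F = 9) {b : F} (hb : b ^ 4 = 1) {x : PSU 4 F 3} (hx : x ∈ QQ hF) :
    del hF b hb x = x := by
  obtain ⟨g, hg, rfl⟩ := hx
  obtain ⟨h1, h2, h3, h4⟩ := mem_Q0.1 hg
  exact del_fix hF hb h1 h2

/-- **the centralizer of `O₂(C(z))` in `Aut(K)`** -/
theorem cent_Q (hF : Fintype.card F = 9) (α : MulAut (PSU 4 F 3)) (h : ∀ x ∈ QQ hF, α x = x) :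
    ∃ (b : F) (hb : b ^ 4 = 1), α = del hF b hb ∨ α = ref hF b hb := by
  obtain ⟨a, ha⟩ := exists_a hF
  have hm : ∀ x ∈ ({pr 4 F 3 (i1 a ha), pr 4 F 3 j1, pr 4 F 3 (i2 a ha), pr 4 F 3 j2} : Set (PSU 4 F 3)),
      x ∈ QQ hF := by
    intro x hx
    rw [gen hF ha]
    exact Subgroup.subset_closure hx
  have key : ∀ β : MulAut (PSU 4 F 3), sgn hF β = 1 → (∀ x ∈ QQ hF, β x = x) →
      ∃ (b : F) (hb : b ^ 4 = 1), β = del hF b hb := by
    intro β hs hβ
    obtain ⟨M, hM, ε, rfl⟩ := exists_sa hF β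
    rw [sgn_sa] at hs
    cases ε
    · have k : ∀ g : SU 4 F 3, (mat g).trace = 2 → pr 4 F 3 g ∈ QQ hF → M * mat g = mat g * M := by
        intro g hg hq
        have := fix_of_trace hF hM false hg (hβ _ hq)
        rwa [tw_false] at this
      exact cent_lin ha hF hM (k _ (tr_i1 ha) (hm _ (by simp))) (k _ (tr_i2 ha) (hm _ (by simp)))
        (k _ tr_j1 (hm _ (by simp))) (k _ tr_j2 (hm _ (by simp)))
    · exact absurd hs (by decide)
  obtain ⟨M, hM, ε, hα⟩ := exists_sa hF α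
  cases ε
  · obtain ⟨b, hb, h1⟩ := key α (by rw [hα, sgn_sa]; rfl) h
    exact ⟨b, hb, Or.inl h1⟩
  · have h1 : (1 : F) ^ 4 = 1 := one_pow 4
    obtain ⟨b, hb, h2⟩ := key (α * ref hF 1 h1) (by
      rw [map_mul, hα, sgn_sa, sgn_ref]; rfl) (by
      intro x hx
      rw [MulAut.mul_apply, ref_fix_Q hF h1 hx, h x hx])
    refine ⟨b * 1, p4 hb h1, Or.inr ?_⟩
    rw [← del_mul_ref hF hb h1, ← h2, mul_assoc, ref_sq, mul_one]

/-- the swap of the two planes -/
def ss : SU 4 F 3 := mkSU !![0, 0, 1, 0; 0, 0, 0, 1; 1, 0, 0, 0; 0, 1, 0, 0]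
  (by simp [det_succ_row_zero, Fin.sum_univ_succ, Fin.succAbove]) (by
    intro u v
    simp only [hermForm_apply, Fin.sum_univ_four]
    simp [mulVec, dotProduct, Fin.sum_univ_four]
    ring)

theorem m_ss : mat (ss : SU 4 F 3) = !![0, 0, 1, 0; 0, 0, 0, 1; 1, 0, 0, 0; 0, 1, 0, 0] := rfl

/-- `diag(1, a, 1, -a)` -/
def yy (a : F) (ha : a ^ 2 = -1) : SU 4 F 3 := suDiag 3 ![1, a, 1, -a]
  (by simp [Fin.prod_univ_four]; linear_combination -ha) (by
  have h4 : a ^ 4 = 1 := by linear_combination (a ^ 2 - 1) * ha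
  intro i; fin_cases i <;> simp [h4, Even.neg_pow (show Even 4 by decide)])

theorem m_yy : mat (yy a ha) = !![1, 0, 0, 0; 0, a, 0, 0; 0, 0, 1, 0; 0, 0, 0, -a] := by
  ext i j; fin_cases i <;> fin_cases j <;> rfl

theorem a_pow (ha : a ^ 2 = -1) : a ^ 4 = 1 := by linear_combination (a ^ 2 - 1) * ha

theorem a_cube (ha : a ^ 2 = -1) : a ^ 3 = -a := by linear_combination a * ha

theorem neg_pow4 {b : F} (hb : b ^ 4 = 1) : (-b) ^ 4 = 1 := by rw [Even.neg_pow (by decide), hb]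

/-- `del b` and `ss` -/
theorem del_ss (hF : Fintype.card F = 9) {b : F} (hb : b ^ 4 = 1)
    (h : del hF b hb (pr 4 F 3 ss) = pr 4 F 3 ss) : b ^ 2 = 1 := by
  obtain ⟨c, hc4, hc⟩ := (sa_iff hF _ _ _ _).1 h
  rw [tw_false, m_ss] at hc
  have e1 := congrFun (congrFun hc 0) 2
  have e2 := congrFun (congrFun hc 2) 0
  rw [mul_apply, Matrix.smul_apply, mul_apply, Fin.sum_univ_four, Fin.sum_univ_four] at e1 e2
  simp [dd] at e1 e2
  linear_combination b * e2 - e1

theorem m_ssyy : mat (ss * yy a ha) = !![0, 0, 1, 0; 0, 0, 0, -a; 1, 0, 0, 0; 0, a, 0, 0] := by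
  rw [mat_mul, m_ss, m_yy]
  ext i j
  rw [mul_apply, Fin.sum_univ_four]
  fin_cases i <;> fin_cases j <;> simp

theorem del_ssyy (hF : Fintype.card F = 9) {b : F} (hb : b ^ 4 = 1)
    (h : del hF b hb (pr 4 F 3 (ss * yy a ha)) = pr 4 F 3 (ss * yy a ha)) : b ^ 2 = 1 := by
  obtain ⟨c, hc4, hc⟩ := (sa_iff hF _ _ _ _).1 h
  rw [tw_false, m_ssyy] at hc
  have e1 := congrFun (congrFun hc 0) 2
  have e2 := congrFun (congrFun hc 2) 0
  rw [mul_apply, Matrix.smul_apply, mul_apply, Fin.sum_univ_four, Fin.sum_univ_four] at e1 e2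
  simp [dd] at e1 e2
  linear_combination b * e2 - e1

theorem ref_ss (hF : Fintype.card F = 9) {b : F} (hb : b ^ 4 = 1)
    (h : ref hF b hb (pr 4 F 3 ss) = pr 4 F 3 ss) : b ^ 2 = 1 := by
  obtain ⟨c, hc4, hc⟩ := (sa_iff hF _ _ _ _).1 h
  rw [m_ss] at hc
  have e1 := congrFun (congrFun hc 0) 3
  have e2 := congrFun (congrFun hc 2) 1
  rw [mul_apply, Matrix.smul_apply, mul_apply, Fin.sum_univ_four, Fin.sum_univ_four] at e1 e2
  simp [rr, tw] at e1 e2
  linear_combination b * e2 - e1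

theorem ref_yy (hF : Fintype.card F = 9) {b : F} (hb : b ^ 4 = 1)
    (h : ref hF b hb (pr 4 F 3 (yy a ha)) = pr 4 F 3 (yy a ha)) : False := by
  obtain ⟨c, hc4, hc⟩ := (sa_iff hF _ _ _ _).1 h
  rw [m_yy] at hc
  have e1 := congrFun (congrFun hc 0) 1
  have e2 := congrFun (congrFun hc 2) 3
  rw [mul_apply, Matrix.smul_apply, mul_apply, Fin.sum_univ_four, Fin.sum_univ_four] at e1 e2
  simp [rr, tw] at e1 e2
  have h2 : 2 * (b * c) = 0 := by linear_combination -e2 - b * e1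
  exact two_ne (F := F) (by linear_combination b ^ 3 * c ^ 3 * h2 - 2 * c ^ 4 * hb - 2 * hc4)

theorem ref_ssyy (hF : Fintype.card F = 9) {b : F} (hb : b ^ 4 = 1)
    (h : ref hF b hb (pr 4 F 3 (ss * yy a ha)) = pr 4 F 3 (ss * yy a ha)) : b ^ 2 = -1 := by
  obtain ⟨c, hc4, hc⟩ := (sa_iff hF _ _ _ _).1 h
  rw [m_ssyy] at hc
  have e1 := congrFun (congrFun hc 0) 3
  have e2 := congrFun (congrFun hc 2) 1
  rw [mul_apply, Matrix.smul_apply, mul_apply, Fin.sum_univ_four, Fin.sum_univ_four] at e1 e2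
  simp [rr, tw] at e1 e2
  linear_combination a * (-e1 + b * e2) - (a ^ 2 - 1) * (1 + b ^ 2) * ha

theorem sq_one {b : F} (h : b ^ 2 = 1) : b = 1 ∨ b = -1 := by
  have h1 : (b - 1) * (b + 1) = 0 := by linear_combination h
  rcases mul_eq_zero.1 h1 with h2 | h2
  · left; linear_combination h2
  · right; linear_combination h2

theorem sq_neg_one (ha : a ^ 2 = -1) {b : F} (h : b ^ 2 = -1) : b = a ∨ b = -a := by
  have h1 : (b - a) * (b + a) = 0 := by linear_combination h - ha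
  rcases mul_eq_zero.1 h1 with h2 | h2
  · left; linear_combination h2
  · right; linear_combination h2

theorem del_sq (hF : Fintype.card F = 9) {b : F} (hb : b ^ 4 = 1) (h : b ^ 2 = 1) :
    del hF b hb = 1 ∨ del hF b hb = MulAut.conj (pr 4 F 3 d) := by
  rcases sq_one h with rfl | rfl
  · left; exact del_one hF hb
  · right; exact del_neg hF hb

/-- **(K1)** for the 2-group generated by `Q`, `ss`, `yy` -/
theorem kone (hF : Fintype.card F = 9) (α : MulAut (PSU 4 F 3)) (h : ∀ x ∈ QQ hF, α x = x)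
    (h1 : α (pr 4 F 3 ss) = pr 4 F 3 ss) (h2 : α (pr 4 F 3 (yy a ha)) = pr 4 F 3 (yy a ha)) :
    α = 1 ∨ α = MulAut.conj (pr 4 F 3 d) := by
  obtain ⟨b, hb, rfl | rfl⟩ := cent_Q hF α h
  · exact del_sq hF hb (del_ss hF hb h1)
  · exact (ref_yy ha hF hb h2).elim

end cent

/-! ### 2-groups -/

section pg

variable {G : Type*} [Group G] [Finite G]

theorem mem_norm {H : Subgroup G} {x : G} (hn : ∀ h ∈ H, x * h * x⁻¹ ∈ H) :
    x ∈ Subgroup.normalizer (H : Set G) := by
  rw [Subgroup.mem_normalizer_iff]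
  have h1 : H.map (MulAut.conj x).toMonoidHom ≤ H := by
    rintro _ ⟨h, hh, rfl⟩
    exact hn h hh
  have h2 : H.map (MulAut.conj x).toMonoidHom = H :=
    Subgroup.eq_of_le_of_card_ge h1 (Subgroup.card_map_of_injective (MulAut.conj x).injective).ge
  intro h
  constructor
  · exact hn h
  · intro h3
    rw [← h2] at h3
    obtain ⟨k, hk, hk'⟩ := h3
    have h4 : k = h := (MulAut.conj x).injective hk'
    rwa [← h4]

theorem pg_step {H : Subgroup G} (hH : IsPGroup 2 H) {x : G} {n : ℕ} (hx : x ^ 2 ^ n = 1)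
    (hn : ∀ h ∈ H, x * h * x⁻¹ ∈ H) : IsPGroup 2 (Subgroup.zpowers x ⊔ H : Subgroup G) := by
  refine IsPGroup.to_sup_of_normal_right' ?_ hH (by rw [Subgroup.zpowers_le]; exact mem_norm hn)
  obtain ⟨m, -, hm⟩ := (Nat.dvd_prime_pow Nat.prime_two).1 (orderOf_dvd_of_pow_eq_one hx)
  exact IsPGroup.of_card (n := m) (by rw [Nat.card_zpowers, hm])

end pg

theorem isPGroup_QQ (hF : Fintype.card F = 9) : IsPGroup 2 (QQ hF) := (isPGroup_Q0 (h9 hF)).map _

theorem pr_comm_d (hF : Fintype.card F = 9) {g : SU 4 F 3} {c : F}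
    (h : mat g * D4 F = c • (D4 F * mat g)) : pr 4 F 3 g * pr 4 F 3 d = pr 4 F 3 d * pr 4 F 3 g := by
  rw [← map_mul, ← map_mul]
  refine (pr_eq_of_mat (c := c) ?_).symm
  rw [mat_mul, mat_mul, mat_d, h]

theorem ss_d (hF : Fintype.card F = 9) : pr 4 F 3 (ss : SU 4 F 3) * pr 4 F 3 d = pr 4 F 3 d * pr 4 F 3 ss := by
  refine pr_comm_d hF (c := -1) ?_
  rw [m_ss]
  ext i j
  rw [Matrix.smul_apply, mul_apply, mul_apply, Fin.sum_univ_four, Fin.sum_univ_four]
  fin_cases i <;> fin_cases j <;> simp [D4]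

theorem yy_d (hF : Fintype.card F = 9) {a : F} (ha : a ^ 2 = -1) :
    pr 4 F 3 (yy a ha) * pr 4 F 3 d = pr 4 F 3 d * pr 4 F 3 (yy a ha) := by
  refine pr_comm_d hF (c := 1) ?_
  rw [m_yy]
  ext i j
  rw [Matrix.smul_apply, mul_apply, mul_apply, Fin.sum_univ_four, Fin.sum_univ_four]
  fin_cases i <;> fin_cases j <;> simp [D4]

theorem ss_sq : (ss : SU 4 F 3) * ss = 1 := by
  apply mat_injective
  rw [mat_mul, mat_one, m_ss]
  ext i j
  rw [mul_apply, Fin.sum_univ_four]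
  fin_cases i <;> fin_cases j <;> simp

theorem yy_pow {a : F} (ha : a ^ 2 = -1) : (yy a ha) ^ 4 = 1 := by
  apply mat_injective
  rw [mat_pow, mat_one]
  have e : mat (yy a ha) = diagonal ![1, a, 1, -a] := rfl
  rw [e, diagonal_pow]
  have h4 := a_pow ha
  ext i j
  fin_cases i <;> fin_cases j <;> simp [h4, Even.neg_pow (show Even 4 by decide)]

/-- `ss yy ss⁻¹ = yy i₁²`-type relation: `ss yy ss⁻¹ yy⁻¹ ∈ Q` -/
theorem ss_yy (hF : Fintype.card F = 9) {a : F} (ha : a ^ 2 = -1) :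
    ∃ q ∈ QQ hF, pr 4 F 3 ss * pr 4 F 3 (yy a ha) * (pr 4 F 3 ss)⁻¹ = q * pr 4 F 3 (yy a ha) := by
  have e : pr 4 F 3 (i1 a ha) ∈ QQ hF ∧ pr 4 F 3 (i2 a ha) ∈ QQ hF := by
    rw [gen hF ha]
    exact ⟨Subgroup.subset_closure (by simp), Subgroup.subset_closure (by simp)⟩
  refine ⟨_, mul_mem e.1 e.2, ?_⟩
  rw [mul_inv_eq_iff_eq_mul, ← map_mul, ← map_mul, ← map_mul, ← map_mul]
  refine pr_eq_of_mat (c := a) ?_
  rw [mat_mul, mat_mul, mat_mul, mat_mul, m_i1, m_i2, m_yy, m_ss]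
  ext i j
  rw [Matrix.smul_apply, mul_apply, mul_apply, Fin.sum_univ_four, Fin.sum_univ_four]
  fin_cases i <;> fin_cases j <;> simp [mul_apply, Fin.sum_univ_four] <;> linear_combination (1 : F) * ha



/-- a Sylow 2-subgroup of `K` -/
def SK (hF : Fintype.card F = 9) {a : F} (ha : a ^ 2 = -1) : Subgroup (PSU 4 F 3) :=
  Subgroup.zpowers (pr 4 F 3 ss) ⊔ (Subgroup.zpowers (pr 4 F 3 (yy a ha)) ⊔ QQ hF)

theorem isPGroup_SK (hF : Fintype.card F = 9) {a : F} (ha : a ^ 2 = -1) : IsPGroup 2 (SK hF ha) := by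
  have hfin : Finite (PSU 4 F 3) := inferInstance
  have h1 : IsPGroup 2 (Subgroup.zpowers (pr 4 F 3 (yy a ha)) ⊔ QQ hF : Subgroup (PSU 4 F 3)) :=
    pg_step (isPGroup_QQ hF) (n := 2) (by
      show pr 4 F 3 (yy a ha) ^ 4 = 1
      rw [← map_pow, yy_pow, map_one]) (fun h hh => conj hF _ (yy_d hF ha) h hh)
  refine pg_step h1 (n := 1) (by
    show pr 4 F 3 ss ^ 2 = 1
    rw [pow_two, ← map_mul, ss_sq, map_one]) ?_
  intro h hh
  have h2 : (Subgroup.zpowers (pr 4 F 3 (yy a ha)) ⊔ QQ hF).map (MulAut.conj (pr 4 F 3 ss)).toMonoidHom ≤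
      Subgroup.zpowers (pr 4 F 3 (yy a ha)) ⊔ QQ hF := by
    rw [Subgroup.map_sup, MonoidHom.map_zpowers]
    refine sup_le ?_ ?_
    · rw [Subgroup.zpowers_le]
      obtain ⟨q, hq, he⟩ := ss_yy hF ha
      show pr 4 F 3 ss * pr 4 F 3 (yy a ha) * (pr 4 F 3 ss)⁻¹ ∈ _
      rw [he]
      exact mul_mem ((le_sup_right : QQ hF ≤ _) hq)
        ((le_sup_left : Subgroup.zpowers (pr 4 F 3 (yy a ha)) ≤ _) (Subgroup.mem_zpowers _))
    · rintro _ ⟨x, hx, rfl⟩
      exact (le_sup_right : QQ hF ≤ _) (conj hF _ (ss_d hF) x hx)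
  exact h2 ⟨h, hh, rfl⟩

theorem mem_SK (hF : Fintype.card F = 9) {a : F} (ha : a ^ 2 = -1) :
    pr 4 F 3 ss ∈ SK hF ha ∧ pr 4 F 3 (yy a ha) ∈ SK hF ha ∧ ∀ x ∈ QQ hF, x ∈ SK hF ha :=
  ⟨(le_sup_left : Subgroup.zpowers (pr 4 F 3 ss) ≤ _) (Subgroup.mem_zpowers _),
    (le_sup_right : _ ≤ SK hF ha) ((le_sup_left : Subgroup.zpowers (pr 4 F 3 (yy a ha)) ≤ _)
      (Subgroup.mem_zpowers _)),
    fun _ hx => (le_sup_right : _ ≤ SK hF ha) ((le_sup_right : QQ hF ≤ _) hx)⟩

theorem d_mem (hF : Fintype.card F = 9) : pr 4 F 3 d ∈ QQ hF := by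
  obtain ⟨a, ha⟩ := exists_a hF
  have h1 : pr 4 F 3 j2 ∈ QQ hF := by
    rw [gen hF ha]
    exact Subgroup.subset_closure (by simp)
  have h2 := mul_mem h1 h1
  rwa [← map_mul, e_ll] at h2

theorem d_sq : pr 4 F 3 (d : SU 4 F 3) * pr 4 F 3 d = 1 := by
  rw [← map_mul, e_dd, map_one]

theorem d_ne (hF : Fintype.card F = 9) : pr 4 F 3 (d : SU 4 F 3) ≠ 1 := by
  intro h
  rw [← map_one (pr 4 F 3)] at h
  obtain ⟨c, -, hc⟩ := mat_of_pr_eq hF h.symm
  rw [mat_one, m_d] at hc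
  have e1 := congrFun (congrFun hc 0) 0
  have e2 := congrFun (congrFun hc 2) 2
  simp at e1 e2
  rw [← e1] at e2
  exact two_ne (F := F) (by linear_combination -e2)

theorem conj_inj (hF : Fintype.card F = 9) {x y : PSU 4 F 3} (h : MulAut.conj x = MulAut.conj y) : x = y := by
  obtain ⟨g, rfl⟩ := pr_surjective x
  obtain ⟨k, rfl⟩ := pr_surjective y
  rw [conj_eq hF, conj_eq hF] at h
  obtain ⟨-, c, -, hc⟩ := sa_inj hF _ _ h
  exact pr_eq_of_mat hc

theorem conj_one (hF : Fintype.card F = 9) {x : PSU 4 F 3} (h : ∀ y, x * y = y * x) : x = 1 := by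
  apply conj_inj hF
  rw [map_one]
  ext y
  rw [MulAut.conj_apply, h, mul_inv_cancel_right]
  rfl

/-- **(K1)**: the centralizer in `Aut(K)` of a Sylow 2-subgroup of `K` has order two -/
theorem kone_sylow (hF : Fintype.card F = 9) (S : Sylow 2 (PSU 4 F 3)) :
    ∃ z ∈ (S : Subgroup (PSU 4 F 3)), z * z = 1 ∧ z ≠ 1 ∧
      (∀ x ∈ (S : Subgroup (PSU 4 F 3)), x * z = z * x) ∧
      ∀ α : MulAut (PSU 4 F 3), (∀ x ∈ (S : Subgroup (PSU 4 F 3)), α x = x) →
        α = 1 ∨ α = MulAut.conj z := by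
  obtain ⟨a, ha⟩ := exists_a hF
  have hfin : Finite (PSU 4 F 3) := inferInstance
  obtain ⟨S₀, hS₀⟩ := (isPGroup_SK hF ha).exists_le_sylow
  obtain ⟨m1, m2, m3⟩ := mem_SK hF ha
  have key : ∀ α : MulAut (PSU 4 F 3), (∀ x ∈ (S₀ : Subgroup (PSU 4 F 3)), α x = x) →
        α = 1 ∨ α = MulAut.conj (pr 4 F 3 d) := fun α h =>
    kone ha hF α (fun x hx => h x (hS₀ (m3 x hx))) (h _ (hS₀ m1)) (h _ (hS₀ m2))
  have hfp : Fact (Nat.Prime 2) := ⟨Nat.prime_two⟩
  obtain ⟨g, hg⟩ := MulAction.exists_smul_eq (PSU 4 F 3) S₀ S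
  -- `z` is central in `S₀`
  have hz₀ : ∀ x ∈ (S₀ : Subgroup (PSU 4 F 3)), x * pr 4 F 3 d = pr 4 F 3 d * x := by
    have hnt : Nontrivial (S₀ : Subgroup (PSU 4 F 3)) := by
      refine ⟨⟨⟨_, hS₀ (m3 _ (d_mem hF))⟩, 1, fun h => d_ne hF (congrArg Subtype.val h)⟩⟩
    have hc := S₀.isPGroup'.center_nontrivial
    obtain ⟨w, hw⟩ := exists_ne (1 : Subgroup.center (S₀ : Subgroup (PSU 4 F 3)))
    have hw1 : ((w : (S₀ : Subgroup (PSU 4 F 3))) : PSU 4 F 3) ≠ 1 := fun h =>
      hw (Subtype.ext (Subtype.ext h))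
    have hwc : ∀ x ∈ (S₀ : Subgroup (PSU 4 F 3)),
        x * ((w : (S₀ : Subgroup (PSU 4 F 3))) : PSU 4 F 3) = (w : (S₀ : Subgroup (PSU 4 F 3))) * x := by
      intro x hx
      have h1 := Subgroup.mem_center_iff.1 w.2 ⟨x, hx⟩
      exact congrArg Subtype.val h1
    rcases key (MulAut.conj ((w : (S₀ : Subgroup (PSU 4 F 3))) : PSU 4 F 3)) (by
      intro x hx
      rw [MulAut.conj_apply, ← hwc x hx, mul_inv_cancel_right]) with h1 | h1
    · exact (hw1 (conj_inj hF (h1.trans (map_one _).symm))).elim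
    · rw [conj_inj hF h1] at hwc
      exact hwc
  have hmem : ∀ x, x ∈ (S₀ : Subgroup (PSU 4 F 3)) → g * x * g⁻¹ ∈ (S : Subgroup (PSU 4 F 3)) := by
    intro x hx
    rw [← hg]
    exact Subgroup.smul_mem_pointwise_smul x (MulAut.conj g) _ hx
  have hmem' : ∀ x, x ∈ (S : Subgroup (PSU 4 F 3)) → g⁻¹ * x * g ∈ (S₀ : Subgroup (PSU 4 F 3)) := by
    intro x hx
    rw [← hg] at hx
    obtain ⟨y, hy, rfl⟩ := hx
    have e : g⁻¹ * (g * y * g⁻¹) * g = y := by group
    show g⁻¹ * (g * y * g⁻¹) * g ∈ _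
    rw [e]
    exact hy
  refine ⟨g * pr 4 F 3 d * g⁻¹, hmem _ (hS₀ (m3 _ (d_mem hF))), ?_, ?_, ?_, ?_⟩
  · rw [show g * pr 4 F 3 d * g⁻¹ * (g * pr 4 F 3 d * g⁻¹) = g * (pr 4 F 3 d * pr 4 F 3 d) * g⁻¹ by group,
      d_sq, mul_one, mul_inv_cancel]
  · intro h
    apply d_ne hF
    rw [mul_inv_eq_one] at h
    exact mul_eq_left.1 h
  · intro x hx
    have h1 := hz₀ _ (hmem' x hx)
    calc x * (g * pr 4 F 3 d * g⁻¹) = g * (g⁻¹ * x * g * pr 4 F 3 d) * g⁻¹ := by group
      _ = g * pr 4 F 3 d * g⁻¹ * x := by rw [h1]; group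
  · intro α hα
    have h1 : ∀ x ∈ (S₀ : Subgroup (PSU 4 F 3)), ((MulAut.conj g)⁻¹ * α * MulAut.conj g) x = x := by
      intro x hx
      rw [MulAut.mul_apply, MulAut.mul_apply, MulAut.conj_apply, hα _ (hmem x hx), MulAut.conj_inv_apply]
      group
    rcases key _ h1 with h2 | h2
    · left
      have h3 : α = MulAut.conj g * ((MulAut.conj g)⁻¹ * α * MulAut.conj g) * (MulAut.conj g)⁻¹ := by group
      rw [h3, h2]
      group
    · right
      have h3 : α = MulAut.conj g * ((MulAut.conj g)⁻¹ * α * MulAut.conj g) * (MulAut.conj g)⁻¹ := by group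
      rw [h3, h2, map_mul, map_mul, map_inv]

end Cfsg.Agent.OddHalf.D6.QThree.U43AutRef

end

-- merged: Cfsg.Agent.OddHalf.D6.QThree.U43AutGood
section

/-!
# ODD half, D6, `q = 3`: `U₄(3)`, the semilinear involutions (helper218)

`exists_good`: every coset `K β`, `β` semilinear, contains an involution `α` with the property `GoodK`.
-/

set_option autoImplicit false
set_option linter.unusedSectionVars false
set_option linter.unusedTactic false
set_option linter.unreachableTactic false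

namespace Cfsg.Agent.OddHalf.D6.QThree.U43AutGood

open Matrix Cfsg.Agent.OddHalf.D6.QThree.U43Aut Cfsg.Agent.OddHalf.D6.QThree.U43AutRef
open Cfsg Cfsg.Agent.OddHalf.Small.U43Mat Cfsg.Agent.OddHalf.Small.U43Good
open Cfsg.Agent.LieClassical.HermSiegel Cfsg.Agent.LieClassical.SUBasic
open Cfsg.Agent.ClassicalGeometry.UnitAutBasic (pr pr_surjective)
open Cfsg.Agent.ClassicalGeometry.PSUAutCount Cfsg.Agent.ClassicalGeometry.PSUAutMain
open Cfsg.Agent.OddHalf.D6.QThree.U43Elt Cfsg.Agent.OddHalf.D6.QThree.U43Plus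
open scoped commutatorElement

/-- the fixed points of an automorphism -/
def fixS {K : Type*} [Group K] (α : MulAut K) : Subgroup K where
  carrier := {x | α x = x}
  one_mem' := map_one α
  mul_mem' := fun {x y} hx hy => by
    show α (x * y) = x * y
    rw [map_mul, show α x = x from hx, show α y = y from hy]
  inv_mem' := fun {x} hx => by
    show α x⁻¹ = x⁻¹
    rw [map_inv, show α x = x from hx]

theorem mem_fixS {K : Type*} [Group K] {α : MulAut K} {x : K} : x ∈ fixS α ↔ α x = x := Iff.rfl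

/-- `α` an involutory automorphism, `S` a Sylow 2-subgroup of `C_K(α)`, `v` its central involution, `p ∈ K` with
`α ^ p = α v`: only `1, v, α, α v` commute with `α` and `S` -/
structure GoodK {K : Type*} [Group K] (α : MulAut K) (v p : K) (S : Subgroup K) : Prop where
  aa : α * α = 1
  vv : v * v = 1
  v1 : v ≠ 1
  vc : v ∈ ⁅fixS α, fixS α⁆
  py : MulAut.conj p * α = α * MulAut.conj v * MulAut.conj p
  pv : p * v = v * p
  Sf : ∀ s ∈ S, α s = s
  pS : IsPGroup 2 S
  max : ∀ P : Subgroup K, IsPGroup 2 P → S ≤ P → (∀ x ∈ P, α x = x) → P ≤ S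
  vS : v ∈ S
  vs : ∀ s ∈ S, s * v = v * s
  cen : ∀ β : MulAut K, β * α = α * β → (∀ s ∈ S, β s = s) →
    β = 1 ∨ β = MulAut.conj v ∨ β = α ∨ β = α * MulAut.conj v

/-- from a smaller 2-group `S₀` -/
theorem good_of {K : Type*} [Group K] [Finite K] {α : MulAut K} {v p : K} {S₀ : Subgroup K}
    (hinj : ∀ x y : K, MulAut.conj x = MulAut.conj y → x = y) (hni : ∀ x : K, MulAut.conj x ≠ α)
    (aa : α * α = 1) (vv : v * v = 1) (v1 : v ≠ 1) (vc : v ∈ ⁅fixS α, fixS α⁆)
    (py : MulAut.conj p * α = α * MulAut.conj v * MulAut.conj p) (pv : p * v = v * p)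
    (Sf : ∀ s ∈ S₀, α s = s) (pS : IsPGroup 2 S₀) (vS : v ∈ S₀)
    (cen : ∀ β : MulAut K, β * α = α * β → (∀ s ∈ S₀, β s = s) →
      β = 1 ∨ β = MulAut.conj v ∨ β = α ∨ β = α * MulAut.conj v) :
    ∃ S, S₀ ≤ S ∧ GoodK α v p S := by
  have hfp : Fact (Nat.Prime 2) := ⟨Nat.prime_two⟩
  have hle : S₀ ≤ fixS α := fun x hx => Sf x hx
  have p1 : IsPGroup 2 (S₀.subgroupOf (fixS α)) := pS.comap_of_injective _ (Subgroup.subtype_injective _)
  obtain ⟨T, hT⟩ := p1.exists_le_sylow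
  set S : Subgroup K := (T : Subgroup (fixS α)).map (fixS α).subtype with hS
  have hS₀ : S₀ ≤ S := by
    intro x hx
    exact ⟨⟨x, hle hx⟩, hT (Subgroup.mem_subgroupOf.2 hx), rfl⟩
  have hSf : ∀ s ∈ S, α s = s := by
    rintro _ ⟨x, -, rfl⟩
    exact x.2
  have hpS : IsPGroup 2 S := T.isPGroup'.map _
  have hmax : ∀ P : Subgroup K, IsPGroup 2 P → S ≤ P → (∀ x ∈ P, α x = x) → P ≤ S := by
    intro P hP hSP hPf x hx
    have q1 : IsPGroup 2 (P.subgroupOf (fixS α)) := hP.comap_of_injective _ (Subgroup.subtype_injective _)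
    have q2 : (T : Subgroup (fixS α)) ≤ P.subgroupOf (fixS α) := by
      intro y hy
      exact Subgroup.mem_subgroupOf.2 (hSP ⟨y, hy, rfl⟩)
    have q3 := T.is_maximal' q1 q2
    have q4 : (⟨x, hPf x hx⟩ : fixS α) ∈ P.subgroupOf (fixS α) := Subgroup.mem_subgroupOf.2 hx
    rw [q3] at q4
    exact ⟨_, q4, rfl⟩
  have hcen : ∀ β : MulAut K, β * α = α * β → (∀ s ∈ S, β s = s) →
      β = 1 ∨ β = MulAut.conj v ∨ β = α ∨ β = α * MulAut.conj v :=
    fun β h1 h2 => cen β h1 fun s hs => h2 s (hS₀ hs)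
  have hvs : ∀ s ∈ S, s * v = v * s := by
    have hnt : Nontrivial S := ⟨⟨⟨v, hS₀ vS⟩, 1, fun h => v1 (congrArg Subtype.val h)⟩⟩
    have hc := hpS.center_nontrivial
    obtain ⟨w, hw⟩ := exists_ne (1 : Subgroup.center S)
    obtain ⟨u, hu⟩ : ∃ u : K, u = ((w : S) : K) := ⟨_, rfl⟩
    have hu1 : u ≠ 1 := fun h => hw (Subtype.ext (Subtype.ext (hu.symm.trans h)))
    have hwc : ∀ x ∈ S, x * u = u * x := by
      intro x hx
      have h1 := Subgroup.mem_center_iff.1 w.2 ⟨x, hx⟩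
      have h2 := congrArg Subtype.val h1
      rw [hu]
      exact h2
    have hαu : α u = u := hSf u (by rw [hu]; exact (w : S).2)
    have h1 : MulAut.conj u * α = α * MulAut.conj u := by
      ext x
      rw [MulAut.mul_apply, MulAut.mul_apply, MulAut.conj_apply, MulAut.conj_apply, map_mul, map_mul,
        map_inv, hαu]
    rcases hcen _ h1 (fun s hs => by rw [MulAut.conj_apply, ← hwc s hs, mul_inv_cancel_right]) with
      h2 | h2 | h2 | h2
    · exact (hu1 (hinj _ _ (h2.trans (map_one _).symm))).elim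
    · rw [hinj _ _ h2] at hwc
      exact hwc
    · exact (hni _ h2).elim
    · exfalso
      apply hni (u * v⁻¹)
      rw [map_mul, h2, map_inv, mul_inv_cancel_right]
  exact ⟨S, hS₀, aa, vv, v1, vc, py, pv, hSf, hpS, hmax, hS₀ vS, hvs, hcen⟩

variable {F : Type*} [Field F] [CharP F 3] [Fintype F]

theorem not_inner (hF : Fintype.card F = 9) {α : MulAut (PSU 4 F 3)} (h : sgn hF α = -1) (x : PSU 4 F 3) :
    MulAut.conj x ≠ α := by
  rintro rfl
  rw [sgn_conj] at h
  exact absurd h (by decide)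

/-! ### The reflections -/

section refl

variable {a : F} (ha : a ^ 2 = -1)

theorem ref_yy_conj (hF : Fintype.card F = 9) {b : F} (hb : b ^ 4 = 1) :
    MulAut.conj (pr 4 F 3 (yy a ha)) * ref hF b hb =
      ref hF b hb * MulAut.conj (pr 4 F 3 d) * MulAut.conj (pr 4 F 3 (yy a ha)) := by
  rw [conj_eq hF, conj_eq hF]
  unfold ref
  rw [sa_mul, sa_mul, sa_mul]
  refine (sa_smul hF _ _ true (c := a) ?_).symm
  rw [tw_false, m_yy, m_d]
  ext i j
  rw [Matrix.smul_apply, mul_apply, mul_apply, Fin.sum_univ_four, Fin.sum_univ_four]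
  fin_cases i <;> fin_cases j <;> simp [rr, tw, mul_apply, Fin.sum_univ_four]
  · linear_combination -(a ^ 2 - 1) * ha
  · linear_combination -b * (a ^ 2 - 1) * ha
  · ring

theorem ref_one_ss (hF : Fintype.card F = 9) (h : (1 : F) ^ 4 = 1) :
    ref hF 1 h (pr 4 F 3 ss) = pr 4 F 3 ss := by
  apply sa_of
  rw [m_ss]
  ext i j
  rw [mul_apply, mul_apply, Fin.sum_univ_four, Fin.sum_univ_four]
  fin_cases i <;> fin_cases j <;> simp [rr, tw]

theorem ref_a_ssyy (hF : Fintype.card F = 9) (h : a ^ 4 = 1) :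
    ref hF a h (pr 4 F 3 (ss * yy a ha)) = pr 4 F 3 (ss * yy a ha) := by
  apply sa_of
  rw [m_ssyy]
  have h3 := a_cube ha
  have h3' : (-a) ^ 3 = a := by linear_combination -a * ha
  ext i j
  rw [mul_apply, mul_apply, Fin.sum_univ_four, Fin.sum_univ_four]
  fin_cases i <;> fin_cases j <;> simp [rr, tw, h3, h3']
  · linear_combination -ha
  · linear_combination -ha

/-- `z = [i, j]` -/
theorem z_comm (hF : Fintype.card F = 9) (α : MulAut (PSU 4 F 3)) (h : ∀ x ∈ QQ hF, α x = x) :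
    pr 4 F 3 d ∈ ⁅fixS α, fixS α⁆ := by
  obtain ⟨a, ha⟩ := exists_a hF
  have e : pr 4 F 3 (i1 a ha) ∈ QQ hF ∧ pr 4 F 3 j1 ∈ QQ hF := by
    rw [gen hF ha]
    exact ⟨Subgroup.subset_closure (by simp), Subgroup.subset_closure (by simp)⟩
  have h1 : ⁅pr 4 F 3 j1, pr 4 F 3 (i1 a ha)⁆ = pr 4 F 3 (d : SU 4 F 3) := by
    have h2 : pr 4 F 3 j1 * pr 4 F 3 (i1 a ha) = pr 4 F 3 (i1 a ha) * pr 4 F 3 j1 * pr 4 F 3 d := by
      rw [← map_mul, ← map_mul, ← map_mul]
      exact pr_eq_of_mat (e_ji ha)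
    have h3 : pr 4 F 3 (i1 a ha) * pr 4 F 3 j1 * pr 4 F 3 d = pr 4 F 3 d * (pr 4 F 3 (i1 a ha) * pr 4 F 3 j1) := by
      have P := plus hF ha
      exact P.large.comm_z _ (mul_mem e.1 e.2)
    rw [commutatorElement_def, h2, h3]
    group
  rw [← h1]
  exact Subgroup.commutator_mem_commutator (h _ e.2) (h _ e.1)

theorem ref_mul_d (hF : Fintype.card F = 9) {b : F} (hb : b ^ 4 = 1) :
    ref hF b hb * MulAut.conj (pr 4 F 3 d) = ref hF (-b) (neg_pow4 hb) := by
  have h1 : (-1 : F) ^ 4 = 1 := by norm_num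
  rw [← del_neg hF h1, ref_mul_del]
  exact sa_congr hF _ _ _ (by rw [show b * (-1) ^ 3 = -b by ring])

theorem good_ref (hF : Fintype.card F = 9) {b : F} (hb : b ^ 4 = 1) {s : PSU 4 F 3} {n : ℕ}
    (hn : s ^ 2 ^ n = 1) (hs : s * pr 4 F 3 d = pr 4 F 3 d * s) (hbs : ref hF b hb s = s)
    (h1 : ∀ c (hc : c ^ 4 = 1), del hF c hc s = s → c ^ 2 = 1)
    (h2 : ∀ c (hc : c ^ 4 = 1), ref hF c hc s = s → c = b ∨ c = -b) :
    ∃ S, QQ hF ≤ S ∧ s ∈ S ∧ GoodK (ref hF b hb) (pr 4 F 3 d) (pr 4 F 3 (yy a ha)) S := by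
  have hfin : Finite (PSU 4 F 3) := inferInstance
  have hp : IsPGroup 2 (Subgroup.zpowers s ⊔ QQ hF : Subgroup (PSU 4 F 3)) :=
    pg_step (isPGroup_QQ hF) hn (fun h hh => U43Plus.conj hF _ hs h hh)
  have hfix : (Subgroup.zpowers s ⊔ QQ hF : Subgroup (PSU 4 F 3)) ≤ fixS (ref hF b hb) := by
    refine sup_le ?_ ?_
    · rw [Subgroup.zpowers_le]; exact hbs
    · exact fun x hx => ref_fix_Q hF hb hx
  obtain ⟨S, hS, hg⟩ := good_of (α := ref hF b hb) (v := pr 4 F 3 d) (p := pr 4 F 3 (yy a ha))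
    (S₀ := Subgroup.zpowers s ⊔ QQ hF) (fun x y h => conj_inj hF h)
    (fun x => not_inner hF (sgn_ref hF b hb) x) (ref_sq hF hb) d_sq (d_ne hF)
    (z_comm hF _ (fun x hx => ref_fix_Q hF hb hx)) (ref_yy_conj ha hF hb) (yy_d hF ha)
    (fun x hx => hfix hx) hp ((le_sup_right : QQ hF ≤ _) (d_mem hF)) (by
      intro β _ hβ
      have hβs : β s = s := hβ s ((le_sup_left : Subgroup.zpowers s ≤ _) (Subgroup.mem_zpowers s))
      obtain ⟨c, hc, rfl | rfl⟩ := cent_Q hF β (fun x hx => hβ x ((le_sup_right : QQ hF ≤ _) hx))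
      · rcases del_sq hF hc (h1 c hc hβs) with h | h
        · exact Or.inl h
        · exact Or.inr (Or.inl h)
      · rcases h2 c hc hβs with h | h
        · subst h
          exact Or.inr (Or.inr (Or.inl rfl))
        · subst h
          exact Or.inr (Or.inr (Or.inr (ref_mul_d hF hb).symm)))
  exact ⟨S, le_sup_right.trans hS, hS ((le_sup_left : Subgroup.zpowers s ≤ _) (Subgroup.mem_zpowers s)), hg⟩

/-- the coset of determinant `1` -/
theorem good_one (hF : Fintype.card F = 9) (h : (1 : F) ^ 4 = 1) :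
    ∃ S, QQ hF ≤ S ∧ pr 4 F 3 ss ∈ S ∧ GoodK (ref hF 1 h) (pr 4 F 3 d) (pr 4 F 3 (yy a ha)) S :=
  good_ref ha hF h (n := 1) (by
    show pr 4 F 3 ss ^ 2 = 1
    rw [pow_two, ← map_mul, ss_sq, map_one]) (ss_d hF) (ref_one_ss hF h) (fun c hc => del_ss hF hc)
    (fun c hc h1 => sq_one (ref_ss hF hc h1))

theorem ssyy_sq : (ss * yy a ha) * (ss * yy a ha) = 1 := by
  apply mat_injective
  rw [mat_mul, mat_one, m_ssyy]
  ext i j
  rw [mul_apply, Fin.sum_univ_four]
  fin_cases i <;> fin_cases j <;> simp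
  · linear_combination -ha
  · linear_combination -ha

/-- the coset of determinant `-1` -/
theorem good_a (hF : Fintype.card F = 9) (h : a ^ 4 = 1) :
    ∃ S, QQ hF ≤ S ∧ pr 4 F 3 (ss * yy a ha) ∈ S ∧
      GoodK (ref hF a h) (pr 4 F 3 d) (pr 4 F 3 (yy a ha)) S :=
  good_ref ha hF h (n := 1) (by
    show pr 4 F 3 (ss * yy a ha) ^ 2 = 1
    rw [pow_two, ← map_mul, ssyy_sq, map_one]) (by
    rw [map_mul, mul_assoc, yy_d hF ha, ← mul_assoc, ss_d hF, mul_assoc]) (ref_a_ssyy ha hF h)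
    (fun c hc => del_ssyy ha hF hc) (fun c hc h1 => sq_neg_one ha (ref_ssyy ha hF hc h1))

end refl

/-! ### The involutions `diag(1, 1, 1, a) φ` -/

section sim

variable {a : F} (ha : a ^ 2 = -1)

/-- `diag(1, -1, -1, 1)` -/
def dq : SU 4 F 3 := suDiag 3 ![1, -1, -1, 1] (by simp [Fin.prod_univ_four]) (by
  intro i; fin_cases i <;> norm_num)

theorem m_dq : mat (dq : SU 4 F 3) = !![1, 0, 0, 0; 0, -1, 0, 0; 0, 0, -1, 0; 0, 0, 0, 1] := by
  ext i j; fin_cases i <;> fin_cases j <;> rfl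

/-- the transposition of the first two coordinates -/
def wq : SU 4 F 3 := mkSU !![0, 1, 0, 0; 1, 0, 0, 0; 0, 0, -1, 0; 0, 0, 0, 1]
  (by simp [det_succ_row_zero, Fin.sum_univ_succ, Fin.succAbove]) (by
    intro u v
    simp only [hermForm_apply, Fin.sum_univ_four]
    simp [mulVec, dotProduct, Fin.sum_univ_four]
    ring)

theorem m_wq : mat (wq : SU 4 F 3) = !![0, 1, 0, 0; 1, 0, 0, 0; 0, 0, -1, 0; 0, 0, 0, 1] := rfl

include ha in
theorem un_gq : st !![1 + a, 1 + a, 0, 0; 1 + a, -(1 + a), 0, 0; 0, 0, 0, 1; 0, 0, -a, 0] *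
    !![1 + a, 1 + a, 0, 0; 1 + a, -(1 + a), 0, 0; 0, 0, 0, 1; 0, 0, -a, 0] = 1 := by
  have h3 : (3 : F) = 0 := three
  ext i j
  rw [mul_apply, Fin.sum_univ_four, st_apply, st_apply, st_apply, st_apply]
  fin_cases i <;> fin_cases j <;> simp
  · linear_combination (8 + 8 * a + 2 * (a ^ 2 + 1)) * ha - 3 * h3
  · ring
  · ring
  · linear_combination (8 + 8 * a + 2 * (a ^ 2 + 1)) * ha - 3 * h3
  · linear_combination (a ^ 2 - 1) * ha

include ha in
theorem det_gq : (!![1 + a, 1 + a, 0, 0; 1 + a, -(1 + a), 0, 0; 0, 0, 0, 1; 0, 0, -a, 0] : M4 F).det = 1 := by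
  have h3 : (3 : F) = 0 := three
  simp [det_succ_row_zero, Fin.sum_univ_succ, Fin.succAbove]
  linear_combination (-4 - 2 * a) * ha + h3

/-- an element with square `z` exchanging `dq z` and `wq` -/
def gq : SU 4 F 3 := mkSU !![1 + a, 1 + a, 0, 0; 1 + a, -(1 + a), 0, 0; 0, 0, 0, 1; 0, 0, -a, 0]
  (det_gq ha) (herm_of_st (un_gq ha))

theorem m_gq : mat (gq ha) = !![1 + a, 1 + a, 0, 0; 1 + a, -(1 + a), 0, 0; 0, 0, 0, 1; 0, 0, -a, 0] := rfl

/-- the matrix of the involution -/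
def aq (a : F) : M4 F := diagonal ![1, 1, 1, a]

include ha in
theorem un_aq : st (aq a) * aq a = 1 := un_diag (by
  have h4 := a_pow ha
  intro i; fin_cases i <;> simp [h4])

theorem det_aq (a : F) : (aq a).det = a := by
  unfold aq
  rw [det_diagonal, Fin.prod_univ_four]
  simp

/-- the involution `diag(1, 1, 1, a) φ` -/
noncomputable def sim (hF : Fintype.card F = 9) : MulAut (PSU 4 F 3) := sa hF (aq a) (un_aq ha) true

theorem sgn_sim (hF : Fintype.card F = 9) : sgn hF (sim ha hF) = -1 := sgn_sa _ _ _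

theorem sim_sq (hF : Fintype.card F = 9) : sim ha hF * sim ha hF = 1 := by
  unfold sim
  rw [sa_mul]
  refine sa_one hF _ (c := 1) ?_
  have h4 : a * a ^ 3 = 1 := by linear_combination a_pow ha
  rw [one_smul]
  ext i j
  rw [mul_apply, Fin.sum_univ_four]
  fin_cases i <;> fin_cases j <;> simp [aq, tw, h4]

theorem sim_dq (hF : Fintype.card F = 9) : sim ha hF (pr 4 F 3 dq) = pr 4 F 3 dq := by
  apply sa_of
  rw [m_dq]
  ext i j
  rw [mul_apply, mul_apply, Fin.sum_univ_four, Fin.sum_univ_four]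
  fin_cases i <;> fin_cases j <;> simp [aq, tw] <;> ring

theorem sim_wq (hF : Fintype.card F = 9) : sim ha hF (pr 4 F 3 wq) = pr 4 F 3 wq := by
  apply sa_of
  rw [m_wq]
  ext i j
  rw [mul_apply, mul_apply, Fin.sum_univ_four, Fin.sum_univ_four]
  fin_cases i <;> fin_cases j <;> simp [aq, tw] <;> ring

theorem sim_gq (hF : Fintype.card F = 9) : sim ha hF (pr 4 F 3 (gq ha)) = pr 4 F 3 (gq ha) := by
  refine (sa_iff hF _ _ _ _).2 ⟨-a, neg_pow4 (a_pow ha), ?_⟩
  have h3 : (3 : F) = 0 := three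
  rw [m_gq]
  ext i j
  rw [Matrix.smul_apply, mul_apply, mul_apply, Fin.sum_univ_four, Fin.sum_univ_four]
  fin_cases i <;> fin_cases j <;> simp [aq, tw]
  · linear_combination (a + 4) * ha + (a - 1) * h3
  · linear_combination (a + 4) * ha + (a - 1) * h3
  · linear_combination (a + 4) * ha + (a - 1) * h3
  · linear_combination -(a + 4) * ha - (a - 1) * h3
  · linear_combination ha
  · left; linear_combination -a * ha

theorem sim_i2 (hF : Fintype.card F = 9) :
    MulAut.conj (pr 4 F 3 (i2 a ha)) * sim ha hF =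
      sim ha hF * MulAut.conj (pr 4 F 3 d) * MulAut.conj (pr 4 F 3 (i2 a ha)) := by
  rw [conj_eq hF, conj_eq hF]
  unfold sim
  rw [sa_mul, sa_mul, sa_mul]
  refine (sa_smul hF _ _ true (c := 1) ?_).symm
  rw [tw_false, m_i2, m_d]
  ext i j
  rw [Matrix.smul_apply, mul_apply, mul_apply, Fin.sum_univ_four, Fin.sum_univ_four]
  fin_cases i <;> fin_cases j <;> simp [aq, tw, mul_apply, Fin.sum_univ_four]
  · linear_combination a * ha
  · linear_combination -a ^ 2 * ha

/-! relations between `dq`, `wq`, `gq` -/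

theorem dq_sq : (dq : SU 4 F 3) * dq = 1 := by
  apply mat_injective
  rw [mat_mul, mat_one, m_dq]
  ext i j
  rw [mul_apply, Fin.sum_univ_four]
  fin_cases i <;> fin_cases j <;> simp

theorem wq_sq : (wq : SU 4 F 3) * wq = 1 := by
  apply mat_injective
  rw [mat_mul, mat_one, m_wq]
  ext i j
  rw [mul_apply, Fin.sum_univ_four]
  fin_cases i <;> fin_cases j <;> simp

/-- `w q = z q w` -/
theorem wq_dq : pr 4 F 3 (wq : SU 4 F 3) * pr 4 F 3 dq = pr 4 F 3 dq * pr 4 F 3 d * pr 4 F 3 wq := by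
  rw [← map_mul, ← map_mul, ← map_mul]
  refine pr_eq_of_mat (c := -1) ?_
  rw [mat_mul, mat_mul, mat_mul, m_wq, m_dq, m_d]
  ext i j
  rw [Matrix.smul_apply, mul_apply, mul_apply, Fin.sum_univ_four, Fin.sum_univ_four]
  fin_cases i <;> fin_cases j <;> simp [mul_apply, Fin.sum_univ_four]

theorem dq_d : pr 4 F 3 (dq : SU 4 F 3) * pr 4 F 3 d = pr 4 F 3 d * pr 4 F 3 dq := by
  rw [← map_mul, ← map_mul]
  congr 1
  apply mat_injective
  rw [mat_mul, mat_mul, m_dq, m_d]
  ext i j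
  rw [mul_apply, mul_apply, Fin.sum_univ_four, Fin.sum_univ_four]
  fin_cases i <;> fin_cases j <;> simp

theorem wq_d : pr 4 F 3 (wq : SU 4 F 3) * pr 4 F 3 d = pr 4 F 3 d * pr 4 F 3 wq := by
  rw [← map_mul, ← map_mul]
  congr 1
  apply mat_injective
  rw [mat_mul, mat_mul, m_wq, m_d]
  ext i j
  rw [mul_apply, mul_apply, Fin.sum_univ_four, Fin.sum_univ_four]
  fin_cases i <;> fin_cases j <;> simp

theorem gq_d : pr 4 F 3 (gq ha) * pr 4 F 3 d = pr 4 F 3 d * pr 4 F 3 (gq ha) := by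
  rw [← map_mul, ← map_mul]
  congr 1
  apply mat_injective
  rw [mat_mul, mat_mul, m_gq, m_d]
  ext i j
  rw [mul_apply, mul_apply, Fin.sum_univ_four, Fin.sum_univ_four]
  fin_cases i <;> fin_cases j <;> simp

theorem gq_dq : pr 4 F 3 (gq ha) * pr 4 F 3 dq = pr 4 F 3 wq * pr 4 F 3 d * pr 4 F 3 (gq ha) := by
  rw [← map_mul, ← map_mul, ← map_mul]
  congr 1
  apply mat_injective
  rw [mat_mul, mat_mul, mat_mul, m_gq, m_dq, m_wq, m_d]
  ext i j
  rw [mul_apply, mul_apply, Fin.sum_univ_four, Fin.sum_univ_four]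
  fin_cases i <;> fin_cases j <;> simp [mul_apply, Fin.sum_univ_four]

theorem gq_wq : pr 4 F 3 (gq ha) * pr 4 F 3 wq = pr 4 F 3 dq * pr 4 F 3 d * pr 4 F 3 (gq ha) := by
  rw [← map_mul, ← map_mul, ← map_mul]
  congr 1
  apply mat_injective
  rw [mat_mul, mat_mul, mat_mul, m_gq, m_dq, m_wq, m_d]
  ext i j
  rw [mul_apply, mul_apply, Fin.sum_univ_four, Fin.sum_univ_four]
  fin_cases i <;> fin_cases j <;> simp [mul_apply, Fin.sum_univ_four]

theorem gq_sq : pr 4 F 3 (gq ha) * pr 4 F 3 (gq ha) = pr 4 F 3 d := by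
  rw [← map_mul]
  refine (pr_eq_of_mat (c := a) ?_).symm
  rw [mat_mul, m_gq, m_d]
  have h3 : (3 : F) = 0 := three
  ext i j
  rw [Matrix.smul_apply, mul_apply, Fin.sum_univ_four]
  fin_cases i <;> fin_cases j <;> simp
  · linear_combination 2 * ha + a * h3
  · ring
  · ring
  · linear_combination 2 * ha + a * h3

/-- the 2-group generated by `gq`, `wq`, `dq`, `z` -/
def S₀ : Subgroup (PSU 4 F 3) := Subgroup.zpowers (pr 4 F 3 (gq ha)) ⊔ (Subgroup.zpowers (pr 4 F 3 wq) ⊔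
  (Subgroup.zpowers (pr 4 F 3 dq) ⊔ Subgroup.zpowers (pr 4 F 3 d)))

theorem mem_S₀ : pr 4 F 3 (gq ha) ∈ S₀ ha ∧ pr 4 F 3 wq ∈ S₀ ha ∧ pr 4 F 3 dq ∈ S₀ ha ∧ pr 4 F 3 d ∈ S₀ ha := by
  refine ⟨(le_sup_left : Subgroup.zpowers _ ≤ _) (Subgroup.mem_zpowers _), ?_, ?_, ?_⟩
  · exact (le_sup_right : _ ≤ S₀ ha) ((le_sup_left : Subgroup.zpowers _ ≤ _) (Subgroup.mem_zpowers _))
  · exact (le_sup_right : _ ≤ S₀ ha) ((le_sup_right : _ ≤ Subgroup.zpowers (pr 4 F 3 wq) ⊔
      (Subgroup.zpowers (pr 4 F 3 dq) ⊔ Subgroup.zpowers (pr 4 F 3 d)))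
      ((le_sup_left : Subgroup.zpowers _ ≤ _) (Subgroup.mem_zpowers _)))
  · exact (le_sup_right : _ ≤ S₀ ha) ((le_sup_right : _ ≤ Subgroup.zpowers (pr 4 F 3 wq) ⊔
      (Subgroup.zpowers (pr 4 F 3 dq) ⊔ Subgroup.zpowers (pr 4 F 3 d)))
      ((le_sup_right : Subgroup.zpowers _ ≤ _) (Subgroup.mem_zpowers _)))

theorem conj_of_eq {x y w : PSU 4 F 3} (h : x * y = w * x) : x * y * x⁻¹ = w := by
  rw [h, mul_inv_cancel_right]

theorem isPGroup_S₀ : IsPGroup 2 (S₀ ha) := by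
  have hfin : Finite (PSU 4 F 3) := inferInstance
  have p0 : IsPGroup 2 (Subgroup.zpowers (pr 4 F 3 (d : SU 4 F 3))) := by
    have h1 : orderOf (pr 4 F 3 (d : SU 4 F 3)) ∣ 2 ^ 1 := by
      apply orderOf_dvd_of_pow_eq_one
      rw [pow_one, pow_two, d_sq]
    obtain ⟨m, -, hm⟩ := (Nat.dvd_prime_pow Nat.prime_two).1 h1
    exact IsPGroup.of_card (n := m) (by rw [Nat.card_zpowers, hm])
  have m0 : pr 4 F 3 (d : SU 4 F 3) ∈ Subgroup.zpowers (pr 4 F 3 (d : SU 4 F 3)) := Subgroup.mem_zpowers _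
  have cz : ∀ (x : PSU 4 F 3), x * pr 4 F 3 d = pr 4 F 3 d * x →
      (Subgroup.zpowers (pr 4 F 3 (d : SU 4 F 3))).map (MulAut.conj x).toMonoidHom ≤
        Subgroup.zpowers (pr 4 F 3 (d : SU 4 F 3)) := by
    intro x hx
    rw [MonoidHom.map_zpowers, Subgroup.zpowers_le]
    show x * pr 4 F 3 d * x⁻¹ ∈ _
    rw [conj_of_eq hx]
    exact m0
  have p1 : IsPGroup 2 (Subgroup.zpowers (pr 4 F 3 dq) ⊔ Subgroup.zpowers (pr 4 F 3 (d : SU 4 F 3)) :
      Subgroup (PSU 4 F 3)) :=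
    pg_step p0 (n := 1) (by
      show pr 4 F 3 dq ^ 2 = 1
      rw [pow_two, ← map_mul, dq_sq, map_one]) (fun h hh => cz _ dq_d ⟨h, hh, rfl⟩)
  have m1 : pr 4 F 3 (d : SU 4 F 3) ∈ (Subgroup.zpowers (pr 4 F 3 dq) ⊔
      Subgroup.zpowers (pr 4 F 3 (d : SU 4 F 3)) : Subgroup (PSU 4 F 3)) :=
    (le_sup_right : Subgroup.zpowers _ ≤ _) m0
  have m2 : pr 4 F 3 (dq : SU 4 F 3) ∈ (Subgroup.zpowers (pr 4 F 3 dq) ⊔
      Subgroup.zpowers (pr 4 F 3 (d : SU 4 F 3)) : Subgroup (PSU 4 F 3)) :=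
    (le_sup_left : Subgroup.zpowers _ ≤ _) (Subgroup.mem_zpowers _)
  have p2 : IsPGroup 2 (Subgroup.zpowers (pr 4 F 3 wq) ⊔ (Subgroup.zpowers (pr 4 F 3 dq) ⊔
      Subgroup.zpowers (pr 4 F 3 (d : SU 4 F 3))) : Subgroup (PSU 4 F 3)) := by
    refine pg_step p1 (n := 1) (by
      show pr 4 F 3 wq ^ 2 = 1
      rw [pow_two, ← map_mul, wq_sq, map_one]) ?_
    have hle : (Subgroup.zpowers (pr 4 F 3 dq) ⊔ Subgroup.zpowers (pr 4 F 3 (d : SU 4 F 3))).map
        (MulAut.conj (pr 4 F 3 (wq : SU 4 F 3))).toMonoidHom ≤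
        Subgroup.zpowers (pr 4 F 3 dq) ⊔ Subgroup.zpowers (pr 4 F 3 (d : SU 4 F 3)) := by
      rw [Subgroup.map_sup]
      refine sup_le ?_ ((cz _ wq_d).trans le_sup_right)
      rw [MonoidHom.map_zpowers, Subgroup.zpowers_le]
      show pr 4 F 3 wq * pr 4 F 3 dq * (pr 4 F 3 wq)⁻¹ ∈ _
      rw [conj_of_eq wq_dq]
      exact mul_mem m2 m1
    exact fun h hh => hle ⟨h, hh, rfl⟩
  refine pg_step p2 (n := 2) (by
    show pr 4 F 3 (gq ha) ^ 4 = 1
    have e : ∀ x : PSU 4 F 3, x ^ 4 = (x * x) * (x * x) := fun x => by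
      simp only [pow_succ, pow_zero, one_mul, mul_assoc]
    rw [e, gq_sq, d_sq]) ?_
  have n1 : pr 4 F 3 (d : SU 4 F 3) ∈ (Subgroup.zpowers (pr 4 F 3 wq) ⊔ (Subgroup.zpowers (pr 4 F 3 dq) ⊔
      Subgroup.zpowers (pr 4 F 3 (d : SU 4 F 3))) : Subgroup (PSU 4 F 3)) :=
    Subgroup.mem_sup_right m1
  have n2 : pr 4 F 3 (dq : SU 4 F 3) ∈ (Subgroup.zpowers (pr 4 F 3 wq) ⊔ (Subgroup.zpowers (pr 4 F 3 dq) ⊔
      Subgroup.zpowers (pr 4 F 3 (d : SU 4 F 3))) : Subgroup (PSU 4 F 3)) :=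
    Subgroup.mem_sup_right m2
  have n3 : pr 4 F 3 (wq : SU 4 F 3) ∈ (Subgroup.zpowers (pr 4 F 3 wq) ⊔ (Subgroup.zpowers (pr 4 F 3 dq) ⊔
      Subgroup.zpowers (pr 4 F 3 (d : SU 4 F 3))) : Subgroup (PSU 4 F 3)) :=
    Subgroup.mem_sup_left (Subgroup.mem_zpowers _)
  have hle : (Subgroup.zpowers (pr 4 F 3 wq) ⊔ (Subgroup.zpowers (pr 4 F 3 dq) ⊔
      Subgroup.zpowers (pr 4 F 3 (d : SU 4 F 3)))).map (MulAut.conj (pr 4 F 3 (gq ha))).toMonoidHom ≤
      Subgroup.zpowers (pr 4 F 3 wq) ⊔ (Subgroup.zpowers (pr 4 F 3 dq) ⊔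
      Subgroup.zpowers (pr 4 F 3 (d : SU 4 F 3))) := by
    rw [Subgroup.map_sup, Subgroup.map_sup]
    refine sup_le ?_ (sup_le ?_ (((cz _ (gq_d ha)).trans le_sup_right).trans le_sup_right))
    · rw [MonoidHom.map_zpowers, Subgroup.zpowers_le]
      show pr 4 F 3 (gq ha) * pr 4 F 3 wq * (pr 4 F 3 (gq ha))⁻¹ ∈ _
      rw [conj_of_eq (gq_wq ha)]
      exact mul_mem n2 n1
    · rw [MonoidHom.map_zpowers, Subgroup.zpowers_le]
      show pr 4 F 3 (gq ha) * pr 4 F 3 dq * (pr 4 F 3 (gq ha))⁻¹ ∈ _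
      rw [conj_of_eq (gq_dq ha)]
      exact mul_mem n3 n1
  exact fun h hh => hle ⟨h, hh, rfl⟩

theorem S₀_fix (hF : Fintype.card F = 9) : S₀ ha ≤ fixS (sim ha hF) := by
  have hz : sim ha hF (pr 4 F 3 d) = pr 4 F 3 d := by
    have h1 := gq_sq ha
    rw [← h1, map_mul, sim_gq]
  refine sup_le ?_ (sup_le ?_ (sup_le ?_ ?_)) <;> rw [Subgroup.zpowers_le]
  · exact sim_gq ha hF
  · exact sim_wq ha hF
  · exact sim_dq ha hF
  · exact hz

theorem sim_comm (hF : Fintype.card F = 9) : pr 4 F 3 d ∈ ⁅fixS (sim ha hF), fixS (sim ha hF)⁆ := by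
  have h1 : ⁅pr 4 F 3 (wq : SU 4 F 3), pr 4 F 3 dq⁆ = pr 4 F 3 d := by
    rw [commutatorElement_def, wq_dq, dq_d]
    group
  rw [← h1]
  exact Subgroup.commutator_mem_commutator (sim_wq ha hF) (sim_dq ha hF)

/-- the linear automorphisms fixing `dq`, `wq`, `gq` and commuting with `sim` -/
theorem sim_lin (hF : Fintype.card F = 9) {M : M4 F} (hM : st M * M = 1)
    (h1 : sa hF M hM false (pr 4 F 3 dq) = pr 4 F 3 dq) (h2 : sa hF M hM false (pr 4 F 3 wq) = pr 4 F 3 wq)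
    (h3 : sa hF M hM false (pr 4 F 3 (gq ha)) = pr 4 F 3 (gq ha))
    (h4 : sa hF M hM false * sim ha hF = sim ha hF * sa hF M hM false) :
    sa hF M hM false = 1 ∨ sa hF M hM false = MulAut.conj (pr 4 F 3 d) := by
  have t3 : (3 : F) = 0 := three
  have t : ∀ {x : F}, 2 * x = 0 → x = 0 := fun h => (mul_eq_zero.1 h).resolve_left two_ne
  obtain ⟨c1, hc1, g1⟩ := (sa_iff hF _ _ _ _).1 h1
  obtain ⟨c2, hc2, g2⟩ := (sa_iff hF _ _ _ _).1 h2
  obtain ⟨c3, hc3, g3⟩ := (sa_iff hF _ _ _ _).1 h3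
  rw [tw_false] at g1 g2 g3
  have hc20 : c2 ≠ 0 := by
    rintro rfl
    exact zero_ne_one (α := F) (by linear_combination hc2)
  have e1 : ∀ k l, M k l * (![1, -1, -1, 1] : Fin 4 → F) l =
      c1 * ((![1, -1, -1, 1] : Fin 4 → F) k * M k l) := by
    intro k l
    have h := congrFun (congrFun g1 k) l
    have e : mat (dq : SU 4 F 3) = diagonal ![1, -1, -1, 1] := rfl
    rwa [e, mul_diagonal, Matrix.smul_apply, diagonal_mul] at h
  have e2 : ∀ k l, (M * mat (wq : SU 4 F 3)) k l = c2 * (mat (wq : SU 4 F 3) * M) k l :=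
    fun k l => congrFun (congrFun g2 k) l
  have e3 : ∀ k l, (M * mat (gq ha)) k l = c3 * (mat (gq ha) * M) k l :=
    fun k l => congrFun (congrFun g3 k) l
  have hu : ∀ l, M 0 l ^ 3 * M 0 l + M 1 l ^ 3 * M 1 l + M 2 l ^ 3 * M 2 l + M 3 l ^ 3 * M 3 l = 1 := by
    intro l
    have h := congrFun (congrFun hM l) l
    rw [mul_apply, Fin.sum_univ_four, one_apply_eq] at h
    exact h
  -- the equation with `sim`
  obtain ⟨k, hk, g4⟩ : ∃ k : F, k ^ 4 = 1 ∧ aq a * tw true M = k • (M * aq a) := by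
    unfold sim at h4
    rw [sa_mul, sa_mul] at h4
    obtain ⟨-, k, hk, h5⟩ := sa_inj hF _ _ h4
    rw [tw_false] at h5
    exact ⟨k, hk, h5⟩
  have e4 : ∀ i j, (![1, 1, 1, a] : Fin 4 → F) i * M i j ^ 3 = k * (M i j * (![1, 1, 1, a] : Fin 4 → F) j) := by
    intro i j
    have h := congrFun (congrFun g4 i) j
    unfold aq at h
    rw [diagonal_mul, Matrix.smul_apply, mul_diagonal] at h
    exact h
  have hcc : c1 ^ 2 = 1 := by
    by_contra hne
    have hz : ∀ i j, M i j = 0 := by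
      intro i j
      have h5 : (c1 ^ 2 - 1) * M i j = 0 := by
        have h6 := e1 i j
        have vi : (![1, -1, -1, 1] : Fin 4 → F) i ^ 2 = 1 := by fin_cases i <;> simp
        have vj : (![1, -1, -1, 1] : Fin 4 → F) j ^ 2 = 1 := by fin_cases j <;> simp
        linear_combination (-(![1, -1, -1, 1] : Fin 4 → F) j - c1 * (![1, -1, -1, 1] : Fin 4 → F) i) * h6 +
          M i j * vj - c1 ^ 2 * M i j * vi
      exact (mul_eq_zero.1 h5).resolve_left (fun h => hne (by linear_combination h))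
    have := hu 0
    rw [hz 0 0, hz 1 0, hz 2 0, hz 3 0] at this
    simp at this
  rcases sq_one hcc with rfl | rfl
  · have z01 : M 0 1 = 0 := t (by have h := e1 0 1; simp at h; linear_combination -h)
    have z02 : M 0 2 = 0 := t (by have h := e1 0 2; simp at h; linear_combination -h)
    have z10 : M 1 0 = 0 := t (by have h := e1 1 0; simp at h; linear_combination h)
    have z13 : M 1 3 = 0 := t (by have h := e1 1 3; simp at h; linear_combination h)
    have z20 : M 2 0 = 0 := t (by have h := e1 2 0; simp at h; linear_combination h)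
    have z23 : M 2 3 = 0 := t (by have h := e1 2 3; simp at h; linear_combination h)
    have z31 : M 3 1 = 0 := t (by have h := e1 3 1; simp at h; linear_combination -h)
    have z32 : M 3 2 = 0 := t (by have h := e1 3 2; simp at h; linear_combination -h)
    have z03 : M 0 3 = 0 := by
      have h := e2 0 3
      rw [m_wq, mul_apply, mul_apply, Fin.sum_univ_four, Fin.sum_univ_four] at h
      simpa [z13] using h
    have z30 : M 3 0 = 0 := by
      have h := e2 3 0
      rw [m_wq, mul_apply, mul_apply, Fin.sum_univ_four, Fin.sum_univ_four] at h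
      simpa [z31, hc20] using h
    have z12 : M 1 2 = 0 := by
      have h := e2 1 2
      rw [m_wq, mul_apply, mul_apply, Fin.sum_univ_four, Fin.sum_univ_four] at h
      simpa [z02] using h
    have z21 : M 2 1 = 0 := by
      have h := e2 2 1
      rw [m_wq, mul_apply, mul_apply, Fin.sum_univ_four, Fin.sum_univ_four] at h
      simpa [z20, hc20] using h
    have u0 : M 0 0 ^ 3 * M 0 0 = 1 := by
      have h := hu 0
      rw [z10, z20, z30] at h
      linear_combination h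
    have u2 : M 2 2 ^ 3 * M 2 2 = 1 := by
      have h := hu 2
      rw [z02, z12, z32] at h
      linear_combination h
    have u3 : M 3 3 ^ 3 * M 3 3 = 1 := by
      have h := hu 3
      rw [z03, z13, z23] at h
      linear_combination h
    have d2 : c2 = 1 := by
      have h := e2 3 3
      rw [m_wq, mul_apply, mul_apply, Fin.sum_univ_four, Fin.sum_univ_four] at h
      simp at h
      linear_combination (c2 - 1) * (-u3) - M 3 3 ^ 3 * h
    have f01 : M 0 0 = M 1 1 := by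
      have h := e2 0 1
      rw [m_wq, mul_apply, mul_apply, Fin.sum_univ_four, Fin.sum_univ_four] at h
      simpa [d2] using h
    have d3 : c3 = 1 := by
      have h := e3 0 0
      rw [m_gq, mul_apply, mul_apply, Fin.sum_univ_four, Fin.sum_univ_four] at h
      simp [z01, z02, z10] at h
      have h5 : 2 * (c3 - 1) = 0 := by
        linear_combination (c3 - 1) * ha - (c3 - 1) * (1 - a ^ 2) * u0 - (1 - a) * M 0 0 ^ 3 * h
      linear_combination t h5
    have f23 : M 2 2 = M 3 3 := by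
      have h := e3 2 3
      rw [m_gq, mul_apply, mul_apply, Fin.sum_univ_four, Fin.sum_univ_four] at h
      simpa [d3] using h
    have hb : M 2 2 ^ 2 = M 0 0 ^ 2 := by
      have k0 := e4 0 0
      have k2 := e4 2 2
      simp at k0 k2
      linear_combination -M 2 2 ^ 2 * (u0 - M 0 0 * k0) + M 0 0 ^ 2 * (u2 - M 2 2 * k2)
    have hb4 : (M 0 0 ^ 3 * M 2 2) ^ 4 = 1 :=
      p4 (p34 (by linear_combination u0)) (by linear_combination u2)
    have he : sa hF M hM false = del hF (M 0 0 ^ 3 * M 2 2) hb4 := by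
      refine (sa_smul hF (un_dd hb4) hM false (c := M 0 0) ?_).symm
      ext i j
      rw [Matrix.smul_apply, smul_eq_mul]
      fin_cases i <;> fin_cases j <;>
        simp [dd, z01, z10, z02, z03, z12, z13, z20, z21, z30, z31, z23, z32]
      · exact f01.symm
      · linear_combination -M 2 2 * u0
      · rw [← f23]; linear_combination -M 2 2 * u0
    rw [he]
    apply del_sq
    linear_combination M 0 0 ^ 6 * hb + (M 0 0 ^ 4 + 1) * u0
  · exfalso
    have z00 : M 0 0 = 0 := t (by have h := e1 0 0; simp at h; linear_combination h)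
    have z03 : M 0 3 = 0 := t (by have h := e1 0 3; simp at h; linear_combination h)
    have z11 : M 1 1 = 0 := t (by have h := e1 1 1; simp at h; linear_combination -h)
    have z12 : M 1 2 = 0 := t (by have h := e1 1 2; simp at h; linear_combination -h)
    have z21 : M 2 1 = 0 := t (by have h := e1 2 1; simp at h; linear_combination -h)
    have z22 : M 2 2 = 0 := t (by have h := e1 2 2; simp at h; linear_combination -h)
    have z30 : M 3 0 = 0 := t (by have h := e1 3 0; simp at h; linear_combination h)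
    have z33 : M 3 3 = 0 := t (by have h := e1 3 3; simp at h; linear_combination h)
    have z02 : M 0 2 = 0 := by
      have h := e2 0 2
      rw [m_wq, mul_apply, mul_apply, Fin.sum_univ_four, Fin.sum_univ_four] at h
      simpa [z12] using h
    have z13 : M 1 3 = 0 := by
      have h := e2 1 3
      rw [m_wq, mul_apply, mul_apply, Fin.sum_univ_four, Fin.sum_univ_four] at h
      simpa [z03] using h
    have z31 : M 3 1 = 0 := by
      have h := e2 3 1
      rw [m_wq, mul_apply, mul_apply, Fin.sum_univ_four, Fin.sum_univ_four] at h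
      simpa [z30, hc20] using h
    have z20 : M 2 0 = 0 := by
      have h := e2 2 0
      rw [m_wq, mul_apply, mul_apply, Fin.sum_univ_four, Fin.sum_univ_four] at h
      simpa [z21, hc20] using h
    have u1 : M 0 1 ^ 3 * M 0 1 = 1 := by
      have h := hu 1
      rw [z11, z21, z31] at h
      linear_combination h
    have u3 : M 2 3 ^ 3 * M 2 3 = 1 := by
      have h := hu 3
      rw [z03, z13, z33] at h
      linear_combination h
    have k0 := e4 0 1
    have k2 := e4 2 3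
    simp at k0 k2
    have k1 : k * M 0 1 ^ 2 = 1 := by linear_combination u1 - M 0 1 * k0
    have k3 : k * (a * M 2 3 ^ 2) = 1 := by linear_combination u3 - M 2 3 * k2
    have kk : k ^ 2 = 1 := by
      linear_combination (k * M 0 1 ^ 2 + 1) * k1 - k ^ 2 * u1
    apply two_ne (F := F)
    linear_combination -(k * (a * M 2 3 ^ 2) + 1) * k3 + a ^ 2 * M 2 3 ^ 4 * kk + a ^ 2 * u3 + ha

/-- the cosets of determinant `± a` -/
theorem good_sim (hF : Fintype.card F = 9) :
    ∃ S, S₀ ha ≤ S ∧ GoodK (sim ha hF) (pr 4 F 3 d) (pr 4 F 3 (i2 a ha)) S := by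
  have hfin : Finite (PSU 4 F 3) := inferInstance
  obtain ⟨m1, m2, m3, m4⟩ := mem_S₀ ha
  have hz : sim ha hF (pr 4 F 3 d) = pr 4 F 3 d := S₀_fix ha hF m4
  have hi : pr 4 F 3 (i2 a ha) * pr 4 F 3 d = pr 4 F 3 d * pr 4 F 3 (i2 a ha) := by
    have P := plus hF ha
    refine P.large.comm_z _ ?_
    rw [gen hF ha]
    exact Subgroup.subset_closure (by simp)
  refine good_of (fun x y h => conj_inj hF h) (fun x => not_inner hF (sgn_sim ha hF) x) (sim_sq ha hF) d_sq
    (d_ne hF) (sim_comm ha hF) (sim_i2 ha hF) hi (fun x hx => S₀_fix ha hF hx) (isPGroup_S₀ ha) m4 ?_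
  have key : ∀ β : MulAut (PSU 4 F 3), sgn hF β = 1 → β * sim ha hF = sim ha hF * β →
      (∀ s ∈ S₀ ha, β s = s) → β = 1 ∨ β = MulAut.conj (pr 4 F 3 d) := by
    intro β hs hc hβ
    obtain ⟨M, hM, ε, rfl⟩ := exists_sa hF β
    rw [sgn_sa] at hs
    cases ε
    · exact sim_lin ha hF hM (hβ _ m3) (hβ _ m2) (hβ _ m1) hc
    · exact absurd hs (by decide)
  intro β hc hβ
  rcases Int.units_eq_one_or (sgn hF β) with hs | hs
  · rcases key β hs hc hβ with h | h
    · exact Or.inl h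
    · exact Or.inr (Or.inl h)
  · have e1 : sgn hF (β * sim ha hF) = 1 := by rw [map_mul, hs, sgn_sim]; rfl
    have e2 : β * sim ha hF * sim ha hF = sim ha hF * (β * sim ha hF) := by rw [hc]; simp only [mul_assoc]; rw [hc]
    have e3 : β = β * sim ha hF * sim ha hF := by rw [mul_assoc, sim_sq, mul_one]
    rcases key (β * sim ha hF) e1 e2 (fun s hs => by
      rw [MulAut.mul_apply, show sim ha hF s = s from S₀_fix ha hF hs, hβ s hs]) with h | h
    · right; right; left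
      rw [e3, h, one_mul]
    · right; right; right
      rw [e3, h]
      ext x
      rw [MulAut.mul_apply, MulAut.mul_apply, MulAut.conj_apply, MulAut.conj_apply, map_mul, map_mul, map_inv, hz]

end sim

/-- **(K2)**: every coset of semilinear automorphisms contains an involution with the property `GoodK` -/
theorem exists_good (hF : Fintype.card F = 9) (β : MulAut (PSU 4 F 3)) (hβ : sgn hF β = -1) :
    ∃ (k v p : PSU 4 F 3) (S : Subgroup (PSU 4 F 3)), GoodK (MulAut.conj k * β) v p S ∧ v = pr 4 F 3 d := by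
  obtain ⟨a, ha⟩ := exists_a hF
  obtain ⟨M, hM, rfl⟩ := of_sgn hF hβ
  have ha' : (-a) ^ 2 = -1 := by rw [neg_sq, ha]
  rcases four_cases ha (det_pow hM) with h | h | h | h
  · have h1 : (1 : F) ^ 4 = 1 := one_pow 4
    obtain ⟨k, hk⟩ := exists_conj_mul hF hM (un_rr h1) true (by rw [det_rr, h]; ring)
    obtain ⟨S, -, -, hS⟩ := good_one ha hF h1
    refine ⟨k, _, pr 4 F 3 (yy a ha), S, ?_, rfl⟩
    rw [hk]
    exact hS
  · obtain ⟨k, hk⟩ := exists_conj_mul hF hM (un_rr (a_pow ha)) true (by rw [det_rr, h, ha])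
    obtain ⟨S, -, -, hS⟩ := good_a ha hF (a_pow ha)
    refine ⟨k, _, pr 4 F 3 (yy a ha), S, ?_, rfl⟩
    rw [hk]
    exact hS
  · obtain ⟨k, hk⟩ := exists_conj_mul hF hM (un_aq ha) true (by rw [det_aq, h])
    obtain ⟨S, -, hS⟩ := good_sim ha hF
    refine ⟨k, _, pr 4 F 3 (i2 a ha), S, ?_, rfl⟩
    rw [hk]
    exact hS
  · obtain ⟨k, hk⟩ := exists_conj_mul hF hM (un_aq ha') true (by rw [det_aq, h])
    obtain ⟨S, -, hS⟩ := good_sim ha' hF
    refine ⟨k, _, pr 4 F 3 (i2 (-a) ha'), S, ?_, rfl⟩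
    rw [hk]
    exact hS


end Cfsg.Agent.OddHalf.D6.QThree.U43AutGood

end
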