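import Cfsg.Agent.OddHalf.D6.QThree.RefTri
import Cfsg.Agent.OddHalf.D6.QThree.NIFacts
import Cfsg.Agent.OddHalf.D6.QThree.U43AutKF
import Cfsg.Agent.OddHalf.D6.QThree.NIB.SpOf
import Cfsg.Agent.OddHalf.D6.QThree.NIB.DiagOf
import Cfsg.Agent.OddHalf.D6.QThree.FrontLoc
import Cfsg.Agent.OddHalf.D6.QThree.RefData
import Cfsg.Agent.OddHalf.D6.QThree.TransportOut
import Cfsg.Agent.OddHalf.D6.QThree.RefOf
import Cfsg.Agent.OddHalf.D6.QThree.NIB.End
import Cfsg.Agent.OddHalf.D6.QThree.FrontInstB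
import Cfsg.Agent.OddHalf.D6.QThree.NIB.Hyp
import Cfsg.Agent.OddHalf.D3.Plug
import Cfsg.Agent.OddHalf.D6.QThree.U43AutGood
import Cfsg.Agent.OddHalf.D6.QThree.U43Tw
import Cfsg.Agent.OddHalf.D6.QThree.TransferMu
import Cfsg.Agent.OddHalf.D6.QThree.FrontB
import Cfsg.Agent.OddHalf.D6.QThree.FrontK
import Cfsg.Agent.OddHalf.D6.QThree.L43.EndCard
import Cfsg.Agent.OddHalf.D8.HS.Elim
import Cfsg.Agent.SignalizersComponents.CharP
import Cfsg.Agent.SignalizersComponents.PConstrained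
import Cfsg.Agent.Transfer.PGroupNormal
import Cfsg.Agent.OddHalf.D6.QThree.FrontLocOf
import Cfsg.Agent.OddHalf.D6.Cut

-- merged: Cfsg.Agent.OddHalf.D6.QThree.NIB.KFOf
section

/-!
# ODD half, D6, NI with `B`: the fact (K3) on `U₄(3)` (helper801)

`KFK z R`: one class of involutions; `z ∈ O₂(C(u))` iff `u ∈ O₂(C(z))`. `kfk_pr`: `U₄(3)`; `KFK.map`: transport;
`KFK.kf`: `FusB.KF` for `K ≤ G`.
-/

set_option autoImplicit false
set_option linter.unusedSectionVars false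
set_option linter.unusedTactic false
set_option linter.unreachableTactic false

namespace Cfsg.Agent.OddHalf.D6.QThree.NIB.KFOf

open Cfsg
open Cfsg.Agent.OddHalf.D6.QThree.NIFacts

/-- the facts on `K` -/
structure KFK {K : Type*} [Group K] (z : K) (R : Subgroup K) : Prop where
  one : ∀ u : K, u * u = 1 → u ≠ 1 → ∃ k, k * u * k⁻¹ = z
  back : ∀ u ∈ R, u * u = 1 → u ≠ 1 → u ≠ z → ∀ k, k * u * k⁻¹ = z → k * z * k⁻¹ ∈ R
  ex : ∃ u ∈ R, u * u = 1 ∧ u ≠ 1 ∧ u ≠ z

/-! ### transitivity on the involutions of `R - ⟨z⟩` -/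

section model

open Cfsg.Agent.LargeExtra.W2.PlusHom (M mi mj mk ml)
open Cfsg.Agent.LargeExtra.Models Cfsg.Agent.LargeExtra.Pres Cfsg.Agent.LargeExtra.Model
open Cfsg.Agent.OddHalf.D6.QThree.PlusOf

theorem trans_model : ∀ m : M, m * m = 1 → m ≠ 1 → m ≠ zz →
    ∃ n : M, m = n * (mi * mk) * n⁻¹ ∨ m = n * ea (mi * mk) * n⁻¹ ∨ m = n * ea (ea (mi * mk)) * n⁻¹ ∨
      m = n * eb (mi * mk) * n⁻¹ ∨ m = n * ea (eb (mi * mk)) * n⁻¹ ∨ m = n * ea (ea (eb (mi * mk))) * n⁻¹ ∨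
      m = n * eb (eb (mi * mk)) * n⁻¹ ∨ m = n * ea (eb (eb (mi * mk))) * n⁻¹ ∨
      m = n * ea (ea (eb (eb (mi * mk)))) * n⁻¹ := by decide +kernel

theorem trans_model' (m : M) (h1 : m * m = 1) (h2 : m ≠ 1) (h3 : m ≠ zz) :
    ∃ (n : M) (α β : ℕ), m = n * (ea^[α] (eb^[β] (mi * mk))) * n⁻¹ := by
  obtain ⟨n, h | h | h | h | h | h | h | h | h⟩ := trans_model m h1 h2 h3
  exacts [⟨n, 0, 0, h⟩, ⟨n, 1, 0, h⟩, ⟨n, 2, 0, h⟩, ⟨n, 0, 1, h⟩, ⟨n, 1, 1, h⟩, ⟨n, 2, 1, h⟩, ⟨n, 0, 2, h⟩,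
    ⟨n, 1, 2, h⟩, ⟨n, 2, 2, h⟩]

variable {G : Type*} [Group G] {z i j k l a b : G}

theorem iter_a (f : Frame z i j k l a b) (α : ℕ) (m : M) :
    a ^ α * hom f.toQRel m * (a ^ α)⁻¹ = hom f.toQRel (ea^[α] m) := by
  induction α with
  | zero => rw [pow_zero, one_mul, inv_one, mul_one]; rfl
  | succ α ih =>
    rw [Function.iterate_succ_apply', ← f.conj_a, ← ih, pow_succ']
    group

theorem iter_b (f : Frame z i j k l a b) (β : ℕ) (m : M) :
    b ^ β * hom f.toQRel m * (b ^ β)⁻¹ = hom f.toQRel (eb^[β] m) := by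
  induction β with
  | zero => rw [pow_zero, one_mul, inv_one, mul_one]; rfl
  | succ β ih =>
    rw [Function.iterate_succ_apply', ← f.conj_b, ← ih, pow_succ']
    group

/-- `⟨R, a, b⟩` is transitive on the involutions of `R - ⟨z⟩` -/
theorem trans (f : Frame z i j k l a b) {u : G} (hu : u ∈ Subgroup.closure {i, j, k, l}) (uu : u * u = 1)
    (u1 : u ≠ 1) (uz : u ≠ z) : ∃ p, p * z = z * p ∧ p * (i * k) * p⁻¹ = u := by
  have haz : Commute a z := mul_inv_eq_iff_eq_mul.1 f.act_a.z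
  have hbz : Commute b z := mul_inv_eq_iff_eq_mul.1 f.act_b.z
  rw [← hom_range f.toQRel] at hu
  obtain ⟨m, rfl⟩ := hu
  have hz : hom f.toQRel zz = z := hom_zz _
  obtain ⟨n, α, β, e⟩ := trans_model' m (by
    apply hom_injective f.toQRel
    rw [map_mul, uu, map_one]) (fun h => u1 (by rw [h, map_one])) (fun h => uz (by rw [h, hz]))
  have hn : Commute (hom f.toQRel n) z := by
    have h1 : n * zz = zz * n := zz_comm n
    have h2 : hom f.toQRel n * hom f.toQRel zz = hom f.toQRel zz * hom f.toQRel n := by rw [← map_mul, h1, map_mul]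
    rwa [hz] at h2
  refine ⟨hom f.toQRel n * a ^ α * b ^ β, ((hn.mul_left (haz.pow_left α)).mul_left (hbz.pow_left β)).eq, ?_⟩
  have h2 : i * k = hom f.toQRel (mi * mk) := by rw [map_mul, hom_i, hom_k]
  calc hom f.toQRel n * a ^ α * b ^ β * (i * k) * (hom f.toQRel n * a ^ α * b ^ β)⁻¹
      = hom f.toQRel n * (a ^ α * (b ^ β * (i * k) * (b ^ β)⁻¹) * (a ^ α)⁻¹) * (hom f.toQRel n)⁻¹ := by group
    _ = hom f.toQRel m := by
      rw [h2, iter_b f, iter_a f, e, map_mul, map_mul, map_inv]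

/-- the involution `ik` -/
theorem ik (f : Frame z i j k l a b) : (i * k) * (i * k) = 1 ∧ i * k ≠ 1 ∧ i * k ≠ z := by
  have h1 : (mi * mk : M) * (mi * mk) = 1 := by decide +kernel
  have h2 : (mi * mk : M) ≠ 1 := by decide +kernel
  have h3 : (mi * mk : M) ≠ zz := by decide +kernel
  have h4 : i * k = hom f.toQRel (mi * mk) := by rw [map_mul, hom_i, hom_k]
  rw [h4]
  refine ⟨by rw [← map_mul, h1, map_one], fun e => h2 ?_, fun e => h3 ?_⟩
  · apply hom_injective f.toQRel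
    rw [e, map_one]
  · apply hom_injective f.toQRel
    rw [e, hom_zz]

end model

/-! ### `KFK` from one pair -/

theorem kfk_of {K : Type*} [Group K] {z i j k l a b : K} {R : Subgroup K} (hb : Facts.Base z R)
    (f : Frame z i j k l a b) (gR : R = Subgroup.closure {i, j, k, l})
    (one : ∀ u : K, u * u = 1 → u ≠ 1 → ∃ k, k * u * k⁻¹ = z) {u₀ k₀ : K} (hu : u₀ ∈ R) (uu : u₀ * u₀ = 1)
    (u1 : u₀ ≠ 1) (uz : u₀ ≠ z) (h1 : k₀ * u₀ * k₀⁻¹ = z) (h2 : k₀ * z * k₀⁻¹ ∈ R) : KFK z R where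
  one := one
  ex := ⟨u₀, hu, uu, u1, uz⟩
  back := by
    intro u hu' uu' u1' uz' k hk
    subst gR
    obtain ⟨p, hp, e⟩ := trans f hu uu u1 uz
    obtain ⟨p', hp', e'⟩ := trans f hu' uu' u1' uz'
    have h3 : u = (p' * p⁻¹) * u₀ * (p' * p⁻¹)⁻¹ := by rw [← e', ← e]; group
    have hc : Commute (k * (p' * p⁻¹) * k₀⁻¹) z := by
      show k * (p' * p⁻¹) * k₀⁻¹ * z = z * (k * (p' * p⁻¹) * k₀⁻¹)
      have h4 : k₀⁻¹ * z = u₀ * k₀⁻¹ := by rw [← h1]; group
      calc k * (p' * p⁻¹) * k₀⁻¹ * z = k * (p' * p⁻¹) * (k₀⁻¹ * z) := by group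
        _ = k * ((p' * p⁻¹) * u₀ * (p' * p⁻¹)⁻¹) * k⁻¹ * (k * (p' * p⁻¹) * k₀⁻¹) := by rw [h4]; group
        _ = z * (k * (p' * p⁻¹) * k₀⁻¹) := by rw [← h3, hk]
    have h5 := hb.nR _ hc.eq _ h2
    have cp : Commute p z := hp
    have cp' : Commute p' z := hp'
    have h6 : (p' * p⁻¹) * z * (p' * p⁻¹)⁻¹ = z := by
      rw [(cp'.mul_left cp.inv_left).eq]; group
    have h7 : k * (p' * p⁻¹) * k₀⁻¹ * (k₀ * z * k₀⁻¹) * (k * (p' * p⁻¹) * k₀⁻¹)⁻¹ = k * z * k⁻¹ := by
      calc k * (p' * p⁻¹) * k₀⁻¹ * (k₀ * z * k₀⁻¹) * (k * (p' * p⁻¹) * k₀⁻¹)⁻¹ =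
          k * ((p' * p⁻¹) * z * (p' * p⁻¹)⁻¹) * k⁻¹ := by group
        _ = k * z * k⁻¹ := by rw [h6]
    rwa [h7] at h5

/-- transport -/
theorem KFK.map {K L : Type*} [Group K] [Group L] {z : K} {R : Subgroup K} (h : KFK z R) (e : K ≃* L) :
    KFK (e z) (R.map e.toMonoidHom) where
  one := by
    intro u uu u1
    obtain ⟨u, rfl⟩ := e.surjective u
    obtain ⟨k, hk⟩ := h.one u (e.injective (by rw [map_mul, uu, map_one])) (fun h1 => u1 (by rw [h1, map_one]))
    exact ⟨e k, by rw [← map_inv, ← map_mul, ← map_mul, hk]⟩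
  back := by
    rintro _ ⟨u, hu, rfl⟩ uu u1 uz k hk
    obtain ⟨k, rfl⟩ := e.surjective k
    have e1 : e.toMonoidHom u = e u := rfl
    rw [e1] at uu u1 uz hk
    refine ⟨k * z * k⁻¹, h.back u hu (e.injective (by rw [map_mul, uu, map_one])) (fun h1 => u1 (by rw [h1, map_one]))
      (fun h1 => uz (by rw [h1])) k (e.injective (by rw [map_mul, map_mul, map_inv, hk])), ?_⟩
    show e (k * z * k⁻¹) = e k * e z * (e k)⁻¹
    rw [map_mul, map_mul, map_inv]
  ex := by
    obtain ⟨u, hu, uu, u1, uz⟩ := h.ex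
    refine ⟨e u, ⟨u, hu, rfl⟩, by rw [← map_mul, uu, map_one], fun h1 => u1 (e.injective (by rw [h1, map_one])),
      fun h1 => uz (e.injective h1)⟩

/-- `FusB.KF` -/
theorem KFK.kf {G : Type*} [Group G] {K : Subgroup G} {z : K} {R : Subgroup K} (h : KFK z R) {t : G}
    (zz : z * z = 1) (z1 : z ≠ 1) (Kt : ∀ k ∈ K, k * t = t * k) : FusB.KF t (z : G) K (R.map K.subtype) where
  zz := congrArg Subtype.val zz
  z1 := fun h1 => z1 (Subtype.ext h1)
  Kt := Kt
  RK := by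
    rintro _ ⟨r, -, rfl⟩
    exact r.2
  one := by
    intro u hu uu u1
    obtain ⟨k, hk⟩ := h.one ⟨u, hu⟩ (Subtype.ext uu) (fun h1 => u1 (congrArg Subtype.val h1))
    exact ⟨k, k.2, congrArg Subtype.val hk⟩
  back := by
    rintro _ ⟨u, hu, rfl⟩ uu u1 uz k hk hku
    have := h.back u hu (Subtype.ext uu) (fun h1 => u1 (by rw [h1]; rfl)) (fun h1 => uz (by rw [h1]; rfl)) ⟨k, hk⟩
      (Subtype.ext hku)
    exact ⟨_, this, rfl⟩
  ex := by
    obtain ⟨u, hu, uu, u1, uz⟩ := h.ex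
    exact ⟨u, ⟨u, hu, rfl⟩, congrArg Subtype.val uu, fun h1 => u1 (Subtype.ext h1), fun h1 => uz (Subtype.ext h1)⟩


/-! ### `U₄(3)` -/

section U43

open Matrix Cfsg.Agent.OddHalf.D6.QThree.U43Aut Cfsg.Agent.OddHalf.D6.QThree.U43AutRef
open Cfsg.Agent.OddHalf.D6.QThree.U43AutGood
open Cfsg.Agent.OddHalf.Small.U43Mat Cfsg.Agent.OddHalf.Small.U43Good
open Cfsg.Agent.LieClassical.HermSiegel Cfsg.Agent.LieClassical.SUBasic
open Cfsg.Agent.ClassicalGeometry.UnitAutBasic (pr pr_surjective)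
open Cfsg.Agent.OddHalf.D6.QThree.U43Elt Cfsg.Agent.OddHalf.D6.QThree.U43Plus

variable {F : Type*} [Field F] [CharP F 3] [Fintype F]

/-- the transposition of the first and the third coordinate -/
def wk : SU 4 F 3 := mkSU !![0, 0, 1, 0; 0, -1, 0, 0; 1, 0, 0, 0; 0, 0, 0, 1]
  (by simp [det_succ_row_zero, Fin.sum_univ_succ, Fin.succAbove]) (by
    intro u v
    simp only [hermForm_apply, Fin.sum_univ_four]
    simp [mulVec, dotProduct, Fin.sum_univ_four]
    ring)

theorem m_wk : mat (wk : SU 4 F 3) = !![0, 0, 1, 0; 0, -1, 0, 0; 1, 0, 0, 0; 0, 0, 0, 1] := rfl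

theorem wk_d : pr 4 F 3 (wk : SU 4 F 3) * pr 4 F 3 d = pr 4 F 3 dq * pr 4 F 3 wk := by
  rw [← map_mul, ← map_mul]
  refine pr_eq_of_mat (c := -1) ?_
  rw [mat_mul, mat_mul, m_wk, m_dq, m_d]
  ext i j
  rw [Matrix.smul_apply, mul_apply, mul_apply, Fin.sum_univ_four, Fin.sum_univ_four]
  fin_cases i <;> fin_cases j <;> simp

theorem wk_dq : pr 4 F 3 (wk : SU 4 F 3) * pr 4 F 3 dq = pr 4 F 3 d * pr 4 F 3 wk := by
  rw [← map_mul, ← map_mul]
  refine pr_eq_of_mat (c := -1) ?_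
  rw [mat_mul, mat_mul, m_wk, m_dq, m_d]
  ext i j
  rw [Matrix.smul_apply, mul_apply, mul_apply, Fin.sum_univ_four, Fin.sum_univ_four]
  fin_cases i <;> fin_cases j <;> simp

theorem ii_eq {a : F} (ha : a ^ 2 = -1) :
    pr 4 F 3 (i1 a ha) * pr 4 F 3 (i2 a ha) = pr 4 F 3 dq * pr 4 F 3 d := by
  rw [← map_mul, ← map_mul]
  refine pr_eq_of_mat (c := -a) ?_
  rw [mat_mul, mat_mul, m_i1, m_i2, m_dq, m_d]
  ext i j
  rw [Matrix.smul_apply, mul_apply, mul_apply, Fin.sum_univ_four, Fin.sum_univ_four]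
  fin_cases i <;> fin_cases j <;> simp
  all_goals first | linear_combination -ha | linear_combination ha

theorem dq_mem (hF : Fintype.card F = 9) : pr 4 F 3 (dq : SU 4 F 3) ∈ QQ hF := by
  obtain ⟨a, ha⟩ := exists_a hF
  have h1 : pr 4 F 3 (i1 a ha) ∈ QQ hF := by
    rw [gen hF ha]; exact Subgroup.subset_closure (by simp)
  have h2 : pr 4 F 3 (i2 a ha) ∈ QQ hF := by
    rw [gen hF ha]; exact Subgroup.subset_closure (by simp)
  have h3 := (U43AutKF.two_pr hF).zR
  have h4 := (QQ hF).mul_mem ((QQ hF).mul_mem h1 h2) ((QQ hF).inv_mem h3)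
  rwa [ii_eq ha, mul_inv_cancel_right] at h4

theorem kfk_pr (hF : Fintype.card F = 9) : KFK (pr 4 F 3 d) (QQ hF) := by
  obtain ⟨i, j, k, l, x₁, x₂, f⟩ := U43AutKF.exists_front (F := F) hF
  have ht := U43AutKF.two_pr (F := F) hF
  refine kfk_of (u₀ := pr 4 F 3 dq) (k₀ := pr 4 F 3 wk) f.toBase f.fr f.gR ?_ (dq_mem hF) ?_ ?_ ?_ ?_ ?_
  · intro u uu u1
    obtain ⟨k, hk⟩ := ht.one u uu u1
    exact ⟨k⁻¹, by rw [← hk]; group⟩
  · rw [← map_mul, dq_sq, map_one]
  · intro h1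
    have h2 : pr 4 F 3 d = (pr 4 F 3 (wk : SU 4 F 3))⁻¹ * (pr 4 F 3 dq * pr 4 F 3 wk) := by
      rw [← wk_d]; group
    rw [h1, one_mul, inv_mul_cancel] at h2
    exact ht.z1 h2
  · intro h1
    obtain ⟨c, -, hc⟩ := mat_of_pr_eq hF h1
    have e0 := congrFun (congrFun hc 0) 0
    have e1 := congrFun (congrFun hc 1) 1
    rw [Matrix.smul_apply, m_d, m_dq] at e0 e1
    simp at e0 e1
    rw [← e0] at e1
    have h3 : (3 : F) = 0 := three
    have h4 : (1 : F) = 0 := by linear_combination h3 - e1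
    exact one_ne_zero h4
  · rw [wk_dq, mul_inv_cancel_right]
  · rw [wk_d, mul_inv_cancel_right]
    exact dq_mem hF

end U43

end Cfsg.Agent.OddHalf.D6.QThree.NIB.KFOf

end

-- merged: Cfsg.Agent.OddHalf.D6.QThree.NIB.FusOf
section

/-!
# ODD half, D6, NI with `B`: the `G`-level inputs of `NIB.End` (helper801; text: #14694 (F), (F_b), (4a), (4b))

`transport`: `FusB.KF` for a component `M ≅ K` of `C(b)`; `fusT_of`: `FusT`; `refTri_of`: `Two.RefTri`.
-/

set_option autoImplicit false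

namespace Cfsg.Agent.OddHalf.D6.QThree.NIB.FusOf

open Subgroup Cfsg
open Cfsg.Agent.OddHalf Cfsg.Agent.OddHalf.Iface Cfsg.Agent.OddHalf.D3
open Cfsg.Agent.OddHalf.D6.QThree.NISide
open Cfsg.Agent.OddHalf.D6.QThree.RefOf
open Cfsg.Agent.OddHalf.D6.QThree.FrontLoc (Loc)

universe u

variable {G : Type u} [Group G]

/-! ### transport to `M ≅ K` -/

/-- `KF t z K R ==> KF b z M R` for `M ≅ K` -/
theorem transport [Finite G] {t z b : G} {K M R : Subgroup G} (k : FusB.KF t z K R) (zR : z ∈ R)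
    (pR : IsPGroup 2 R) (RP : ∀ r ∈ R, r * z = z * r)
    (max : ∀ N : Subgroup G, N ≤ K → IsPGroup 2 N → (∀ n ∈ N, n * z = z * n) →
      (∀ g ∈ K, g * z = z * g → ∀ n ∈ N, g * n * g⁻¹ ∈ N) → N ≤ R)
    (hMb : ∀ m ∈ M, m * b = b * m) (hRM : R ≤ M)
    (nRM : ∀ g ∈ M, g * z = z * g → ∀ r ∈ R, g * r * g⁻¹ ∈ R) (e : K ≃* M) : FusB.KF b z M R := by
  -- `f : K ≃* M` with `f z = z`
  obtain ⟨f, hf⟩ : ∃ f : K ≃* M, ∀ hz : z ∈ K, ((f ⟨z, hz⟩ : M) : G) = z := by
    have hw2 : ((e.symm ⟨z, hRM zR⟩ : K) : G) * (e.symm ⟨z, hRM zR⟩ : K) = 1 := by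
      have : e.symm ⟨z, hRM zR⟩ * e.symm ⟨z, hRM zR⟩ = 1 := by
        rw [← map_mul]
        have : (⟨z, hRM zR⟩ : M) * ⟨z, hRM zR⟩ = 1 := Subtype.ext k.zz
        rw [this, map_one]
      exact congrArg Subtype.val this
    obtain ⟨c, hc, hcw⟩ := k.one _ (e.symm ⟨z, hRM zR⟩).2 hw2 (by
      intro h1
      have h2 : e.symm ⟨z, hRM zR⟩ = 1 := Subtype.ext h1
      have h3 : (⟨z, hRM zR⟩ : M) = 1 := e.symm.injective (by rw [h2, map_one])
      exact k.z1 (congrArg Subtype.val h3))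
    refine ⟨(MulAut.conj (⟨c, hc⟩ : K)⁻¹).trans e, fun hz => ?_⟩
    have h4 : (MulAut.conj (⟨c, hc⟩ : K)⁻¹) ⟨z, hz⟩ = e.symm ⟨z, hRM zR⟩ := by
      rw [MulAut.conj_apply, inv_inv]
      apply Subtype.ext
      have h5 : ∀ w : G, c * w * c⁻¹ = z → c⁻¹ * z * c = w := fun w hw => by rw [← hw]; group
      exact h5 _ hcw
    show ((e ((MulAut.conj (⟨c, hc⟩ : K)⁻¹) ⟨z, hz⟩) : M) : G) = z
    rw [h4, e.apply_symm_apply]
  have hzK : z ∈ K := k.RK zR
  have hfz : f ⟨z, hzK⟩ = ⟨z, hRM zR⟩ := Subtype.ext (hf hzK)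
  have hfz' : f.symm ⟨z, hRM zR⟩ = ⟨z, hzK⟩ := by rw [← hfz, f.symm_apply_apply]
  -- `f⁻¹(R) = R`
  set N : Subgroup G := ((R.subgroupOf M).comap f.toMonoidHom).map K.subtype with hN
  have memN : ∀ x (hx : x ∈ K), x ∈ N ↔ ((f ⟨x, hx⟩ : M) : G) ∈ R := by
    intro x hx
    constructor
    · rintro ⟨y, hy, hyx⟩
      have : y = ⟨x, hx⟩ := Subtype.ext hyx
      rw [← this]; exact hy
    · intro h1
      exact ⟨⟨x, hx⟩, h1, rfl⟩
  have hNK : N ≤ K := by
    rintro _ ⟨y, -, rfl⟩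
    exact y.2
  have hNR : N ≤ R := by
    apply max N hNK
    · have h1 : IsPGroup 2 ((R.subgroupOf M).comap f.toMonoidHom) := by
        have h2 : IsPGroup 2 (R.subgroupOf M) := pR.of_equiv (subgroupOfEquivOfLe hRM).symm
        exact h2.comap_of_injective f.toMonoidHom f.injective
      exact h1.map _
    · rintro _ ⟨y, hy, rfl⟩
      have h1 : ((f y : M) : G) * z = z * (f y : M) := RP _ hy
      have h2 : f (y * ⟨z, hzK⟩) = f (⟨z, hzK⟩ * y) := by
        rw [map_mul, map_mul, hfz]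
        exact Subtype.ext h1
      exact congrArg Subtype.val (f.injective h2)
    · rintro g hg hgz _ ⟨y, hy, rfl⟩
      refine ⟨⟨g, hg⟩ * y * ⟨g, hg⟩⁻¹, ?_, rfl⟩
      have h1 : ((f ⟨g, hg⟩ : M) : G) * z = z * (f ⟨g, hg⟩ : M) := by
        have h2 : f (⟨g, hg⟩ * ⟨z, hzK⟩) = f (⟨z, hzK⟩ * ⟨g, hg⟩) := congrArg f (Subtype.ext hgz)
        rw [map_mul, map_mul, hfz] at h2
        exact congrArg Subtype.val h2
      have h3 := nRM _ (f ⟨g, hg⟩).2 h1 _ hy
      show ((f (⟨g, hg⟩ * y * ⟨g, hg⟩⁻¹) : M) : G) ∈ R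
      rw [map_mul, map_mul, map_inv]
      exact h3
  have hcard : Nat.card N = Nat.card R := by
    have h1 : N = ((R.subgroupOf M).map f.symm.toMonoidHom).map K.subtype := by
      rw [hN]
      congr 1
      ext y
      constructor
      · intro hy
        exact ⟨f y, hy, f.symm_apply_apply y⟩
      · rintro ⟨m, hm, rfl⟩
        show f (f.symm m) ∈ R.subgroupOf M
        rw [f.apply_symm_apply]; exact hm
    rw [h1, Nat.card_congr (((R.subgroupOf M).map f.symm.toMonoidHom).equivMapOfInjective _ K.subtype_injective).toEquiv.symm,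
      Nat.card_congr ((R.subgroupOf M).equivMapOfInjective _ f.symm.injective).toEquiv.symm,
      Nat.card_congr (subgroupOfEquivOfLe hRM).toEquiv]
  have hNeq : N = R := Subgroup.eq_of_le_of_card_ge hNR hcard.ge
  have memR : ∀ x (hx : x ∈ K), x ∈ R ↔ ((f ⟨x, hx⟩ : M) : G) ∈ R := fun x hx => by
    rw [← memN x hx, hNeq]
  have hfs : ∀ m : M, ((f.symm m : K) : G) ∈ R ↔ (m : G) ∈ R := fun m => by
    rw [memR _ (f.symm m).2]
    have : (⟨((f.symm m : K) : G), (f.symm m).2⟩ : K) = f.symm m := rfl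
    rw [this, f.apply_symm_apply]
  have hone : ∀ m : M, (m : G) ≠ 1 → ((f.symm m : K) : G) ≠ 1 := by
    intro m hm h1
    apply hm
    have h2 : f.symm m = 1 := Subtype.ext h1
    have h3 : m = 1 := f.symm.injective (by rw [h2, map_one])
    rw [h3]; rfl
  have hmul : ∀ m : M, (m : G) * m = 1 → ((f.symm m : K) : G) * (f.symm m : K) = 1 := by
    intro m hm
    have h2 : f.symm m * f.symm m = 1 := by
      rw [← map_mul, show m * m = 1 from Subtype.ext hm, map_one]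
    exact congrArg Subtype.val h2
  refine ⟨k.zz, k.z1, hMb, hRM, ?_, ?_, k.ex⟩
  · intro u hu uu u1
    obtain ⟨c, hc, hcu⟩ := k.one _ (f.symm ⟨u, hu⟩).2 (hmul _ uu) (hone _ u1)
    refine ⟨f ⟨c, hc⟩, (f ⟨c, hc⟩).2, ?_⟩
    have h2 : (⟨c, hc⟩ : K) * f.symm ⟨u, hu⟩ * (⟨c, hc⟩ : K)⁻¹ = ⟨z, hzK⟩ := Subtype.ext hcu
    have h3 := congrArg f h2
    rw [map_mul, map_mul, map_inv, f.apply_symm_apply, hfz] at h3
    exact congrArg Subtype.val h3
  · intro u hu uu u1 uz c hc hcu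
    have h1 : ((f.symm ⟨u, hRM hu⟩ : K) : G) ∈ R := (hfs _).2 hu
    have h2 : ((f.symm ⟨u, hRM hu⟩ : K) : G) ≠ z := by
      intro h3
      apply uz
      have h4 : f.symm ⟨u, hRM hu⟩ = ⟨z, hzK⟩ := Subtype.ext h3
      rw [← hfz'] at h4
      exact congrArg Subtype.val (f.symm.injective h4)
    have h3 : (f.symm ⟨c, hc⟩ : K) * f.symm ⟨u, hRM hu⟩ * (f.symm ⟨c, hc⟩ : K)⁻¹ = ⟨z, hzK⟩ := by
      rw [← hfz', ← map_mul, ← map_inv, ← map_mul]
      congr 1
      exact Subtype.ext hcu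
    have h4 := k.back _ h1 (hmul _ uu) (hone _ u1) h2 _ (f.symm ⟨c, hc⟩).2 (congrArg Subtype.val h3)
    have h5 : ((f.symm ⟨c, hc⟩ : K) : G) * z * ((f.symm ⟨c, hc⟩ : K) : G)⁻¹ =
        ((f.symm (⟨c, hc⟩ * ⟨z, hRM zR⟩ * ⟨c, hc⟩⁻¹) : K) : G) := by
      rw [map_mul, map_mul, map_inv, hfz']
      rfl
    rw [h5] at h4
    exact (hfs _).1 h4

/-! ### `FusT` -/

section fus

variable {z : G} {z' t' c a₁ a₂ : ↥(centralizer ({z} : Set G))} {Q₁ Q₂ : Subgroup ↥(centralizer ({z} : Set G))}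
  {M R : Subgroup G}

/-- **(F), (F_b)** in `X = C_G(z)` -/
theorem fusT_of (h : HypB z' t' a₁ a₂ Q₁ Q₂) (hz' : (z' : G) = z)
    (hR : ∀ r ∈ R, ∃ x ∈ Q₁, ∃ y ∈ Q₂, r = (x : G) * y) (k : FusB.KF (c : G) z M R) {s : G}
    (hs : s * (c : G) * s⁻¹ = c * z) (hsR : ∀ r ∈ R, s⁻¹ * r * s ∈ R) : FusT z' c Q₁ Q₂ := by
  obtain ⟨g, u, hgz, hu, uu, u1, uz, hg⟩ := k.fus hs hsR
  obtain ⟨x, hx, y, hy, e⟩ := hR u hu
  have e' : ((x * y : ↥(centralizer ({z} : Set G))) : G) = u := e.symm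
  obtain ⟨h1, h2⟩ := FusB.factor h.s₁ h.s₂ h.zz h.z1 h.comm hx hy (Subtype.ext (by
      show ((x * y : ↥(centralizer ({z} : Set G))) : G) * ((x * y : ↥(centralizer ({z} : Set G))) : G) = 1
      rw [e', uu])) (fun h1 => u1 (by rw [← e', h1]; rfl)) (fun h1 => uz (by rw [← e', h1, hz']))
  refine ⟨⟨g, mem_centralizer_singleton_iff.2 hgz⟩, x, hx, y, hy, h1, h2, Subtype.ext ?_⟩
  show g * (c : G) * g⁻¹ = (c : G) * ((x : G) * y)
  rw [hg, e]

/-- an involution of `R - ⟨z⟩` conjugate to `z` -/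
theorem hf_of (h : HypB z' t' a₁ a₂ Q₁ Q₂) (hz' : (z' : G) = z)
    (hR : ∀ r ∈ R, ∃ x ∈ Q₁, ∃ y ∈ Q₂, r = (x : G) * y) (k : FusB.KF (c : G) z M R) :
    ∃ q₁ ∈ Q₁, ∃ q₂ ∈ Q₂, q₁ * q₁ = z' ∧ q₂ * q₂ = z' ∧ ∃ g : G, g * z * g⁻¹ = (q₁ : G) * q₂ := by
  obtain ⟨u, hu, uu, u1, uz⟩ := k.ex
  obtain ⟨m, -, hm⟩ := k.one u (k.RK hu) uu u1
  obtain ⟨x, hx, y, hy, e⟩ := hR u hu
  have e' : ((x * y : ↥(centralizer ({z} : Set G))) : G) = u := e.symm
  obtain ⟨h1, h2⟩ := FusB.factor h.s₁ h.s₂ h.zz h.z1 h.comm hx hy (Subtype.ext (by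
      show ((x * y : ↥(centralizer ({z} : Set G))) : G) * ((x * y : ↥(centralizer ({z} : Set G))) : G) = 1
      rw [e', uu])) (fun h1 => u1 (by rw [← e', h1]; rfl)) (fun h1 => uz (by rw [← e', h1, hz']))
  refine ⟨x, hx, y, hy, h1, h2, m⁻¹, ?_⟩
  rw [← e, ← hm]
  group

end fus

/-! ### the element `s` -/

section loc

variable {t z : G} {R : Subgroup G} {i j k l a b : G}

open Cfsg.Agent.LargeExtra.W2.PlusHom (M) in
open Cfsg.Agent.OddHalf.D6.QThree.PlusOf in
theorem isPGroup_R (f : NIFacts.Frame z i j k l a b) : IsPGroup 2 (closure ({i, j, k, l} : Set G)) := by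
  have hM : IsPGroup 2 M := IsPGroup.of_card (n := 5) (by
    rw [Nat.card_eq_fintype_card]; decide +kernel)
  rw [← hom_range f.toQRel]
  exact hM.of_surjective _ (hom f.toQRel).rangeRestrict_surjective

/-- `D` is generated by its elements of odd order -/
theorem gen_odd (hl : Loc t z R i j k l a b) : closure {i, j, k, l, a, b} ≤
    closure {x | x ∈ closure {i, j, k, l, a, b} ∧ Odd (orderOf x)} := by
  set D : Subgroup G := closure {i, j, k, l, a, b} with hD
  set O : Subgroup G := closure {x | x ∈ D ∧ Odd (orderOf x)} with hO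
  have hsub : ∀ x ∈ ({i, j, k, l, a, b} : Set G), x ∈ D := fun x hx => subset_closure hx
  have hi : i ∈ D := hsub i (by simp)
  have hj : j ∈ D := hsub j (by simp)
  have hk : k ∈ D := hsub k (by simp)
  have hl' : l ∈ D := hsub l (by simp)
  have ha : a ∈ D := hsub a (by simp)
  have hb : b ∈ D := hsub b (by simp)
  have hodd : ∀ x : G, x * x * x = 1 → Odd (orderOf x) := by
    intro x hx
    have h1 : orderOf x ∣ 3 := orderOf_dvd_of_pow_eq_one (by rw [pow_succ, pow_two]; exact hx)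
    exact Odd.of_dvd_nat (by decide) h1
  have ha' : a ∈ O := subset_closure ⟨ha, hodd a hl.a3⟩
  have hb' : b ∈ O := subset_closure ⟨hb, hodd b hl.b3⟩
  have hcj : ∀ {x y : G}, x ∈ D → y ∈ D → Odd (orderOf y) → x * y * x⁻¹ ∈ O := by
    intro x y hx hy ho
    refine subset_closure ⟨D.mul_mem (D.mul_mem hx hy) (D.inv_mem hx), ?_⟩
    rwa [orderOf_conj]
  have hinv : ∀ {x : G}, x * x * x = 1 → Odd (orderOf x⁻¹) := fun {x} hx => by
    rw [orderOf_inv]; exact hodd x hx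
  have hiO : i ∈ O := by
    have h1 : j * i⁻¹ ∈ O := by
      have h2 := O.mul_mem ha' (hcj hi (D.inv_mem ha) (hinv hl.a3))
      have e : a * (i * a⁻¹ * i⁻¹) = j * i⁻¹ := by rw [← hl.fr.act_a.i]; group
      rwa [e] at h2
    have h3 := O.mul_mem (O.mul_mem ha' h1) (O.inv_mem ha')
    have e : a * (j * i⁻¹) * a⁻¹ = i := by
      calc a * (j * i⁻¹) * a⁻¹ = (a * j * a⁻¹) * (a * i * a⁻¹)⁻¹ := by group
        _ = i := by rw [hl.fr.act_a.j, hl.fr.act_a.i]; group
    rwa [e] at h3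
  have hjO : j ∈ O := by
    have := O.mul_mem (O.mul_mem ha' hiO) (O.inv_mem ha')
    rwa [hl.fr.act_a.i] at this
  have hkO : k ∈ O := by
    have h1 : l * k⁻¹ ∈ O := by
      have h2 := O.mul_mem hb' (hcj hk (D.inv_mem hb) (hinv hl.b3))
      have e : b * (k * b⁻¹ * k⁻¹) = l * k⁻¹ := by rw [← hl.fr.act_b.k]; group
      rwa [e] at h2
    have h3 := O.mul_mem (O.mul_mem hb' h1) (O.inv_mem hb')
    have e : b * (l * k⁻¹) * b⁻¹ = k := by
      calc b * (l * k⁻¹) * b⁻¹ = (b * l * b⁻¹) * (b * k * b⁻¹)⁻¹ := by group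
        _ = k := by rw [hl.fr.act_b.l, hl.fr.act_b.k]; group
    rwa [e] at h3
  have hlO : l ∈ O := by
    have := O.mul_mem (O.mul_mem hb' hkO) (O.inv_mem hb')
    rwa [hl.fr.act_b.k] at this
  rw [hD, closure_le]
  intro x hx
  have hx' : x = i ∨ x = j ∨ x = k ∨ x = l ∨ x = a ∨ x = b := by simpa using hx
  rcases hx' with rfl | rfl | rfl | rfl | rfl | rfl
  exacts [hiO, hjO, hkO, hlO, ha', hb']

/-- an element which normalises `⟨t, z⟩` and fixes `z` normalises `R` -/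
theorem norm_R (hl : Loc t z R i j k l a b) {s : G} (hs : s * t * s⁻¹ = t * z) (hsz : s * z * s⁻¹ = z) :
    ∀ r ∈ R, s⁻¹ * r * s ∈ R := by
  have hzc : ∀ g, g * z = z * g → s⁻¹ * g * s * z = z * (s⁻¹ * g * s) := by
    intro g hg
    have h1 : s * z = z * s := mul_inv_eq_iff_eq_mul.1 hsz
    have c1 : Commute s z := h1
    have c2 : Commute g z := hg
    exact (c1.inv_left.mul_left c2).mul_left c1
  have hst : s⁻¹ * t * s = t * z := by
    have h1 : s * z = z * s := mul_inv_eq_iff_eq_mul.1 hsz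
    have h2 : s⁻¹ * z * s = z := by rw [mul_assoc, ← h1, inv_mul_cancel_left]
    have h3 : s⁻¹ * (t * z) * s = t := by rw [← hs]; group
    have h4 : (s⁻¹ * t * s) * z = t := by
      calc (s⁻¹ * t * s) * z = (s⁻¹ * t * s) * (s⁻¹ * z * s) := by rw [h2]
        _ = s⁻¹ * (t * z) * s := by group
        _ = t := h3
    calc s⁻¹ * t * s = (s⁻¹ * t * s) * z * z⁻¹ := by group
      _ = t * z⁻¹ := by rw [h4]
      _ = t * z := by rw [inv_eq_of_mul_eq_one_right hl.fr.zz]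
  -- `s⁻¹` normalises `X`
  have hX : ∀ g, g * t = t * g → g * z = z * g → s⁻¹ * g * s * t = t * (s⁻¹ * g * s) := by
    intro g hgt hgz
    have c1 : Commute (s⁻¹ * g * s) (t * z) := by
      have c2 : Commute g t := hgt
      show s⁻¹ * g * s * (t * z) = t * z * (s⁻¹ * g * s)
      rw [← hst]
      calc s⁻¹ * g * s * (s⁻¹ * t * s) = s⁻¹ * (g * t) * s := by group
        _ = s⁻¹ * (t * g) * s := by rw [hgt]
        _ = s⁻¹ * t * s * (s⁻¹ * g * s) := by group
    have c3 : Commute (s⁻¹ * g * s) z := hzc g hgz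
    have c4 := c1.mul_right c3.inv_right
    rw [mul_inv_cancel_right] at c4
    exact c4
  have hX' : ∀ g, g * t = t * g → g * z = z * g → s * g * s⁻¹ * t = t * (s * g * s⁻¹) ∧
      s * g * s⁻¹ * z = z * (s * g * s⁻¹) := by
    intro g hgt hgz
    have h1 : s * z = z * s := mul_inv_eq_iff_eq_mul.1 hsz
    have c1 : Commute s z := h1
    have c2 : Commute g z := hgz
    have c3 : Commute (s * g * s⁻¹) z := (c1.mul_left c2).mul_left c1.inv_left
    refine ⟨?_, c3⟩
    have c4 : Commute (s * g * s⁻¹) (t * z) := by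
      show s * g * s⁻¹ * (t * z) = t * z * (s * g * s⁻¹)
      rw [← hs]
      calc s * g * s⁻¹ * (s * t * s⁻¹) = s * (g * t) * s⁻¹ := by group
        _ = s * (t * g) * s⁻¹ := by rw [hgt]
        _ = s * t * s⁻¹ * (s * g * s⁻¹) := by group
    have c5 := c4.mul_right c3.inv_right
    rw [mul_inv_cancel_right] at c5
    exact c5
  set D : Subgroup G := closure {i, j, k, l, a, b} with hD
  have hDz : ∀ d ∈ D, d * z = z * d := by
    have h1 : D ≤ centralizer ({z} : Set G) := by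
      rw [hD, closure_le]
      intro x hx
      have hx' : x = i ∨ x = j ∨ x = k ∨ x = l ∨ x = a ∨ x = b := by simpa using hx
      rw [SetLike.mem_coe, mem_centralizer_singleton_iff]
      rcases hx' with rfl | rfl | rfl | rfl | rfl | rfl
      exacts [hl.fr.iz, hl.fr.jz, hl.fr.kz, hl.fr.lz, mul_inv_eq_iff_eq_mul.1 hl.fr.act_a.z,
        mul_inv_eq_iff_eq_mul.1 hl.fr.act_b.z]
    exact fun d hd => mem_centralizer_singleton_iff.1 (h1 hd)
  have hsD : ∀ d ∈ D, s⁻¹ * d * s ∈ D := by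
    have h1 : D ≤ D.comap (MulAut.conj s⁻¹).toMonoidHom := by
      refine (gen_odd hl).trans ((closure_le _).2 ?_)
      rintro x ⟨hx, ho⟩
      show s⁻¹ * x * s⁻¹⁻¹ ∈ D
      rw [inv_inv]
      refine hl.od _ (hX x (hl.Dt x hx) (hDz x hx)) (hzc x (hDz x hx)) ?_
      have : orderOf (s⁻¹ * x * s) = orderOf x := by
        have h2 := orderOf_conj s⁻¹ x
        rwa [inv_inv] at h2
      rwa [this]
    intro d hd
    have h2 : s⁻¹ * d * s⁻¹⁻¹ ∈ D := h1 hd
    rwa [inv_inv] at h2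
  have hRD : R ≤ D := by
    rw [hl.gR, hD]
    exact closure_mono (by
      intro x hx
      simp only [Set.mem_insert_iff, Set.mem_singleton_iff] at hx ⊢
      tauto)
  have hRp : IsPGroup 2 R := by rw [hl.gR]; exact isPGroup_R hl.fr
  have h1 := hl.max (R.map (MulAut.conj s⁻¹).toMonoidHom) (by
    rintro _ ⟨r, hr, rfl⟩
    have h2 := hsD r (hRD hr)
    show s⁻¹ * r * s⁻¹⁻¹ ∈ D
    rwa [inv_inv]) (hRp.map _) (by
    rintro g hgt hgz _ ⟨r, hr, rfl⟩
    obtain ⟨h3, h4⟩ := hX' g hgt hgz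
    refine ⟨(s * g * s⁻¹) * r * (s * g * s⁻¹)⁻¹, hl.nR _ h3 h4 r hr, ?_⟩
    show s⁻¹ * ((s * g * s⁻¹) * r * (s * g * s⁻¹)⁻¹) * s⁻¹⁻¹ = g * (s⁻¹ * r * s⁻¹⁻¹) * g⁻¹
    group)
  intro r hr
  have h2 := h1 ⟨r, hr, rfl⟩
  have h3 : s⁻¹ * r * s⁻¹⁻¹ ∈ R := h2
  rwa [inv_inv] at h3

end loc

/-! ### the trichotomy -/

/-- **`RefTri`** -/
theorem refTri_of (C : Ctx G) (hS : Pump.SpOrd.{u}) {K : Subgroup G} (S : Std G K)
    (hK : Nat.card K < 6065280)
    (hN : ∀ b : G, orderOf b = 2 → ∀ L : Subgroup G, CompOf b L → ¬ NI3.HasY ↥L)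
    (hU : ∃ (F : Type) (_ : Field F) (_ : Fintype F), Fintype.card F = 9 ∧ Nonempty (K ≃* PSU 4 F 3))
    {zK : K} {RK : Subgroup K} (hb : Facts.Base zK RK) (kf : KFOf.KFK zK RK) {t : G}
    (Kt : ∀ x ∈ K, x * t = t * x) (nR : ∀ g, g * t = t * g → g * (zK : G) = zK * g →
      ∀ r ∈ RK.map K.subtype, g * r * g⁻¹ ∈ RK.map K.subtype) {D : Subgroup G}
    {z' t' a₁ a₂ : ↥(centralizer ({(zK : G)} : Set G))} {Q₁ Q₂ : Subgroup ↥(centralizer ({(zK : G)} : Set G))}
    (h : HypB z' t' a₁ a₂ Q₁ Q₂) (hz' : (z' : G) = zK) (ht' : (t' : G) = t)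
    (hR : ∀ r ∈ RK.map K.subtype, ∃ x ∈ Q₁, ∃ y ∈ Q₂, r = (x : G) * y)
    (hQ₁ : ∀ q ∈ Q₁, (q : G) ∈ D) (hQ₂ : ∀ q ∈ Q₂, (q : G) ∈ D) (h₁ : (a₁ : G) ∈ D) (h₂ : (a₂ : G) ∈ D)
    (hdata : ∀ b, Refl z' t' Q₁ Q₂ b → ∃ (L : Subgroup G) (F : Type) (_ : Field F) (_ : Fintype F),
      Data t zK (b : G) D (RK.map K.subtype) L F)
    (hmv : ∀ b, Refl z' t' Q₁ Q₂ b → ∃ p : G, p * t = t * p ∧ p * (zK : G) = zK * p ∧ p * (b : G) * p⁻¹ = b * zK) :
    Two.RefTri z' t' Q₁ Q₂ := by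
  have := C.fin
  intro b hbr
  obtain ⟨L, F, i1, i2, hD⟩ := hdata b hbr
  rcases hD.tri C hS S (by omega) (hN b hD.b_ord) with h1 | ⟨M, hM, hLM, hMt, hc, E, i3, i4, hE, ⟨e⟩⟩ |
    ⟨M, hM, hLM, hMt, hc, E, i3, i4, hE, ⟨e⟩⟩ | ⟨M, hM, hMt, A⟩
  · -- `L* = PSp₄(3)`
    left
    intro v hvb hv1 hv2 hv
    refine hD.noV h1 (v := (v : G)) (congrArg Subtype.val hvb) ?_ ?_
    · intro r hr
      obtain ⟨x, hx, y, hy, rfl⟩ := hR r hr
      have c1 : Commute v x := hv1 x hx
      have c2 : Commute v y := hv2 y hy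
      exact congrArg Subtype.val (c1.mul_right c2).eq
    · have h2 : (t' : G) * v * (t' : G)⁻¹ = v * (z' : G) := congrArg Subtype.val hv
      rw [hz', ht'] at h2
      exact h2
  · -- `L* = U₄(3)`
    right; left
    obtain ⟨F', i5, i6, hF', ⟨e'⟩⟩ := hU
    have hFE : Fintype.card F' = Fintype.card E := by rw [hF', hE]
    have k1 := kf.kf hb.zz hb.z1 Kt
    have k2 : FusB.KF (b : G) (zK : G) M (RK.map K.subtype) := by
      refine transport k1 ⟨zK, hb.zR, rfl⟩ (hb.pR.map _) ?_ ?_ ?_ ?_ ?_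
        ((e'.trans (LieClassical.FieldTransfer.psuCongr 4 3 (FiniteField.ringEquivOfCardEq hFE))).trans e.symm)
      · rintro _ ⟨r, hr, rfl⟩
        exact congrArg Subtype.val (hb.RP r hr)
      · intro N hNK hN2 hNz hNn n hn
        have h1 := hb.max (N.subgroupOf K) (hN2.of_equiv (subgroupOfEquivOfLe hNK).symm)
          (fun n hn => Subtype.ext (hNz n hn)) (fun g hg n hn => hNn g g.2 (congrArg Subtype.val hg) n hn)
        exact ⟨⟨n, hNK hn⟩, h1 hn, rfl⟩
      · intro m hm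
        exact mem_centralizer_singleton_iff.1 (hM.le hm)
      · exact (hD.RD.trans hD.DL).trans hLM
      · intro g hg hgz
        refine hD.norm_R ?_
        exact hD.norm_of_le C hS S (by omega) hM hLM hMt (mem_centralizer_singleton_iff.1 (hM.le hg)) hgz
    obtain ⟨p, hpt, hpz, hp⟩ := hmv b hbr
    refine fusT_of h hz' hR k2 hp ?_
    intro r hr
    have h1 := nR p⁻¹ (show Commute p t from hpt).inv_left.eq (show Commute p (zK : G) from hpz).inv_left.eq r hr
    rwa [inv_inv] at h1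
  · exfalso
    obtain ⟨e2⟩ := Cfsg.Agent.LargeExtra.W2.LFour.PslFacts.psl_congr E hE
    have h2 : Nat.card (Matrix.ProjectiveSpecialLinearGroup (Fin 4) E) = 6065280 := by
      rw [Nat.card_congr e2.symm.toEquiv, Cfsg.Agent.LargeExtra.W2.LFour.PslFacts.card_psl]
    rw [Nat.card_congr e.toEquiv, h2] at hc
    omega
  · right; right
    exact DiagOf.diag A (congrArg Subtype.val hb.zz) (fun h1 => hb.z1 (Subtype.ext h1)) hz' ht' rfl h.s₁ h.s₂ h.oa₁
      h.oa₂ hQ₁ hQ₂ h₁ h₂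

end Cfsg.Agent.OddHalf.D6.QThree.NIB.FusOf

end

-- merged: Cfsg.Agent.OddHalf.D6.QThree.NIB.KU
section

/-!
# ODD half, D6, `q = 3`: the reflections of `U₄(3)` (helper801, from helper218's `U43AutKF.CR`)

`Mv z R`: `α ∈ B̄ - ⟨z⟩` is conjugate to `α z` under `C_K(z)`. `rf_pr`, `mv_pr`: `U₄(3)`; `rf_map`, `mv_map`: transport.
-/

set_option autoImplicit false

namespace Cfsg.Agent.OddHalf.D6.QThree.NIB.KU

open Subgroup Cfsg
open Cfsg.Agent.OddHalf.D6.QThree.FrontB (BA Z2)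
open Cfsg.Agent.OddHalf.D6.QThree.RefData
open Cfsg.Agent.OddHalf.D6.QThree.U43AutGood (fixS)
open Cfsg.Agent.OddHalf.D6.QThree.U43AutKF (CR)
open Cfsg.Agent.OddHalf.D6.QThree.FactsOut (congr_apply' congr_conj)

/-- `α ∈ B̄ - ⟨z⟩` is conjugate to `α z` under `C_K(z)` -/
def Mv {K : Type*} [Group K] (z : K) (R : Subgroup K) : Prop :=
  ∀ α : MulAut K, BA R α → ¬ Z2 z α → ∃ p, p * z = z * p ∧ α p = z * p

/-! ### from `CR` -/

/-- `fixO α = fixS α`, if the fixed subgroup is simple of order divisible by 3 -/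
theorem fixO_eq {K : Type*} [Group K] [Finite K] {α : MulAut K} (hs : IsSimpleGroup (fixS α))
    (h3 : 3 ∣ Nat.card (fixS α)) : fixO α = fixS α := by
  have hle : fixO α ≤ fixS α := fun x hx => fix_of_mem hx
  apply le_antisymm hle
  have hn : ((fixO α).subgroupOf (fixS α)).Normal := by
    refine ⟨fun x hx g => ?_⟩
    have h1 : fixO α ≤ (fixO α).comap (MulAut.conj (g : K)).toMonoidHom := by
      refine (closure_le _).2 ?_
      rintro y ⟨hy, ho⟩
      refine subset_closure ⟨?_, ?_⟩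
      · show α ((g : K) * y * (g : K)⁻¹) = (g : K) * y * (g : K)⁻¹
        rw [map_mul, map_mul, map_inv, hy, show α (g : K) = g from g.2]
      · show Odd (orderOf ((MulAut.conj (g : K)).toMonoidHom y))
        rw [orderOf_injective (MulAut.conj (g : K)).toMonoidHom (MulAut.conj (g : K)).injective y]
        exact ho
    exact h1 hx
  rcases hn.eq_bot_or_eq_top with h1 | h1
  · exfalso
    have : Fact (Nat.Prime 3) := ⟨Nat.prime_three⟩
    obtain ⟨x, hx⟩ := exists_prime_orderOf_dvd_card' 3 h3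
    have h2 : x ∈ (fixO α).subgroupOf (fixS α) := by
      refine subset_closure ⟨x.2, ?_⟩
      show Odd (orderOf (x : K))
      rw [Subgroup.orderOf_coe, hx]
      decide
    rw [h1, mem_bot] at h2
    rw [h2, orderOf_one] at hx
    norm_num at hx
  · exact subgroupOf_eq_top.1 h1

theorem rf_of {K : Type*} [Group K] [Finite K] {z : K} {R : Subgroup K} (C : CR z R) : Rf z R := by
  intro α hα hαα hZ
  obtain ⟨e⟩ := C.rf α hα hαα (fun h => hZ (Or.inl h)) (fun h => hZ (Or.inr h))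
  have h3 : Fintype.card (ZMod 3) = 3 := ZMod.card 3
  have hs : IsSimpleGroup (fixS α) := by
    have := Cfsg.Agent.S0270.result (F := ZMod 3) 2 le_rfl (fun _ => h3.ge)
    exact e.isSimpleGroup_congr.2 this
  have hc : Nat.card (fixS α) = 25920 := by
    rw [Nat.card_congr e.toEquiv, Pump.card_psp_three h3]
  refine ⟨ZMod 3, inferInstance, inferInstance, h3, ?_⟩
  rw [fixO_eq hs (by rw [hc]; norm_num)]
  exact ⟨e⟩

theorem conj_inj' {K : Type*} [Group K] (hZ : center K = ⊥) {x y : K} (h : MulAut.conj x = MulAut.conj y) :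
    x = y := by
  have h1 : y⁻¹ * x ∈ center K := by
    rw [mem_center_iff]
    intro g
    have h2 := DFunLike.congr_fun h g
    rw [MulAut.conj_apply, MulAut.conj_apply] at h2
    calc g * (y⁻¹ * x) = y⁻¹ * (y * g * y⁻¹) * x := by group
      _ = y⁻¹ * (x * g * x⁻¹) * x := by rw [h2]
      _ = y⁻¹ * x * g := by group
  rw [hZ, mem_bot] at h1
  exact (inv_mul_eq_one.1 h1).symm

theorem mv_of {K : Type*} [Group K] {z : K} {R : Subgroup K} (hZ : center K = ⊥) (zz : z * z = 1) (C : CR z R) :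
    Mv z R := by
  intro α hα hZ2
  have hzz : MulAut.conj z * MulAut.conj z = 1 := by rw [← map_mul, zz, map_one]
  obtain ⟨p, hp, hpα⟩ := C.mv α⁻¹ (fun x hx => by rw [MulAut.inv_apply, MulEquiv.symm_apply_eq, hα x hx])
    (fun h2 => hZ2 (Or.inl (inv_eq_one.1 h2)))
    (fun h2 => hZ2 (Or.inr (by rw [← inv_inv α, h2, inv_eq_iff_mul_eq_one, hzz])))
  refine ⟨p, hp, ?_⟩
  apply conj_inj' hZ
  have e : MulAut.conj (α p) = α * MulAut.conj p * α⁻¹ := by
    ext x
    show α p * x * (α p)⁻¹ = α (p * α⁻¹ x * p⁻¹)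
    rw [map_mul, map_mul, map_inv, MulAut.apply_inv_self]
  rw [e, mul_assoc, hpα, map_mul, ← mul_assoc, ← mul_assoc, mul_inv_cancel, one_mul]

/-! ### transport -/

section map

variable {K L : Type*} [Group K] [Group L] {z : K} {R : Subgroup K}

theorem ba_iff (e : K ≃* L) {α : MulAut K} : BA (R.map e.toMonoidHom) (MulAut.congr e α) ↔ BA R α := by
  constructor
  · intro h r hr
    have h1 := h (e r) ⟨r, hr, rfl⟩
    rw [congr_apply'] at h1
    exact e.injective h1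
  · rintro h _ ⟨r, hr, rfl⟩
    show MulAut.congr e α (e r) = e r
    rw [congr_apply', h r hr]

theorem z2_iff (e : K ≃* L) {α : MulAut K} : Z2 (e z) (MulAut.congr e α) ↔ Z2 z α := by
  constructor
  · rintro (h | h)
    · left
      apply (MulAut.congr e).injective
      rw [h, map_one]
    · right
      apply (MulAut.congr e).injective
      rw [h, congr_conj]
  · rintro (h | h)
    · left; rw [h, map_one]
    · right; rw [h, congr_conj]

theorem mv_map (h : Mv z R) (e : K ≃* L) : Mv (e z) (R.map e.toMonoidHom) := by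
  intro β hβ hβ2
  obtain ⟨α, rfl⟩ := (MulAut.congr e).surjective β
  obtain ⟨p, hp, hpα⟩ := h α ((ba_iff e).1 hβ) (fun h1 => hβ2 ((z2_iff e).2 h1))
  exact ⟨e p, by rw [← map_mul, hp, map_mul], by rw [congr_apply', hpα, map_mul]⟩

theorem rf_map (h : Rf z R) (e : K ≃* L) : Rf (e z) (R.map e.toMonoidHom) := by
  intro β hβ hββ hβ2
  obtain ⟨α, rfl⟩ := (MulAut.congr e).surjective β
  obtain ⟨F, i1, i2, hF, ⟨f⟩⟩ := h α ((ba_iff e).1 hβ) (by
    apply (MulAut.congr e).injective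
    rw [map_mul, hββ, map_one]) (fun h1 => hβ2 ((z2_iff e).2 h1))
  refine ⟨F, i1, i2, hF, ?_⟩
  have h1 : fixO (MulAut.congr e α) = (fixO α).map e.toMonoidHom := by
    rw [fixO, fixO, MonoidHom.map_closure]
    congr 1
    ext y
    obtain ⟨x, rfl⟩ := e.surjective y
    constructor
    · rintro ⟨hx, ho⟩
      refine ⟨x, ⟨?_, ?_⟩, rfl⟩
      · rw [congr_apply'] at hx
        exact e.injective hx
      · rwa [show orderOf (e x) = orderOf x from orderOf_injective e.toMonoidHom e.injective x] at ho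
    · rintro ⟨x', ⟨hx, ho⟩, hxx⟩
      have e1 : x' = x := e.injective hxx
      rw [← e1]
      refine ⟨?_, ?_⟩
      · rw [congr_apply', hx]
      · rwa [show orderOf (e x') = orderOf x' from orderOf_injective e.toMonoidHom e.injective x']
  rw [h1]
  exact ⟨((fixO α).equivMapOfInjective e.toMonoidHom e.injective).symm.trans f⟩

end map

/-! ### `U₄(3)` -/

section U43

open Cfsg.Agent.OddHalf.Small.U43Mat Cfsg.Agent.OddHalf.Small.U43Good
open Cfsg.Agent.ClassicalGeometry.UnitAutBasic (pr pr_surjective)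
open Cfsg.Agent.OddHalf.D6.QThree.U43Plus

variable {F : Type*} [Field F] [CharP F 3] [Fintype F]

theorem center_pr (hF : Fintype.card F = 9) : center (PSU 4 F 3) = ⊥ := by
  rw [eq_bot_iff]
  intro x hx
  rw [mem_bot]
  apply U43AutRef.conj_one hF
  intro y
  rw [mem_center_iff.1 hx y]

theorem rf_pr (hF : Fintype.card F = 9) : Rf (pr 4 F 3 d) (QQ hF) := by
  have : Finite (PSU 4 F 3) := inferInstance
  exact rf_of (U43AutKF.cr hF)

theorem mv_pr (hF : Fintype.card F = 9) : Mv (pr 4 F 3 d) (QQ hF) :=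
  mv_of (center_pr hF) (U43AutKF.two_pr hF).zz (U43AutKF.cr hF)

end U43

end Cfsg.Agent.OddHalf.D6.QThree.NIB.KU

end

-- merged: Cfsg.Agent.OddHalf.D6.QThree.NIB.RowU
section

/-!
# ODD half, D6, `U₄(3)` with an outer part, NI with `B`: the end, from `HypB` (helper801)

`data`: `RefOf.Data` for every reflection; `fusT`, `hf`, `refTri`: the inputs of `NIB.End.noComp`;
`false_of_hypB`: the contradiction.
-/

set_option autoImplicit false

namespace Cfsg.Agent.OddHalf.D6.QThree.NIB.RowU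

open Subgroup Cfsg
open Cfsg.Agent.OddHalf Cfsg.Agent.OddHalf.Iface
open Cfsg.Agent.OddHalf.D6.QThree.FrontB (BA Z2 FrontK Out)
open Cfsg.Agent.OddHalf.D6.QThree.FrontLoc (Loc up)
open Cfsg.Agent.OddHalf.D6.QThree.RefData (KH DD Rf)

universe u

variable {G : Type u} [Group G] {K : Subgroup G} {t : G} {z : K} {R : Subgroup K} {i j k l a b : K}

theorem odd_of_cube {H : Type*} [Group H] {x : H} (h : x * x * x = 1) : Odd (orderOf x) := by
  have h1 : orderOf x ∣ 3 := orderOf_dvd_of_pow_eq_one (by rw [pow_succ, pow_two]; exact h)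
  exact Odd.of_dvd_nat (by decide) h1

theorem kh (f : FrontK z R i j k l a b) (L : Loc t (z : G) (R.map K.subtype) (i : G) j k l a b) :
    KH z R i j k l a b :=
  KH.of_K f (odd_of_cube (Subtype.ext L.a3)) (odd_of_cube (Subtype.ext L.b3))

/-- a reflection does not act on `K` as an element of `⟨z⟩` -/
theorem refl_K (O : Out K t (z : G)) (L : Loc t (z : G) (R.map K.subtype) (i : G) j k l a b)
    {x : ↥(centralizer ({(z : G)} : Set G))} (hx : Refl (up (z : G) z rfl) (up (z : G) t L.comm) L.frX.Q₁ L.frX.Q₂ x) :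
    (x : G) * t = t * x ∧ (∀ r ∈ R, (x : G) * r = r * x) ∧ (x : G) * x = 1 ∧
      (¬ ∀ y ∈ K, (x : G) * y = y * x) ∧ ¬ ∀ y ∈ K, ((x : G) * z) * y = y * ((x : G) * z) := by
  obtain ⟨h1, h2, h3⟩ := hx
  obtain ⟨h4, h5⟩ := (L.Bt_iff x).1 h1
  have h6 : ¬ FrontLoc.T4 t (z : G) (x : G) := fun h => h3 ((L.T4_iff x).2 h)
  have hxx : (x : G) * x = 1 := congrArg Subtype.val h2
  have hzx : (x : G) * z = z * x := mem_centralizer_singleton_iff.1 x.2
  have hzz : (z : G) * z = 1 := L.fr.zz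
  refine ⟨h4, fun r hr => h5 r ⟨r, hr, rfl⟩, hxx, fun h => h6 ?_, fun h => h6 ?_⟩
  · rcases O.cK x h4 (fun y hy => (h y hy).symm) with h7 | h7
    · exact Or.inl h7
    · exact Or.inr (Or.inr (Or.inl h7))
  · have c1 : Commute (x : G) t := h4
    have c2 : Commute (z : G) t := O.Kt z z.2
    rcases O.cK (x * z) (c1.mul_left c2).eq (fun y hy => (h y hy).symm) with h7 | h7
    · right; left
      calc (x : G) = (x * z) * (z : G)⁻¹ := by group
        _ = z := by rw [h7, one_mul, inv_eq_of_mul_eq_one_right hzz]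
    · right; right; right
      calc (x : G) = (x * z) * (z : G)⁻¹ := by group
        _ = t * z := by rw [h7, inv_eq_of_mul_eq_one_right hzz]

/-- **the position of every reflection** -/
theorem data (O : Out K t (z : G)) (f : FrontK z R i j k l a b)
    (L : Loc t (z : G) (R.map K.subtype) (i : G) j k l a b) (rf : Rf z R)
    {x : ↥(centralizer ({(z : G)} : Set G))} (hx : Refl (up (z : G) z rfl) (up (z : G) t L.comm) L.frX.Q₁ L.frX.Q₂ x) :
    ∃ (E : Subgroup G) (F : Type) (_ : Field F) (_ : Fintype F),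
      RefOf.Data t (z : G) (x : G) ((DD i j k l a b).map K.subtype) (R.map K.subtype) E F := by
  obtain ⟨h1, h2, h3, h4, h5⟩ := refl_K O L hx
  obtain ⟨E, F, i1, i2, hD, -⟩ := RefData.data O.tt O.t1 O.Kt O.nK (kh f L) rf h3 h1 h2 h4 h5
  exact ⟨E, F, i1, i2, hD⟩

/-- every reflection `x` is conjugate to `xz` -/
theorem move (O : Out K t (z : G)) (L : Loc t (z : G) (R.map K.subtype) (i : G) j k l a b) (mv : KU.Mv z R)
    {x : ↥(centralizer ({(z : G)} : Set G))} (hx : Refl (up (z : G) z rfl) (up (z : G) t L.comm) L.frX.Q₁ L.frX.Q₂ x) :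
    ∃ p : G, p * t = t * p ∧ p * (z : G) = z * p ∧ p * (x : G) * p⁻¹ = x * z := by
  obtain ⟨h1, h2, h3, h4, h5⟩ := refl_K O L hx
  have hzx : (x : G) * z = z * x := mem_centralizer_singleton_iff.1 x.2
  have hzz : (z : G) * z = 1 := L.fr.zz
  have hzi : (z : G)⁻¹ = z := inv_eq_of_mul_eq_one_right hzz
  have hxn := O.nK x h1
  have hα : ∀ y : K, ((K.normalizerMonoidHom ⟨x, hxn⟩ y : K) : G) = x * y * (x : G)⁻¹ := fun _ => rfl
  obtain ⟨p, hp, hpx⟩ := mv (K.normalizerMonoidHom ⟨x, hxn⟩) (fun r hr => Subtype.ext (by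
      rw [hα, h2 r hr, mul_inv_cancel_right])) (by
    rintro (h | h)
    · apply h4
      intro y hy
      have h6 := hα ⟨y, hy⟩
      rw [h] at h6
      have h7 : y = x * y * (x : G)⁻¹ := h6
      exact (eq_mul_inv_iff_mul_eq.1 h7).symm
    · apply h5
      intro y hy
      have h6 := hα ⟨y, hy⟩
      rw [h] at h6
      have h7 : (z : G) * y * (z : G)⁻¹ = x * y * (x : G)⁻¹ := h6
      have h8 : (x : G) * y = z * y * (z : G)⁻¹ * x := by rw [h7]; group
      calc (x : G) * z * y = z * (x * y) := by rw [hzx, mul_assoc]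
        _ = z * (z * y * (z : G)⁻¹ * x) := by rw [h8]
        _ = (z * z) * y * ((z : G)⁻¹ * x) := by group
        _ = y * (x * z) := by rw [hzz, hzi, one_mul, hzx])
  refine ⟨p, O.Kt p p.2, congrArg Subtype.val hp, ?_⟩
  have h6 := hα p
  rw [hpx] at h6
  have h7 : (z : G) * p = x * p * (x : G)⁻¹ := h6
  have h8 : (z : G) * p * x = x * p := eq_mul_inv_iff_mul_eq.1 h7
  calc (p : G) * x * (p : G)⁻¹ = (z : G)⁻¹ * (z * p * x) * (p : G)⁻¹ := by group
    _ = (z : G)⁻¹ * (x * p) * (p : G)⁻¹ := by rw [h8]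
    _ = (z : G)⁻¹ * x := by group
    _ = x * z := by rw [hzi, hzx]

theorem hR (L : Loc t (z : G) (R.map K.subtype) (i : G) j k l a b) :
    ∀ r ∈ R.map K.subtype, ∃ x ∈ L.frX.Q₁, ∃ y ∈ L.frX.Q₂, r = (x : G) * y := by
  intro r hr
  obtain ⟨x, hx, y, hy, e⟩ := L.exists_mulR hr
  have hX : ∀ r ∈ R.map K.subtype, r * z = z * r := fun r hr => L.Dz r (L.RD hr)
  exact ⟨up (z : G) x (hX x (L.Q₁R hx)), (L.mem₁ _).2 hx, up (z : G) y (hX y (L.Q₂R hy)), (L.mem₂ _).2 hy, e⟩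

variable {a₁ a₂ : ↥(centralizer ({(z : G)} : Set G))}

/-- (F) -/
theorem fusT (O : Out K t (z : G)) (L : Loc t (z : G) (R.map K.subtype) (i : G) j k l a b) (kf : KFOf.KFK z R)
    (h : HypB (up (z : G) z rfl) (up (z : G) t L.comm) a₁ a₂ L.frX.Q₁ L.frX.Q₂) :
    FusT (up (z : G) z rfl) (up (z : G) t L.comm) L.frX.Q₁ L.frX.Q₂ := by
  obtain ⟨s, hs, hsz⟩ := L.s
  exact FusOf.fusT_of h rfl (hR L) (kf.kf (Subtype.ext L.fr.zz) (fun e => L.fr.z1 (congrArg Subtype.val e)) O.Kt) hs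
    (FusOf.norm_R L hs hsz)

theorem hf (O : Out K t (z : G)) (L : Loc t (z : G) (R.map K.subtype) (i : G) j k l a b) (kf : KFOf.KFK z R)
    (h : HypB (up (z : G) z rfl) (up (z : G) t L.comm) a₁ a₂ L.frX.Q₁ L.frX.Q₂) :
    ∃ q₁ ∈ L.frX.Q₁, ∃ q₂ ∈ L.frX.Q₂, q₁ * q₁ = up (z : G) z rfl ∧ q₂ * q₂ = up (z : G) z rfl ∧
      ∃ g : G, g * z * g⁻¹ = (q₁ : G) * q₂ :=
  FusOf.hf_of (c := up (z : G) t L.comm) h rfl (hR L) (kf.kf (t := t) (Subtype.ext L.fr.zz) (fun e => L.fr.z1 (congrArg Subtype.val e)) O.Kt)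

theorem refTri (C : Ctx G) (hS : Pump.SpOrd.{u}) (S : Std G K) (hN : ∀ b : G, orderOf b = 2 → ∀ L : Subgroup G, CompOf b L → ¬ NI3.HasY ↥L)
    (hU : ∃ (F : Type) (_ : Field F) (_ : Fintype F), Fintype.card F = 9 ∧ Nonempty (K ≃* PSU 4 F 3))
    (O : Out K t (z : G)) (f : FrontK z R i j k l a b) (L : Loc t (z : G) (R.map K.subtype) (i : G) j k l a b)
    (kf : KFOf.KFK z R) (rf : Rf z R) (mv : KU.Mv z R)
    (h : HypB (up (z : G) z rfl) (up (z : G) t L.comm) a₁ a₂ L.frX.Q₁ L.frX.Q₂) (h₁ : (a₁ : G) = a)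
    (h₂ : (a₂ : G) = b) : Two.RefTri (up (z : G) z rfl) (up (z : G) t L.comm) L.frX.Q₁ L.frX.Q₂ := by
  have hRD : R.map K.subtype ≤ (DD i j k l a b).map K.subtype := Subgroup.map_mono (kh f L).RD
  have hcard : Nat.card K = 3265920 := by
    obtain ⟨F, _, _, hF, ⟨e⟩⟩ := hU
    have : Fact (Nat.Prime 3) := ⟨Nat.prime_three⟩
    have : CharP F 3 := charP_of_card_eq_prime_pow (f := 2) (by rw [hF]; norm_num)
    rw [Nat.card_congr e.toEquiv, U43Tw.card_K hF]; norm_num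
  refine FusOf.refTri_of C hS S (by rw [hcard]; norm_num) hN hU f.toBase kf O.Kt L.nR
    (D := (DD i j k l a b).map K.subtype) h rfl rfl (hR L) ?_ ?_ ?_ ?_ (fun x hx => data O f L rf hx)
    (fun x hx => move O L mv hx)
  · intro q hq
    exact hRD (L.Q₁R ((L.mem₁ q).1 hq))
  · intro q hq
    exact hRD (L.Q₂R ((L.mem₂ q).1 hq))
  · rw [h₁]
    exact ⟨a, subset_closure (by simp), rfl⟩
  · rw [h₂]
    exact ⟨b, subset_closure (by simp), rfl⟩

/-- **NI with `B`, `K = U₄(3)`** -/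
theorem false_of_hypB (hGW : SylowSp4.Hyps.GW.{u}) (I : Intr2.{u}) (hS : CaseM.IntrSign.{u}) (C : Ctx G)
    (hcy : ∀ K : Subgroup G, Std0 G K → PRankLE 2 1 ↥(centralizer (K : Set G)) → Cyc K) (hSp : Pump.SpOrd.{u})
    (S : Std G K) (hN : ∀ b : G, orderOf b = 2 → ∀ L : Subgroup G, CompOf b L → ¬ NI3.HasY ↥L)
    (hU : ∃ (F : Type) (_ : Field F) (_ : Fintype F), Fintype.card F = 9 ∧ Nonempty (K ≃* PSU 4 F 3))
    (O : Out K t (z : G)) (f : FrontK z R i j k l a b) (L : Loc t (z : G) (R.map K.subtype) (i : G) j k l a b)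
    (kf : KFOf.KFK z R) (rf : Rf z R) (mv : KU.Mv z R)
    (h : HypB (up (z : G) z rfl) (up (z : G) t L.comm) a₁ a₂ L.frX.Q₁ L.frX.Q₂) (h₁ : (a₁ : G) = a)
    (h₂ : (a₂ : G) = b) : False :=
  End.noComp hGW I hS C hcy (orderOf_eq_prime (by rw [pow_two]; exact L.fr.zz) L.fr.z1) rfl h (hf O L kf h)
    (fusT O L kf h) (refTri C hSp S hN hU O f L kf rf mv h h₁ h₂)

end Cfsg.Agent.OddHalf.D6.QThree.NIB.RowU

end

-- merged: Cfsg.Agent.OddHalf.D6.QThree.NIB.NF
section

/-!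
# ODD half, D6, `q = 3`, NI with `B`: the field `HypB.nF` (helper135)

If `R = Q₁ Q₂` centralises every component of `X = C_G(z)`, and an involution `q₁ q₂` of `R` is conjugate to `z`, then
`X` has no component: a component of maximal order has, by `L`-balance, a bigger one (`grow`, helper911's `DirG.grow`
with weaker hypotheses).
-/

set_option autoImplicit false

namespace Cfsg.Agent.OddHalf.D6.QThree.NIB.NF

open Subgroup Cfsg
open Cfsg.Agent.OddHalf
open Cfsg.Agent.SignalizersComponents.Components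
open Cfsg.Agent.OddHalf.D6.QThree.NISide

/-- the two factors meet in `⟨z⟩` -/
theorem prod_ne {X : Type*} [Group X] {z t a₁ a₂ : X} {Q₁ Q₂ : Subgroup X} (zz : z * z = 1) (z1 : z ≠ 1)
    (s₁ : Side z t a₁ Q₁ Q₂) (s₂ : Side z t a₂ Q₂ Q₁) (comm : ∀ x ∈ Q₁, ∀ y ∈ Q₂, x * y = y * x)
    {x y : X} (hx : x ∈ Q₁) (hy : y ∈ Q₂) (hxx : x * x = z) (e : x * y = 1 ∨ x * y = z) : False := by
  have hx2 : x ∈ Q₂ := by
    rcases e with e | e
    · rw [eq_inv_of_mul_eq_one_left e]; exact Q₂.inv_mem hy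
    · have : x = z * y⁻¹ := by rw [← e, mul_inv_cancel_right]
      rw [this]; exact Q₂.mul_mem s₂.zQ (Q₂.inv_mem hy)
  have hx1 : x ≠ 1 := by
    rintro rfl
    rw [one_mul] at hxx; exact z1 hxx.symm
  have hxz : x ≠ z := by
    rintro rfl
    rw [zz] at hxx; exact z1 hxx.symm
  exact s₁.act x hx hx1 hxz (comm _ (s₁.aQ x hx) x hx2).symm

universe u

variable {G : Type u} [Group G]

/-- a component of `X` which centralises `Q₁ Q₂` is smaller than some other component -/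
theorem grow [Finite G] (hb : D3.Plug.Bal G) {z : G} (hz : orderOf z = 2)
    {z' t' a₁ a₂ : ↥(centralizer ({z} : Set G))} (hz' : (z' : G) = z)
    {Q₁ Q₂ : Subgroup ↥(centralizer ({z} : Set G))} (s₁ : Side z' t' a₁ Q₁ Q₂) (s₂ : Side z' t' a₂ Q₂ Q₁)
    (comm : ∀ x ∈ Q₁, ∀ y ∈ Q₂, x * y = y * x)
    (elem : ∀ W : Subgroup ↥(centralizer ({z} : Set G)), W.Normal → (∀ w ∈ W, w * w = 1) → ∀ w ∈ W, w = 1 ∨ w = z')
    (zM : ∀ M : Subgroup ↥(centralizer ({z} : Set G)), IsComponent M → z' ∈ M)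
    {q₁ q₂ : ↥(centralizer ({z} : Set G))} (hq₁ : q₁ ∈ Q₁) (hq₂ : q₂ ∈ Q₂) (hqq₁ : q₁ * q₁ = z')
    (hqq₂ : q₂ * q₂ = z') {g : G} (hg : g * z * g⁻¹ = (q₁ : G) * q₂)
    (L : Subgroup ↥(centralizer ({z} : Set G))) (hL : IsComponent L)
    (hL₁ : ∀ m ∈ L, ∀ x ∈ Q₁, m * x = x * m) (hL₂ : ∀ m ∈ L, ∀ x ∈ Q₂, m * x = x * m) :
    ∃ L' : Subgroup ↥(centralizer ({z} : Set G)), IsComponent L' ∧ Nat.card L < Nat.card L' := by
  have zz : z' * z' = 1 := by
    apply Subtype.ext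
    show (z' : G) * z' = 1
    rw [hz', ← pow_two, ← hz, pow_orderOf_eq_one]
  have z1 : z' ≠ 1 := by
    intro e
    rw [e] at hz'
    have : z = 1 := hz'.symm
    rw [this, orderOf_one] at hz
    exact absurd hz (by norm_num)
  set y : (centralizer ({z} : Set G)) := q₁ * q₂ with hy
  have hyy : y * y = 1 := by
    calc y * y = q₁ * (q₂ * q₁) * q₂ := by rw [hy]; group
      _ = q₁ * (q₁ * q₂) * q₂ := by rw [← comm q₁ hq₁ q₂ hq₂]
      _ = (q₁ * q₁) * (q₂ * q₂) := by group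
      _ = 1 := by rw [hqq₁, hqq₂, zz]
  have hy1 : y ≠ 1 := fun e => prod_ne zz z1 s₁ s₂ comm hq₁ hq₂ hqq₁ (Or.inl e)
  have hyz : y ≠ z' := fun e => prod_ne zz z1 s₁ s₂ comm hq₁ hq₂ hqq₁ (Or.inr e)
  have hyo : orderOf (y : G) = 2 := by
    rw [Subgroup.orderOf_coe]
    exact orderOf_eq_prime (by rw [pow_two, hyy]) hy1
  have hyL : ∀ m ∈ L, m * y = y * m := by
    intro m hm
    have c1 : Commute m q₁ := hL₁ m hm q₁ hq₁
    have c2 : Commute m q₂ := hL₂ m hm q₂ hq₂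
    exact (c1.mul_right c2).eq
  have hyL' : (y : G) ∈ centralizer ((L.map (centralizer ({z} : Set G)).subtype : Subgroup G) : Set G) := by
    rw [mem_centralizer_iff]
    rintro _ ⟨m, hm, rfl⟩
    exact congrArg Subtype.val (hyL m hm)
  have hzy : z * (y : G) = y * z := (mem_centralizer_singleton_iff.1 y.2).symm
  obtain ⟨D, hD, hcase⟩ := D3.Plug.exists_pump hb hz (D3.comp_map hL) hyo hzy hyL'
  have hD' := hD.conj g⁻¹
  have e1 : g⁻¹ * (y : G) * g⁻¹⁻¹ = z := by
    have : (y : G) = g * z * g⁻¹ := hg.symm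
    rw [this]; group
  rw [e1] at hD'
  have hyD : (y : G) ∈ D := by
    have h1 : z' ∈ (D3.cj g⁻¹ D).subgroupOf (centralizer ({z} : Set G)) := zM _ hD'.comp
    rw [mem_subgroupOf, hz', D3.mem_cj] at h1
    have e2 : g⁻¹⁻¹ * z * g⁻¹ = (y : G) := by rw [inv_inv, hg]; rfl
    rwa [e2] at h1
  refine ⟨(D3.cj g⁻¹ D).subgroupOf (centralizer ({z} : Set G)), hD'.comp, ?_⟩
  have hc1 : Nat.card ↥((D3.cj g⁻¹ D).subgroupOf (centralizer ({z} : Set G))) = Nat.card D := by
    rw [Nat.card_congr (Subgroup.subgroupOfEquivOfLe hD'.le).toEquiv, D3.card_cj]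
  have hc2 : Nat.card ↥(L.map (centralizer ({z} : Set G)).subtype) = Nat.card L :=
    Nat.card_congr (L.equivMapOfInjective _ (centralizer ({z} : Set G)).subtype_injective).toEquiv.symm
  rw [hc1, ← hc2]
  rcases hcase with e | hlt | ⟨h4, -, h6⟩
  · exfalso
    have hyLm : y ∈ L := by
      have h1 : (y : G) ∈ L.map (centralizer ({z} : Set G)).subtype := by rw [e]; exact hyD
      obtain ⟨y0, hy0, e0⟩ := h1
      have : y0 = y := Subtype.ext e0
      rwa [this] at hy0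
    have hyl : ∀ x ∈ layer ↥(centralizer ({z} : Set G)), y * x = x * y := by
      intro x hx
      have h1 : layer ↥(centralizer ({z} : Set G)) ≤ centralizer ({y} : Set ↥(centralizer ({z} : Set G))) := by
        rw [layer_le_iff]
        intro K hK k hk
        rw [mem_centralizer_singleton_iff]
        by_cases e : K = L
        · subst e; exact hyL k hk
        · exact Cfsg.Agent.Cit.Comp.comm_of_ne hK hL e hk hyLm
      exact (mem_centralizer_singleton_iff.1 (h1 hx)).symm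
    have hLn : (layer ↥(centralizer ({z} : Set G))).Normal := layer_normal ↥(centralizer ({z} : Set G))
    let W : Subgroup ↥(centralizer ({z} : Set G)) :=
      { carrier := {w | w ∈ layer ↥(centralizer ({z} : Set G)) ∧ (∀ x ∈ layer ↥(centralizer ({z} : Set G)), w * x = x * w) ∧ w * w = 1}
        one_mem' := ⟨one_mem _, fun x _ => by rw [one_mul, mul_one], one_mul 1⟩
        mul_mem' := by
          rintro a b ⟨ha, ha', haa⟩ ⟨hb, hb', hbb⟩
          refine ⟨mul_mem ha hb, fun x hx => ?_, ?_⟩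
          · have c1 : Commute a x := ha' x hx
            have c2 : Commute b x := hb' x hx
            exact (c1.mul_left c2).eq
          · calc a * b * (a * b) = a * (b * a) * b := by group
              _ = a * (a * b) * b := by rw [ha' b hb]
              _ = (a * a) * (b * b) := by group
              _ = 1 := by rw [haa, hbb, one_mul]
        inv_mem' := by
          rintro a ⟨ha, ha', haa⟩
          have e : a⁻¹ = a := inv_eq_of_mul_eq_one_right haa
          rw [e]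
          exact ⟨ha, ha', haa⟩ }
    have hWn : W.Normal := by
      refine ⟨?_⟩
      rintro w ⟨hw, hw', hww⟩ g
      refine ⟨hLn.conj_mem w hw g, fun x hx => ?_, ?_⟩
      · have h1 : g⁻¹ * x * g ∈ layer ↥(centralizer ({z} : Set G)) := by
          have := hLn.conj_mem x hx g⁻¹
          rwa [inv_inv] at this
        have h2 := hw' _ h1
        calc g * w * g⁻¹ * x = g * (w * (g⁻¹ * x * g)) * g⁻¹ := by group
          _ = g * ((g⁻¹ * x * g) * w) * g⁻¹ := by rw [h2]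
          _ = x * (g * w * g⁻¹) := by group
      · calc g * w * g⁻¹ * (g * w * g⁻¹) = g * (w * w) * g⁻¹ := by group
          _ = 1 := by rw [hww]; group
    rcases elem W hWn (fun w hw => hw.2.2) y ⟨component_le_layer hL hyLm, hyl, hyy⟩ with e | e
    · exact hy1 e
    · exact hyz e
  · exact lt_of_le_of_ne (Subgroup.card_le_of_le hlt.le)
      fun e => hlt.ne (Subgroup.eq_of_le_of_card_ge hlt.le e.ge)
  · exfalso
    obtain ⟨d, hd, hzd⟩ := h6 z ⟨z', zM L hL, hz'⟩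
    apply h4
    have h7 : D3.Comp (y : G) (D3.cj z D) := hD.conj_of_comm hzy
    have h8 : D3.cj z D ≤ centralizer (D : Set G) := h7.comm hD h4
    have h9 : D3.cj (z * d * z⁻¹) D = D := D3.cj_eq_of_mem_centralizer (h8 (D3.conj_mem_cj hd))
    conv_lhs => rw [hzd]
    rw [← D3.cj_cj, h9]
    exact D3.cj_eq_of_mem hd

/-- **the field `HypB.nF`**: `R` does not centralise all the components -/
theorem nF_of [Finite G] (hb : D3.Plug.Bal G) {z : G} (hz : orderOf z = 2)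
    {z' t' a₁ a₂ : ↥(centralizer ({z} : Set G))} (hz' : (z' : G) = z)
    {Q₁ Q₂ : Subgroup ↥(centralizer ({z} : Set G))} (s₁ : Side z' t' a₁ Q₁ Q₂) (s₂ : Side z' t' a₂ Q₂ Q₁)
    (comm : ∀ x ∈ Q₁, ∀ y ∈ Q₂, x * y = y * x)
    (elem : ∀ W : Subgroup ↥(centralizer ({z} : Set G)), W.Normal → (∀ w ∈ W, w * w = 1) → ∀ w ∈ W, w = 1 ∨ w = z')
    (zM : ∀ M : Subgroup ↥(centralizer ({z} : Set G)), IsComponent M → z' ∈ M)
    {q₁ q₂ : ↥(centralizer ({z} : Set G))} (hq₁ : q₁ ∈ Q₁) (hq₂ : q₂ ∈ Q₂) (hqq₁ : q₁ * q₁ = z')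
    (hqq₂ : q₂ * q₂ = z') {g : G} (hg : g * z * g⁻¹ = (q₁ : G) * q₂)
    (hex : ∃ M : Subgroup ↥(centralizer ({z} : Set G)), IsComponent M)
    (hall : ∀ M : Subgroup ↥(centralizer ({z} : Set G)), IsComponent M →
      (∀ x ∈ Q₁, ∀ m ∈ M, x * m = m * x) ∧ ∀ x ∈ Q₂, ∀ m ∈ M, x * m = m * x) : False := by
  obtain ⟨M, hM⟩ := hex
  have key : ∀ n : ℕ, ∀ L : Subgroup ↥(centralizer ({z} : Set G)), IsComponent L →
      Nat.card ↥(centralizer ({z} : Set G)) ≤ Nat.card L + n → False := by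
    intro n
    induction n with
    | zero =>
      intro L hL hc
      obtain ⟨L', -, hlt⟩ := grow hb hz hz' s₁ s₂ comm elem zM hq₁ hq₂ hqq₁ hqq₂ hg L hL
        (fun m hm x hx => ((hall L hL).1 x hx m hm).symm) (fun m hm x hx => ((hall L hL).2 x hx m hm).symm)
      have := card_le_card_group L'
      omega
    | succ n ih =>
      intro L hL hc
      obtain ⟨L', hL', hlt⟩ := grow hb hz hz' s₁ s₂ comm elem zM hq₁ hq₂ hqq₁ hqq₂ hg L hL
        (fun m hm x hx => ((hall L hL).1 x hx m hm).symm) (fun m hm x hx => ((hall L hL).2 x hx m hm).symm)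
      exact ih L' hL' (by omega)
  exact key _ M hM (Nat.le_add_left _ _)

end Cfsg.Agent.OddHalf.D6.QThree.NIB.NF

end

-- merged: Cfsg.Agent.OddHalf.D6.QThree.U43AutEnv
section

/-!
# ODD half, D6, `q = 3`: `U₄(3)`, the sign of `C(t)` and the fields of `TransferMu.Env` (helper218)

`K` normal in `C(t)`, `e : K ≃* PSU 4 F 3`. `mu = -1` on the elements of `C(t)` acting as semilinear
automorphisms; `al` = field of `TransferMu.Env`; `cyc`: if `mu = 1` then `C(t) / K C(K)` is cyclic.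
-/

set_option autoImplicit false
set_option linter.unusedSectionVars false

namespace Cfsg.Agent.OddHalf.D6.QThree.U43AutEnv

open Subgroup Cfsg Cfsg.Agent.OddHalf.D6.QThree.U43Aut Cfsg.Agent.OddHalf.D6.QThree.U43AutRef
open Cfsg.Agent.OddHalf.D6.QThree.U43AutGood Cfsg.Agent.OddHalf.D6.QThree.TransferMu
open Cfsg.Agent.OddHalf.Small.U43Mat Cfsg.Agent.OddHalf.Small.U43Good
open Cfsg.Agent.ClassicalGeometry.UnitAutBasic (pr pr_surjective)

section lift

variable {G : Type*} [Group G] {K C : Subgroup G} {L : Type*} [Group L]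

/-- the action of `C` on `K`, transported to `L` -/
noncomputable def ac (e : K ≃* L) (hn : ∀ g ∈ C, ∀ x ∈ K, g * x * g⁻¹ ∈ K) : C →* MulAut L :=
  (MulAut.congr e).toMonoidHom.comp (K.normalizerMonoidHom.comp (inclusion (show C ≤ normalizer (K : Set G) from
    fun g hg => mem_normalizer_iff.2 fun x => ⟨fun hx => hn g hg x hx, fun hx => by
      have := hn g⁻¹ (C.inv_mem hg) _ hx
      rwa [show g⁻¹ * (g * x * g⁻¹) * g⁻¹⁻¹ = x by group] at this⟩)))

variable {e : K ≃* L} {hn : ∀ g ∈ C, ∀ x ∈ K, g * x * g⁻¹ ∈ K}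

/-- the elements of `K` -/
theorem ac_spec (g : C) (x : L) : (e.symm (ac e hn g x) : G) = g * (e.symm x : G) * (g : G)⁻¹ := by
  show ((e.symm (e (K.normalizerMonoidHom _ (e.symm x))) : K) : G) = _
  rw [e.symm_apply_apply]
  rfl

theorem ac_eq {g : C} {x y : L} (h : (e.symm y : G) = g * (e.symm x : G) * (g : G)⁻¹) : ac e hn g x = y := by
  apply e.symm.injective
  apply Subtype.ext
  rw [ac_spec, h]

theorem ac_of_mem {g : C} {k : L} (h : (g : G) = e.symm k) : ac e hn g = MulAut.conj k := by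
  ext x
  apply ac_eq
  rw [MulAut.conj_apply, map_mul, map_mul, map_inv, h]
  rfl

theorem ac_one {g : C} : ac e hn g = 1 ↔ ∀ k ∈ K, (g : G) * k = k * g := by
  constructor
  · intro h k hk
    have h1 := ac_spec (e := e) (hn := hn) g (e ⟨k, hk⟩)
    rw [h, MulAut.one_apply, e.symm_apply_apply] at h1
    rw [← mul_inv_eq_iff_eq_mul]
    exact h1.symm
  · intro h
    ext x
    apply ac_eq
    rw [h _ (e.symm x).2, mul_inv_cancel_right]
    rfl

end lift

section main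

variable {G : Type*} [Group G] {K : Subgroup G} {t : G} {F : Type*} [Field F] [CharP F 3] [Fintype F]

theorem lift_good (hF : Fintype.card F = 9) (e : K ≃* PSU 4 F 3) (Kt : ∀ x ∈ K, x * t = t * x)
    (hn : ∀ g ∈ centralizer ({t} : Set G), ∀ x ∈ K, g * x * g⁻¹ ∈ K) {y : centralizer ({t} : Set G)}
    {v p : PSU 4 F 3} {S : Subgroup (PSU 4 F 3)} (h : GoodK (ac e hn y) v p S) :
    Good t K (y : G) (e.symm v) (e.symm p) (S.map (K.subtype.comp e.symm.toMonoidHom)) := by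
  obtain ⟨α, hα⟩ : ∃ α, α = ac e hn y := ⟨_, rfl⟩
  rw [← hα] at h
  have sp : ∀ x : PSU 4 F 3, (e.symm (α x) : G) = y * (e.symm x : G) * (y : G)⁻¹ := fun x => by
    rw [hα]; exact ac_spec y x
  have spf : ∀ x : PSU 4 F 3, α x = x → (e.symm x : G) * y = y * e.symm x := by
    intro x hx
    have h1 := sp x
    rw [hx] at h1
    calc (e.symm x : G) * y = (y * (e.symm x : G) * (y : G)⁻¹) * y := by rw [← h1]
      _ = y * e.symm x := by group
  have spf' : ∀ x : PSU 4 F 3, (e.symm x : G) * y = y * e.symm x → α x = x := by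
    intro x hx
    apply e.symm.injective
    apply Subtype.ext
    rw [sp, ← hx, mul_inv_cancel_right]
  have hyt : (y : G) * t = t * y := mem_centralizer_singleton_iff.1 y.2
  have hmem : ∀ s ∈ S.map (K.subtype.comp e.symm.toMonoidHom), ∃ x ∈ S, s = e.symm x := by
    rintro _ ⟨x, hx, rfl⟩
    exact ⟨x, hx, rfl⟩
  have mmem : ∀ x ∈ S, (e.symm x : G) ∈ S.map (K.subtype.comp e.symm.toMonoidHom) :=
    fun x hx => ⟨x, hx, rfl⟩
  refine { yt := hyt, yy := ?_, vv := ?_, v1 := ?_, vc := ?_, pK := (e.symm p).2, py := ?_, pv := ?_,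
           SK := ?_, Sy := ?_, pS := h.pS.map _, max := ?_, vS := mmem _ h.vS, vs := ?_, cen := ?_ }
  · intro k hk
    obtain ⟨x, hx⟩ := e.symm.surjective ⟨k, hk⟩
    have hx' : (e.symm x : G) = k := congrArg Subtype.val hx
    have h1 := sp (α x)
    rw [sp x] at h1
    have h2 : α (α x) = x := by
      rw [← MulAut.mul_apply, h.aa, MulAut.one_apply]
    rw [h2, hx'] at h1
    calc (y : G) * y * k = (y * (y * k * (y : G)⁻¹) * (y : G)⁻¹) * (y * y) := by group
      _ = k * (y * y) := by rw [← h1]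
  · have := congrArg (fun x => (e.symm x : G)) h.vv
    simpa using this
  · intro h1
    apply h.v1
    apply e.symm.injective
    apply Subtype.ext
    rw [h1, map_one]
    rfl
  · have h1 : (fixS α).map (K.subtype.comp e.symm.toMonoidHom) ≤ K ⊓ centralizer {(y : G)} := by
      rintro _ ⟨x, hx, rfl⟩
      exact ⟨(e.symm x).2, mem_centralizer_singleton_iff.2 (spf x hx)⟩
    have h2 := mem_map_of_mem (K.subtype.comp e.symm.toMonoidHom) h.vc
    rw [map_commutator] at h2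
    exact commutator_mono h1 h1 h2
  · -- `p y p⁻¹ = y v`
    have h1 : MulAut.conj (α.symm p) = MulAut.conj (v * p) := by
      ext x
      have h2 := congrArg (fun f : MulAut (PSU 4 F 3) => f x) h.py
      simp only [MulAut.mul_apply, MulAut.conj_apply] at h2
      apply α.injective
      rw [MulAut.conj_apply, MulAut.conj_apply, map_mul, map_mul, map_inv, MulEquiv.apply_symm_apply, h2]
      congr 1
      group
    have h3 := conj_inj hF h1
    have h4 : p = α (v * p) := by rw [← h3, MulEquiv.apply_symm_apply]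
    have h5 : (e.symm p : G) = y * ((e.symm v : G) * e.symm p) * (y : G)⁻¹ := by
      have := sp (v * p)
      rw [← h4] at this
      simpa only [map_mul, Subgroup.coe_mul] using this
    have h6 : (e.symm p : G) * y = y * ((e.symm v : G) * e.symm p) := by
      rw [← eq_mul_inv_iff_mul_eq]; exact h5
    rw [h6]
    group
  · have := congrArg (fun x => (e.symm x : G)) h.pv
    simp only [map_mul, Subgroup.coe_mul] at this
    rw [this, mul_inv_cancel_right]
  · intro s hs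
    obtain ⟨x, hx, rfl⟩ := hmem s hs
    exact (e.symm x).2
  · intro s hs
    obtain ⟨x, hx, rfl⟩ := hmem s hs
    exact spf x (h.Sf x hx)
  · intro P hP hSP hPK hPy x hx
    have h1 := h.max (P.comap (K.subtype.comp e.symm.toMonoidHom)) (hP.comap_of_injective _ (by
      intro a b hab
      exact e.symm.injective (Subtype.ext hab))) (fun a ha => hSP (mmem a ha))
      (fun a ha => spf' a (hPy _ ha))
    refine ⟨e ⟨x, hPK hx⟩, h1 ?_, ?_⟩
    · show ((e.symm (e ⟨x, hPK hx⟩) : K) : G) ∈ P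
      rw [e.symm_apply_apply]; exact hx
    · show ((e.symm (e ⟨x, hPK hx⟩) : K) : G) = x
      rw [e.symm_apply_apply]
  · intro s hs
    obtain ⟨x, hx, rfl⟩ := hmem s hs
    have := congrArg (fun x => (e.symm x : G)) (h.vs x hx)
    simpa only [map_mul, Subgroup.coe_mul] using this
  · intro u huu hut huy huS
    obtain ⟨w, hw⟩ : ∃ w : centralizer ({t} : Set G), (w : G) = u := ⟨⟨u, mem_centralizer_singleton_iff.2 hut⟩, rfl⟩
    have hwy : w * y = y * w := Subtype.ext (by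
      show (w : G) * y = y * w
      rw [hw]; exact huy)
    have hvt : (e.symm v : G) * t = t * e.symm v := Kt _ (e.symm v).2
    obtain ⟨v', hv'⟩ : ∃ v' : centralizer ({t} : Set G), (v' : G) = e.symm v :=
      ⟨⟨_, mem_centralizer_singleton_iff.2 hvt⟩, rfl⟩
    have hacv : ac e hn v' = MulAut.conj v := ac_of_mem hv'
    have key := h.cen (ac e hn w) (by rw [hα, ← map_mul, ← map_mul, hwy]) (by
      intro s hs
      apply ac_eq
      rw [hw, ← huS _ (mmem s hs), mul_inv_cancel_right])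
    rcases key with h1 | h1 | h1 | h1
    · left
      rw [ac_one, hw] at h1
      exact h1
    · right; left
      have h2 : ac e hn (v' * w) = 1 := by
        rw [map_mul, hacv, h1, ← map_mul, h.vv, map_one]
      rw [ac_one] at h2
      intro k hk
      have := h2 k hk
      rwa [Subgroup.coe_mul, hv', hw] at this
    · right; right; left
      have h2 : ac e hn (y⁻¹ * w) = 1 := by
        rw [map_mul, map_inv, h1, hα, inv_mul_cancel]
      rw [ac_one] at h2
      intro k hk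
      have := h2 k hk
      rwa [Subgroup.coe_mul, Subgroup.coe_inv, hw] at this
    · right; right; right
      have h2 : ac e hn ((y * v')⁻¹ * w) = 1 := by
        rw [map_mul, map_inv, map_mul, h1, hacv, hα, inv_mul_cancel]
      rw [ac_one] at h2
      intro k hk
      have := h2 k hk
      rwa [Subgroup.coe_mul, Subgroup.coe_inv, Subgroup.coe_mul, hw, hv'] at this

/-- the sign of `C(t)` -/
noncomputable def mu (hF : Fintype.card F = 9) (e : K ≃* PSU 4 F 3)
    (hn : ∀ g ∈ centralizer ({t} : Set G), ∀ x ∈ K, g * x * g⁻¹ ∈ K) : centralizer ({t} : Set G) →* ℤˣ :=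
  (sgn hF).comp (ac e hn)

theorem muK (hF : Fintype.card F = 9) (e : K ≃* PSU 4 F 3)
    (hn : ∀ g ∈ centralizer ({t} : Set G), ∀ x ∈ K, g * x * g⁻¹ ∈ K) (x : G) (hx : x * t = t * x)
    (hxK : x ∈ K) : mu hF e hn ⟨x, mem_centralizer_singleton_iff.2 hx⟩ = 1 := by
  show sgn hF (ac e hn _) = 1
  rw [ac_of_mem (k := e ⟨x, hxK⟩) (by rw [e.symm_apply_apply]), sgn_conj]

theorem muC (hF : Fintype.card F = 9) (e : K ≃* PSU 4 F 3)
    (hn : ∀ g ∈ centralizer ({t} : Set G), ∀ x ∈ K, g * x * g⁻¹ ∈ K) (x : G) (hx : x * t = t * x)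
    (hxK : ∀ k ∈ K, x * k = k * x) : mu hF e hn ⟨x, mem_centralizer_singleton_iff.2 hx⟩ = 1 := by
  show sgn hF (ac e hn _) = 1
  rw [ac_one.2 hxK, map_one]

/-- **the field `al` of `TransferMu.Env`** -/
theorem al (hF : Fintype.card F = 9) (e : K ≃* PSU 4 F 3) (Kt : ∀ x ∈ K, x * t = t * x)
    (hn : ∀ g ∈ centralizer ({t} : Set G), ∀ x ∈ K, g * x * g⁻¹ ∈ K) {z : G} (hzK : z ∈ K) (hzz : z * z = 1)
    (hz1 : z ≠ 1) (y : G) (hy : y * t = t * y)
    (hmu : mu hF e hn ⟨y, mem_centralizer_singleton_iff.2 hy⟩ = -1) :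
    ∃ k ∈ K, ∃ (v p : G) (S : Subgroup G), Good t K (k * y) v p S ∧ ∃ l ∈ K, l * z * l⁻¹ = v := by
  obtain ⟨k, v, p, S, hg, hv⟩ := exists_good hF _ hmu
  have hkt : (e.symm k : G) * t = t * e.symm k := Kt _ (e.symm k).2
  obtain ⟨k', hk'⟩ : ∃ k' : centralizer ({t} : Set G), (k' : G) = e.symm k :=
    ⟨⟨_, mem_centralizer_singleton_iff.2 hkt⟩, rfl⟩
  have h1 : ac e hn (k' * ⟨y, mem_centralizer_singleton_iff.2 hy⟩) =
      MulAut.conj k * ac e hn ⟨y, mem_centralizer_singleton_iff.2 hy⟩ := by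
    rw [map_mul, ac_of_mem hk']
  rw [← h1] at hg
  have h2 := lift_good hF e Kt hn hg
  rw [Subgroup.coe_mul, hk'] at h2
  refine ⟨_, (e.symm k).2, _, _, _, h2, ?_⟩
  obtain ⟨g, hgz⟩ := U43Tw.one_class hF (e ⟨z, hzK⟩) (by rw [← map_mul, ← map_one e]; congr 1; exact Subtype.ext hzz)
    (fun h => hz1 (by
      have := e.injective (h.trans (map_one e).symm)
      exact congrArg Subtype.val this))
  refine ⟨(e.symm g⁻¹ : K), (e.symm g⁻¹).2, ?_⟩
  have h3 : e.symm (g⁻¹ * e ⟨z, hzK⟩ * g⁻¹⁻¹) = e.symm v := by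
    rw [← hgz, hv]
    congr 1
    group
  rw [map_mul, map_mul, e.symm_apply_apply, map_inv e.symm g⁻¹] at h3
  exact congrArg Subtype.val h3

end main

/-! ### The determinant of the linear automorphisms -/

section det

open Matrix

variable {F : Type*} [Field F] [CharP F 3] [Fintype F]

/-- the determinant of a matrix of an automorphism -/
noncomputable def dt (hF : Fintype.card F = 9) (α : MulAut (PSU 4 F 3)) : F :=
  (ty_spec hF α).choose.det

theorem dt_sa (hF : Fintype.card F = 9) {M : M4 F} (hM : st M * M = 1) (ε : Bool) :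
    dt hF (sa hF M hM ε) = M.det := by
  obtain ⟨h1, h2⟩ := (ty_spec hF (sa hF M hM ε)).choose_spec
  obtain ⟨-, c, hc, h3⟩ := sa_inj hF hM h1 h2
  show (ty_spec hF (sa hF M hM ε)).choose.det = _
  rw [h3, det_smul, Fintype.card_fin, hc, one_mul]

/-- a group of linear automorphisms is cyclic modulo the inner ones -/
theorem cyc (hF : Fintype.card F = 9) {X : Type*} [Group X] (φ : X →* MulAut (PSU 4 F 3))
    (h : ∀ x, sgn hF (φ x) = 1) : ∃ y, ∀ x, ∃ (i : ℤ) (k : PSU 4 F 3), φ x = MulAut.conj k * φ y ^ i := by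
  have hlin : ∀ α : MulAut (PSU 4 F 3), sgn hF α = 1 → ∃ (M : M4 F) (hM : st M * M = 1), α = sa hF M hM false := by
    intro α hα
    obtain ⟨M, hM, ε, rfl⟩ := exists_sa hF α
    rw [sgn_sa] at hα
    cases ε
    · exact ⟨M, hM, rfl⟩
    · exact absurd hα (by decide)
  let δ : X →* F :=
    { toFun := fun x => dt hF (φ x)
      map_one' := by
        rw [map_one, ← sa_one hF (M := 1) (by rw [st_one, one_mul]) (c := 1) (by rw [one_smul]), dt_sa, det_one]
      map_mul' := fun x y => by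
        obtain ⟨M, hM, hx⟩ := hlin _ (h x)
        obtain ⟨N, hN, hy⟩ := hlin _ (h y)
        rw [map_mul, hx, hy, sa_mul, dt_sa, dt_sa, dt_sa, tw_false, det_mul] }
  let δ' : X →* Fˣ := δ.toHomUnits
  obtain ⟨⟨_, y, rfl⟩, hy⟩ := IsCyclic.exists_generator (α := δ'.range)
  refine ⟨y, fun x => ?_⟩
  obtain ⟨i, hi⟩ := hy ⟨δ' x, x, rfl⟩
  have h1 : δ' y ^ i = δ' x := congrArg Subtype.val hi
  have h2 : δ (y ^ i) = δ x := by
    have h3 : δ' (y ^ i) = δ' x := by rw [map_zpow, h1]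
    exact congrArg Units.val h3
  obtain ⟨M, hM, hx⟩ := hlin _ (h x)
  obtain ⟨N, hN, hyi⟩ := hlin _ (h (y ^ i))
  have h3 : M.det = N.det := by
    have h4 : dt hF (φ (y ^ i)) = dt hF (φ x) := h2
    rw [hx, hyi, dt_sa, dt_sa] at h4
    exact h4.symm
  obtain ⟨k, hk⟩ := exists_conj_mul hF hN hM false h3
  refine ⟨i, k, ?_⟩
  rw [← map_zpow, hyi, hk, hx]

end det


end Cfsg.Agent.OddHalf.D6.QThree.U43AutEnv

end

-- merged: Cfsg.Agent.OddHalf.D6.QThree.FrontBU
section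

/-!
# ODD half, D6, `q = 3`: the front end for `K = U₄(3)`, any `|Q|`, any outer part (helper948; text: helper801 #12978
(0), (1), (2); K-facts: helper218; transfer: helper696; cyclic case: helper868)

`exists_out`: `Ctx G`, `Std G K`, `Cyc K`, `K ≃* PSU 4 F 3` give an involution `t` with `Out K t z`.
-/

set_option autoImplicit false

namespace Cfsg.Agent.OddHalf.D6.QThree.FrontBU

open Subgroup Cfsg Cfsg.Agent.OddHalf.Front.FE Cfsg.Agent.OddHalf.Front Cfsg.Agent.OddHalf.D8.GlueE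
open Cfsg.Agent.OddHalf.Front.Cyclic (mem_M KQ conjK conjK' conjQ inv_comm mul_comm' M_unique)
open Cfsg.Agent.OddHalf.D6.QThree.FrontB

universe u

section

variable {F : Type*} [Field F] [CharP F 3] [Fintype F]

/-- (K1) for `K ≃* U₄(3)` -/
theorem k1 (hF : Fintype.card F = 9) {K : Type*} [Group K] [Finite K] (e : K ≃* PSU 4 F 3) (S : Sylow 2 K) :
    ∃ z ∈ S, z ≠ 1 ∧ (∀ x ∈ S, x * z = z * x) ∧
      ∀ α : MulAut K, (∀ x ∈ S, α x = x) → α = 1 ∨ α = MulAut.conj z := by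
  have hfin : Finite (PSU 4 F 3) := Finite.of_equiv K e.toEquiv
  obtain ⟨z, hzS, -, hz1, hzc, hz⟩ := U43AutRef.kone_sylow hF (S.mapSurjective (f := e.toMonoidHom) e.surjective)
  have hmem : ∀ x ∈ S, e x ∈ (S.mapSurjective (f := e.toMonoidHom) e.surjective : Subgroup (PSU 4 F 3)) :=
    fun x hx => ⟨x, hx, rfl⟩
  obtain ⟨w, hw, hwz⟩ := hzS
  have hwz' : e w = z := hwz
  refine ⟨w, hw, fun h => hz1 (by rw [← hwz', h, map_one]), ?_, ?_⟩
  · intro x hx
    apply e.injective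
    rw [map_mul, map_mul, hwz']
    exact hzc _ (hmem x hx)
  · intro α hα
    have h1 := hz (MulAut.congr e α) (by
      rintro _ ⟨x, hx, rfl⟩
      show e (α (e.symm (e x))) = e x
      rw [e.symm_apply_apply, hα x hx])
    rcases h1 with h1 | h1
    · left
      ext x
      have h2 := congrArg (fun f : MulAut (PSU 4 F 3) => f (e x)) h1
      apply e.injective
      have h3 : e (α (e.symm (e x))) = e x := h2
      rwa [e.symm_apply_apply] at h3
    · right
      ext x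
      have h2 := congrArg (fun f : MulAut (PSU 4 F 3) => f (e x)) h1
      apply e.injective
      have h3 : e (α (e.symm (e x))) = z * e x * z⁻¹ := h2
      rw [e.symm_apply_apply] at h3
      rw [h3, MulAut.conj_apply, map_mul, map_mul, map_inv, hwz']

end

variable {F : Type*} [Field F] [CharP F 3] [Fintype F] {G : Type u} [Group G]

/-- **the front end for `K = U₄(3)`** -/
theorem exists_out (hF : Fintype.card F = 9) (hG : Iface.Ctx G) {K : Subgroup G} (hK : Iface.Std G K)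
    (hC : Iface.Cyc K) (e : K ≃* PSU 4 F 3) {z : K} {R : Subgroup K} (hb : Facts.Base z R)
    (out : ∀ α : MulAut K, ∃ n : ℕ, α ^ 2 ^ n ∈ (MulAut.conj : K →* MulAut K).range) :
    ∃ t : G, Out K t (z : G) := by
  have hfin := hG.fin
  have hcen : center K = ⊥ := by
    rw [eq_bot_iff]
    intro x hx
    rw [mem_bot]
    apply e.injective
    rw [map_one]
    apply U43AutRef.conj_one hF
    intro y
    obtain ⟨w, rfl⟩ := e.surjective y
    rw [← map_mul, ← map_mul, mem_center_iff.1 hx w]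
  obtain ⟨t, q, st⟩ := exists_start hG hK hC hcen
  have hG1 := commutator_eq_top hG
  have hG2 := index_ne_two hG
  -- (K1) for the Sylow subgroups containing `R`
  have key : ∀ S : Sylow 2 K, R ≤ S → (∀ x ∈ S, x * z = z * x) → ∀ α : MulAut K, (∀ x ∈ S, α x = x) →
      α = 1 ∨ α = MulAut.conj z := by
    intro S hRS hSz α hα
    obtain ⟨w, hwS, hw1, hwc, hw⟩ := k1 hF e S
    have hwz : w = z := by
      rcases hb.cR w (hSz w hwS) (fun r hr => (hwc r (hRS hr)).symm) with h | h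
      · exact absurd h hw1
      · exact h
    rw [← hwz]
    exact hw α hα
  obtain ⟨T, S, B, hRS, hSz, hTS⟩ := exists_FB st hb out (by
    intro S hRS hSz α hα
    rcases key S hRS hSz α hα with h | h
    · rw [h, one_mul]
    · rw [h, ← map_mul, hb.zz, map_one])
  have T1s : FB.T1 K T (z : G) := by
    intro y hy hc
    have hyt := B.tc y hy
    have h1 := key S hRS hSz (K.normalizerMonoidHom ⟨y, st.nK y hyt⟩) (by
      intro x hx
      apply Subtype.ext
      rw [nmh_apply, ← hc x ((hTS x).2 hx) x.2]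
      group)
    rcases h1 with h1 | h1
    · left
      intro k hk
      have h2 := congrArg (fun f : MulAut K => ((f ⟨k, hk⟩ : K) : G)) h1
      simp only [MulAut.one_apply] at h2
      rw [nmh_apply] at h2
      have h3 : y * k * y⁻¹ = k := h2
      rwa [mul_inv_eq_iff_eq_mul] at h3
    · right
      intro k hk
      have h2 := exists_of_conj (st.nK y hyt) h1 k hk
      have hzi : (z : G)⁻¹ = z := inv_eq_of_mul_eq_one_right B.zz
      rw [hzi] at h2
      exact h2.symm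
  refine ⟨t, B.out hG1 (B.frame T1s) ?_⟩
  -- `T` is not a Sylow subgroup of `G`
  have hn : ∀ g ∈ centralizer ({t} : Set G), ∀ x ∈ K, g * x * g⁻¹ ∈ K := fun g hg x hx =>
    conjK st.toStart0 (mem_centralizer_singleton_iff.1 hg) hx
  by_cases hmu : ∃ y, U43AutEnv.mu hF e hn y = -1
  · intro S'
    refine TransferMu.Env.not_sylow (K := K) (μ := U43AutEnv.mu hF e hn)
      { toFrame := B.frame T1s
        Kt := B.Kt
        Kn := fun g hg x hx => conjK st.toStart0 hg hx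
        Kc := fun x hx hc => st.cen x hx (fun y hy => (hc y hy).symm)
        uniq := ?_
        muK := fun x hx hxK => U43AutEnv.muK hF e hn x hx hxK
        muC := fun x hx hxK => U43AutEnv.muC hF e hn x hx hxK
        al := fun y hy _ h => U43AutEnv.al hF e B.Kt hn z.2 B.zz B.z1 y hy h } hG2 hmu S'
    intro c hct hcK hcc
    by_cases h : c = 1
    · exact Or.inl h
    · exact Or.inr (B.uniq (B.cK c hct (fun x hx => (hcK x hx).symm)) hcc h)
  · push Not at hmu
    have hmu1 : ∀ y, U43AutEnv.mu hF e hn y = 1 := fun y => (Int.units_eq_one_or _).resolve_right (hmu y)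
    have hTC : T ≤ centralizer ({t} : Set G) := fun x hx => mem_centralizer_singleton_iff.2 (B.tc x hx)
    obtain ⟨y, hy⟩ := U43AutEnv.cyc hF (X := T) ((U43AutEnv.ac e hn).comp (inclusion hTC)) (fun x => hmu1 _)
    refine fun S' => B.not_sylow_cyc hG1 T1s ⟨y, y.2, ?_⟩ S'
    intro x hx
    obtain ⟨i, k, hk⟩ := hy ⟨x, hx⟩
    -- `w = k⁻¹ x y⁻ⁱ` centralises `K`
    set x' : centralizer ({t} : Set G) := inclusion hTC ⟨x, hx⟩ with hx'
    set y' : centralizer ({t} : Set G) := inclusion hTC y with hy'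
    have hk' : U43AutEnv.ac e hn x' = MulAut.conj k * U43AutEnv.ac e hn y' ^ i := hk
    set k' : centralizer ({t} : Set G) := ⟨e.symm k, mem_centralizer_singleton_iff.2 (B.Kt _ (e.symm k).2)⟩ with hk'd
    have hak : U43AutEnv.ac e hn k' = MulAut.conj k := U43AutEnv.ac_of_mem rfl
    have h1 : U43AutEnv.ac e hn (k'⁻¹ * x' * (y' ^ i)⁻¹) = 1 := by
      rw [map_mul, map_mul, map_inv, map_inv, map_zpow, hak, hk']
      group
    have h2 := U43AutEnv.ac_one.1 h1
    set w : G := ((k'⁻¹ * x' * (y' ^ i)⁻¹ : centralizer ({t} : Set G)) : G) with hw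
    have hwt : w * t = t * w := mem_centralizer_singleton_iff.1 (k'⁻¹ * x' * (y' ^ i)⁻¹).2
    have hwq : w ∈ zpowers q := B.cK w hwt (fun k hk => (h2 k hk).symm)
    have hkK : ((e.symm k : K) : G) ∈ K := (e.symm k).2
    have hx2 : x = (e.symm k : G) * w * (y : G) ^ i := by
      have e1 : w = (e.symm k : G)⁻¹ * x * ((y : G) ^ i)⁻¹ := by
        rw [hw]
        rfl
      rw [e1]; group
    -- `s = y⁻ⁱ k yⁱ`
    have hyt : (y : G) ^ i * t = t * (y : G) ^ i := (show Commute (y : G) t from B.tc y y.2).zpow_left i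
    obtain ⟨j, hj⟩ := mem_zpowers_iff.1 (by
      have := conjQ st.toStart0 (inv_comm hyt) hwq
      rwa [inv_inv] at this : ((y : G) ^ i)⁻¹ * w * (y : G) ^ i ∈ zpowers q)
    have hqT : q ∈ T := B.zpowers_le_T (mem_zpowers q)
    have hs : ((y : G) ^ i)⁻¹ * (e.symm k : G) * (y : G) ^ i ∈ K := conjK' st.toStart0 hyt hkK
    have hxe : x = (y : G) ^ i * q ^ j * (((y : G) ^ i)⁻¹ * (e.symm k : G) * (y : G) ^ i) := by
      have hc := B.QK w hwq _ hkK
      rw [hj]
      calc x = (e.symm k : G) * w * (y : G) ^ i := hx2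
        _ = w * (e.symm k : G) * (y : G) ^ i := by rw [hc]
        _ = (y : G) ^ i * (((y : G) ^ i)⁻¹ * w * (y : G) ^ i) *
            (((y : G) ^ i)⁻¹ * (e.symm k : G) * (y : G) ^ i) := by group
    refine ⟨i, j, _, ?_, hs, hxe⟩
    have h3 : ((y : G) ^ i)⁻¹ * (e.symm k : G) * (y : G) ^ i = ((y : G) ^ i * q ^ j)⁻¹ * x := by
      rw [hxe]; group
    rw [h3]
    exact T.mul_mem (T.inv_mem (T.mul_mem (T.zpow_mem y.2 i) (T.zpow_mem hqT j))) hx

end Cfsg.Agent.OddHalf.D6.QThree.FrontBU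

end

-- merged: Cfsg.Agent.OddHalf.D6.QThree.FrontKMap
section

/-!
# ODD half, D6, `q = 3`: transport of `FrontK` along an isomorphism (helper948)
-/

set_option autoImplicit false

namespace Cfsg.Agent.OddHalf.D6.QThree.FrontB

open Subgroup Facts
open Cfsg.Agent.OddHalf.D6.QThree.FactsOut (congr_apply' congr_conj)

variable {K L : Type*} [Group K] [Group L]

theorem BA_congr (e : K ≃* L) {R : Subgroup K} {α : MulAut K} :
    BA (R.map e.toMonoidHom) (MulAut.congr e α) ↔ BA R α := by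
  constructor
  · intro h r hr
    have h1 := h (e r) ((tr_mem e).2 hr)
    rw [congr_apply'] at h1
    exact e.injective h1
  · rintro h _ ⟨r, hr, rfl⟩
    show MulAut.congr e α (e r) = e r
    rw [congr_apply', h r hr]

theorem Z2_congr (e : K ≃* L) {z : K} {α : MulAut K} : Z2 (e z) (MulAut.congr e α) ↔ Z2 z α := by
  constructor
  · rintro (h | h)
    · exact Or.inl ((MulAut.congr e).injective (by rw [h, map_one]))
    · exact Or.inr ((MulAut.congr e).injective (by rw [h, congr_conj]))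
  · rintro (h | h)
    · left; rw [h, map_one]
    · right; rw [h, congr_conj]

theorem FrontK.map {z : K} {R : Subgroup K} {i j k l a b : K} (h : FrontK z R i j k l a b) (e : K ≃* L) :
    FrontK (e z) (R.map e.toMonoidHom) (e i) (e j) (e k) (e l) (e a) (e b) where
  toBase := h.toBase.map e
  fr := h.fr.map e.toMonoidHom e.injective
  gR := by
    rw [h.gR, MonoidHom.map_closure]
    congr 1
    simp [Set.image_insert_eq]
  od := by
    intro y hy ho
    obtain ⟨x, rfl⟩ := e.surjective y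
    have h1 := h.od x ((tr_comm e).1 hy) (by rwa [tr_order] at ho)
    have h2 : (closure {i, j, k, l, a, b}).map e.toMonoidHom = closure {e i, e j, e k, e l, e a, e b} := by
      rw [MonoidHom.map_closure]
      congr 1
      simp [Set.image_insert_eq]
    rw [← h2, tr_mem]
    exact h1
  sw := by
    obtain ⟨p, hp, hpi⟩ := h.sw
    exact ⟨e p, (tr_comm e).2 hp, by rw [tr_conj, hpi]⟩
  out := by
    intro β
    obtain ⟨α, rfl⟩ := (MulAut.congr e).surjective β
    obtain ⟨n, g, hg⟩ := h.out α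
    exact ⟨n, e g, by rw [← map_pow, ← hg, congr_conj]⟩
  card := by
    refine le_trans (le_of_eq ?_) h.card
    exact (Nat.card_congr ((MulAut.congr e).toEquiv.subtypeEquiv fun α => (BA_congr e (α := α)).symm)).symm
  sq := by
    intro β hβ
    obtain ⟨α, rfl⟩ := (MulAut.congr e).surjective β
    rw [← map_mul, Z2_congr]
    exact h.sq α ((BA_congr e).1 hβ)
  uq := by
    intro β γ hβ hγ h1 h2
    obtain ⟨α, rfl⟩ := (MulAut.congr e).surjective β
    obtain ⟨δ, rfl⟩ := (MulAut.congr e).surjective γ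
    rw [← map_inv, ← map_mul, Z2_congr]
    refine h.uq α δ ((BA_congr e).1 hβ) ((BA_congr e).1 hγ) ?_ ?_
    · apply (MulAut.congr e).injective
      rw [map_mul, h1, congr_conj]
    · apply (MulAut.congr e).injective
      rw [map_mul, h2, congr_conj]
  cc := by
    intro β γ hβ hγ h1
    obtain ⟨α, rfl⟩ := (MulAut.congr e).surjective β
    obtain ⟨δ, rfl⟩ := (MulAut.congr e).surjective γ
    rw [← map_inv, ← map_mul, Z2_congr, Z2_congr, Z2_congr]
    refine h.cc α δ ((BA_congr e).1 hβ) ((BA_congr e).1 hγ) ?_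
    apply (MulAut.congr e).injective
    rw [map_mul, map_mul, h1]

end Cfsg.Agent.OddHalf.D6.QThree.FrontB

end

-- merged: Cfsg.Agent.OddHalf.D6.QThree.EndSymB
section

/-!
# ODD half, D6, `q = 3`: the end, part 2: `t ∈ O₂(C_G(z))` (helper253, bb #15179 (iii))

`Hyp.not_mem_false`, `Hyp.false`: `EndSym.Hyp` is contradictory.
-/

set_option autoImplicit false

namespace Cfsg.Agent.OddHalf.D6.QThree.EndSymB

open Subgroup Cfsg Module
open Cfsg.Agent.Co2Type.Quad Cfsg.Agent.LargeExtra.Base Cfsg.Agent.LargeExtra.TwoCentral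
  Cfsg.Agent.LargeExtra.Dickson
open Cfsg.Agent.OddHalf.D6.QThree.Diag (Pos DiagAt)
open Cfsg.Agent.OddHalf.D6.QThree.EndSym

variable {G : Type*} [Group G]

/-- the image of `v ↦ t v + v` is the space perpendicular to the fixed space -/
theorem exists_act_add {F : Subgroup G} {z : G} [Finite F] (L : Large F z)
    (t : centralizer ({z} : Set G)) (tt : (t : G) * t = 1) {a : L.V}
    (ha : ∀ v, L.act t v = v → L.b v a = 0) : ∃ v, L.act t v + v = a := by
  have := finiteDim L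
  have hff : ∀ v, L.act t (L.act t v) = v := by
    intro v
    have h1 : L.act (t * t) v = v := by
      have : t * t = 1 := Subtype.ext tt
      rw [this, map_one]; rfl
    rw [map_mul] at h1
    exact h1
  let N : L.V →ₗ[ZMod 2] L.V := (L.act t).toLinearMap + LinearMap.id
  have hN : ∀ v, N v = L.act t v + v := fun v => rfl
  have hrefl : L.b.IsRefl := fun v w hvw => by rw [L.b_comm]; exact hvw
  have hnd : L.b.Nondegenerate := ⟨fun v hv => L.b_nondeg hv, fun v hv => L.b_nondeg fun w => by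
    rw [L.b_comm]; exact hv w⟩
  have h1 : a ∈ LinearMap.range N := by
    rw [← LinearMap.BilinForm.orthogonal_orthogonal hnd hrefl (LinearMap.range N)]
    intro v hv
    apply ha
    have h2 : ∀ u, L.b (N u) v = 0 := fun u => hv _ ⟨u, rfl⟩
    have h3 : L.act t v + v = 0 := by
      apply L.b_nondeg
      intro u
      have h4 := h2 (L.act t u)
      rw [hN, map_add, LinearMap.add_apply, hff] at h4
      have h5 : L.b (L.act t v) u = L.b (L.act t u) v := by
        rw [L.b_comm, ← L.b_act t u (L.act t v), hff]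
      rw [map_add, LinearMap.add_apply, h5, L.b_comm v u, add_comm]
      exact h4
    calc L.act t v = L.act t v + (v + v) := by rw [L.add_self, add_zero]
      _ = v := by rw [← add_assoc, h3, zero_add]
  obtain ⟨v, hv⟩ := h1
  exact ⟨v, by rw [← hN]; exact hv⟩

namespace Hyp

variable {t z : G} {D R F : Subgroup G}

/-- the situation `t ∉ F`: a reflection `b = f⁻¹ f^t ∈ F` -/
theorem exists_ref [Finite G] (h : Hyp t z D R F) (htF : t ∉ F) :
    ∃ b ∈ F, ∃ f ∈ F, b = f⁻¹ * (t * f * t⁻¹) ∧ b * t = t * b ∧ (∀ r ∈ R, b * r = r * b) ∧ b * b = 1 ∧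
      ¬ Four t z b ∧
      ∀ y ∈ F, y * t = t * y → (∀ r ∈ R, y * r = r * y) → y = 1 ∨ y = z ∨ y = b ∨ y = b * z := by
  have hRF := h.R_le
  have htz : Commute t z := h.comm
  have htzF : t * z ∉ F := fun h1 => htF (by
    have := F.mul_mem h1 h.L.z_mem
    rwa [mul_assoc, h.zz, mul_one] at this)
  have hfour : ∀ x ∈ F, Four t z x → x = 1 ∨ x = z := by
    rintro x hx (h1 | h1 | h1 | h1)
    · exact Or.inl h1
    · exact Or.inr h1
    · exact absurd (h1 ▸ hx) htF
    · exact absurd (h1 ▸ hx) htzF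
  have htF' : ∀ f ∈ F, t * f * t⁻¹ ∈ F := fun f hf => h.L.conj_mem t h.comm f hf
  -- the element `a`
  obtain ⟨a, haF, hat, hac, ha1, haz⟩ : ∃ a ∈ F, a * t = t * a ∧
      (∀ y ∈ F, y * t = t * y → a * y = y * a) ∧ a ≠ 1 ∧ a ≠ z := by
    by_contra hcon
    push Not at hcon
    apply h.lam (dick h.L)
    refine D8.Lam.dick_of_nondeg h.L ⟨t, mem_centralizer_singleton_iff.2 h.comm⟩ h.tt htF ?_
    intro x hx hxt hc
    by_contra h1
    push Not at h1
    exact h1.2 (hcon x hx hxt hc h1.1)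
  have haR : ∀ r ∈ R, a * r = r * a := fun r hr => hac r (hRF hr) (h.Dt r (h.RD hr))
  have haF4 : ¬ Four t z a := fun h1 => by
    rcases hfour a haF h1 with h2 | h2
    exacts [ha1 h2, haz h2]
  have hY : ∀ y ∈ F, y * t = t * y → (∀ r ∈ R, y * r = r * y) → y = 1 ∨ y = z ∨ y = a ∨ y = a * z := by
    intro y hy hyt hyR
    rcases h.kb a y hat haR hyt hyR (hac y hy hyt) haF4 with h1 | h1
    · rcases hfour y hy h1 with h2 | h2
      · exact Or.inl h2
      · exact Or.inr (Or.inl h2)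
    · rcases hfour (a⁻¹ * y) (F.mul_mem (F.inv_mem haF) hy) h1 with h2 | h2
      · exact Or.inr (Or.inr (Or.inl (inv_mul_eq_one.1 h2).symm))
      · exact Or.inr (Or.inr (Or.inr (inv_mul_eq_iff_eq_mul.1 h2)))
  -- the map `f ↦ f⁻¹ f^t`
  have gF : ∀ f ∈ F, f⁻¹ * (t * f * t⁻¹) ∈ F := fun f hf => F.mul_mem (F.inv_mem hf) (htF' f hf)
  have gc : ∀ f ∈ F, ∀ c ∈ F, c * t = t * c → c * (f⁻¹ * (t * f * t⁻¹)) = (f⁻¹ * (t * f * t⁻¹)) * c := by
    intro f hf c hc hct
    refine comm_gamma h.L hc hf h.comm (Or.inl ?_)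
    rw [← hct]; group
  have gR : ∀ f ∈ F, ∀ r ∈ R, (f⁻¹ * (t * f * t⁻¹)) * r = r * (f⁻¹ * (t * f * t⁻¹)) :=
    fun f hf r hr => (gc f hf r (hRF hr) (h.Dt r (h.RD hr))).symm
  have gi : ∀ f, t * (f⁻¹ * (t * f * t⁻¹)) * t⁻¹ = (f⁻¹ * (t * f * t⁻¹))⁻¹ := by
    intro f
    calc t * (f⁻¹ * (t * f * t⁻¹)) * t⁻¹ = (t * f * t⁻¹)⁻¹ * ((t * t) * f * (t * t)⁻¹) := by group
      _ = (f⁻¹ * (t * f * t⁻¹))⁻¹ := by rw [h.tt]; group
  -- `a` is in the image
  obtain ⟨f, hf, hfa⟩ : ∃ f ∈ F, f⁻¹ * (t * f * t⁻¹) = a ∨ f⁻¹ * (t * f * t⁻¹) = a * z := by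
    by_contra hno
    push Not at hno
    obtain ⟨f₀, hf₀, hg1, hgz⟩ : ∃ f ∈ F, f⁻¹ * (t * f * t⁻¹) ≠ 1 ∧ f⁻¹ * (t * f * t⁻¹) ≠ z := by
      by_contra hcon
      push Not at hcon
      apply htF
      apply h.L.mem_of_act ⟨t, mem_centralizer_singleton_iff.2 h.comm⟩
      ext v
      obtain ⟨⟨f, hf⟩, rfl⟩ := h.L.pr_surjective v
      rw [h.L.act_pr]
      show _ = h.L.pr ⟨f, hf⟩
      rw [h.L.pr_eq_pr, h.L.conjQ_coe]
      show t * f * t⁻¹ = f ∨ t * f * t⁻¹ = f * z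
      by_cases h1 : f⁻¹ * (t * f * t⁻¹) = 1
      · exact Or.inl (inv_mul_eq_one.1 h1).symm
      · exact Or.inr (inv_mul_eq_iff_eq_mul.1 (hcon f hf h1))
    obtain ⟨g, hg⟩ : ∃ g, g = f₀⁻¹ * (t * f₀ * t⁻¹) := ⟨_, rfl⟩
    have hgF : g ∈ F := by rw [hg]; exact gF f₀ hf₀
    have hgi : t * g * t⁻¹ = g⁻¹ := by rw [hg]; exact gi f₀
    have hgg : g * g = z := by
      rcases h.L.sq g hgF with h1 | h1
      · exfalso
        have h2 : g⁻¹ = g := inv_eq_of_mul_eq_one_right h1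
        rw [h2, mul_inv_eq_iff_eq_mul] at hgi
        have h3 := hY g hgF hgi.symm (by rw [hg]; exact gR f₀ hf₀)
        rw [hg] at h3
        rcases h3 with h3 | h3 | h3 | h3
        · exact hg1 h3
        · exact hgz h3
        · exact (hno f₀ hf₀).1 h3
        · exact (hno f₀ hf₀).2 h3
      · exact h1
    have hgz' : Commute g z := h.L.comm_z g hgF
    have hginv : g⁻¹ = g * z := by
      apply inv_eq_of_mul_eq_one_right
      rw [← mul_assoc, hgg, h.zz]
    have hag : Commute a g := by rw [hg]; exact gc f₀ hf₀ a haF hat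
    have hfix : ∀ w ∈ F, (t * w * t⁻¹ = w ∨ t * w * t⁻¹ = w * z) → w * a = a * w := by
      intro w hw h1
      rcases h1 with h1 | h1
      · rw [mul_inv_eq_iff_eq_mul] at h1
        exact (hac w hw h1.symm).symm
      · have h2 : (w * g) * t = t * (w * g) := by
          have h3 : t * (w * g) * t⁻¹ = w * g := by
            calc t * (w * g) * t⁻¹ = (t * w * t⁻¹) * (t * g * t⁻¹) := by group
              _ = w * (z * g) * z := by rw [h1, hgi, hginv]; group
              _ = w * (g * z) * z := by rw [hgz'.eq]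
              _ = w * g * (z * z) := by group
              _ = w * g := by rw [h.zz, mul_one]
          rw [mul_inv_eq_iff_eq_mul] at h3
          exact h3.symm
        have h4 : Commute a (w * g) := hac _ (F.mul_mem hw hgF) h2
        have h5 := h4.mul_right hag.inv_right
        rw [mul_inv_cancel_right] at h5
        exact h5.symm.eq
    obtain ⟨v, hv⟩ := exists_act_add h.L ⟨t, mem_centralizer_singleton_iff.2 h.comm⟩ h.tt
      (a := h.L.pr ⟨a, haF⟩) (by
      intro v hv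
      obtain ⟨⟨w, hw⟩, rfl⟩ := h.L.pr_surjective v
      rw [h.L.act_pr, h.L.pr_eq_pr, h.L.conjQ_coe] at hv
      exact (h.L.b_pr _ _).2 (hfix w hw hv))
    obtain ⟨⟨w, hw⟩, rfl⟩ := h.L.pr_surjective v
    rw [h.L.act_pr, ← h.L.pr_mul, h.L.pr_eq_pr] at hv
    have h1 : t * w * t⁻¹ * w = a ∨ t * w * t⁻¹ * w = a * z := hv
    -- `w⁻¹ w^t = w^t w` modulo `⟨z⟩`
    have h2 : h.L.pr (⟨w, hw⟩⁻¹ * ⟨t * w * t⁻¹, htF' w hw⟩) = h.L.pr ⟨a, haF⟩ := by
      rw [h.L.pr_mul, h.L.pr_inv, h.L.neg_eq, add_comm, ← h.L.pr_mul, h.L.pr_eq_pr]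
      exact h1
    rw [h.L.pr_eq_pr] at h2
    rcases h2 with h3 | h3
    · exact (hno w hw).1 h3
    · exact (hno w hw).2 h3
  -- `b`
  obtain ⟨b, hb⟩ : ∃ b, b = f⁻¹ * (t * f * t⁻¹) := ⟨_, rfl⟩
  rw [← hb] at hfa
  have hbF : b ∈ F := by rw [hb]; exact gF f hf
  have haz' : Commute a z := h.L.comm_z a haF
  have hbt : b * t = t * b := by
    rcases hfa with h1 | h1 <;> rw [h1]
    · exact hat
    · exact ((show Commute a t from hat).mul_left htz.symm).eq
  have hbR : ∀ r ∈ R, b * r = r * b := by rw [hb]; exact gR f hf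
  have hbb : b * b = 1 := by
    have h1 : t * b * t⁻¹ = b⁻¹ := by rw [hb]; exact gi f
    have h2 : t * b * t⁻¹ = b := by rw [← hbt]; group
    rw [h2] at h1
    rw [eq_inv_iff_mul_eq_one] at h1
    exact h1
  refine ⟨b, hbF, f, hf, hb, hbt, hbR, hbb, ?_, ?_⟩
  · intro h1
    rcases hfour b hbF h1 with h2 | h2 <;> rcases hfa with h3 | h3
    · exact ha1 (h3.symm.trans h2)
    · apply haz
      have h4 : a * z = 1 := h3.symm.trans h2
      rw [mul_eq_one_iff_eq_inv, h.zi] at h4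
      exact h4
    · exact haz (h3.symm.trans h2)
    · apply ha1
      have h4 : a * z = z := h3.symm.trans h2
      exact mul_eq_right.1 h4
  · intro y hy hyt hyR
    rcases hY y hy hyt hyR with h1 | h1 | h1 | h1
    · exact Or.inl h1
    · exact Or.inr (Or.inl h1)
    · rcases hfa with h3 | h3
      · right; right; left; rw [h1, h3]
      · right; right; right; rw [h1, h3, mul_assoc, h.zz, mul_one]
    · rcases hfa with h3 | h3
      · right; right; right; rw [h1, h3]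
      · right; right; left; rw [h1, h3]

/-- **`t ∈ F`** -/
theorem not_mem_false [Finite G] (h : Hyp t z D R F) (htF : t ∉ F) : False := by
  have hRF := h.R_le
  obtain ⟨b, hbF, f, hf, hbf, hbt, hbR, hbb, hb4, hY⟩ := exists_ref h htF
  have hb1 : b ≠ 1 := fun e => hb4 (Or.inl e)
  have hbz : b ≠ z := fun e => hb4 (Or.inr (Or.inl e))
  have hbzc : Commute b z := h.L.comm_z b hbF
  have htz : Commute t z := h.comm
  -- `D` is normal in `C(b) ∩ C(z)`
  have hn : ∀ g, g * b = b * g → g * z = z * g → ∀ d ∈ D, g * d * g⁻¹ ∈ D := by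
    rcases h.ref b hbt hbR hbb hb4 with h1 | ⟨M, L, h1⟩
    · exact h1
    · exact (h.diag_false h1).elim
  -- `D` centralises `t^g`, `g ∈ C(b) ∩ C(z)`
  have hDt : ∀ g, g * b = b * g → g * z = z * g → ∀ d ∈ D, d * (g * t * g⁻¹) = (g * t * g⁻¹) * d := by
    intro g hgb hgz d hd
    have cb : Commute g b := hgb
    have cz : Commute g z := hgz
    have h1 := hn g⁻¹ cb.inv_left.eq cz.inv_left.eq d hd
    rw [inv_inv] at h1
    have h2 := h.Dt _ h1
    calc d * (g * t * g⁻¹) = g * ((g⁻¹ * d * g) * t) * g⁻¹ := by group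
      _ = g * (t * (g⁻¹ * d * g)) * g⁻¹ := by rw [h2]
      _ = (g * t * g⁻¹) * d := by group
  obtain ⟨g₀, r, hgz, hr, hr1, hrz, hgt⟩ := h.fus
  have hrF := hRF hr
  have hrt : Commute r t := h.Dt r (h.RD hr)
  have cgz : Commute g₀ z := hgz
  -- `D` does not centralise `r`
  have hrD : ¬ ∀ d ∈ D, d * r = r * d := by
    intro h1
    rcases h.cR r (h.RD hr) (fun s hs => (h1 s (h.RD hs)).symm) with h2 | h2
    · exact hr1 h2
    · exact hrz h2
  -- `b^g ∈ {b, b z}`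
  have hgb : g₀ * b * g₀⁻¹ = b ∨ g₀ * b * g₀⁻¹ = b * z := by
    obtain ⟨f', hf'⟩ : ∃ f', f' = g₀ * f * g₀⁻¹ := ⟨_, rfl⟩
    have hf'F : f' ∈ F := by rw [hf']; exact h.L.conj_mem g₀ hgz f hf
    obtain ⟨y, hy⟩ : ∃ y, y = f'⁻¹ * (t * f' * t⁻¹) := ⟨_, rfl⟩
    have hyF : y ∈ F := by
      rw [hy]; exact F.mul_mem (F.inv_mem hf'F) (h.L.conj_mem t h.comm f' hf'F)
    have hyz : Commute y z := h.L.comm_z y hyF
    -- `g b g⁻¹ = y` or `y z`
    have e : g₀ * b * g₀⁻¹ = f'⁻¹ * (t * (r * f' * r⁻¹) * t⁻¹) := by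
      calc g₀ * b * g₀⁻¹ = (g₀ * f * g₀⁻¹)⁻¹ * ((g₀ * t * g₀⁻¹) * (g₀ * f * g₀⁻¹) * (g₀ * t * g₀⁻¹)⁻¹) := by
            rw [hbf]; group
        _ = f'⁻¹ * ((t * r) * f' * (t * r)⁻¹) := by rw [hgt, ← hf']
        _ = f'⁻¹ * (t * (r * f' * r⁻¹) * t⁻¹) := by group
    have e2 : g₀ * b * g₀⁻¹ = y ∨ g₀ * b * g₀⁻¹ = y * z := by
      rcases h.L.comm r hrF f' hf'F with h1 | h1
      · left
        rw [e, h1, hy]; group
      · right
        have h2 : r * f' * r⁻¹ = f' * z := by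
          have crz : Commute r z := h.L.comm_z r hrF
          rw [h1]
          calc f' * r * z * r⁻¹ = f' * (r * z) * r⁻¹ := by group
            _ = f' * z := by rw [crz.eq]; group
        rw [e, h2, hy]
        calc f'⁻¹ * (t * (f' * z) * t⁻¹) = f'⁻¹ * (t * f' * (z * t⁻¹)) := by group
          _ = f'⁻¹ * (t * f' * (t⁻¹ * z)) := by rw [htz.symm.inv_right.eq]
          _ = f'⁻¹ * (t * f' * t⁻¹) * z := by group
    have e3 : (g₀ * b * g₀⁻¹) * (g₀ * b * g₀⁻¹) = 1 := by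
      calc (g₀ * b * g₀⁻¹) * (g₀ * b * g₀⁻¹) = g₀ * (b * b) * g₀⁻¹ := by group
        _ = 1 := by rw [hbb]; group
    have hyy : y * y = 1 := by
      rcases e2 with h1 | h1
      · rwa [h1] at e3
      · rw [h1] at e3
        calc y * y = y * y * (z * z) := by rw [h.zz, mul_one]
          _ = y * (y * z) * z := by group
          _ = y * (z * y) * z := by rw [hyz.eq]
          _ = (y * z) * (y * z) := by group
          _ = 1 := e3
    have hyi : t * y * t⁻¹ = y⁻¹ := by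
      rw [hy]
      calc t * (f'⁻¹ * (t * f' * t⁻¹)) * t⁻¹ = (t * f' * t⁻¹)⁻¹ * ((t * t) * f' * (t * t)⁻¹) := by group
        _ = (f'⁻¹ * (t * f' * t⁻¹))⁻¹ := by rw [h.tt]; group
    have hyt : y * t = t * y := by
      rw [inv_eq_of_mul_eq_one_right hyy, mul_inv_eq_iff_eq_mul] at hyi
      exact hyi.symm
    have hyR : ∀ s ∈ R, y * s = s * y := by
      intro s hs
      have h1 := comm_gamma h.L (hRF hs) hf'F h.comm (Or.inl (show t * s * t⁻¹ = s by
        have c := h.Dt s (h.RD hs)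
        rw [← c]; group))
      rw [hy]; exact h1.symm
    have hc1 : g₀ * b * g₀⁻¹ ≠ 1 := fun e => hb1 (conj_eq_one_iff.1 e)
    have hcz : g₀ * b * g₀⁻¹ ≠ z := by
      intro e'
      apply hbz
      calc b = g₀⁻¹ * (g₀ * b * g₀⁻¹) * g₀ := by group
        _ = g₀⁻¹ * z * g₀ := by rw [e']
        _ = z := by rw [cgz.inv_left.eq]; group
    rcases hY y hyF hyt hyR with h1 | h1 | h1 | h1 <;> rcases e2 with h2 | h2 <;> rw [h1] at h2
    · exact absurd h2 hc1
    · rw [one_mul] at h2; exact absurd h2 hcz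
    · exact absurd h2 hcz
    · rw [h.zz] at h2; exact absurd h2 hc1
    · exact Or.inl h2
    · exact Or.inr h2
    · exact Or.inr h2
    · left; rw [h2, mul_assoc, h.zz, mul_one]
  rcases hgb with hgb | hgb
  · -- `g₀` commutes with `b`
    rw [mul_inv_eq_iff_eq_mul] at hgb
    apply hrD
    intro d hd
    have h1 := hDt g₀ hgb hgz d hd
    rw [hgt] at h1
    have c1 : Commute d (t * r) := h1
    have c2 : Commute d t := h.Dt d hd
    have c3 := c2.inv_right.mul_right c1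
    rwa [inv_mul_cancel_left] at c3
  · -- `b^g₀ = b z`
    have hDb : ∀ d ∈ D, b * d = d * b := h.cRD b hbt hbR
    have hbase : ∀ c ∈ D, g₀ * (c * r * c⁻¹) * g₀⁻¹ ∈ F ∧
        ∀ d ∈ D, d * (r * (g₀ * (c * r * c⁻¹) * g₀⁻¹)) = (r * (g₀ * (c * r * c⁻¹) * g₀⁻¹)) * d := by
      intro c hc
      have hcz : Commute c z := h.Dz c hc
      have hct : Commute c t := h.Dt c hc
      have hcb : Commute c b := (hDb c hc).symm
      refine ⟨h.L.conj_mem g₀ hgz _ (h.L.conj_mem c hcz _ hrF), ?_⟩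
      intro d hd
      obtain ⟨x, hx⟩ : ∃ x, x = g₀ * (c * g₀ * c⁻¹) := ⟨_, rfl⟩
      have hxz : Commute x z := by
        rw [hx]; exact cgz.mul_left ((hcz.mul_left cgz).mul_left hcz.inv_left)
      have hxb : x * b = b * x := by
        rw [← mul_inv_eq_iff_eq_mul, hx]
        calc g₀ * (c * g₀ * c⁻¹) * b * (g₀ * (c * g₀ * c⁻¹))⁻¹
            = g₀ * (c * (g₀ * (c⁻¹ * b * c) * g₀⁻¹) * c⁻¹) * g₀⁻¹ := by group
          _ = g₀ * (c * (g₀ * b * g₀⁻¹) * c⁻¹) * g₀⁻¹ := by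
              rw [hcb.inv_left.eq, inv_mul_cancel_right]
          _ = g₀ * (c * (b * z) * c⁻¹) * g₀⁻¹ := by rw [hgb]
          _ = g₀ * (b * z) * g₀⁻¹ := by rw [(hcb.mul_right hcz).eq, mul_inv_cancel_right]
          _ = (g₀ * b * g₀⁻¹) * (g₀ * z * g₀⁻¹) := by group
          _ = b * z * z := by rw [hgb, cgz.eq, mul_inv_cancel_right]
          _ = b := by rw [mul_assoc, h.zz, mul_one]
      have h1 := hDt x hxb hxz.eq d hd
      have e : x * t * x⁻¹ = t * (r * (g₀ * (c * r * c⁻¹) * g₀⁻¹)) := by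
        rw [hx]
        calc g₀ * (c * g₀ * c⁻¹) * t * (g₀ * (c * g₀ * c⁻¹))⁻¹
            = g₀ * (c * (g₀ * (c⁻¹ * t * c) * g₀⁻¹) * c⁻¹) * g₀⁻¹ := by group
          _ = g₀ * (c * (g₀ * t * g₀⁻¹) * c⁻¹) * g₀⁻¹ := by
              rw [hct.inv_left.eq, inv_mul_cancel_right]
          _ = g₀ * ((c * t) * r * c⁻¹) * g₀⁻¹ := by rw [hgt]; group
          _ = (g₀ * t * g₀⁻¹) * (g₀ * (c * r * c⁻¹) * g₀⁻¹) := by rw [hct.eq]; group
          _ = t * (r * (g₀ * (c * r * c⁻¹) * g₀⁻¹)) := by rw [hgt]; group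
      rw [e] at h1
      have c1 : Commute d (t * (r * (g₀ * (c * r * c⁻¹) * g₀⁻¹))) := h1
      have c2 : Commute d t := h.Dt d hd
      have c3 := c2.inv_right.mul_right c1
      rwa [inv_mul_cancel_left] at c3
    obtain ⟨c, hc, hcyc⟩ := h.cyc
    obtain ⟨hF0, h0⟩ := hbase 1 D.one_mem
    obtain ⟨hF1, h1⟩ := hbase c hc
    obtain ⟨hF2, h2⟩ := hbase (c * c) (D.mul_mem hc hc)
    obtain ⟨u₀, hu₀⟩ : ∃ u, u = g₀ * (1 * r * 1⁻¹) * g₀⁻¹ := ⟨_, rfl⟩
    obtain ⟨u₁, hu₁⟩ : ∃ u, u = g₀ * (c * r * c⁻¹) * g₀⁻¹ := ⟨_, rfl⟩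
    obtain ⟨u₂, hu₂⟩ : ∃ u, u = g₀ * (c * c * r * (c * c)⁻¹) * g₀⁻¹ := ⟨_, rfl⟩
    rw [← hu₀] at hF0 h0
    rw [← hu₁] at hF1 h1
    rw [← hu₂] at hF2 h2
    have hprod : u₀ * u₁ * u₂ = 1 ∨ u₀ * u₁ * u₂ = z := by
      have e : u₀ * u₁ * u₂ = g₀ * (r * (c * r * c⁻¹) * (c * c * r * (c * c)⁻¹)) * g₀⁻¹ := by
        rw [hu₀, hu₁, hu₂]; group
      rw [e]
      rcases hcyc r hr with h3 | h3
      · left; rw [h3]; group
      · right; rw [h3, cgz.eq, mul_inv_cancel_right]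
    -- the product of the three elements `r u_i` is `r` modulo `⟨z⟩`
    have hV : h.L.pr (⟨r, hrF⟩ * ⟨u₀, hF0⟩ * (⟨r, hrF⟩ * ⟨u₁, hF1⟩) * (⟨r, hrF⟩ * ⟨u₂, hF2⟩)) =
        h.L.pr ⟨r, hrF⟩ := by
      have h3 : h.L.pr (⟨u₀, hF0⟩ * ⟨u₁, hF1⟩ * ⟨u₂, hF2⟩) = 0 := by
        rw [h.L.pr_eq_zero]; exact hprod
      simp only [h.L.pr_mul] at h3 ⊢
      have h4 := h.L.add_self (h.L.pr ⟨r, hrF⟩)
      calc _ = (h.L.pr ⟨u₀, hF0⟩ + h.L.pr ⟨u₁, hF1⟩ + h.L.pr ⟨u₂, hF2⟩) +
            (h.L.pr ⟨r, hrF⟩ + h.L.pr ⟨r, hrF⟩) + h.L.pr ⟨r, hrF⟩ := by abel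
        _ = h.L.pr ⟨r, hrF⟩ := by rw [h3, h4, zero_add, zero_add]
    rw [h.L.pr_eq_pr] at hV
    have hV' : r * u₀ * (r * u₁) * (r * u₂) = r ∨ r * u₀ * (r * u₁) * (r * u₂) = r * z := hV
    apply hrD
    intro d hd
    have c0 : Commute d (r * u₀) := h0 d hd
    have c1 : Commute d (r * u₁) := h1 d hd
    have c2 : Commute d (r * u₂) := h2 d hd
    have c3 := (c0.mul_right c1).mul_right c2
    rcases hV' with h5 | h5
    · rw [h5] at c3; exact c3
    · rw [h5] at c3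
      have c4 : Commute d z := h.Dz d hd
      have c5 := c3.mul_right c4
      rwa [mul_assoc, h.zz, mul_one] at c5

/-- **the hypotheses are contradictory** -/
theorem false [Finite G] (h : Hyp t z D R F) : False := by
  by_cases htF : t ∈ F
  · exact h.mem_false htF
  · exact not_mem_false h htF

end Hyp

end Cfsg.Agent.OddHalf.D6.QThree.EndSymB

end

-- merged: Cfsg.Agent.OddHalf.D6.QThree.FrontInstE
section

/-!
# ODD half, D6, `q = 3`, `U₄(3)` with an outer part: the hypotheses of the end (helper135, for helper948)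

`exists_yt`: the data for the y-trick from `Facts.Two`; `endSym`: `EndSym.Hyp` from `FrontLoc.Loc`; `false_of_loc`.
-/

set_option autoImplicit false

namespace Cfsg.Agent.OddHalf.D6.QThree.FrontInstE

open Subgroup Cfsg
open Cfsg.Agent.Co2Type.Quad Cfsg.Agent.LargeExtra.Model Cfsg.Agent.LargeExtra.Pres
open Cfsg.Agent.LargeExtra.Models Cfsg.Agent.LargeExtra.W2
open Cfsg.Agent.LargeExtra.W2.PlusHom (M)
open Cfsg.Agent.OddHalf.D6.QThree.PlusOf
open Cfsg.Agent.OddHalf.D6.QThree.NIFacts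
open Cfsg.Agent.OddHalf.D6.QThree.FrontLoc (Loc T4)
open Cfsg.Agent.OddHalf.D6.QThree.FrontLoc.Loc (Rf)
open Cfsg.Agent.OddHalf.D6.QThree.EndSym (Four YT)
open Cfsg.Agent.OddHalf.D6.QThree.Diag (DiagAt)

/-- `m m^d m^(d²) ∈ ⟨z⟩` -/
theorem cyc_M : ∀ m : M, m * ea (eb m) * ea (eb (ea (eb m))) = 1 ∨ m * ea (eb m) * ea (eb (ea (eb m))) = zz := by
  decide +kernel

/-! ### the data for the y-trick -/

/-- an automorphism centralising `R` moves an element of `C_K(z)` at most by `z` -/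
theorem aut_move {K : Type*} [Group K] {z : K} {R : Subgroup K} (f : Facts.Base z R) {α : MulAut K}
    (hα : ∀ r ∈ R, α r = r) {v : K} (hv : v * z = z * v) : α v = v ∨ α v = v * z := by
  have hz : α z = z := hα z f.zR
  have hαv : α v * z = z * α v := by
    have := congrArg α hv
    rwa [map_mul, map_mul, hz] at this
  have c1 : Commute v z := hv
  have c2 : Commute (α v) z := hαv
  rcases f.cR (v⁻¹ * α v) (c1.inv_left.mul_left c2) (by
    intro r hr
    have h1 := hα _ (f.nR v hv r hr)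
    rw [map_mul, map_mul, map_inv, hα r hr] at h1
    calc v⁻¹ * α v * r = v⁻¹ * (α v * r * (α v)⁻¹) * α v := by group
      _ = v⁻¹ * (v * r * v⁻¹) * α v := by rw [h1]
      _ = r * (v⁻¹ * α v) := by group) with h | h
  · left
    exact (inv_mul_eq_one.1 h).symm
  · right
    rw [← h]; group

section

variable {G : Type*} [Group G]

/-- **the data for the y-trick** from the facts `Two` on `K` -/
theorem exists_yt {K : Subgroup G} {t : G} {z : K} {R : Subgroup K} (Kt : ∀ x ∈ K, x * t = t * x)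
    (nK : ∀ g, g * t = t * g → g ∈ normalizer (K : Set G)) (f : Facts.Two z R) :
    ∃ v k h, YT t (z : G) (R.map K.subtype) v k h := by
  obtain ⟨v, k, hvv, hvz, hkz, hkR, hex⟩ := f.ex
  have hzz := f.zz
  have hvzz : v * z * (v * z) = 1 := by
    calc v * z * (v * z) = v * (z * v) * z := by group
      _ = v * (v * z) * z := by rw [hvz]
      _ = (v * v) * (z * z) := by group
      _ = 1 := by rw [hvv, hzz, one_mul]
  obtain ⟨h₀, hh₀, hh⟩ := hex z f.zR hvzz
  have hmap : ∀ x : K, (x : G) ∈ R.map K.subtype ↔ x ∈ R := fun x => FrontOut.mem_map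
  refine ⟨v, k, (h₀⁻¹ : K),
    { vt := Kt v v.2
      kt := Kt k k.2
      ht := Kt _ (h₀⁻¹).2
      vv := congrArg Subtype.val hvv
      vz := congrArg Subtype.val hvz
      hz := congrArg Subtype.val (show Commute h₀ z from hh₀).inv_left.eq
      kv := congrArg Subtype.val hkz
      hv := ?_
      vB := ?_
      kF := ?_ }⟩
  · have h1 : h₀⁻¹ * v * h₀⁻¹⁻¹ = v * z := by
      calc h₀⁻¹ * v * h₀⁻¹⁻¹ = h₀⁻¹ * (h₀ * (v * z) * h₀⁻¹) * h₀⁻¹⁻¹ := by rw [hh]
        _ = v * z := by group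
    exact congrArg Subtype.val h1
  · intro y hyt hyR
    set α := K.normalizerMonoidHom ⟨y, nK y hyt⟩ with hα
    have hap : ∀ c : K, ((α c : K) : G) = y * c * y⁻¹ := fun c => Cfsg.Agent.OddHalf.D8.GlueE.nmh_apply _ c
    have h1 : ∀ r ∈ R, α r = r := by
      intro r hr
      apply Subtype.ext
      rw [hap, hyR r ((hmap r).2 hr), mul_inv_cancel_right]
    have hvz' : (v : G) * z = z * v := congrArg Subtype.val hvz
    have hyz : y * (z : G) = z * y := hyR z ((hmap z).2 f.zR)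
    have hzz' : (z : G) * z = 1 := congrArg Subtype.val hzz
    rcases aut_move f.toBase h1 hvz with h2 | h2
    · left
      have h3 : y * (v : G) * y⁻¹ = v := by rw [← hap, h2]
      have h4 : y * (v : G) = v * y := mul_inv_eq_iff_eq_mul.1 h3
      rw [← h4, mul_inv_cancel_right]
    · right
      have h3 : y * (v : G) * y⁻¹ = v * z := by rw [← hap, h2]; rfl
      have h4 : y * (v : G) = v * z * y := mul_inv_eq_iff_eq_mul.1 h3
      have h5 : (v : G) * y = y * v * z := by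
        calc (v : G) * y = v * (z * z) * y := by rw [hzz', mul_one]
          _ = (v * z) * (z * y) := by group
          _ = (v * z) * (y * z) := by rw [hyz]
          _ = (v * z * y) * z := by group
          _ = y * v * z := by rw [← h4]
      calc (v : G) * y * (v : G)⁻¹ = y * (v * z) * (v : G)⁻¹ := by rw [h5]; group
        _ = y * (z * v) * (v : G)⁻¹ := by rw [hvz']
        _ = y * z := by group
  · intro N hN2 hNt hNz hNn hk
    apply hkR
    have h1 : (N.subgroupOf K) ≤ R := by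
      apply f.max _ (hN2.comap_of_injective K.subtype K.subtype_injective)
      · intro n hn
        exact Subtype.ext (hNz n hn)
      · intro g hg n hn
        exact hNn g (Kt g g.2) (congrArg Subtype.val hg) n hn
    exact h1 (show ((k⁻¹ * z * k : K) : G) ∈ N from hk)

variable {t z : G} {R F : Subgroup G} {i j k l a b : G}

/-- **the hypotheses of the end** -/
theorem endSym [Finite G] (L : Loc t z R i j k l a b) (LF : Large F z)
    (ref : ∀ c, Rf t z R c → (∀ g, g * c = c * g → g * z = z * g → ∀ d ∈ closure ({i, j, k, l, a, b} : Set G),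
      g * d * g⁻¹ ∈ closure ({i, j, k, l, a, b} : Set G)) ∨
      ∃ M N : Subgroup G, DiagAt t z c (closure {i, j, k, l, a, b}) M N)
    (fus : ∃ g r, g * z = z * g ∧ r ∈ R ∧ r ≠ 1 ∧ r ≠ z ∧ g * t * g⁻¹ = t * r)
    (yt : ∃ v k h, YT t z R v k h) : EndSym.Hyp t z (closure {i, j, k, l, a, b}) R F where
  toPos := L.pos
  t1 := L.t1
  tz := L.tz
  L := LF
  nD := L.nD
  nX := L.nR
  max := L.max
  irr := by
    intro N hNR hN
    by_cases h : ∃ n ∈ N, n ≠ 1 ∧ n ≠ z
    · obtain ⟨n, hn, h1, h2⟩ := h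
      exact Or.inr (L43.EndCard.irr L hNR hN hn h1 h2)
    · left
      intro n hn
      by_contra h1
      rw [not_or] at h1
      exact h ⟨n, hn, h1⟩
  cRD := fun x hx hr => L.BD x ⟨hx, hr⟩
  kb := by
    intro x y hx hxR hy hyR hxy hx4
    rcases L.Bcc x y ⟨hx, hxR⟩ ⟨hy, hyR⟩ hxy with h | h | h
    · exact absurd h hx4
    · exact Or.inl h
    · exact Or.inr h
  cyc := by
    refine ⟨a * b, mul_mem (subset_closure (by simp)) (subset_closure (by simp)), ?_⟩
    intro r hr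
    rw [L.gR, ← hom_range L.fr.toQRel] at hr
    obtain ⟨m, rfl⟩ := hr
    have key : ∀ x : M, a * b * hom L.fr.toQRel x * (a * b)⁻¹ = hom L.fr.toQRel (ea (eb x)) := by
      intro x
      calc a * b * hom L.fr.toQRel x * (a * b)⁻¹ = a * (b * hom L.fr.toQRel x * b⁻¹) * a⁻¹ := by group
        _ = hom L.fr.toQRel (ea (eb x)) := by rw [L.fr.conj_b, L.fr.conj_a]
    have key2 : a * b * (a * b) * hom L.fr.toQRel m * (a * b * (a * b))⁻¹ =
        hom L.fr.toQRel (ea (eb (ea (eb m)))) := by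
      calc a * b * (a * b) * hom L.fr.toQRel m * (a * b * (a * b))⁻¹
          = a * b * (a * b * hom L.fr.toQRel m * (a * b)⁻¹) * (a * b)⁻¹ := by group
        _ = hom L.fr.toQRel (ea (eb (ea (eb m)))) := by rw [key, key]
    rw [key, key2, ← map_mul, ← map_mul]
    rcases cyc_M m with h | h
    · left; rw [h, map_one]
    · right; rw [h, hom_zz]
  ref := fun c hct hcR hcc hc4 => ref c ⟨⟨hct, hcR⟩, hcc, hc4⟩
  fus := fus
  yt := yt
  lam := by
    intro lam h
    have h1 : commutator ↥(centralizer ({z} : Set G)) ≤ lam.ker := Abelianization.commutator_subset_ker lam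
    have h2 : lam _ = 1 := h1 L.tH
    rw [h] at h2
    exact absurd h2 (by decide)

/-- **the end** -/
theorem false_of_loc [Finite G] (L : Loc t z R i j k l a b) (LF : Large F z)
    (ref : ∀ c, Rf t z R c → (∀ g, g * c = c * g → g * z = z * g → ∀ d ∈ closure ({i, j, k, l, a, b} : Set G),
      g * d * g⁻¹ ∈ closure ({i, j, k, l, a, b} : Set G)) ∨
      ∃ M N : Subgroup G, DiagAt t z c (closure {i, j, k, l, a, b}) M N)
    (fus : ∃ g r, g * z = z * g ∧ r ∈ R ∧ r ≠ 1 ∧ r ≠ z ∧ g * t * g⁻¹ = t * r)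
    (yt : ∃ v k h, YT t z R v k h) : False :=
  EndSymB.Hyp.false (endSym L LF ref fus yt)

end

end Cfsg.Agent.OddHalf.D6.QThree.FrontInstE

end

-- merged: Cfsg.Agent.OddHalf.D6.QThree.EndSymG
section

/-!
# ODD half, D6, `q = 3`: the end, `G`-level wrapper (helper253)

`symplectic`: `X` finite, `O(X) = 1`, no components, every elementary abelian normal 2-subgroup of `X` in `⟨z⟩`:
`F*(X)` is of symplectic type.
`large`: `X = C_G(z)` in the frame `Ctx G`: `F*(C(z))` is extraspecial (S1758), as `Large`.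
`false_of`: the end of row `U₄(3)`.
-/

set_option autoImplicit false
set_option linter.style.haveILetI false

namespace Cfsg.Agent.OddHalf.D6.QThree.EndSymG

open Subgroup Cfsg
open Cfsg.Agent.Co2Type.Quad

/-- an abelian normal 2-subgroup is cyclic -/
theorem cyclic {X : Type*} [Group X] [Finite X] {z : X} {W : Subgroup X} (hp : IsPGroup 2 W) (hn : W.Normal)
    (hab : ∀ a ∈ W, ∀ b ∈ W, a * b = b * a)
    (elem : ∀ V : Subgroup X, V.Normal → (∀ w ∈ V, w * w = 1) → ∀ w ∈ V, w = 1 ∨ w = z) : IsCyclic W := by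
  classical
  letI : CommGroup W := { (inferInstance : Group W) with mul_comm := fun a b => Subtype.ext (hab a a.2 b b.2) }
  haveI : Fact (Nat.Prime 2) := ⟨Nat.prime_two⟩
  refine Cfsg.Agent.Transfer.PGroupNormal.isCyclic_of_card_ker_pow_le (p := 2) hp ?_
  let W1 : Subgroup X :=
    { carrier := {x | x ∈ W ∧ x * x = 1}
      one_mem' := ⟨W.one_mem, one_mul 1⟩
      mul_mem' := by
        rintro x y ⟨hx, hx2⟩ ⟨hy, hy2⟩
        refine ⟨W.mul_mem hx hy, ?_⟩
        calc x * y * (x * y) = x * (y * x) * y := by group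
          _ = x * x * (y * y) := by rw [hab y hy x hx]; group
          _ = 1 := by rw [hx2, hy2, one_mul]
      inv_mem' := by
        rintro x ⟨hx, hx2⟩
        refine ⟨W.inv_mem hx, ?_⟩
        rw [← mul_inv_rev, hx2, inv_one] }
  have hW1 : W1.Normal := ⟨by
    rintro x ⟨hx, hx2⟩ g
    refine ⟨hn.conj_mem x hx g, ?_⟩
    calc g * x * g⁻¹ * (g * x * g⁻¹) = g * (x * x) * g⁻¹ := by group
      _ = 1 := by rw [hx2]; group⟩
  have hk : ∀ x : (powMonoidHom 2 : W →* W).ker, ((x : W) : X) = 1 ∨ ((x : W) : X) = z := by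
    intro x
    have h1 : ((x : W)) ^ 2 = 1 := x.2
    rw [pow_two] at h1
    exact elem W1 hW1 (fun w hw => hw.2) (x : W) ⟨(x : W).2, congrArg Subtype.val h1⟩
  let f : (powMonoidHom 2 : W →* W).ker → Bool := fun x => decide (((x : W) : X) = 1)
  have hf : Function.Injective f := by
    intro x y hxy
    have h1 : (((x : W) : X) = 1) ↔ (((y : W) : X) = 1) := by
      have := hxy
      simpa [f] using this
    apply Subtype.ext
    apply Subtype.ext
    rcases hk x with h2 | h2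
    · rw [h2, h1.1 h2]
    · rcases hk y with h3 | h3
      · rw [h3, h1.2 h3]
      · rw [h2, h3]
  have h4 := Nat.card_le_card_of_injective f hf
  rwa [Nat.card_eq_fintype_card (α := Bool), Fintype.card_bool] at h4

/-- **symplectic type** -/
theorem symplectic {X : Type*} [Group X] [Finite X] {z : X} (hO : pPrimeCore 2 X = ⊥)
    (hE : ∀ M : Subgroup X, ¬ IsComponent M)
    (elem : ∀ V : Subgroup X, V.Normal → (∀ w ∈ V, w * w = 1) → ∀ w ∈ V, w = 1 ∨ w = z) :
    IsOfSymplecticType ↥(generalizedFittingSubgroup X) := by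
  haveI : Fact (Nat.Prime 2) := ⟨Nat.prime_two⟩
  have hl : layer X = ⊥ := by
    rw [eq_bot_iff]
    exact sSup_le fun K hK => absurd hK (hE K)
  have h1 := (Cfsg.Agent.SignalizersComponents.PConstrained.centralizer_pCore_le_iff_layer_eq_bot 2 hO).2 hl
  rw [Cfsg.Agent.SignalizersComponents.CharP.genFitting_eq_pCore_iff.2 h1]
  have hQn : (pCore 2 X).Normal := Cfsg.Agent.Lib.Cores.pCore_normal 2
  have hQp : IsPGroup 2 (pCore 2 X) := Cfsg.Agent.Lib.Cores.pCore_isPGroup 2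
  generalize pCore 2 X = Q at hQn hQp
  refine ⟨hQp, ?_⟩
  intro A hA hab
  have hA2 : (A.map Q.subtype).Normal := ConjAct.normal_of_characteristic_of_normal
  have h1 := cyclic (W := A.map Q.subtype) (z := z) ?_ hA2 ?_ elem
  · have e1 := A.equivMapOfInjective _ Q.subtype_injective
    exact isCyclic_of_surjective _ e1.symm.surjective
  · apply hQp.to_le
    rintro _ ⟨y, -, rfl⟩
    exact y.2
  · rintro _ ⟨a, ha, rfl⟩ _ ⟨b, hb, rfl⟩
    have h2 : (⟨a, ha⟩ : A) * ⟨b, hb⟩ = ⟨b, hb⟩ * ⟨a, ha⟩ := hab.is_comm.comm _ _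
    exact congrArg (fun y : A => ((y : Q) : X)) h2

universe u

variable {G : Type u} [Group G]

/-- **symplectic type**, `G`-level -/
theorem symplecticG (C : Iface.Ctx G) {z : G} (hz : orderOf z = 2)
    (hE : ∀ M : Subgroup ↥(centralizer ({z} : Set G)), ¬ IsComponent M)
    (hW : ∀ W : Subgroup G, (∀ w ∈ W, w * z = z * w) → (∀ w ∈ W, w * w = 1) →
      (∀ g, g * z = z * g → ∀ w ∈ W, g * w * g⁻¹ ∈ W) → ∀ w ∈ W, w = 1 ∨ w = z) :
    IsOfSymplecticType ↥(generalizedFittingSubgroup ↥(centralizer ({z} : Set G))) := by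
  have hfin := C.fin
  have hzz : (⟨z, mem_centralizer_singleton_iff.2 rfl⟩ : ↥(centralizer ({z} : Set G))) = ⟨z,
    mem_centralizer_singleton_iff.2 rfl⟩ := rfl
  refine symplectic (z := ⟨z, mem_centralizer_singleton_iff.2 rfl⟩) (Soft.core_eq_bot (C.bal _ hz)) hE ?_
  intro V hV hs w hw
  have h1 := hW (V.map (centralizer ({z} : Set G)).subtype) ?_ ?_ ?_ w ⟨w, hw, rfl⟩
  · rcases h1 with h1 | h1
    · exact Or.inl (Subtype.ext h1)
    · exact Or.inr (Subtype.ext h1)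
  · rintro _ ⟨y, -, rfl⟩
    exact mem_centralizer_singleton_iff.1 y.2
  · rintro _ ⟨y, hy, rfl⟩
    exact congrArg Subtype.val (hs y hy)
  · rintro g hg _ ⟨y, hy, rfl⟩
    exact ⟨⟨g, mem_centralizer_singleton_iff.2 hg⟩ * y * ⟨g, mem_centralizer_singleton_iff.2 hg⟩⁻¹,
      hV.conj_mem y hy _, rfl⟩

/-- **`F*(C(z))` is extraspecial**, by S1758 -/
theorem extraspecialG (R58 : Small.Excl.Rows) (h58 : D8.HS.Elim.P1758.{u}) (C : Iface.Ctx G) {z : G}
    (hz : orderOf z = 2) (hE : ∀ M : Subgroup ↥(centralizer ({z} : Set G)), ¬ IsComponent M)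
    (hW : ∀ W : Subgroup G, (∀ w ∈ W, w * z = z * w) → (∀ w ∈ W, w * w = 1) →
      (∀ g, g * z = z * g → ∀ w ∈ W, g * w * g⁻¹ ∈ W) → ∀ w ∈ W, w = 1 ∨ w = z) :
    IsExtraspecial 2 ↥(generalizedFittingSubgroup ↥(centralizer ({z} : Set G))) := by
  by_contra hcon
  exact D8.HS.Elim.false_of_symplectic R58 h58 C hz (symplecticG C hz hE hW) hcon

/-- **the end of row `U₄(3)`** -/
theorem false_of (R58 : Small.Excl.Rows) (h58 : D8.HS.Elim.P1758.{u}) (C : Iface.Ctx G) {t z : G}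
    {D R : Subgroup G} (hz : orderOf z = 2)
    (hE : ∀ M : Subgroup ↥(centralizer ({z} : Set G)), ¬ IsComponent M)
    (hW : ∀ W : Subgroup G, (∀ w ∈ W, w * z = z * w) → (∀ w ∈ W, w * w = 1) →
      (∀ g, g * z = z * g → ∀ w ∈ W, g * w * g⁻¹ ∈ W) → ∀ w ∈ W, w = 1 ∨ w = z)
    (h : ∀ F : Subgroup G, Large F z → EndSym.Hyp t z D R F) : False := by
  have hfin := C.fin
  exact EndSymB.Hyp.false
    (h _ (Cfsg.Agent.LargeExtra.Base.large_of_genFitting z hz (extraspecialG R58 h58 C hz hE hW)))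

end Cfsg.Agent.OddHalf.D6.QThree.EndSymG

end

-- merged: Cfsg.Agent.OddHalf.D6.QThree.RowU4
section

/-!
# ODD half, D6, `q = 3`: the row `U₄(3)` (helper948)

`row`: the field `u4` of `D6.Cut.Three`.
-/

set_option autoImplicit false

namespace Cfsg.Agent.OddHalf.D6.QThree.RowU4

open Subgroup Cfsg Cfsg.Agent.OddHalf Cfsg.Agent.OddHalf.Iface
open Cfsg.Agent.OddHalf.D6.QThree.FrontB (BA Z2 FrontK Out)
open Cfsg.Agent.OddHalf.D6.QThree.FrontLoc (Loc Bt T4 up az bz)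
open Cfsg.Agent.OddHalf.D6.QThree.RefData (KH DD Rf)
open Cfsg.Agent.SignalizersComponents.Components
open Cfsg.Agent.Co2Type.Quad

universe u

/-- the facts on `K = U₄(3)` -/
structure KU {K : Type*} [Group K] (z : K) (R : Subgroup K) (i j k l a b : K) : Prop where
  f : FrontK z R i j k l a b
  two : Facts.Two z R
  rf : Rf z R
  kf : NIB.KFOf.KFK z R
  mv : NIB.KU.Mv z R

theorem exists_KU {K : Type*} [Group K] {F : Type*} [Field F] [CharP F 3] [Fintype F] (hF : Fintype.card F = 9)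
    (e : K ≃* PSU 4 F 3) : ∃ (z : K) (R : Subgroup K) (i j k l a b : K), KU z R i j k l a b := by
  obtain ⟨i, j, k, l, a, b, f⟩ := U43AutKF.exists_front hF
  exact ⟨_, _, _, _, _, _, _, _, f.map e.symm, (U43AutKF.two_pr hF).map e.symm,
    NIB.KU.rf_map (NIB.KU.rf_pr hF) e.symm, (NIB.KFOf.kfk_pr hF).map e.symm, NIB.KU.mv_map (NIB.KU.mv_pr hF) e.symm⟩

variable {G : Type u} [Group G] {K : Subgroup G} {t : G} {z : K} {R : Subgroup K} {i j k l a b : K}

/-- **the position of a reflection** -/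
theorem data (O : Out K t (z : G)) (f : FrontK z R i j k l a b)
    (L : Loc t (z : G) (R.map K.subtype) (i : G) j k l a b) (rf : Rf z R) {c : G}
    (hc : FrontLoc.Loc.Rf t (z : G) (R.map K.subtype) c) :
    ∃ (E : Subgroup G) (F : Type) (_ : Field F) (_ : Fintype F),
      RefOf.Data t (z : G) c (closure {(i : G), (j : G), (k : G), (l : G), (a : G), (b : G)}) (R.map K.subtype) E F := by
  have hcz : c * z = z * c := hc.1.2 z L.zR
  obtain ⟨E, F, i1, i2, h⟩ := NIB.RowU.data O f L rf (x := up (z : G) c hcz)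
    ⟨(L.Bt_iff _).2 hc.1, Subtype.ext hc.2.1, fun h => hc.2.2 ((L.T4_iff _).1 h)⟩
  refine ⟨E, F, i1, i2, ?_⟩
  rw [FrontLoc.closure_map]
  exact h

theorem ord_two {c : G}
    (hc : FrontLoc.Loc.Rf t (z : G) (R.map K.subtype) c) : orderOf c = 2 :=
  orderOf_eq_prime (by rw [pow_two]; exact hc.2.1) fun h => hc.2.2 (Or.inl h)

theorem refE (C : Ctx G) (hSp : Pump.SpOrd.{u}) (S : Std G K) (hK : Nat.card K ≤ 6531840)
    (hN : ∀ b : G, orderOf b = 2 → ∀ L : Subgroup G, CompOf b L → ¬ NI3.HasY ↥L)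
    (O : Out K t (z : G)) (f : FrontK z R i j k l a b)
    (L : Loc t (z : G) (R.map K.subtype) (i : G) j k l a b) (rf : Rf z R) {c : G}
    (hc : FrontLoc.Loc.Rf t (z : G) (R.map K.subtype) c) :
    (∀ g, g * c = c * g → g * (z : G) = z * g →
      ∀ d ∈ closure ({(i : G), (j : G), (k : G), (l : G), (a : G), (b : G)} : Set G),
      g * d * g⁻¹ ∈ closure ({(i : G), (j : G), (k : G), (l : G), (a : G), (b : G)} : Set G)) ∨
      ∃ M L' : Subgroup G,
        Diag.DiagAt t (z : G) c (closure {(i : G), (j : G), (k : G), (l : G), (a : G), (b : G)}) M L' := by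
  obtain ⟨E, F, _, _, h⟩ := data O f L rf hc
  rcases h.main C hSp S hK (hN c (ord_two hc)) with h1 | ⟨M, L', -, -, h1⟩
  · exact Or.inl h1
  · exact Or.inr ⟨M, L', h1⟩

theorem refD (C : Ctx G) (hSp : Pump.SpOrd.{u}) (S : Std G K) (hK : Nat.card K ≤ 6531840)
    (hN : ∀ b : G, orderOf b = 2 → ∀ L : Subgroup G, CompOf b L → ¬ NI3.HasY ↥L)
    (O : Out K t (z : G)) (f : FrontK z R i j k l a b)
    (L : Loc t (z : G) (R.map K.subtype) (i : G) j k l a b) (rf : Rf z R) {c : G}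
    (hc : FrontLoc.Loc.Rf t (z : G) (R.map K.subtype) c) :
    NIB.RefD t (z : G) c (closure {(i : G), (j : G), (k : G), (l : G), (a : G), (b : G)}) := by
  rcases refE C hSp S hK hN O f L rf hc with h1 | h1
  · left
    apply Diag.sn_of_conj
    rintro g ⟨hg1, hg2⟩ d hd
    exact h1 g (mem_centralizer_singleton_iff.1 hg1) (mem_centralizer_singleton_iff.1 hg2) d hd
  · exact Or.inr h1

/-- **no components in `C_G(z)`** -/
theorem noComp (hGW : SylowSp4.Hyps.GW.{u}) (I : Intr2.{u}) (hS : CaseM.IntrSign.{u}) (C : Ctx G)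
    (hcy : ∀ K : Subgroup G, Std0 G K → PRankLE 2 1 ↥(centralizer (K : Set G)) → Cyc K) (hSp : Pump.SpOrd.{u})
    (S : Std G K) (hK : Nat.card K ≤ 6531840)
    (hN : ∀ b : G, orderOf b = 2 → ∀ L : Subgroup G, CompOf b L → ¬ NI3.HasY ↥L)
    (hU : ∃ (F : Type) (_ : Field F) (_ : Fintype F), Fintype.card F = 9 ∧ Nonempty (K ≃* PSU 4 F 3))
    (O : Out K t (z : G)) (h : KU z R i j k l a b) (L : Loc t (z : G) (R.map K.subtype) (i : G) j k l a b) :
    ∀ M : Subgroup ↥(centralizer ({(z : G)} : Set G)), ¬ IsComponent M := by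
  intro M₀ hM₀
  have hfin := C.fin
  have hz : orderOf (z : G) = 2 := orderOf_eq_prime (by rw [pow_two]; exact L.fr.zz) L.fr.z1
  refine NIB.RowU.false_of_hypB hGW I hS C hcy hSp S hN hU O h.f L h.kf h.rf h.mv
    (L.hypB C (fun c hc => refD C hSp S hK hN O h.f L h.rf hc) ?_) rfl rfl
  intro P hel zM hall F hF hF2 hQ
  -- an involution of `R - ⟨z⟩` conjugate to `z`
  have k := h.kf.kf (t := t) (Subtype.ext L.fr.zz) (fun e => L.fr.z1 (congrArg Subtype.val e)) O.Kt
  obtain ⟨v, hv, vv, v1, vz⟩ := k.ex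
  obtain ⟨m, -, hm⟩ := k.one v (k.RK hv) vv v1
  obtain ⟨x, hx, y, hy, e⟩ := NIB.RowU.hR L v hv
  have e' : ((x * y : ↥(centralizer ({(z : G)} : Set G))) : G) = v := e.symm
  obtain ⟨h1, h2⟩ := NIB.FusB.factor P.s₁ P.s₂ P.zz P.z1 P.comm hx hy (Subtype.ext (by
      show ((x * y : ↥(centralizer ({(z : G)} : Set G))) : G) *
        ((x * y : ↥(centralizer ({(z : G)} : Set G))) : G) = 1
      rw [e', vv])) (fun h1 => v1 (by rw [← e', h1]; rfl)) (fun h1 => vz (by rw [← e', h1]))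
  have hm' : m⁻¹ * (z : G) * m⁻¹⁻¹ = v := by rw [← hm]; group
  exact NIB.NF.nF_of C.bal hz rfl P.s₁ P.s₂ P.comm hel zM hx hy h1 h2 (hm'.trans e) ⟨M₀, hM₀⟩ hall

/-- **the contradiction** -/
theorem false_of (hGW : SylowSp4.Hyps.GW.{u}) (I : Intr2.{u}) (hS : CaseM.IntrSign.{u}) (C : Ctx G)
    (hcy : ∀ K : Subgroup G, Std0 G K → PRankLE 2 1 ↥(centralizer (K : Set G)) → Cyc K) (hSp : Pump.SpOrd.{u})
    (R58 : Small.Excl.Rows) (h58 : D8.HS.Elim.P1758.{u}) (S : Std G K) (hK : Nat.card K ≤ 6531840)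
    (hN : ∀ b : G, orderOf b = 2 → ∀ L : Subgroup G, CompOf b L → ¬ NI3.HasY ↥L)
    (hU : ∃ (F : Type) (_ : Field F) (_ : Fintype F), Fintype.card F = 9 ∧ Nonempty (K ≃* PSU 4 F 3))
    (O : Out K t (z : G)) (h : KU z R i j k l a b) (L : Loc t (z : G) (R.map K.subtype) (i : G) j k l a b) :
    False := by
  have hfin := C.fin
  have hz : orderOf (z : G) = 2 := orderOf_eq_prime (by rw [pow_two]; exact L.fr.zz) L.fr.z1
  have H : DiagEnd.Hyp t (z : G) (closure {(i : G), (j : G), (k : G), (l : G), (a : G), (b : G)}) (R.map K.subtype)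
      (closure {(i : G), (j : G), (a : G)}) :=
    L.hyp C fun c hc => NIB.RefD.ref (refD C hSp S hK hN O h.f L h.rf hc) FrontLoc.Loc.JD (Diag.sn_of_conj L.nJ)
  obtain ⟨s, hs, hsz⟩ := L.s
  have κ := h.kf.kf (t := t) (Subtype.ext L.fr.zz) (fun e => L.fr.z1 (congrArg Subtype.val e)) O.Kt
  obtain ⟨g, r, hgz, hr, rr, r1, rz, hg⟩ := κ.fus hs (NIB.FusOf.norm_R L hs hsz)
  exact EndSymG.false_of (t := t)
    (D := closure {(i : G), (j : G), (k : G), (l : G), (a : G), (b : G)}) (R := R.map K.subtype) R58 h58 C hz (noComp hGW I hS C hcy hSp S hK hN hU O h L)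
    (fun W h1 h2 h3 => H.le_of_normal h1 h2 h3) fun F hF =>
      FrontInstE.endSym L hF (fun c hc => refE C hSp S hK hN O h.f L h.rf hc) ⟨g, r, hgz, hr, r1, rz, hg⟩
        (FrontInstE.exists_yt O.Kt O.nK h.two)

/-- **The row `U₄(3)`** (the field `u4` of `D6.Cut.Three`) -/
theorem row (hGW : SylowSp4.Hyps.GW.{u}) (I : Intr2.{u}) (hS : CaseM.IntrSign.{u})
    (hcy : ∀ (G : Type u) [Group G], Ctx G → ∀ K : Subgroup G, Std0 G K → PRankLE 2 1 ↥(centralizer (K : Set G)) →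
      Cyc K) (hSp : Pump.SpOrd.{u}) (R58 : Small.Excl.Rows) (h58 : D8.HS.Elim.P1758.{u}) (hN : NI3.NoThree.{u}) :
    D6.Cut.Row.{u} (fun X _ => ∃ (F : Type) (_ : Field F) (_ : Fintype F), Fintype.card F = 9 ∧
      Nonempty (X ≃* PSU 4 F 3)) := by
  intro G _ C K S hC _ hX
  have hfin := C.fin
  obtain ⟨F, _, _, hF, ⟨e⟩⟩ := id hX
  have : Fact (Nat.Prime 3) := ⟨Nat.prime_three⟩
  have : CharP F 3 := charP_of_card_eq_prime_pow (f := 2) (by rw [hF]; norm_num)
  have hcard : Nat.card K ≤ 6531840 := by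
    rw [Nat.card_congr e.toEquiv, U43Tw.card_K hF]; norm_num
  obtain ⟨z, R, i, j, k, l, a, b, h⟩ := exists_KU hF e
  obtain ⟨t, O⟩ := FrontBU.exists_out hF C S hC e h.f.toBase h.f.out
  obtain ⟨a', b', f', L⟩ := FrontLoc.exists_loc O h.f
  exact false_of hGW I hS C (hcy G C) hSp R58 h58 S hcard (fun b hb L hL => hN G C b L hb hL) hX O
    ⟨f', h.two, h.rf, h.kf, h.mv⟩ L

end Cfsg.Agent.OddHalf.D6.QThree.RowU4

end
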